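import Mathlib
import Cfsg.Agent.Lib.Lead.Coprime
import Cfsg.Agent.Lib.Helper1.Fusion
import Cfsg.Agent.Lib.Helper22.Basic

set_option autoImplicit false

namespace Cfsg.Agent.Lib.Helper21

open scoped Pointwise commutatorElement

variable {G : Type*} [Group G]

/-- Frobenius' hypothesis: `p'`-elements of normalizers of `p`-subgroups centralize them. -/
def FrobHyp (p : ℕ) (G : Type*) [Group G] : Prop :=
  ∀ D : Subgroup G, IsPGroup p D → ∀ g ∈ Subgroup.normalizer (D : Set G),
    Nat.Coprime (orderOf g) p → g ∈ Subgroup.centralizer (D : Set G)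

/-- `N_G(D) = C_G(D) R` for a Sylow `p`-subgroup `R` of `N_G(D)`. -/
theorem FrobHyp.normalizer_decomp [Finite G] {p : ℕ} [hp : Fact p.Prime] (hF : FrobHyp p G)
    (D : Subgroup G) (hD : IsPGroup p D) (R : Sylow p ↥(Subgroup.normalizer (D : Set G)))
    (n : ↥(Subgroup.normalizer (D : Set G))) :
    ∃ c : ↥(Subgroup.normalizer (D : Set G)), (c : G) ∈ Subgroup.centralizer (D : Set G) ∧
      ∃ r ∈ (R : Subgroup ↥(Subgroup.normalizer (D : Set G))), n = c * r := by
  haveI hCn : ((Subgroup.centralizer (D : Set G)).subgroupOf (Subgroup.normalizer (D : Set G))).Normal :=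
    Subgroup.normal_subgroupOf_centralizer_normalizer _
  have htop : ((Subgroup.centralizer (D : Set G)).subgroupOf (Subgroup.normalizer (D : Set G))) ⊔
      (R : Subgroup ↥(Subgroup.normalizer (D : Set G))) = ⊤ := by
    apply Cfsg.Agent.Lib.Helper22.eq_top_of_sylow_le
    intro r hr
    by_cases hrp : r = p
    · subst hrp
      exact ⟨R, le_sup_right⟩
    · let X : Sylow r ↥(Subgroup.normalizer (D : Set G)) := default
      refine ⟨X, fun x hx => ?_⟩
      apply (le_sup_left : ((Subgroup.centralizer (D : Set G)).subgroupOf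
        (Subgroup.normalizer (D : Set G))) ≤ _)
      rw [Subgroup.mem_subgroupOf]
      apply hF D hD x x.2
      obtain ⟨k, hk⟩ := X.2 ⟨x, hx⟩
      have h1 : (x : G) ^ r ^ k = 1 := by
        have := congrArg (fun t : (X : Subgroup ↥(Subgroup.normalizer (D : Set G))) =>
          ((t : ↥(Subgroup.normalizer (D : Set G))) : G)) hk
        simpa using this
      have h2 : orderOf (x : G) ∣ r ^ k := orderOf_dvd_of_pow_eq_one h1
      exact Nat.Coprime.coprime_dvd_left h2
        (Nat.Coprime.pow_left _ ((Nat.coprime_primes hr.out hp.out).mpr hrp))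
  have hn : n ∈ (((Subgroup.centralizer (D : Set G)).subgroupOf (Subgroup.normalizer (D : Set G)) ⊔
      (R : Subgroup ↥(Subgroup.normalizer (D : Set G))) :
      Subgroup ↥(Subgroup.normalizer (D : Set G))) : Set ↥(Subgroup.normalizer (D : Set G))) := by
    rw [htop]; trivial
  rw [Subgroup.normal_mul] at hn
  obtain ⟨c, hc, r, hr, rfl⟩ := Set.mem_mul.mp hn
  exact ⟨c, Subgroup.mem_subgroupOf.mp hc, r, hr, rfl⟩

/-- conjugating one `p`-subgroup of `N_G(D)` next to another by an element of `C_G(D)` -/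
theorem FrobHyp.exists_centralizer_conj [Finite G] {p : ℕ} [hp : Fact p.Prime] (hF : FrobHyp p G)
    (D A B : Subgroup G) (hD : IsPGroup p D) (hA : IsPGroup p A) (hB : IsPGroup p B)
    (hAN : A ≤ Subgroup.normalizer (D : Set G)) (hBN : B ≤ Subgroup.normalizer (D : Set G)) :
    ∃ c ∈ Subgroup.centralizer (D : Set G), ∃ Q : Sylow p G, A ≤ (Q : Subgroup G) ∧
      ∀ b ∈ B, c * b * c⁻¹ ∈ (Q : Subgroup G) := by
  have hA' : IsPGroup p (A.subgroupOf (Subgroup.normalizer (D : Set G))) :=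
    hA.comap_of_injective _ (Subgroup.subtype_injective _)
  have hB' : IsPGroup p (B.subgroupOf (Subgroup.normalizer (D : Set G))) :=
    hB.comap_of_injective _ (Subgroup.subtype_injective _)
  obtain ⟨S₁, hS₁⟩ := hA'.exists_le_sylow
  obtain ⟨S₂, hS₂⟩ := hB'.exists_le_sylow
  obtain ⟨n, hn⟩ := MulAction.exists_smul_eq ↥(Subgroup.normalizer (D : Set G)) S₂ S₁
  obtain ⟨c, hc, r, hr, hncr⟩ := hF.normalizer_decomp D hD S₂ n
  have hR : IsPGroup p ((S₁ : Subgroup ↥(Subgroup.normalizer (D : Set G))).map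
      (Subgroup.normalizer (D : Set G)).subtype) := S₁.2.map _
  obtain ⟨Q, hQ⟩ := hR.exists_le_sylow
  refine ⟨c, hc, Q, ?_, ?_⟩
  · intro a ha
    apply hQ
    exact ⟨⟨a, hAN ha⟩, hS₁ ha, rfl⟩
  · intro b hb
    apply hQ
    have hb2 : (⟨b, hBN hb⟩ : ↥(Subgroup.normalizer (D : Set G))) ∈
        (S₂ : Subgroup ↥(Subgroup.normalizer (D : Set G))) := hS₂ hb
    have h3 : c * ⟨b, hBN hb⟩ * c⁻¹ ∈ (S₁ : Subgroup ↥(Subgroup.normalizer (D : Set G))) := by
      have : c * ⟨b, hBN hb⟩ * c⁻¹ ∈ n • S₂ := by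
        rw [Cfsg.Agent.Lib.Helper1.mem_sylow_smul_iff, hncr]
        have : (c * r)⁻¹ * (c * ⟨b, hBN hb⟩ * c⁻¹) * (c * r) = r⁻¹ * ⟨b, hBN hb⟩ * r := by group
        rw [this]
        exact Subgroup.mul_mem _ (Subgroup.mul_mem _ (Subgroup.inv_mem _ hr) hb2) hr
      rw [hn] at this
      exact this
    exact ⟨_, h3, rfl⟩

/-- any two Sylow `p`-subgroups are conjugate by an element centralizing their intersection -/
theorem FrobHyp.sylow_conj_aux [Finite G] {p : ℕ} [hp : Fact p.Prime] (hF : FrobHyp p G) :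
    ∀ (k : ℕ) (S T : Sylow p G),
      Nat.card G - Nat.card ↥((S : Subgroup G) ⊓ (T : Subgroup G)) = k →
      ∃ c ∈ Subgroup.centralizer ((((S : Subgroup G) ⊓ (T : Subgroup G) : Subgroup G)) : Set G),
        c • S = T := by
  intro k
  induction k using Nat.strong_induction_on with
  | _ k ih =>
  intro S T hk
  by_cases hDS : (S : Subgroup G) ⊓ (T : Subgroup G) = S
  · have hST : (S : Subgroup G) ≤ T := by rw [← hDS]; exact inf_le_right
    have : (T : Subgroup G) = S := S.is_maximal' T.2 hST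
    refine ⟨1, Subgroup.one_mem _, ?_⟩
    rw [one_smul]; exact Sylow.ext this.symm
  · have hDltS : (S : Subgroup G) ⊓ (T : Subgroup G) < S := lt_of_le_of_ne inf_le_left hDS
    have hDT : (S : Subgroup G) ⊓ (T : Subgroup G) ≠ T := by
      intro h
      have hTS : (T : Subgroup G) ≤ S := by rw [← h]; exact inf_le_left
      have : (S : Subgroup G) = T := T.is_maximal' S.2 hTS
      apply hDS
      rw [← this, inf_idem]
    have hDltT : (S : Subgroup G) ⊓ (T : Subgroup G) < T := lt_of_le_of_ne inf_le_right hDT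
    have hDp : IsPGroup p ↥((S : Subgroup G) ⊓ (T : Subgroup G)) := S.2.to_le inf_le_left
    obtain ⟨s, hsS, hsN, hsD⟩ := Cfsg.Agent.Lib.Lead.exists_mem_normalizer_not_mem _ _ hDltS
      S.2.isNilpotent
    obtain ⟨t, htT, htN, htD⟩ := Cfsg.Agent.Lib.Lead.exists_mem_normalizer_not_mem _ _ hDltT
      T.2.isNilpotent
    obtain ⟨c, hc, R, hAR, hBR⟩ := hF.exists_centralizer_conj ((S : Subgroup G) ⊓ (T : Subgroup G))
      ((S : Subgroup G) ⊓ Subgroup.normalizer (((S : Subgroup G) ⊓ (T : Subgroup G) : Subgroup G) : Set G))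
      ((T : Subgroup G) ⊓ Subgroup.normalizer (((S : Subgroup G) ⊓ (T : Subgroup G) : Subgroup G) : Set G))
      hDp (S.2.to_le inf_le_left) (T.2.to_le inf_le_left) inf_le_right inf_le_right
    have hDR : (S : Subgroup G) ⊓ (T : Subgroup G) ≤ R := fun d hd =>
      hAR ⟨hd.1, Subgroup.le_normalizer hd⟩
    have hcd : ∀ d ∈ (S : Subgroup G) ⊓ (T : Subgroup G), c⁻¹ * d * c = d := by
      intro d hd
      have := (Subgroup.mem_centralizer_iff.mp hc) d hd
      rw [mul_assoc, this, inv_mul_cancel_left]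
    have hDT' : (S : Subgroup G) ⊓ (T : Subgroup G) ≤ ((c • T : Sylow p G) : Subgroup G) := by
      intro d hd
      show d ∈ c • T
      rw [Cfsg.Agent.Lib.Helper1.mem_sylow_smul_iff, hcd d hd]
      exact hd.2
    have hlt1 : Nat.card G - Nat.card ↥((S : Subgroup G) ⊓ (R : Subgroup G)) < k := by
      have h1 : (S : Subgroup G) ⊓ (T : Subgroup G) < (S : Subgroup G) ⊓ R := by
        refine lt_of_le_of_ne (le_inf inf_le_left hDR) ?_
        intro h
        apply hsD; rw [h]; exact ⟨hsS, hAR ⟨hsS, hsN⟩⟩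
      have h2 := Cfsg.Agent.Lib.Lead.card_lt_card_of_lt h1
      have h3 : Nat.card ↥((S : Subgroup G) ⊓ R) ≤ Nat.card G := Subgroup.card_le_card_group _
      omega
    obtain ⟨a, ha, haS⟩ := ih _ hlt1 S R rfl
    have hlt2 : Nat.card G - Nat.card ↥(((c • T : Sylow p G) : Subgroup G) ⊓ (R : Subgroup G)) < k := by
      have h1 : (S : Subgroup G) ⊓ (T : Subgroup G) < ((c • T : Sylow p G) : Subgroup G) ⊓ R := by
        refine lt_of_le_of_ne (le_inf hDT' hDR) ?_
        intro h
        have hmem : c * t * c⁻¹ ∈ ((c • T : Sylow p G) : Subgroup G) ⊓ R := by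
          refine ⟨?_, hBR t ⟨htT, htN⟩⟩
          show c * t * c⁻¹ ∈ c • T
          rw [Cfsg.Agent.Lib.Helper1.mem_sylow_smul_iff]
          have : c⁻¹ * (c * t * c⁻¹) * c = t := by group
          rw [this]; exact htT
        rw [← h] at hmem
        apply htD
        have h5 := hcd _ hmem
        have h6 : c⁻¹ * (c * t * c⁻¹) * c = t := by group
        rw [h6] at h5
        rw [h5]; exact hmem
      have h2 := Cfsg.Agent.Lib.Lead.card_lt_card_of_lt h1
      have h3 := Subgroup.card_le_card_group (((c • T : Sylow p G) : Subgroup G) ⊓ R)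
      omega
    obtain ⟨b, hb, hbT⟩ := ih _ hlt2 (c • T) R rfl
    refine ⟨c⁻¹ * b⁻¹ * a, ?_, ?_⟩
    · have ha' : a ∈ Subgroup.centralizer ((((S : Subgroup G) ⊓ (T : Subgroup G) : Subgroup G)) : Set G) :=
        Subgroup.centralizer_le (show ((((S : Subgroup G) ⊓ (T : Subgroup G) : Subgroup G)) : Set G) ⊆ _ from
          le_inf inf_le_left hDR) ha
      have hb' : b ∈ Subgroup.centralizer ((((S : Subgroup G) ⊓ (T : Subgroup G) : Subgroup G)) : Set G) :=
        Subgroup.centralizer_le (show ((((S : Subgroup G) ⊓ (T : Subgroup G) : Subgroup G)) : Set G) ⊆ _ from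
          le_inf hDT' hDR) hb
      exact Subgroup.mul_mem _ (Subgroup.mul_mem _ (Subgroup.inv_mem _ hc) (Subgroup.inv_mem _ hb')) ha'
    · rw [mul_smul, haS, ← hbT, mul_smul, smul_smul, smul_smul]
      simp

theorem FrobHyp.sylow_conj [Finite G] {p : ℕ} [hp : Fact p.Prime] (hF : FrobHyp p G)
    (S T : Sylow p G) :
    ∃ c ∈ Subgroup.centralizer ((((S : Subgroup G) ⊓ (T : Subgroup G) : Subgroup G)) : Set G),
      c • S = T :=
  hF.sylow_conj_aux _ S T rfl

/-- under Frobenius' hypothesis a Sylow `p`-subgroup controls its own fusion -/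
theorem FrobHyp.control_fusion [Finite G] {p : ℕ} [hp : Fact p.Prime] (hF : FrobHyp p G)
    (P : Sylow p G) (x u : G) (hx : x ∈ (P : Subgroup G)) (hy : u * x * u⁻¹ ∈ (P : Subgroup G)) :
    ∃ v ∈ (P : Subgroup G), v * x * v⁻¹ = u * x * u⁻¹ := by
  have hxT : x ∈ ((u⁻¹ • P : Sylow p G) : Subgroup G) := by
    show x ∈ u⁻¹ • P
    rw [Cfsg.Agent.Lib.Helper1.mem_sylow_smul_iff, inv_inv]; exact hy
  obtain ⟨c, hc, hcP⟩ := hF.sylow_conj P (u⁻¹ • P)
  have hcx : c * x = x * c := ((Subgroup.mem_centralizer_iff.mp hc) x ⟨hx, hxT⟩).symm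
  have hn : (u * c) • P = P := by rw [mul_smul, hcP, smul_inv_smul]
  have hnN : u * c ∈ Subgroup.normalizer ((P : Subgroup G) : Set G) :=
    Sylow.smul_eq_iff_mem_normalizer.mp hn
  have hle : (P : Subgroup G) ≤ Subgroup.normalizer ((P : Subgroup G) : Set G) := Subgroup.le_normalizer
  obtain ⟨c', hc', r, hr, hdec⟩ := hF.normalizer_decomp (P : Subgroup G) P.2 (P.subtype hle)
    (⟨u * c, hnN⟩ : ↥(Subgroup.normalizer ((P : Subgroup G) : Set G)))⁻¹
  have hrP : (r : G) ∈ (P : Subgroup G) := by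
    rw [Sylow.coe_subtype, Subgroup.mem_subgroupOf] at hr; exact hr
  have hdec' : (u * c)⁻¹ = (c' : G) * (r : G) := by
    have := congrArg Subtype.val hdec
    simpa using this
  have hc'x : (c' : G) * x = x * (c' : G) := ((Subgroup.mem_centralizer_iff.mp hc') x hx).symm
  have huc : u * c = (r : G)⁻¹ * (c' : G)⁻¹ := by
    rw [← mul_inv_rev, ← hdec', inv_inv]
  refine ⟨(r : G)⁻¹, Subgroup.inv_mem _ hrP, ?_⟩
  have h1 : u * x * u⁻¹ = (u * c) * x * (u * c)⁻¹ := by
    rw [mul_inv_rev, mul_assoc u c x, hcx]; group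
  rw [h1, huc]
  have h2 : (c' : G)⁻¹ * x = x * (c' : G)⁻¹ := by
    rw [eq_mul_inv_iff_mul_eq, mul_assoc, ← hc'x, inv_mul_cancel_left]
  rw [mul_inv_rev, inv_inv, inv_inv, mul_assoc ((r : G)⁻¹) _ x, h2]
  group

theorem FrobHyp.focalSubgroup_le [Finite G] {p : ℕ} [hp : Fact p.Prime] (hF : FrobHyp p G)
    (P : Sylow p G) : (P : Subgroup G).focalSubgroup ≤ ⁅(P : Subgroup G), (P : Subgroup G)⁆ := by
  rw [Subgroup.focalSubgroup_def, Subgroup.closure_le]
  rintro g ⟨hgP, x, hxP, u, rfl⟩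
  have h1 : u * x⁻¹ * u⁻¹ ∈ (P : Subgroup G) := by
    have : u * x⁻¹ * u⁻¹ = x⁻¹ * ⁅x, u⁆ := by rw [commutatorElement_def]; group
    rw [this]; exact Subgroup.mul_mem _ (Subgroup.inv_mem _ hxP) hgP
  obtain ⟨v, hv, hvx⟩ := hF.control_fusion P x⁻¹ u (Subgroup.inv_mem _ hxP) h1
  have : ⁅x, u⁆ = ⁅x, v⁆ := by
    rw [commutatorElement_def, commutatorElement_def]
    have e1 : x * u * x⁻¹ * u⁻¹ = x * (u * x⁻¹ * u⁻¹) := by group
    have e2 : x * v * x⁻¹ * v⁻¹ = x * (v * x⁻¹ * v⁻¹) := by group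
    rw [e1, e2, hvx]
  show ⁅x, u⁆ ∈ ⁅(P : Subgroup G), (P : Subgroup G)⁆
  rw [this]
  exact Subgroup.commutator_mem_commutator hxP hv

/-- membership in a normal `p`-complement is detected by the order -/
theorem mem_iff_coprime_orderOf_of_normal_pcomp [Finite G] {p : ℕ} [hp : Fact p.Prime]
    (N : Subgroup G) [hN : N.Normal] (hc : (Nat.card N).Coprime p) {k : ℕ} (hk : N.index = p ^ k)
    (x : G) : x ∈ N ↔ (orderOf x).Coprime p := by
  constructor
  · intro hx
    exact Nat.Coprime.coprime_dvd_left (Subgroup.orderOf_dvd_natCard N hx) hc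
  · intro hx
    have h1 : orderOf (QuotientGroup.mk' N x) ∣ orderOf x := orderOf_map_dvd _ x
    have h2 : orderOf (QuotientGroup.mk' N x) ∣ p ^ k := by
      rw [← hk, Subgroup.index_eq_card]; exact orderOf_dvd_natCard _
    have h3 : orderOf (QuotientGroup.mk' N x) = 1 :=
      Nat.eq_one_of_dvd_coprimes (Nat.Coprime.pow_right k hx) h1 h2
    rw [orderOf_eq_one_iff] at h3
    exact (QuotientGroup.eq_one_iff x).mp h3

/-- Frobenius' hypothesis passes to subgroups -/
theorem FrobHyp.subgroup {p : ℕ} (hF : FrobHyp p G) (K : Subgroup G) : FrobHyp p ↥K := by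
  intro Q hQ g hg hcop
  have hQ' : IsPGroup p (Q.map K.subtype) := hQ.map _
  have hgN : (g : G) ∈ Subgroup.normalizer ((Q.map K.subtype : Subgroup G) : Set G) := by
    rw [Subgroup.mem_normalizer_iff]
    intro h
    constructor
    · rintro ⟨x, hx, rfl⟩
      refine ⟨g * x * g⁻¹, (Subgroup.mem_normalizer_iff.mp hg x).mp hx, ?_⟩
      simp
    · rintro ⟨x, hx, hxe⟩
      refine ⟨g⁻¹ * x * g, ?_, ?_⟩
      · have := (Subgroup.mem_normalizer_iff.mp (Subgroup.inv_mem _ hg) x).mp hx
        simpa using this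
      · have hxe' : (x : G) = (g : G) * h * (g : G)⁻¹ := hxe
        simp only [Subgroup.subtype_apply, Subgroup.coe_mul, Subgroup.coe_inv, hxe']
        group
  have hord : orderOf (g : G) = orderOf g := Subgroup.orderOf_coe g
  have hgC := hF _ hQ' (g : G) hgN (by rw [hord]; exact hcop)
  rw [Subgroup.mem_centralizer_iff] at hgC ⊢
  intro x hx
  have := hgC (x : G) ⟨x, hx, rfl⟩
  exact Subtype.ext (by simpa using this)

theorem FrobHyp.exists_normal_pcomp_aux.{u} {p : ℕ} [hp : Fact p.Prime] :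
    ∀ (n : ℕ) (G : Type u) [Group G] [Finite G], Nat.card G = n → FrobHyp p G →
      ∃ N : Subgroup G, N.Normal ∧ (Nat.card N).Coprime p ∧ ∃ k : ℕ, N.index = p ^ k := by
  intro n
  induction n using Nat.strong_induction_on with
  | _ n ih =>
  intro G _ _ hn hF
  let P : Sylow p G := default
  by_cases hPbot : (P : Subgroup G) = ⊥
  · refine ⟨⊤, inferInstance, ?_, 0, by simp⟩
    rw [Subgroup.card_top, Nat.coprime_comm, Nat.Prime.coprime_iff_not_dvd hp.out]
    intro hdvd
    exact Sylow.ne_bot_of_dvd_card P hdvd hPbot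
  · -- the transfer into P / P*
    have hfoc := hF.focalSubgroup_le P
    have hfocOf : (P : Subgroup G).focalSubgroupOf ≤ commutator ↥(P : Subgroup G) := by
      intro x hx
      rw [Subgroup.focalSubgroupOf_def, Subgroup.mem_subgroupOf] at hx
      have h1 := hfoc hx
      rw [← Subgroup.map_subtype_commutator] at h1
      obtain ⟨y, hy, hyx⟩ := h1
      have : y = x := Subtype.ext hyx
      rwa [← this]
    haveI : Nontrivial ↥(P : Subgroup G) := by
      rw [Subgroup.nontrivial_iff_ne_bot]; exact hPbot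
    haveI : Group.IsNilpotent ↥(P : Subgroup G) := P.2.isNilpotent
    have hcomm_lt : commutator ↥(P : Subgroup G) < ⊤ := Group.IsSolvable.commutator_lt_top_of_nontrivial _
    have hfoc_ne : (P : Subgroup G).focalSubgroupOf ≠ ⊤ := by
      intro h
      rw [h] at hfocOf
      exact absurd hcomm_lt (not_lt_of_ge hfocOf)
    have hsurj := Subgroup.transferFocal_surjective P
    set K := (P : Subgroup G).transferFocal.ker with hK
    have hKtop : K ≠ ⊤ := by
      intro h
      apply hfoc_ne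
      rw [eq_top_iff]
      intro x _
      obtain ⟨g, hg⟩ := hsurj (QuotientGroup.mk' _ x)
      have hgK : g ∈ K := by rw [h]; trivial
      rw [hK, MonoidHom.mem_ker] at hgK
      rw [hgK] at hg
      exact (QuotientGroup.eq_one_iff x).mp hg.symm
    have hKidx : ∃ j : ℕ, K.index = p ^ j := by
      have h1 : K.index = Nat.card (↥(P : Subgroup G) ⧸ (P : Subgroup G).focalSubgroupOf) := by
        rw [hK, Subgroup.index_ker, MonoidHom.range_eq_top.mpr hsurj, Subgroup.card_top]
      have h2 : Nat.card (↥(P : Subgroup G) ⧸ (P : Subgroup G).focalSubgroupOf) ∣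
          Nat.card ↥(P : Subgroup G) := Subgroup.card_quotient_dvd_card _
      obtain ⟨m, hm⟩ := IsPGroup.iff_card.mp P.2
      rw [hm, ← h1] at h2
      obtain ⟨j, _, hj⟩ := (Nat.dvd_prime_pow hp.out).mp h2
      exact ⟨j, hj⟩
    obtain ⟨j, hj⟩ := hKidx
    have hKlt : Nat.card ↥K < n := by
      rw [← hn, ← Subgroup.card_top (G := G)]
      exact Cfsg.Agent.Lib.Lead.card_lt_card_of_lt (lt_top_iff_ne_top.mpr hKtop)
    obtain ⟨N, hNn, hNc, k, hNk⟩ := ih _ hKlt ↥K rfl (hF.subgroup K)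
    haveI := hNn
    haveI hKn : K.Normal := by rw [hK]; infer_instance
    refine ⟨N.map K.subtype, ?_, ?_, k + j, ?_⟩
    · refine ⟨fun x hx g => ?_⟩
      obtain ⟨y, hy, rfl⟩ := hx
      refine ⟨⟨g * y * g⁻¹, hKn.conj_mem _ y.2 g⟩, ?_, rfl⟩
      have hy : y ∈ N := hy
      show (⟨g * y * g⁻¹, hKn.conj_mem _ y.2 g⟩ : ↥K) ∈ N
      rw [mem_iff_coprime_orderOf_of_normal_pcomp N hNc hNk] at hy ⊢
      have h1 : orderOf (⟨g * y * g⁻¹, hKn.conj_mem _ y.2 g⟩ : ↥K) = orderOf (g * (y : G) * g⁻¹) :=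
        Subgroup.orderOf_mk _ _
      have h2 : orderOf (g * (y : G) * g⁻¹) = orderOf (y : G) := by
        have := orderOf_injective (MulAut.conj g).toMonoidHom (MulAut.conj g).injective (y : G)
        simpa using this
      rw [h1, h2, Subgroup.orderOf_coe]
      exact hy
    · rw [Subgroup.card_map_of_injective K.subtype_injective]; exact hNc
    · rw [Subgroup.index_map_subtype, hNk, hj, pow_add]

/-- **Frobenius' normal `p`-complement theorem**, hard direction. -/
theorem FrobHyp.exists_normal_complement [Finite G] {p : ℕ} [hp : Fact p.Prime] (hF : FrobHyp p G)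
    (P : Sylow p G) : ∃ N : Subgroup G, N.Normal ∧ N.IsComplement' (P : Subgroup G) := by
  obtain ⟨N, hNn, hNc, k, hNk⟩ := FrobHyp.exists_normal_pcomp_aux (p := p) _ G rfl hF
  refine ⟨N, hNn, ?_⟩
  have hG : Nat.card G = Nat.card N * p ^ k := by rw [← hNk, Subgroup.card_mul_index]
  have hnd : ¬ p ∣ Nat.card N := by
    rw [← Nat.Prime.coprime_iff_not_dvd hp.out, Nat.coprime_comm]; exact hNc
  have hfac : (Nat.card G).factorization p = k := by
    rw [hG, Nat.factorization_mul Nat.card_pos.ne' (pow_pos hp.out.pos k).ne', Nat.factorization_pow]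
    simp [Nat.factorization_eq_zero_of_not_dvd hnd, hp.out.factorization_self]
  have hP : Nat.card (P : Subgroup G) = p ^ k := by rw [Sylow.card_eq_multiplicity, hfac]
  apply Subgroup.isComplement'_of_coprime
  · rw [hP, ← hG]
  · rw [hP]; exact Nat.Coprime.pow_right k hNc

/-- the hypothesis for subgroups of one Sylow subgroup gives it for all `p`-subgroups -/
theorem frobHyp_of_sylow [Finite G] {p : ℕ} [hp : Fact p.Prime] (P : Sylow p G)
    (h : ∀ Q : Subgroup G, Q ≤ (P : Subgroup G) → ∀ g ∈ Subgroup.normalizer (Q : Set G),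
      Nat.Coprime (orderOf g) p → g ∈ Subgroup.centralizer (Q : Set G)) : FrobHyp p G := by
  intro D hD g hg hcop
  obtain ⟨S, hS⟩ := hD.exists_le_sylow
  obtain ⟨a, ha⟩ := MulAction.exists_smul_eq G S P
  have hQP : D.map (MulAut.conj a).toMonoidHom ≤ (P : Subgroup G) := by
    rintro _ ⟨d, hd, rfl⟩
    show (MulAut.conj a) d ∈ (P : Subgroup G)
    rw [← ha]
    show (MulAut.conj a) d ∈ a • S
    rw [Cfsg.Agent.Lib.Helper1.mem_sylow_smul_iff, MulAut.conj_apply]
    have : a⁻¹ * (a * d * a⁻¹) * a = d := by group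
    rw [this]; exact hS hd
  have hmemQ : ∀ x : G, x ∈ D.map (MulAut.conj a).toMonoidHom ↔ a⁻¹ * x * a ∈ D := by
    intro x
    constructor
    · rintro ⟨d, hd, rfl⟩
      have : a⁻¹ * ((MulAut.conj a).toMonoidHom d) * a = d := by
        simp only [MulEquiv.coe_toMonoidHom, MulAut.conj_apply]; group
      rw [this]; exact hd
    · intro hx
      refine ⟨a⁻¹ * x * a, hx, ?_⟩
      simp only [MulEquiv.coe_toMonoidHom, MulAut.conj_apply]; group
  have hgN : a * g * a⁻¹ ∈ Subgroup.normalizer ((D.map (MulAut.conj a).toMonoidHom : Subgroup G) : Set G) := by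
    rw [Subgroup.mem_normalizer_iff]
    intro x
    rw [hmemQ, hmemQ]
    have e : a⁻¹ * (a * g * a⁻¹ * x * (a * g * a⁻¹)⁻¹) * a = g * (a⁻¹ * x * a) * g⁻¹ := by group
    rw [e]
    exact Subgroup.mem_normalizer_iff.mp hg _
  have hord : orderOf (a * g * a⁻¹) = orderOf g := by
    have := orderOf_injective (MulAut.conj a).toMonoidHom (MulAut.conj a).injective g
    simpa using this
  have hC := h _ hQP _ hgN (by rw [hord]; exact hcop)
  rw [Subgroup.mem_centralizer_iff] at hC ⊢
  intro d hd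
  have h1 := hC (a * d * a⁻¹) ((hmemQ _).mpr (by
    have : a⁻¹ * (a * d * a⁻¹) * a = d := by group
    rw [this]; exact hd))
  have h2 : a * (d * g) * a⁻¹ = a * (g * d) * a⁻¹ := by
    have e1 : a * (d * g) * a⁻¹ = a * d * a⁻¹ * (a * g * a⁻¹) := by group
    have e2 : a * (g * d) * a⁻¹ = a * g * a⁻¹ * (a * d * a⁻¹) := by group
    rw [e1, e2, h1]
  exact mul_left_cancel (mul_right_cancel h2)

end Cfsg.Agent.Lib.Helper21
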