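import Mathlib
import Cfsg.Prelude.Def_Transfer

set_option autoImplicit false
open scoped commutatorElement

namespace Cfsg.Agent.Lib.Helper21.OmegaCent

variable {G : Type*} [Group G]

/-! ### class-2 power formula with commuting hypotheses -/

theorem pow_mul_class2 {a b c : G} (hcb : Commute c b) (h : b * a = a * b * c)
    (n : ℕ) : b ^ n * a = a * b ^ n * c ^ n := by
  induction n with
  | zero => simp
  | succ n ih =>
    have hcbn : c * b ^ n = b ^ n * c := (hcb.pow_right n).eq
    calc b ^ (n + 1) * a = b * (b ^ n * a) := by rw [pow_succ']; group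
      _ = b * (a * b ^ n * c ^ n) := by rw [ih]
      _ = (b * a) * b ^ n * c ^ n := by group
      _ = (a * b * c) * b ^ n * c ^ n := by rw [h]
      _ = a * b * (c * b ^ n) * c ^ n := by group
      _ = a * b * (b ^ n * c) * c ^ n := by rw [hcbn]
      _ = a * b ^ (n + 1) * c ^ (n + 1) := by rw [pow_succ', pow_succ' c]; group

theorem mul_pow_class2 {a b c : G} (hca : Commute c a) (hcb : Commute c b)
    (h : b * a = a * b * c) (n : ℕ) : (a * b) ^ n = a ^ n * b ^ n * c ^ (n.choose 2) := by
  induction n with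
  | zero => simp
  | succ n ih =>
    have hch : (n + 1).choose 2 = n.choose 2 + n := by
      rw [Nat.choose_succ_succ' n 1, Nat.choose_one_right]; ring
    have h1 : c ^ (n.choose 2) * (a * b) = (a * b) * c ^ (n.choose 2) :=
      ((hca.mul_right hcb).pow_left _).eq
    have h2 : c ^ n * b = b * c ^ n := (hcb.pow_left n).eq
    have h3 : c ^ (n.choose 2) * c ^ n = c ^ n * c ^ (n.choose 2) := by
      rw [← pow_add, ← pow_add, add_comm]
    calc (a * b) ^ (n + 1) = (a * b) ^ n * (a * b) := pow_succ _ _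
      _ = a ^ n * b ^ n * c ^ (n.choose 2) * (a * b) := by rw [ih]
      _ = a ^ n * b ^ n * (c ^ (n.choose 2) * (a * b)) := by group
      _ = a ^ n * b ^ n * ((a * b) * c ^ (n.choose 2)) := by rw [h1]
      _ = a ^ n * (b ^ n * a) * b * c ^ (n.choose 2) := by group
      _ = a ^ n * (a * b ^ n * c ^ n) * b * c ^ (n.choose 2) := by rw [pow_mul_class2 hcb h]
      _ = a ^ n * a * b ^ n * (c ^ n * b) * c ^ (n.choose 2) := by group
      _ = a ^ n * a * b ^ n * (b * c ^ n) * c ^ (n.choose 2) := by rw [h2]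
      _ = a ^ (n + 1) * b ^ (n + 1) * (c ^ n * c ^ (n.choose 2)) := by
        rw [pow_succ a, pow_succ b]; group
      _ = a ^ (n + 1) * b ^ (n + 1) * c ^ ((n + 1).choose 2) := by
        rw [hch, pow_add c, h3]

/-- for `p` odd: `a^p = b^p = c^p = 1`, `c` commuting with `a`, `b`, `ba = abc` ⇒ `(ab)^p = 1` -/
theorem mul_pow_prime_class2 {p : ℕ} (hp : p.Prime) (hp2 : p ≠ 2) {a b c : G}
    (hca : Commute c a) (hcb : Commute c b) (h : b * a = a * b * c)
    (ha : a ^ p = 1) (hb : b ^ p = 1) (hc : c ^ p = 1) : (a * b) ^ p = 1 := by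
  rw [mul_pow_class2 hca hcb h, ha, hb, one_mul, one_mul]
  have h2 : 2 < p := lt_of_le_of_ne hp.two_le (Ne.symm hp2)
  obtain ⟨m, hm⟩ := hp.dvd_choose_self (by norm_num : (2 : ℕ) ≠ 0) h2
  rw [hm, pow_mul, hc, one_pow]

/-! ### extending by an element of order `p` -/

theorem sup_zpowers_facts {p : ℕ} [hp : Fact p.Prime] (B : Subgroup G) (x : G)
    (hx : x ^ p = 1) (hxB : x ∉ B) (hc : ∀ b ∈ B, x * b = b * x)
    (hBc : ∀ a ∈ B, ∀ b ∈ B, a * b = b * a) (hBe : ∀ b ∈ B, b ^ p = 1) :
    Nat.card ↥(B ⊔ Subgroup.zpowers x) = Nat.card B * p ∧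
      (∀ a ∈ B ⊔ Subgroup.zpowers x, ∀ b ∈ B ⊔ Subgroup.zpowers x, a * b = b * a) ∧
      (∀ a ∈ B ⊔ Subgroup.zpowers x, a ^ p = 1) := by
  have hx1 : x ≠ 1 := fun e => hxB (e ▸ B.one_mem)
  have hord : orderOf x = p := orderOf_eq_prime hx hx1
  have hcardZ : Nat.card (Subgroup.zpowers x) = p := by rw [Nat.card_zpowers, hord]
  have hcz : ∀ b ∈ B, ∀ y ∈ Subgroup.zpowers x, b * y = y * b := by
    intro b hb y hy
    obtain ⟨k, rfl⟩ := hy
    exact ((show Commute b x from (hc b hb).symm).zpow_right k).eq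
  have hcomm' : ∀ (b : B) (y : Subgroup.zpowers x),
      Commute (B.subtype b) ((Subgroup.zpowers x).subtype y) := fun b y => hcz b b.2 y y.2
  obtain ⟨φ, hφdef⟩ : ∃ φ : B × Subgroup.zpowers x →* G,
      φ = MonoidHom.noncommCoprod B.subtype (Subgroup.zpowers x).subtype hcomm' := ⟨_, rfl⟩
  have hφ : ∀ q : B × Subgroup.zpowers x, φ q = (q.1 : G) * (q.2 : G) := fun q => by
    rw [hφdef]; rfl
  have hrange : φ.range = B ⊔ Subgroup.zpowers x := by
    rw [hφdef, MonoidHom.noncommCoprod_range, Subgroup.range_subtype, Subgroup.range_subtype]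
  have hdisj : ∀ y : G, y ∈ B → y ∈ Subgroup.zpowers x → y = 1 := by
    intro y hyB hyZ
    by_contra hy1
    have : (⟨x, Subgroup.mem_zpowers x⟩ : Subgroup.zpowers x) ∈
        Subgroup.zpowers (⟨y, hyZ⟩ : Subgroup.zpowers x) :=
      mem_zpowers_of_prime_card hcardZ (fun e => hy1 (congrArg Subtype.val e))
    obtain ⟨k, hk⟩ := this
    have hk' : y ^ k = x := by
      have := congrArg Subtype.val hk
      simpa using this
    exact hxB (hk' ▸ B.zpow_mem hyB k)
  have hinj : Function.Injective φ := by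
    rw [injective_iff_map_eq_one]
    rintro ⟨b, y⟩ hby
    rw [hφ] at hby
    have h1 : (b : G) = (y : G)⁻¹ := eq_inv_of_mul_eq_one_left hby
    have hb1 : (b : G) = 1 := by
      apply hdisj _ b.2
      rw [h1]; exact (Subgroup.zpowers x).inv_mem y.2
    have hy1 : (y : G) = 1 := by
      rw [hb1, one_mul] at hby; exact hby
    exact Prod.ext (Subtype.ext hb1) (Subtype.ext hy1)
  refine ⟨?_, ?_, ?_⟩
  · rw [← hrange, ← Nat.card_congr (MonoidHom.ofInjective hinj).toEquiv, Nat.card_prod, hcardZ]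
  · rw [← hrange]
    rintro _ ⟨⟨b, y⟩, rfl⟩ _ ⟨⟨b', y'⟩, rfl⟩
    rw [hφ, hφ]
    have e1 := hBc b b.2 b' b'.2
    have e2 := hcz b b.2 y' y'.2
    have e3 := hcz b' b'.2 y y.2
    have e4 : (y : G) * (y' : G) = (y' : G) * (y : G) := by
      obtain ⟨k, hk⟩ := y.2
      obtain ⟨k', hk'⟩ := y'.2
      rw [← hk, ← hk']
      exact ((Commute.refl x).zpow_zpow k k').eq
    calc (b : G) * y * (b' * y') = b * (y * b') * y' := by group
      _ = b * (b' * y) * y' := by rw [e3]
      _ = (b * b') * (y * y') := by group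
      _ = (b' * b) * (y' * y) := by rw [e1, e4]
      _ = b' * (b * y') * y := by group
      _ = b' * (y' * b) * y := by rw [e2]
      _ = b' * y' * (b * y) := by group
  · rw [← hrange]
    rintro _ ⟨⟨b, y⟩, rfl⟩
    rw [hφ]
    have hcomm : Commute (b : G) (y : G) := hcz b b.2 y y.2
    rw [hcomm.mul_pow, hBe b b.2]
    obtain ⟨k, hk⟩ := y.2
    rw [← hk, one_mul, ← zpow_natCast, ← zpow_mul, mul_comm, zpow_mul, zpow_natCast, hx, one_zpow]

/-! ### the main theorem -/

section Main

variable [Finite G] {p : ℕ} [hp : Fact p.Prime]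

/-- If `p` is odd, `P` has no normal elementary abelian subgroup of order `p^3` and `B` is a normal
elementary abelian subgroup of order `p^2`, then every element of order dividing `p` in `C_P(B)`
lies in `B`. -/
theorem omega_centralizer_le (hp2 : p ≠ 2) (hG : IsPGroup p G)
    (hno : ∀ A : Subgroup G, A.Normal → IsMulCommutative A → (∀ a ∈ A, a ^ p = 1) →
      Nat.card A ≠ p ^ 3)
    (B : Subgroup G) [hBn : B.Normal] (hBc : ∀ a ∈ B, ∀ b ∈ B, a * b = b * a)
    (hBe : ∀ b ∈ B, b ^ p = 1) (hB2 : Nat.card B = p ^ 2) :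
    ∀ x ∈ Subgroup.centralizer (B : Set G), x ^ p = 1 → x ∈ B := by
  haveI hnil : Group.IsNilpotent G := hG.isNilpotent
  haveI : Group.IsNilpotent (G ⧸ B) := inferInstance
  set π : G →* G ⧸ B := QuotientGroup.mk' B with hπ
  have hkerπ : ∀ g : G, π g = 1 ↔ g ∈ B := fun g => QuotientGroup.eq_one_iff g
  have hTn : (Subgroup.centralizer (B : Set G)).Normal := inferInstance
  -- downward induction
  have key : ∀ m j : ℕ, j + m = Group.nilpotencyClass (G ⧸ B) →
      ∀ x ∈ Subgroup.centralizer (B : Set G), π x ∈ (⊤ : Subgroup (G ⧸ B)).lowerCentralSeries j →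
        x ^ p = 1 → x ∈ B := by
    intro m
    induction m with
    | zero =>
      intro j hj x _ hxl _
      rw [add_zero] at hj
      rw [hj, Subgroup.lowerCentralSeries_nilpotencyClass, Subgroup.mem_bot] at hxl
      exact (hkerπ x).mp hxl
    | succ m ih =>
      intro j hj x hxT hxl hxp
      by_contra hxB
      have hcx : ∀ b ∈ B, x * b = b * x := by
        intro b hb
        rw [Subgroup.mem_centralizer_iff] at hxT
        exact (hxT b hb).symm
      obtain ⟨hHcard, hHc, hHe⟩ := sup_zpowers_facts B x hxp hxB hcx hBc hBe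
      set H : Subgroup G := B ⊔ Subgroup.zpowers x with hH
      have hBH : B ≤ H := le_sup_left
      have hxH : x ∈ H := (le_sup_right : Subgroup.zpowers x ≤ H) (Subgroup.mem_zpowers x)
      have hHcard3 : Nat.card H = p ^ 3 := by rw [hHcard, hB2]; ring
      have hHnn : ¬ H.Normal := by
        intro hn
        exact hno H hn ⟨⟨fun a b => Subtype.ext (hHc a a.2 b b.2)⟩⟩ hHe hHcard3
      have hNlt : Subgroup.normalizer (H : Set G) < ⊤ := by
        rw [lt_top_iff_ne_top]
        intro e
        exact hHnn (Subgroup.normalizer_eq_top_iff.mp e)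
      have hNC := Group.normalizerCondition_of_isNilpotent (G := G) _ hNlt
      obtain ⟨g, hgNN, hgN⟩ := SetLike.exists_of_lt hNC
      -- notation
      set N : Subgroup G := Subgroup.normalizer (H : Set G) with hN
      have hHN : H ≤ N := Subgroup.le_normalizer
      have hxN : x ∈ N := hHN hxH
      have hx'N : g * x * g⁻¹ ∈ N := (Subgroup.mem_normalizer_iff.mp hgNN x).mp hxN
      have hwN : g⁻¹ * x * g ∈ N := by
        have := (Subgroup.mem_normalizer_iff.mp (Subgroup.inv_mem _ hgNN) x).mp hxN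
        simpa using this
      -- a = x⁻¹, b = g x g⁻¹, c = b⁻¹ a⁻¹ b a
      obtain ⟨b, hb⟩ : ∃ b, b = g * x * g⁻¹ := ⟨_, rfl⟩
      obtain ⟨w, hw⟩ : ∃ w, w = g⁻¹ * x * g := ⟨_, rfl⟩
      rw [← hb] at hx'N
      rw [← hw] at hwN
      obtain ⟨c, hc⟩ : ∃ c, c = b⁻¹ * x * b * x⁻¹ := ⟨_, rfl⟩
      have hcH : c ∈ H := by
        have h1 : b⁻¹ * x * b ∈ H := by
          have := (Subgroup.mem_normalizer_iff.mp (N.inv_mem hx'N) x).mp hxH
          simpa using this
        rw [hc]
        exact H.mul_mem h1 (H.inv_mem hxH)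
      have hcg : g⁻¹ * c * g ∈ H := by
        have h1 : w * x * w⁻¹ ∈ H := (Subgroup.mem_normalizer_iff.mp hwN x).mp hxH
        have h2 : g⁻¹ * c * g = x⁻¹ * (w * x * w⁻¹) := by
          rw [hc, hb, hw]; group
        rw [h2]
        exact H.mul_mem (H.inv_mem hxH) h1
      have hca : Commute c x⁻¹ := hHc c hcH x⁻¹ (H.inv_mem hxH)
      have hcb : Commute c b := by
        have h1 := hHc _ hcg x hxH
        have h2 : c * b = g * ((g⁻¹ * c * g) * x) * g⁻¹ := by rw [hb]; group
        have h3 : b * c = g * (x * (g⁻¹ * c * g)) * g⁻¹ := by rw [hb]; group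
        show c * b = b * c
        rw [h2, h3, h1]
      have hrel : b * x⁻¹ = x⁻¹ * b * c := by rw [hc]; group
      have hbp : b ^ p = 1 := by
        rw [hb, conj_pow, hxp]; group
      have hkp : (x⁻¹ * b) ^ p = 1 :=
        mul_pow_prime_class2 hp.out hp2 hca hcb hrel (by rw [inv_pow, hxp, inv_one]) hbp
          (hHe c hcH)
      -- k lies further down
      have hkT : x⁻¹ * b ∈ Subgroup.centralizer (B : Set G) := by
        apply Subgroup.mul_mem _ (Subgroup.inv_mem _ hxT)
        rw [hb]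
        exact hTn.conj_mem x hxT g
      have hkl : π (x⁻¹ * b) ∈ (⊤ : Subgroup (G ⧸ B)).lowerCentralSeries (j + 1) := by
        have h1 : π (x⁻¹ * b) = ⁅(π x)⁻¹, π g⁆ := by
          rw [hb, commutatorElement_def]
          simp only [map_mul, map_inv, inv_inv, mul_assoc]
        rw [h1, Subgroup.lowerCentralSeries_succ]
        exact Subgroup.commutator_mem_commutator (Subgroup.inv_mem _ hxl) (Subgroup.mem_top _)
      have hkB : x⁻¹ * b ∈ B := ih (j + 1) (by omega) _ hkT hkl hkp
      -- hence g normalizes H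
      have hbH : b ∈ H := by
        have : b = x * (x⁻¹ * b) := by group
        rw [this]
        exact H.mul_mem hxH (hBH hkB)
      apply hgN
      apply Subgroup.mem_normalizer_fintype
      have hle : H ≤ H.comap (MulAut.conj g).toMonoidHom := by
        rw [hH]
        apply sup_le
        · intro y hy
          rw [Subgroup.mem_comap]
          show g * y * g⁻¹ ∈ H
          exact hBH (hBn.conj_mem y hy g)
        · rw [Subgroup.zpowers_le, Subgroup.mem_comap]
          show g * x * g⁻¹ ∈ H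
          rw [← hb]; exact hbH
      intro n hn
      exact hle hn
  intro x hxT hxp
  exact key (Group.nilpotencyClass (G ⧸ B)) 0 (by omega) x hxT
    (by rw [Subgroup.lowerCentralSeries_zero]; exact Subgroup.mem_top _) hxp

end Main

end Cfsg.Agent.Lib.Helper21.OmegaCent
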