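import Mathlib
import Cfsg.Agent.S0100
import Cfsg.Agent.Lib.Helper11.SelfCentralizing

set_option autoImplicit false
open scoped commutatorElement

namespace Cfsg.Agent.Lib.Helper21.OmegaCent

variable {P : Type*} [Group P] [Finite P] {p : ℕ} [hp' : Fact p.Prime]

/-- the centralizer of a normal elementary abelian subgroup of order `p^2` has relative index
at most `p` in any subgroup -/
theorem normal_sq_relIndex_le (hP : IsPGroup p P) (B : Subgroup P) [hBn : B.Normal]
    (hBe : ∀ b ∈ B, b ^ p = 1) (hB2 : Nat.card B = p ^ 2) (X : Subgroup P) :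
    (Subgroup.centralizer (B : Set P)).relIndex X ≤ p := by
  have hp1 : 1 < p := hp'.out.one_lt
  haveI hnil : Group.IsNilpotent P := hP.isNilpotent
  have hB1 : B ≠ ⊥ := by
    intro e
    rw [e, Subgroup.card_bot] at hB2
    have : 1 < p ^ 2 := Nat.one_lt_pow (by norm_num) hp1
    omega
  have hBZ := Cfsg.Agent.Lib.Helper1.normal_inf_center_ne_bot B hB1
  obtain ⟨⟨z, hzBZ⟩, hz1'⟩ := Subgroup.ne_bot_iff_exists_ne_one.mp hBZ
  have hz1 : z ≠ 1 := fun e => hz1' (Subtype.ext e)
  obtain ⟨hzB, hzZ⟩ := hzBZ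
  have hzc : ∀ g : P, g * z = z * g := fun g => Subgroup.mem_center_iff.mp hzZ g
  have hzp : z ^ p = 1 := hBe z hzB
  have hcardZ : Nat.card (Subgroup.zpowers z) = p := by
    rw [Nat.card_zpowers, orderOf_eq_prime hzp hz1]
  have hZB : Subgroup.zpowers z ≤ B := by rw [Subgroup.zpowers_le]; exact hzB
  obtain ⟨b, hbB, hbZ⟩ : ∃ b ∈ B, b ∉ Subgroup.zpowers z := by
    by_contra hno
    push_neg at hno
    have : B ≤ Subgroup.zpowers z := hno
    have h1 := Subgroup.card_le_of_le this
    rw [hB2, hcardZ] at h1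
    have : p < p ^ 2 := by nlinarith
    omega
  have hb1 : b ≠ 1 := fun e => hbZ (e ▸ Subgroup.one_mem _)
  have hZc : ∀ a ∈ Subgroup.zpowers z, ∀ c ∈ Subgroup.zpowers z, a * c = c * a := by
    intro a ha c hc
    obtain ⟨i, rfl⟩ := ha
    exact (((show Commute c z from hzc c).zpow_right i).eq).symm
  have hZe : ∀ a ∈ Subgroup.zpowers z, a ^ p = 1 := fun a ha => hBe a (hZB ha)
  obtain ⟨hScard, -, -⟩ := sup_zpowers_facts (Subgroup.zpowers z) b (hBe b hbB) hbZ
    (fun c hc => by
      obtain ⟨i, rfl⟩ := hc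
      exact ((show Commute b z from hzc b).zpow_right i).eq) hZc hZe
  have hsup : Subgroup.zpowers z ⊔ Subgroup.zpowers b = B := by
    apply Subgroup.eq_of_le_of_card_ge
    · exact sup_le hZB (by rw [Subgroup.zpowers_le]; exact hbB)
    · rw [hScard, hcardZ, hB2]; exact le_of_eq (by ring)
  have hcent : Subgroup.centralizer ({b} : Set P) ≤ Subgroup.centralizer (B : Set P) := by
    intro g hg
    rw [Subgroup.mem_centralizer_iff] at hg
    have hgb : b * g = g * b := hg b rfl
    have hle : B ≤ Subgroup.centralizer ({g} : Set P) := by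
      rw [← hsup]
      apply sup_le
      · rw [Subgroup.zpowers_le, Subgroup.mem_centralizer_iff]
        intro y hy
        rw [Set.mem_singleton_iff] at hy
        rw [hy]; exact hzc g
      · rw [Subgroup.zpowers_le, Subgroup.mem_centralizer_iff]
        intro y hy
        rw [Set.mem_singleton_iff] at hy
        rw [hy]; exact hgb.symm
    rw [Subgroup.mem_centralizer_iff]
    intro y hy
    have := hle hy
    rw [Subgroup.mem_centralizer_iff] at this
    exact (this g rfl).symm
  have hrel := Cfsg.Agent.S0100.relIndex_centralizer_lt X B b hbB hb1 (fun e _ => by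
    rw [commutatorElement_def]
    exact B.mul_mem (hBn.conj_mem b hbB e) (B.inv_mem hbB))
  rw [hB2] at hrel
  obtain ⟨k, hk⟩ := IsPGroup.iff_card.mp (hP.to_subgroup X)
  have hdvd : (Subgroup.centralizer ({b} : Set P)).relIndex X ∣ p ^ k := by
    rw [← hk]; exact Subgroup.relIndex_dvd_card _ _
  obtain ⟨i, -, hi⟩ := (Nat.dvd_prime_pow hp'.out).mp hdvd
  have hi1 : i ≤ 1 := by
    by_contra hlt
    push_neg at hlt
    have : p ^ 2 ≤ p ^ i := Nat.pow_le_pow_right hp'.out.pos hlt
    omega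
  have hrel_le : (Subgroup.centralizer ({b} : Set P)).relIndex X ≤ p := by
    rw [hi]
    calc p ^ i ≤ p ^ 1 := Nat.pow_le_pow_right hp'.out.pos hi1
      _ = p := pow_one p
  have hne : (Subgroup.centralizer ({b} : Set P)).relIndex X ≠ 0 := by
    rw [hi]; exact pow_ne_zero _ hp'.out.ne_zero
  exact (Subgroup.relIndex_le_of_le_left hcent hne).trans hrel_le

/-- for `p` odd: a `p`-group of rank at least 3 has a normal elementary abelian subgroup of
order `p^3` -/
theorem exists_normal_elemAb_cube (hp : p ≠ 2) (hP : IsPGroup p P)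
    (hr : ∃ E : Subgroup P, (∀ a ∈ E, ∀ b ∈ E, a * b = b * a) ∧ (∀ e ∈ E, e ^ p = 1) ∧
      p ^ 2 < Nat.card E) :
    ∃ A : Subgroup P, A.Normal ∧ (∀ a ∈ A, ∀ b ∈ A, a * b = b * a) ∧ (∀ a ∈ A, a ^ p = 1) ∧
      Nat.card A = p ^ 3 := by
  by_contra hno
  push_neg at hno
  obtain ⟨E, hEc, hEe, hcard⟩ := hr
  have := Cfsg.Agent.S0100.main hp hP (fun A hAn hAc hAe hA3 => by
    have hc : ∀ a ∈ A, ∀ b ∈ A, a * b = b * a := by
      intro a ha b hb
      exact congrArg Subtype.val (hAc.is_comm.comm ⟨a, ha⟩ ⟨b, hb⟩)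
    exact hno A hAn hc hAe hA3) E hEc hEe
  omega

end Cfsg.Agent.Lib.Helper21.OmegaCent
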