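import Mathlib
import Cfsg.Agent.Lib.Helper22.AxB

set_option autoImplicit false

namespace Cfsg.Agent.Lib.Helper21

variable {G : Type*} [Group G]

/-- triangular numbers -/
def tri : ℕ → ℕ
  | 0 => 0
  | (k + 1) => tri k + k

theorem two_mul_tri (k : ℕ) : 2 * tri k = k * (k - 1) := by
  induction k with
  | zero => simp [tri]
  | succ k ih =>
    simp only [tri, Nat.add_sub_cancel]
    rw [mul_add, ih]
    cases k with
    | zero => simp
    | succ j => simp only [Nat.add_sub_cancel]; ring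

theorem pow_mul_comm_class2 (a b c : G) (hc : b * a = c * a * b) (hca : c * a = a * c)
    (hcb : c * b = b * c) (k : ℕ) : b ^ k * a = c ^ k * a * b ^ k := by
  induction k with
  | zero => simp
  | succ k ih =>
    have hcbk : Commute (c ^ k) b := (show Commute c b from hcb).pow_left k
    calc b ^ (k + 1) * a = b * (b ^ k * a) := by rw [pow_succ']; group
      _ = b * (c ^ k * a * b ^ k) := by rw [ih]
      _ = (b * c ^ k) * a * b ^ k := by group
      _ = (c ^ k * b) * a * b ^ k := by rw [hcbk.eq]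
      _ = c ^ k * (b * a) * b ^ k := by group
      _ = c ^ k * (c * a * b) * b ^ k := by rw [hc]
      _ = c ^ (k + 1) * a * b ^ (k + 1) := by rw [pow_succ, pow_succ']; group

theorem mul_pow_class2 (a b c : G) (hc : b * a = c * a * b) (hca : c * a = a * c)
    (hcb : c * b = b * c) (k : ℕ) : (a * b) ^ k = a ^ k * b ^ k * c ^ tri k := by
  induction k with
  | zero => simp [tri]
  | succ k ih =>
    have h1 := pow_mul_comm_class2 a b c hc hca hcb k
    have hcak : Commute (c ^ k) a := (show Commute c a from hca).pow_left k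
    have hct_a : Commute (c ^ tri k) a := (show Commute c a from hca).pow_left _
    have hct_b : Commute (c ^ tri k) b := (show Commute c b from hcb).pow_left _
    have hck_b : Commute (c ^ k) (b ^ (k + 1)) := ((show Commute c b from hcb).pow_left k).pow_right _
    calc (a * b) ^ (k + 1) = (a * b) ^ k * (a * b) := pow_succ _ _
      _ = a ^ k * b ^ k * c ^ tri k * (a * b) := by rw [ih]
      _ = a ^ k * b ^ k * (c ^ tri k * a) * b := by group
      _ = a ^ k * b ^ k * (a * c ^ tri k) * b := by rw [hct_a.eq]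
      _ = a ^ k * (b ^ k * a) * (c ^ tri k * b) := by group
      _ = a ^ k * (c ^ k * a * b ^ k) * (b * c ^ tri k) := by rw [h1, hct_b.eq]
      _ = a ^ k * (c ^ k * a) * b ^ (k + 1) * c ^ tri k := by rw [pow_succ]; group
      _ = a ^ k * (a * c ^ k) * b ^ (k + 1) * c ^ tri k := by rw [hcak.eq]
      _ = a ^ (k + 1) * (c ^ k * b ^ (k + 1)) * c ^ tri k := by rw [pow_succ]; group
      _ = a ^ (k + 1) * (b ^ (k + 1) * c ^ k) * c ^ tri k := by rw [hck_b.eq]
      _ = a ^ (k + 1) * b ^ (k + 1) * c ^ tri (k + 1) := by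
          simp only [tri]; rw [pow_add]; group

/-- stability: if `g` (of order prime to `p`) commutes with `q⁻¹ (g q g⁻¹)` and `q` lies in the
`g`-invariant `p`-group `Q`, then `g` commutes with `q`. -/
theorem comm_of_comm_commutator {p : ℕ} (Q : Subgroup G) (hQ : IsPGroup p Q) (g : G)
    (hg : g ∈ Subgroup.normalizer (Q : Set G)) (hcop : (orderOf g).Coprime p)
    (q : G) (hq : q ∈ Q) (hu : g * (q⁻¹ * (g * q * g⁻¹)) = (q⁻¹ * (g * q * g⁻¹)) * g) :
    g * q = q * g := by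
  have hq' : g * q * g⁻¹ ∈ Q := (Subgroup.mem_normalizer_iff.mp hg q).mp hq
  have huQ : q⁻¹ * (g * q * g⁻¹) ∈ Q := Q.mul_mem (Q.inv_mem hq) hq'
  have hn : g * q * g⁻¹ = q * (q⁻¹ * (g * q * g⁻¹)) := (mul_inv_cancel_left _ _).symm
  have h1 := Cfsg.Agent.Lib.Helper22.conj_pow_mul_of_comm g q _ hu hn (orderOf g)
  rw [pow_orderOf_eq_one, one_mul, inv_one, mul_one] at h1
  have h2 : (q⁻¹ * (g * q * g⁻¹)) ^ orderOf g = 1 := by
    have := congrArg (fun t => q⁻¹ * t) h1
    simpa using this.symm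
  obtain ⟨j, hj⟩ := hQ ⟨_, huQ⟩
  have h3 : (q⁻¹ * (g * q * g⁻¹)) ^ p ^ j = 1 := by simpa using congrArg Subtype.val hj
  have h4 : orderOf (q⁻¹ * (g * q * g⁻¹)) = 1 :=
    Nat.eq_one_of_dvd_coprimes (Nat.Coprime.pow_right j hcop) (orderOf_dvd_of_pow_eq_one h2)
      (orderOf_dvd_of_pow_eq_one h3)
  rw [orderOf_eq_one_iff] at h4
  have h5 : g * q * g⁻¹ = q := by rw [hn, h4, mul_one]
  calc g * q = (g * q * g⁻¹) * g := by group
    _ = q * g := by rw [h5]

/-- the subgroup generated by `p`-th powers and commutators of `Q` -/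
def frattiniLike (p : ℕ) (Q : Subgroup G) : Subgroup G :=
  Subgroup.closure ({y | ∃ a ∈ Q, y = a ^ p} ∪ {y | ∃ a ∈ Q, ∃ b ∈ Q, y = a * b * a⁻¹ * b⁻¹})

theorem frattiniLike_le (p : ℕ) (Q : Subgroup G) : frattiniLike p Q ≤ Q := by
  rw [frattiniLike, Subgroup.closure_le]
  rintro y (⟨a, ha, rfl⟩ | ⟨a, ha, b, hb, rfl⟩)
  · exact Q.pow_mem ha p
  · exact Q.mul_mem (Q.mul_mem (Q.mul_mem ha hb) (Q.inv_mem ha)) (Q.inv_mem hb)

theorem conj_mem_frattiniLike (p : ℕ) (Q : Subgroup G) (x : G) (hx : x ∈ Subgroup.normalizer (Q : Set G))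
    (h : G) (hh : h ∈ frattiniLike p Q) : x * h * x⁻¹ ∈ frattiniLike p Q := by
  rw [frattiniLike] at hh ⊢
  have hxQ : ∀ a ∈ Q, x * a * x⁻¹ ∈ Q := fun a ha => (Subgroup.mem_normalizer_iff.mp hx a).mp ha
  induction hh using Subgroup.closure_induction with
  | mem z hz =>
    apply Subgroup.subset_closure
    rcases hz with ⟨a, ha, rfl⟩ | ⟨a, ha, b, hb, rfl⟩
    · left; exact ⟨x * a * x⁻¹, hxQ a ha, by rw [conj_pow]⟩
    · right
      refine ⟨x * a * x⁻¹, hxQ a ha, x * b * x⁻¹, hxQ b hb, by group⟩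
  | one => simp
  | mul u v _ _ hu hv =>
    have : x * (u * v) * x⁻¹ = (x * u * x⁻¹) * (x * v * x⁻¹) := by group
    rw [this]; exact Subgroup.mul_mem _ hu hv
  | inv u _ hu =>
    have : x * u⁻¹ * x⁻¹ = (x * u * x⁻¹)⁻¹ := by group
    rw [this]; exact Subgroup.inv_mem _ hu

theorem mem_normalizer_frattiniLike (p : ℕ) (Q : Subgroup G) (x : G)
    (hx : x ∈ Subgroup.normalizer (Q : Set G)) :
    x ∈ Subgroup.normalizer ((frattiniLike p Q : Subgroup G) : Set G) := by
  rw [Subgroup.mem_normalizer_iff]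
  intro h
  constructor
  · exact conj_mem_frattiniLike p Q x hx h
  · intro hh
    have := conj_mem_frattiniLike p Q x⁻¹ (Subgroup.inv_mem _ hx) _ hh
    have e : x⁻¹ * (x * h * x⁻¹) * x⁻¹⁻¹ = h := by group
    rwa [e] at this

/-- in a nontrivial `p`-group, `frattiniLike` is a proper subgroup -/
theorem card_frattiniLike_lt [Finite G] {p : ℕ} [hp : Fact p.Prime] (Q : Subgroup G) (hQ : IsPGroup p Q)
    (hne : Q ≠ ⊥) : Nat.card (frattiniLike p Q) < Nat.card Q := by
  obtain ⟨k, hk⟩ := IsPGroup.iff_card.mp hQ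
  have hk0 : k ≠ 0 := by
    rintro rfl
    rw [pow_zero] at hk
    exact hne (Subgroup.card_eq_one.mp hk)
  obtain ⟨k', rfl⟩ := Nat.exists_eq_succ_of_ne_zero hk0
  obtain ⟨M, hM⟩ := Sylow.exists_subgroup_card_pow_prime (G := ↥Q) p (n := k')
    (by rw [hk]; exact pow_dvd_pow p (Nat.le_succ k'))
  have hMidx : M.index = p := by
    have h1 := M.card_mul_index
    rw [hM, hk, pow_succ] at h1
    exact Nat.eq_of_mul_eq_mul_left (pow_pos hp.out.pos k') h1
  haveI hMn : M.Normal := by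
    apply Subgroup.normal_of_index_eq_minFac_card
    rw [hMidx, hk, Nat.pow_minFac (Nat.succ_ne_zero k'), hp.out.minFac_eq]
  -- the quotient has prime order, hence is commutative
  have hcardq : Nat.card (↥Q ⧸ M) = p := by rw [← Subgroup.index_eq_card, hMidx]
  haveI : IsCyclic (↥Q ⧸ M) := isCyclic_of_prime_card hcardq
  have hcomm : ∀ a b : ↥Q, a * b * a⁻¹ * b⁻¹ ∈ M := by
    intro a b
    rw [← QuotientGroup.eq_one_iff]
    have := (IsCyclic.commutative (α := ↥Q ⧸ M)).is_comm.comm (QuotientGroup.mk a) (QuotientGroup.mk b)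
    rw [QuotientGroup.mk_mul, QuotientGroup.mk_mul, QuotientGroup.mk_mul, QuotientGroup.mk_inv,
      QuotientGroup.mk_inv]
    change (QuotientGroup.mk a : ↥Q ⧸ M) * QuotientGroup.mk b = QuotientGroup.mk b * QuotientGroup.mk a at this
    rw [this, mul_inv_cancel_right, mul_inv_cancel]
  have hpow : ∀ a : ↥Q, a ^ p ∈ M := by
    intro a
    have := Subgroup.pow_index_mem M a
    rwa [hMidx] at this
  have hle : (frattiniLike p Q).subgroupOf Q ≤ M := by
    intro y hy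
    rw [Subgroup.mem_subgroupOf, frattiniLike] at hy
    have key : ∀ z ∈ Subgroup.closure ({y | ∃ a ∈ Q, y = a ^ p} ∪
        {y | ∃ a ∈ Q, ∃ b ∈ Q, y = a * b * a⁻¹ * b⁻¹}), ∀ hz : z ∈ Q, (⟨z, hz⟩ : ↥Q) ∈ M := by
      intro z hz
      induction hz using Subgroup.closure_induction with
      | mem z hz =>
        rcases hz with ⟨a, ha, rfl⟩ | ⟨a, ha, b, hb, rfl⟩
        · intro _; exact hpow ⟨a, ha⟩
        · intro _; exact hcomm ⟨a, ha⟩ ⟨b, hb⟩
      | one => intro _; exact M.one_mem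
      | mul u v hu' hv' hu hv =>
        intro _
        have huQ : u ∈ Q := frattiniLike_le p Q hu'
        have hvQ : v ∈ Q := frattiniLike_le p Q hv'
        exact M.mul_mem (hu huQ) (hv hvQ)
      | inv u hu' hu =>
        intro _
        have huQ : u ∈ Q := frattiniLike_le p Q hu'
        exact M.inv_mem (hu huQ)
    exact key _ hy y.2
  have h2 : Nat.card ((frattiniLike p Q).subgroupOf Q) = Nat.card (frattiniLike p Q) := by
    rw [← Subgroup.card_map_of_injective Q.subtype_injective, Subgroup.subgroupOf_map_subtype,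
      inf_of_le_left (frattiniLike_le p Q)]
  have h3 : Nat.card ((frattiniLike p Q).subgroupOf Q) ≤ Nat.card M :=
    Nat.le_of_dvd Nat.card_pos (Subgroup.card_dvd_of_le hle)
  rw [h2, hM] at h3
  rw [hk]
  exact lt_of_le_of_lt h3 (Nat.pow_lt_pow_right hp.out.one_lt (Nat.lt_succ_self k'))

/-- **The Ω-lemma** (Gorenstein 5.3.10 and its analogue for `p = 2`): an element `g` of order prime to
`p` that normalizes the `p`-subgroup `Q` and commutes with all elements of `Q` of order dividing `p`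
(dividing `4` when `p = 2`) centralizes `Q`. -/
theorem comm_of_comm_small_aux [Finite G] {p : ℕ} [hp : Fact p.Prime] (g : G)
    (hcop : (orderOf g).Coprime p) :
    ∀ (n : ℕ) (Q : Subgroup G), Nat.card Q = n → IsPGroup p Q →
      g ∈ Subgroup.normalizer (Q : Set G) →
      (∀ a ∈ Q, (a ^ p = 1 ∨ (p = 2 ∧ a ^ 4 = 1)) → g * a = a * g) → ∀ q ∈ Q, g * q = q * g := by
  intro n
  induction n using Nat.strong_induction_on with
  | _ n ih =>
  intro Q hn hQ hg hsmall
  by_cases hne : Q = ⊥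
  · intro q hq
    rw [hne, Subgroup.mem_bot] at hq
    rw [hq]; simp
  have hRQ : frattiniLike p Q ≤ Q := frattiniLike_le p Q
  have hRlt : Nat.card (frattiniLike p Q) < n := hn ▸ card_frattiniLike_lt Q hQ hne
  have hgR : g ∈ Subgroup.normalizer ((frattiniLike p Q : Subgroup G) : Set G) :=
    mem_normalizer_frattiniLike p Q g hg
  have hcR : ∀ r ∈ frattiniLike p Q, g * r = r * g :=
    ih _ hRlt (frattiniLike p Q) rfl (hQ.to_le hRQ) hgR (fun a ha h => hsmall a (hRQ ha) h)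
  have hconjQ : ∀ a ∈ Q, g * a * g⁻¹ ∈ Q := fun a ha => (Subgroup.mem_normalizer_iff.mp hg a).mp ha
  have hcommR : ∀ a ∈ Q, ∀ b ∈ Q, a * b * a⁻¹ * b⁻¹ ∈ frattiniLike p Q := fun a ha b hb =>
    Subgroup.subset_closure (Or.inr ⟨a, ha, b, hb, rfl⟩)
  have hpowR : ∀ a ∈ Q, a ^ p ∈ frattiniLike p Q := fun a ha =>
    Subgroup.subset_closure (Or.inl ⟨a, ha, rfl⟩)
  -- `u_q` centralizes `R`
  have hD : ∀ q ∈ Q, ∀ r ∈ frattiniLike p Q,
      (q⁻¹ * (g * q * g⁻¹)) * r = r * (q⁻¹ * (g * q * g⁻¹)) := by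
    intro q hq r hr
    have hrQ := hRQ hr
    have h1 : q * r * q⁻¹ ∈ frattiniLike p Q := by
      have : q * r * q⁻¹ = (q * r * q⁻¹ * r⁻¹) * r := by group
      rw [this]
      exact Subgroup.mul_mem _ (hcommR q hq r hrQ) hr
    have h2 := hcR _ h1
    have h3 := hcR r hr
    have h4 : (g * q * g⁻¹) * r * (g * q * g⁻¹)⁻¹ = q * r * q⁻¹ := by
      have e : (g * q * g⁻¹) * r * (g * q * g⁻¹)⁻¹ = g * (q * (g⁻¹ * r * g) * q⁻¹) * g⁻¹ := by group
      have e2 : g⁻¹ * r * g = r := by rw [mul_assoc, ← h3, inv_mul_cancel_left]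
      rw [e, e2, h2, mul_inv_cancel_right]
    calc (q⁻¹ * (g * q * g⁻¹)) * r
        = q⁻¹ * ((g * q * g⁻¹) * r * (g * q * g⁻¹)⁻¹) * (g * q * g⁻¹) := by group
      _ = q⁻¹ * (q * r * q⁻¹) * (g * q * g⁻¹) := by rw [h4]
      _ = r * (q⁻¹ * (g * q * g⁻¹)) := by group
  -- the subgroup generated by the `u_q`
  have hMQ : Subgroup.closure {y | ∃ q ∈ Q, y = q⁻¹ * (g * q * g⁻¹)} ≤ Q := by
    rw [Subgroup.closure_le]
    rintro _ ⟨q, hq, rfl⟩
    exact Q.mul_mem (Q.inv_mem hq) (hconjQ q hq)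
  have hconjM : ∀ x : G, x ∈ Subgroup.normalizer (Q : Set G) → x * g = g * x →
      ∀ h ∈ Subgroup.closure {y | ∃ q ∈ Q, y = q⁻¹ * (g * q * g⁻¹)},
        x * h * x⁻¹ ∈ Subgroup.closure {y | ∃ q ∈ Q, y = q⁻¹ * (g * q * g⁻¹)} := by
    intro x hx hxg h hh
    induction hh using Subgroup.closure_induction with
    | mem z hz =>
      obtain ⟨q, hq, rfl⟩ := hz
      apply Subgroup.subset_closure
      refine ⟨x * q * x⁻¹, (Subgroup.mem_normalizer_iff.mp hx q).mp hq, ?_⟩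
      have hxg' : x⁻¹ * g = g * x⁻¹ := by
        have := congrArg (fun t => x⁻¹ * t * x⁻¹) hxg
        simpa [mul_assoc] using this.symm
      calc x * (q⁻¹ * (g * q * g⁻¹)) * x⁻¹ = (x * q * x⁻¹)⁻¹ * ((x * g) * q * (g⁻¹ * x⁻¹)) := by group
        _ = (x * q * x⁻¹)⁻¹ * ((g * x) * q * (x⁻¹ * g⁻¹)) := by
            rw [hxg]
            have : g⁻¹ * x⁻¹ = x⁻¹ * g⁻¹ := by
              rw [← mul_inv_rev, ← mul_inv_rev, hxg]
            rw [this]
        _ = (x * q * x⁻¹)⁻¹ * (g * (x * q * x⁻¹) * g⁻¹) := by group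
    | one => simp
    | mul u v _ _ hu hv =>
      have : x * (u * v) * x⁻¹ = (x * u * x⁻¹) * (x * v * x⁻¹) := by group
      rw [this]; exact Subgroup.mul_mem _ hu hv
    | inv u _ hu =>
      have : x * u⁻¹ * x⁻¹ = (x * u * x⁻¹)⁻¹ := by group
      rw [this]; exact Subgroup.inv_mem _ hu
  have hgM : g ∈ Subgroup.normalizer
      ((Subgroup.closure {y | ∃ q ∈ Q, y = q⁻¹ * (g * q * g⁻¹)} : Subgroup G) : Set G) := by
    rw [Subgroup.mem_normalizer_iff]
    intro h
    constructor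
    · exact hconjM g hg rfl h
    · intro hh
      have hg'c : g⁻¹ * g = g * g⁻¹ := by rw [inv_mul_cancel, mul_inv_cancel]
      have := hconjM g⁻¹ (Subgroup.inv_mem _ hg) hg'c _ hh
      have e : g⁻¹ * (g * h * g⁻¹) * g⁻¹⁻¹ = h := by group
      rwa [e] at this
  intro q hq
  apply comm_of_comm_commutator Q hQ g hg hcop q hq
  have huM : q⁻¹ * (g * q * g⁻¹) ∈ Subgroup.closure {y | ∃ q ∈ Q, y = q⁻¹ * (g * q * g⁻¹)} :=
    Subgroup.subset_closure ⟨q, hq, rfl⟩
  by_cases hMeq : Subgroup.closure {y | ∃ q ∈ Q, y = q⁻¹ * (g * q * g⁻¹)} = Q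
  · -- `Q` centralizes `R`
    have hcent : ∀ a ∈ Q, ∀ r ∈ frattiniLike p Q, a * r = r * a := by
      have hle : Subgroup.closure {y | ∃ q ∈ Q, y = q⁻¹ * (g * q * g⁻¹)} ≤
          Subgroup.centralizer ((frattiniLike p Q : Subgroup G) : Set G) := by
        rw [Subgroup.closure_le]
        rintro _ ⟨q', hq', rfl⟩
        rw [SetLike.mem_coe, Subgroup.mem_centralizer_iff]
        intro r hr
        exact (hD q' hq' r hr).symm
      intro a ha r hr
      have haM : a ∈ Subgroup.closure {y | ∃ q ∈ Q, y = q⁻¹ * (g * q * g⁻¹)} := by rw [hMeq]; exact ha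
      exact ((Subgroup.mem_centralizer_iff.mp (hle haM)) r hr).symm
    -- class two computation
    have ha : q⁻¹ ∈ Q := Q.inv_mem hq
    have hb : g * q * g⁻¹ ∈ Q := hconjQ q hq
    have hcR' : (g * q * g⁻¹) * q⁻¹ * (g * q * g⁻¹)⁻¹ * q⁻¹⁻¹ ∈ frattiniLike p Q := hcommR _ hb _ ha
    have hc : (g * q * g⁻¹) * q⁻¹ =
        ((g * q * g⁻¹) * q⁻¹ * (g * q * g⁻¹)⁻¹ * q⁻¹⁻¹) * q⁻¹ * (g * q * g⁻¹) := by group
    have hca := (hcent _ ha _ hcR').symm
    have hcb := (hcent _ hb _ hcR').symm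
    -- generalize
    generalize hcdef : (g * q * g⁻¹) * q⁻¹ * (g * q * g⁻¹)⁻¹ * q⁻¹⁻¹ = c at hcR' hc hca hcb
    -- c ^ p = 1
    have hcp : c ^ p = 1 := by
      have h1 := pow_mul_comm_class2 q⁻¹ (g * q * g⁻¹) c hc hca hcb p
      have h2 : (g * q * g⁻¹) ^ p * q⁻¹ = q⁻¹ * (g * q * g⁻¹) ^ p :=
        (hcent _ ha _ (hpowR _ hb)).symm
      rw [h2] at h1
      have h3 : 1 * (q⁻¹ * (g * q * g⁻¹) ^ p) = c ^ p * (q⁻¹ * (g * q * g⁻¹) ^ p) := by
        rw [one_mul, ← mul_assoc]; exact h1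
      exact (mul_right_cancel h3).symm
    -- powers of q
    have hqpow : ∀ m : ℕ, q ^ m ∈ frattiniLike p Q → (q⁻¹) ^ m * (g * q * g⁻¹) ^ m = 1 := by
      intro m hm
      have h1 := hcR _ hm
      have h2 : g * q ^ m * g⁻¹ = q ^ m := by rw [h1, mul_inv_cancel_right]
      rw [conj_pow, h2, inv_pow, inv_mul_cancel]
    have hmul := fun m => mul_pow_class2 q⁻¹ (g * q * g⁻¹) c hc hca hcb m
    have hsm : (q⁻¹ * (g * q * g⁻¹)) ^ p = 1 ∨ (p = 2 ∧ (q⁻¹ * (g * q * g⁻¹)) ^ 4 = 1) := by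
      by_cases hp2 : p = 2
      · right
        refine ⟨hp2, ?_⟩
        have hq4 : q ^ 4 ∈ frattiniLike p Q := by
          have : q ^ 4 = (q ^ p) ^ 2 := by rw [hp2, ← pow_mul]
          rw [this]; exact Subgroup.pow_mem _ (hpowR q hq) 2
        rw [hmul 4, hqpow 4 hq4, one_mul]
        have : tri 4 = 6 := rfl
        rw [this]
        have hc2 : c ^ 2 = 1 := by rw [← hp2]; exact hcp
        calc c ^ 6 = (c ^ 2) ^ 3 := by rw [← pow_mul]
          _ = 1 := by rw [hc2, one_pow]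
      · left
        rw [hmul p, hqpow p (hpowR q hq), one_mul]
        have hdvd : p ∣ tri p := by
          have h1 : p ∣ 2 * tri p := by rw [two_mul_tri]; exact dvd_mul_right _ _
          have hcop2 : Nat.Coprime p 2 := by
            rw [Nat.coprime_primes hp.out Nat.prime_two]; exact hp2
          exact hcop2.dvd_of_dvd_mul_left h1
        obtain ⟨t, ht⟩ := hdvd
        rw [ht, pow_mul, hcp, one_pow]
    exact hsmall _ (hMQ huM) hsm
  · -- `M` is a proper `g`-invariant subgroup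
    have hMlt : Nat.card (Subgroup.closure {y | ∃ q ∈ Q, y = q⁻¹ * (g * q * g⁻¹)}) < n := by
      rw [← hn]
      have h1 : Nat.card (Subgroup.closure {y | ∃ q ∈ Q, y = q⁻¹ * (g * q * g⁻¹)}) ≤ Nat.card Q :=
        Subgroup.card_le_of_le hMQ
      rcases h1.lt_or_eq with h2 | h2
      · exact h2
      · exact absurd (Subgroup.eq_of_le_of_card_ge hMQ h2.ge) hMeq
    exact ih _ hMlt _ rfl (hQ.to_le hMQ) hgM (fun a ha h => hsmall a (hMQ ha) h) _ huM

theorem comm_of_comm_small [Finite G] {p : ℕ} [hp : Fact p.Prime] (g : G)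
    (hcop : (orderOf g).Coprime p) (Q : Subgroup G) (hQ : IsPGroup p Q)
    (hg : g ∈ Subgroup.normalizer (Q : Set G))
    (hsmall : ∀ a ∈ Q, (a ^ p = 1 ∨ (p = 2 ∧ a ^ 4 = 1)) → g * a = a * g) :
    g ∈ Subgroup.centralizer (Q : Set G) := by
  rw [Subgroup.mem_centralizer_iff]
  intro q hq
  exact (comm_of_comm_small_aux g hcop _ Q rfl hQ hg hsmall q hq).symm

end Cfsg.Agent.Lib.Helper21
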