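import Mathlib
import Cfsg.Agent.Lib.Helper21.FrobeniusNPC
import Cfsg.Agent.Lib.Helper1.NPC
import Cfsg.Agent.S1254
import Cfsg.Agent.Lib.Helper1.Fitting

set_option autoImplicit false

namespace Cfsg.Agent.Lib.Helper21

open QuaternionGroup
open scoped commutatorElement

section Quat

variable {N : ℕ}

theorem zmod2_one_add_one : (Multiplicative.ofAdd (1 : ZMod 2)) * Multiplicative.ofAdd (1 : ZMod 2) = 1 := by
  decide

theorem zmod2_ofAdd_one_ne : (Multiplicative.ofAdd (1 : ZMod 2)) ≠ 1 := by
  decide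

/-- the sign homomorphism of a generalized quaternion group: rotations go to `1` -/
def quatSign (N : ℕ) : QuaternionGroup N →* Multiplicative (ZMod 2) where
  toFun g := match g with
    | a _ => 1
    | xa _ => Multiplicative.ofAdd 1
  map_one' := rfl
  map_mul' := by
    rintro (i | i) (j | j)
    · show (1 : Multiplicative (ZMod 2)) = 1 * 1
      rw [one_mul]
    · show Multiplicative.ofAdd (1 : ZMod 2) = 1 * Multiplicative.ofAdd 1
      rw [one_mul]
    · show Multiplicative.ofAdd (1 : ZMod 2) = Multiplicative.ofAdd 1 * 1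
      rw [mul_one]
    · show (1 : Multiplicative (ZMod 2)) = Multiplicative.ofAdd 1 * Multiplicative.ofAdd 1
      rw [zmod2_one_add_one]

theorem quatSign_a (i : ZMod (2 * N)) : quatSign N (a i) = 1 := rfl

theorem quatSign_xa (i : ZMod (2 * N)) : quatSign N (xa i) = Multiplicative.ofAdd 1 := rfl

theorem quat_a_mem_zpowers [NeZero N] (i : ZMod (2 * N)) :
    (a i : QuaternionGroup N) ∈ Subgroup.zpowers (a 1 : QuaternionGroup N) := by
  have h : (a 1 : QuaternionGroup N) ^ i.val = a i := by
    rw [a_one_pow, ZMod.natCast_zmod_val]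
  rw [← h]
  exact Subgroup.npow_mem_zpowers _ _

theorem quat_mem_zpowers_iff [NeZero N] (g : QuaternionGroup N) :
    g ∈ Subgroup.zpowers (a 1 : QuaternionGroup N) ↔ ∃ i, g = a i := by
  constructor
  · intro hg
    have hle : Subgroup.zpowers (a 1 : QuaternionGroup N) ≤ (quatSign N).ker := by
      rw [Subgroup.zpowers_le, MonoidHom.mem_ker]; rfl
    have := hle hg
    rw [MonoidHom.mem_ker] at this
    rcases g with i | i
    · exact ⟨i, rfl⟩
    · rw [quatSign_xa] at this
      exact absurd this zmod2_ofAdd_one_ne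
  · rintro ⟨i, rfl⟩
    exact quat_a_mem_zpowers i

theorem quat_commutator_le [NeZero N] :
    commutator (QuaternionGroup N) ≤ Subgroup.zpowers (a 1 : QuaternionGroup N) := by
  have h1 : commutator (QuaternionGroup N) ≤ (quatSign N).ker :=
    Abelianization.commutator_subset_ker _
  refine h1.trans ?_
  intro g hg
  rw [MonoidHom.mem_ker] at hg
  rcases g with i | i
  · exact quat_a_mem_zpowers i
  · rw [quatSign_xa] at hg
    exact absurd hg zmod2_ofAdd_one_ne

theorem quat_two_N : ((N : ZMod (2 * N)) + N) = 0 := by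
  have : ((2 * N : ℕ) : ZMod (2 * N)) = 0 := ZMod.natCast_self _
  push_cast at this
  rw [← this]; ring

theorem quat_a_two_mem_commutator : (a 2 : QuaternionGroup N) ∈ commutator (QuaternionGroup N) := by
  have h : ⁅(a 1 : QuaternionGroup N), (xa 0 : QuaternionGroup N)⁆ = a 2 := by
    have hinv1 : (a 1 : QuaternionGroup N)⁻¹ = a (-1) := rfl
    have hinv2 : (xa 0 : QuaternionGroup N)⁻¹ = xa (N + 0) := rfl
    rw [commutatorElement_def, hinv1, hinv2, a_mul_xa, xa_mul_a, xa_mul_xa]
    congr 1
    have := quat_two_N (N := N)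
    linear_combination this
  rw [← h, commutator_def]
  exact Subgroup.commutator_mem_commutator (Subgroup.mem_top _) (Subgroup.mem_top _)

theorem quat_not_comm (hN : 2 < N) (i : ZMod (2 * N)) :
    (xa i : QuaternionGroup N) * a 2 ≠ a 2 * xa i := by
  rw [xa_mul_a, a_mul_xa]
  intro h
  have h1 : i + 2 = i - 2 := by
    injection h
  have h2 : ((4 : ℕ) : ZMod (2 * N)) = 0 := by
    push_cast
    linear_combination h1
  rw [ZMod.natCast_eq_zero_iff] at h2
  have := Nat.le_of_dvd (by norm_num) h2
  omega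

theorem quat_unique_invol [NeZero N] (u : QuaternionGroup N) (hu : u * u = 1) :
    u = 1 ∨ u = a (N : ZMod (2 * N)) := by
  have hN0 : N ≠ 0 := NeZero.ne N
  rcases u with i | i
  · rw [a_mul_a, one_def] at hu
    have h1 : i + i = 0 := by injection hu
    have h2 := congrArg ZMod.val h1
    rw [ZMod.val_add, ZMod.val_zero] at h2
    have hlt : i.val < 2 * N := ZMod.val_lt i
    have hdvd : 2 * N ∣ i.val + i.val := Nat.dvd_of_mod_eq_zero h2
    obtain ⟨k, hk⟩ := hdvd
    have hk2 : k = 0 ∨ k = 1 := by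
      rcases k with _ | _ | k
      · left; rfl
      · right; rfl
      · exfalso
        have : 2 * N * (k + 1 + 1) ≥ 2 * N * 2 := Nat.mul_le_mul_left _ (by omega)
        omega
    rcases hk2 with rfl | rfl
    · left
      have : i.val = 0 := by omega
      rw [ZMod.val_eq_zero] at this
      rw [this]; rfl
    · right
      have : i.val = N := by omega
      have h3 : i = (N : ZMod (2 * N)) := by
        have h4 := ZMod.natCast_zmod_val i
        rw [this] at h4
        exact h4.symm
      rw [h3]
  · exfalso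
    rw [xa_mul_xa, one_def] at hu
    have h1 : (N : ZMod (2 * N)) + i - i = 0 := by injection hu
    have h2 : (N : ZMod (2 * N)) = 0 := by linear_combination h1
    rw [ZMod.natCast_eq_zero_iff] at h2
    have := Nat.le_of_dvd (Nat.pos_of_ne_zero hN0) h2
    omega

theorem quat_invol_ne_one [NeZero N] : (a (N : ZMod (2 * N)) : QuaternionGroup N) ≠ 1 := by
  have hN0 : N ≠ 0 := NeZero.ne N
  rw [one_def]
  intro h
  have h2 : (N : ZMod (2 * N)) = 0 := by injection h
  rw [ZMod.natCast_eq_zero_iff] at h2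
  have := Nat.le_of_dvd (Nat.pos_of_ne_zero hN0) h2
  omega

theorem quat_invol_sq : (a (N : ZMod (2 * N)) : QuaternionGroup N) * a (N : ZMod (2 * N)) = 1 := by
  rw [a_mul_a, quat_two_N]; rfl

end Quat


section LemmaX

variable {H : Type*} [Group H] [Finite H]

/-- the `2'`-part of an element: some `2`-power of `x` has odd order -/
theorem exists_two_pow_odd_order (x : H) : ∃ k : ℕ, (orderOf (x ^ 2 ^ k)).Coprime 2 := by
  obtain ⟨k, m, hm, hkm⟩ := Nat.exists_eq_two_pow_mul_odd (orderOf_pos x).ne'
  refine ⟨k, ?_⟩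
  rw [orderOf_pow' x (pow_ne_zero k (by norm_num)), hkm]
  have hg : Nat.gcd (2 ^ k * m) (2 ^ k) = 2 ^ k := Nat.gcd_eq_right (dvd_mul_right _ _)
  rw [hg, Nat.mul_div_cancel_left m (pow_pos (by norm_num) k)]
  exact Nat.coprime_two_right.mpr hm

/-- **Lemma X.** If a Sylow 2-subgroup `S` of `H` contains a normal cyclic subgroup `D` whose
centralizer in `S` is cyclic of index two, then `H` has a normal 2-complement `K` inside `C_H(D)`,
and `C_H(D)` has index two. -/
theorem quat_lemmaX (S : Sylow 2 H) (D : Subgroup H) [hDn : D.Normal] (hDcyc : IsCyclic D)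
    (hDS : D ≤ (S : Subgroup H))
    (hAcyc : IsCyclic ↥((S : Subgroup H) ⊓ Subgroup.centralizer (D : Set H)))
    (hidx : ((S : Subgroup H) ⊓ Subgroup.centralizer (D : Set H)).relIndex (S : Subgroup H) = 2) :
    ∃ K : Subgroup H, K.Normal ∧ Odd (Nat.card K) ∧ K ≤ Subgroup.centralizer (D : Set H) ∧
      K ⊔ (S : Subgroup H) = ⊤ ∧
      K ⊔ ((S : Subgroup H) ⊓ Subgroup.centralizer (D : Set H)) = Subgroup.centralizer (D : Set H) ∧
      (Subgroup.centralizer (D : Set H)).index = 2 := by
  classical
  haveI : Fact (Nat.Prime 2) := ⟨Nat.prime_two⟩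
  set C := Subgroup.centralizer (D : Set H) with hC
  haveI hCn : C.Normal := Subgroup.normal_centralizer
  have hD2 : IsPGroup 2 D := S.isPGroup'.to_le hDS
  have hodd : ∀ x : H, (orderOf x).Coprime 2 → x ∈ C := fun x hx =>
    Cfsg.Agent.S1254.centralizes_cyclic D hDcyc hD2 x
      (by rw [Subgroup.normalizer_eq_top]; exact Subgroup.mem_top _) hx
  -- H / C is a 2-group
  have hQ : IsPGroup 2 (H ⧸ C) := by
    intro q
    induction q using QuotientGroup.induction_on with
    | H x =>
      obtain ⟨k, hk⟩ := exists_two_pow_odd_order x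
      refine ⟨k, ?_⟩
      rw [← QuotientGroup.mk_pow, QuotientGroup.eq_one_iff]
      exact hodd _ hk
  obtain ⟨j, hj⟩ := IsPGroup.iff_card.mp hQ
  have hCidx : C.index = 2 ^ j := by rw [Subgroup.index_eq_card]; exact hj
  -- S ⊔ C = ⊤
  have htop : (S : Subgroup H) ⊔ C = ⊤ := by
    rw [← Subgroup.index_eq_one]
    have h1 : ((S : Subgroup H) ⊔ C).index ∣ (S : Subgroup H).index :=
      Subgroup.index_dvd_of_le le_sup_left
    have h2 : ((S : Subgroup H) ⊔ C).index ∣ 2 ^ j := by
      rw [← hCidx]; exact Subgroup.index_dvd_of_le le_sup_right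
    obtain ⟨i, -, hi⟩ := (Nat.dvd_prime_pow Nat.prime_two).mp h2
    rcases Nat.eq_zero_or_pos i with h0 | h0
    · rw [hi, h0, pow_zero]
    · exfalso
      apply S.not_dvd_index
      refine dvd_trans ?_ h1
      rw [hi]; exact dvd_pow_self 2 (by omega)
  -- index of C
  have hCi2 : C.index = 2 := by
    rw [← Subgroup.relIndex_top_right, ← htop, Subgroup.relIndex_sup_right,
      ← Subgroup.inf_relIndex_left]
    exact hidx
  set A := (S : Subgroup H) ⊓ C with hA
  have hAC : A ≤ C := inf_le_right
  have hAS : A ≤ (S : Subgroup H) := inf_le_left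
  have hA2 : IsPGroup 2 A := S.isPGroup'.to_le hAS
  -- A is a Sylow 2-subgroup of C
  have hAC2 : IsPGroup 2 (A.subgroupOf C) := hA2.comap_subtype
  have hnd : ¬ 2 ∣ (A.subgroupOf C).index := by
    have h1 := Cfsg.Agent.Lib.Helper1.card_mul_relIndex_of_le hAC
    have h2 := Cfsg.Agent.Lib.Helper1.card_mul_relIndex_of_le hAS
    rw [hidx] at h2
    have h3 := C.card_mul_index
    rw [hCi2] at h3
    have h4 := (S : Subgroup H).card_mul_index
    have hApos : 0 < Nat.card A := Nat.card_pos
    have h5 : A.relIndex C = (S : Subgroup H).index := by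
      have : Nat.card A * (A.relIndex C * 2) = Nat.card A * ((S : Subgroup H).index * 2) := by
        calc Nat.card A * (A.relIndex C * 2) = Nat.card A * A.relIndex C * 2 := by ring
          _ = Nat.card H := by rw [h1, h3]
          _ = Nat.card A * 2 * (S : Subgroup H).index := by rw [h2, h4]
          _ = Nat.card A * ((S : Subgroup H).index * 2) := by ring
      have := Nat.eq_of_mul_eq_mul_left hApos this
      omega
    show ¬ 2 ∣ A.relIndex C
    rw [h5]; exact S.not_dvd_index
  set P : Sylow 2 ↥C := hAC2.toSylow hnd with hP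
  have hPcoe : (P : Subgroup ↥C) = A.subgroupOf C := IsPGroup.toSylow_coe hAC2 hnd
  have hPcyc : IsCyclic ↥(P : Subgroup ↥C) := by
    rw [hPcoe]
    exact (Subgroup.subgroupOfEquivOfLe hAC).isCyclic.mpr hAcyc
  have hF : FrobHyp 2 ↥C := by
    apply frobHyp_of_sylow P
    intro Q hQP g hg hcop
    haveI := hPcyc
    exact Cfsg.Agent.S1254.centralizes_cyclic Q (Subgroup.isCyclic_of_le hQP)
      (P.isPGroup'.to_le hQP) g hg hcop
  obtain ⟨K₀, hK₀n, hK₀c⟩ := hF.exists_normal_complement P
  haveI := hK₀n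
  have hmemK₀ := Cfsg.Agent.Lib.Helper1.mem_normal_complement_iff P K₀ hK₀c
  set K := K₀.map C.subtype with hK
  have hKC : K ≤ C := Subgroup.map_subtype_le _
  have hmemK : ∀ x : H, x ∈ K ↔ x ∈ C ∧ (orderOf x).Coprime 2 := by
    intro x
    constructor
    · rintro ⟨y, hy, rfl⟩
      refine ⟨y.2, ?_⟩
      have := (hmemK₀ y).mp hy
      rwa [← Subgroup.orderOf_coe] at this
    · rintro ⟨hxC, hx⟩
      refine ⟨⟨x, hxC⟩, ?_, rfl⟩
      apply (hmemK₀ ⟨x, hxC⟩).mpr
      rw [← Subgroup.orderOf_coe]
      exact hx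
  have hKn : K.Normal := by
    constructor
    intro x hx h
    rw [hmemK] at hx ⊢
    refine ⟨hCn.conj_mem x hx.1 h, ?_⟩
    have : h * x * h⁻¹ = MulAut.conj h x := by simp
    rw [this, MulEquiv.orderOf_eq]
    exact hx.2
  have hKodd : Odd (Nat.card K) := by
    rw [hK, Subgroup.card_map_of_injective C.subtype_injective]
    exact Nat.coprime_two_right.mp (Cfsg.Agent.Lib.Helper1.card_coprime_of_isComplement'_sylow P hK₀c)
  have hKA : K ⊔ A = C := by
    have h1 : K₀ ⊔ (P : Subgroup ↥C) = ⊤ := hK₀c.sup_eq_top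
    have h2 := congrArg (Subgroup.map C.subtype) h1
    rw [Subgroup.map_sup, hPcoe, Subgroup.subgroupOf_map_subtype, ← MonoidHom.range_eq_map,
      Subgroup.range_subtype, inf_eq_left.mpr hAC] at h2
    exact h2
  refine ⟨K, hKn, hKodd, hKC, ?_, hKA, hCi2⟩
  rw [eq_top_iff, ← htop]
  apply sup_le le_sup_right
  rw [← hKA]
  exact sup_le le_sup_left (hAS.trans le_sup_right)

end LemmaX


section Setup

theorem commutator_map_mulEquiv {A B : Type*} [Group A] [Group B] (e : A ≃* B) :
    (commutator A).map e.toMonoidHom = commutator B := by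
  rw [commutator_def, commutator_def, Subgroup.map_commutator,
    Subgroup.map_top_of_surjective _ e.surjective]

theorem mem_commutator_of_mulEquiv {A B : Type*} [Group A] [Group B] (e : A ≃* B) (x : A)
    (hx : x ∈ commutator A) : e x ∈ commutator B := by
  rw [← commutator_map_mulEquiv e]
  exact Subgroup.mem_map_of_mem _ hx

variable {G : Type*} [Group G] {N : ℕ}

/-- the image in `G` of the generator of the rotation subgroup -/
noncomputable def quatGen (S : Subgroup G) (e : S ≃* QuaternionGroup N) : G :=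
  ((e.symm (a 1) : S) : G)

theorem quatGen_mem (S : Subgroup G) (e : S ≃* QuaternionGroup N) : quatGen S e ∈ S :=
  (e.symm (a 1)).2

theorem quat_mem_of_map (S : Subgroup G) (e : S ≃* QuaternionGroup N) (s : S)
    (hs : e s ∈ Subgroup.zpowers (a 1 : QuaternionGroup N)) :
    (s : G) ∈ Subgroup.zpowers (quatGen S e) := by
  obtain ⟨i, hi⟩ := Subgroup.mem_zpowers_iff.mp hs
  have h1 : s = (e.symm (a 1)) ^ i := by
    apply e.injective
    rw [map_zpow, MulEquiv.apply_symm_apply, hi]
  rw [h1, Subgroup.coe_zpow]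
  exact Subgroup.zpow_mem_zpowers _ i

theorem quat_commutator_le_zpowers [NeZero N] (S : Subgroup G) (e : S ≃* QuaternionGroup N) :
    ⁅S, S⁆ ≤ Subgroup.zpowers (quatGen S e) := by
  rw [← Subgroup.map_subtype_commutator]
  rintro _ ⟨d, hd, rfl⟩
  apply quat_mem_of_map S e d
  exact quat_commutator_le (mem_commutator_of_mulEquiv e d hd)

theorem quat_centralizer_eq [NeZero N] (hN : 2 < N) (S : Subgroup G) (e : S ≃* QuaternionGroup N) :
    S ⊓ Subgroup.centralizer ((⁅S, S⁆ : Subgroup G) : Set G) = Subgroup.zpowers (quatGen S e) := by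
  apply le_antisymm
  · rintro x ⟨hxS, hxC⟩
    have hxC' := Subgroup.mem_centralizer_iff.mp hxC
    set s : S := ⟨x, hxS⟩ with hs
    have key : e s ∈ Subgroup.zpowers (a 1 : QuaternionGroup N) := by
      rw [quat_mem_zpowers_iff]
      rcases hes : e s with i | i
      · exact ⟨i, rfl⟩
      · exfalso
        set d : S := e.symm (a 2) with hd
        have hdc : d ∈ commutator S := by
          have := mem_commutator_of_mulEquiv e.symm (a 2) quat_a_two_mem_commutator
          exact this
        have hdD : (d : G) ∈ ⁅S, S⁆ := by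
          rw [← Subgroup.map_subtype_commutator]
          exact ⟨d, hdc, rfl⟩
        have h1 := hxC' (d : G) hdD
        have h2 : d * s = s * d := Subtype.ext h1
        have h3 := congrArg e h2
        rw [map_mul, map_mul, hes, hd, MulEquiv.apply_symm_apply] at h3
        exact quat_not_comm hN i h3.symm
    exact quat_mem_of_map S e s key
  · rw [Subgroup.zpowers_le]
    refine ⟨quatGen_mem S e, ?_⟩
    show quatGen S e ∈ Subgroup.centralizer ((⁅S, S⁆ : Subgroup G) : Set G)
    rw [Subgroup.mem_centralizer_iff]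
    intro d hd
    obtain ⟨i, hi⟩ := Subgroup.mem_zpowers_iff.mp (quat_commutator_le_zpowers S e hd)
    rw [← hi]
    exact ((Commute.refl (quatGen S e)).zpow_left i).eq

theorem quat_orderOf_gen [NeZero N] (S : Subgroup G) (e : S ≃* QuaternionGroup N) :
    orderOf (quatGen S e) = 2 * N := by
  unfold quatGen
  rw [Subgroup.orderOf_coe, MulEquiv.orderOf_eq, orderOf_a_one]

theorem quat_card [NeZero N] (S : Subgroup G) (e : S ≃* QuaternionGroup N) :
    Nat.card S = 4 * N := by
  rw [Nat.card_congr e.toEquiv, Nat.card_eq_fintype_card, QuaternionGroup.card]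

theorem quat_relIndex [NeZero N] (S : Subgroup G) (e : S ≃* QuaternionGroup N) :
    (Subgroup.zpowers (quatGen S e)).relIndex S = 2 := by
  have hle : Subgroup.zpowers (quatGen S e) ≤ S := by
    rw [Subgroup.zpowers_le]; exact quatGen_mem S e
  have h1 := Cfsg.Agent.Lib.Helper1.card_mul_relIndex_of_le hle
  rw [Nat.card_zpowers, quat_orderOf_gen, quat_card S e] at h1
  have hN0 : 0 < N := Nat.pos_of_ne_zero (NeZero.ne N)
  have : 2 * N * (Subgroup.zpowers (quatGen S e)).relIndex S = 2 * N * 2 := by
    rw [h1]; ring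
  exact Nat.eq_of_mul_eq_mul_left (by omega) this

end Setup

end Cfsg.Agent.Lib.Helper21
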