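import Mathlib
import Cfsg.Agent.Lib.Helper21.QuatSylow
import Cfsg.Agent.Lib.Helper19.UniqueInvolution

set_option autoImplicit false

namespace Cfsg.Agent.Lib.Helper21

open QuaternionGroup

/-- in a finite cyclic group, divisibility of orders of subgroups implies containment -/
theorem cyclic_le_of_card_dvd {B : Type*} [Group B] [Finite B] [IsCyclic B] (H K : Subgroup B)
    (h : Nat.card H ∣ Nat.card K) : H ≤ K := by
  classical
  haveI : Fintype B := Fintype.ofFinite B
  set e := Nat.card K with he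
  have hepos : 0 < e := Nat.card_pos
  set F : Finset B := Finset.univ.filter (fun x : B => x ^ e = 1) with hF
  have hFcard : F.card ≤ e := IsCyclic.card_pow_eq_one_le hepos
  set KF : Finset B := Finset.univ.filter (fun x : B => x ∈ K) with hKF
  have hsub : KF ⊆ F := by
    intro x hx
    rw [hKF, Finset.mem_filter] at hx
    rw [hF, Finset.mem_filter]
    refine ⟨Finset.mem_univ _, ?_⟩
    exact orderOf_dvd_iff_pow_eq_one.mp (Subgroup.orderOf_dvd_natCard K hx.2)
  have hKFcard : KF.card = e := by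
    rw [he, Nat.card_eq_fintype_card, Fintype.card_subtype]
  have heq : KF = F := Finset.eq_of_subset_of_card_le hsub (by rw [hKFcard]; exact hFcard)
  intro x hx
  have hx1 : x ^ Nat.card H = 1 :=
    orderOf_dvd_iff_pow_eq_one.mp (Subgroup.orderOf_dvd_natCard H hx)
  have hx2 : x ^ e = 1 := by
    obtain ⟨c, hc⟩ := h
    rw [hc, pow_mul, hx1, one_pow]
  have : x ∈ F := by rw [hF, Finset.mem_filter]; exact ⟨Finset.mem_univ _, hx2⟩
  rw [← heq, hKF, Finset.mem_filter] at this
  exact this.2

/-- subgroup version -/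
theorem cyclic_le_of_card_dvd' {G : Type*} [Group G] [Finite G] (B H K : Subgroup G)
    (hB : IsCyclic B) (hH : H ≤ B) (hK : K ≤ B) (h : Nat.card H ∣ Nat.card K) : H ≤ K := by
  have h1 : Nat.card (H.subgroupOf B) = Nat.card H :=
    Nat.card_congr (Subgroup.subgroupOfEquivOfLe hH).toEquiv
  have h2 : Nat.card (K.subgroupOf B) = Nat.card K :=
    Nat.card_congr (Subgroup.subgroupOfEquivOfLe hK).toEquiv
  have h3 := cyclic_le_of_card_dvd (H.subgroupOf B) (K.subgroupOf B) (by rw [h1, h2]; exact h)
  intro x hx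
  have := h3 (show (⟨x, hH hx⟩ : B) ∈ H.subgroupOf B from Subgroup.mem_subgroupOf.mpr hx)
  exact Subgroup.mem_subgroupOf.mp this

/-- If a Sylow 2-subgroup is generalized quaternion, every abelian 2-subgroup is cyclic. -/
theorem quat_abelian_cyclic {G : Type*} [Group G] [Finite G] {N : ℕ} [NeZero N] (S : Sylow 2 G)
    (e : (S : Subgroup G) ≃* QuaternionGroup N) (B : Subgroup G) (hB2 : IsPGroup 2 B)
    (hBab : ∀ x ∈ B, ∀ y ∈ B, x * y = y * x) : IsCyclic B := by
  haveI : Fact (Nat.Prime 2) := ⟨Nat.prime_two⟩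
  obtain ⟨T, hT⟩ := hB2.exists_le_sylow
  obtain ⟨g, rfl⟩ := MulAction.exists_smul_eq G S T
  set eT : ↥((g • S : Sylow 2 G) : Subgroup G) ≃* QuaternionGroup N :=
    (Sylow.equivSMul S g).symm.trans e with heT
  set z := eT.symm (a (N : ZMod (2 * N))) with hz
  have huniq : ∀ u : ↥((g • S : Sylow 2 G) : Subgroup G), u * u = 1 → u = 1 ∨ u = z := by
    intro u hu
    have h1 : eT u * eT u = 1 := by rw [← map_mul, hu, map_one]
    rcases quat_unique_invol (eT u) h1 with h | h
    · left
      apply eT.injective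
      rw [h, map_one]
    · right
      apply eT.injective
      rw [h, hz, MulEquiv.apply_symm_apply]
  have hab : ∀ x ∈ B.subgroupOf ((g • S : Sylow 2 G) : Subgroup G),
      ∀ y ∈ B.subgroupOf ((g • S : Sylow 2 G) : Subgroup G), x * y = y * x := by
    intro x hx y hy
    apply Subtype.ext
    exact hBab x (Subgroup.mem_subgroupOf.mp hx) y (Subgroup.mem_subgroupOf.mp hy)
  obtain ⟨c, -, hc⟩ := Cfsg.Agent.Lib.Helper19.cyclic_of_comm_unique_involution
    (g • S : Sylow 2 G).isPGroup' z huniq _ hab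
  have hcyc : IsCyclic ↥(B.subgroupOf ((g • S : Sylow 2 G) : Subgroup G)) := by
    rw [hc]; infer_instance
  exact (Subgroup.subgroupOfEquivOfLe hT).isCyclic.mp hcyc

end Cfsg.Agent.Lib.Helper21
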