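import Mathlib
import Cfsg.Agent.Lib.Helper21.QuatSylow2

set_option autoImplicit false

namespace Cfsg.Agent.Lib.Helper21

open QuaternionGroup

section LemmaA
variable {G : Type*} [Group G] [Finite G]

/-- **Lemma A.** An element of odd order normalizing a `2`-group `Q` and a cyclic subgroup `A` of
index two in `Q` centralizes `Q`. -/
theorem centralizes_of_normalizes_cyclic_index_two (Q A : Subgroup G) (hQ2 : IsPGroup 2 Q)
    (hAQ : A ≤ Q) (hAcyc : IsCyclic A) (hidx : A.relIndex Q = 2) (g : G)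
    (hgQ : g ∈ Subgroup.normalizer (Q : Set G)) (hgA : g ∈ Subgroup.normalizer (A : Set G))
    (hodd : (orderOf g).Coprime 2) : g ∈ Subgroup.centralizer (Q : Set G) := by
  haveI : Fact (Nat.Prime 2) := ⟨Nat.prime_two⟩
  have hA2 : IsPGroup 2 A := hQ2.to_le hAQ
  have hgcA := Cfsg.Agent.S1254.centralizes_cyclic A hAcyc hA2 g hgA hodd
  rw [Subgroup.mem_centralizer_iff] at hgcA ⊢
  have hidx' : (A.subgroupOf Q).index = 2 := hidx
  intro y hy
  by_cases hyA : y ∈ A
  · exact hgcA y hyA
  · -- c = g y g⁻¹ y⁻¹ ∈ A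
    have hgy : g * y * g⁻¹ ∈ Q := (Subgroup.mem_normalizer_iff.mp hgQ y).mp hy
    have hgyA : g * y * g⁻¹ ∉ A := fun h => hyA ((Subgroup.mem_normalizer_iff.mp hgA y).mpr h)
    set c := g * y * g⁻¹ * y⁻¹ with hc
    have hcA : c ∈ A := by
      have h1 := Subgroup.mul_mem_iff_of_index_two hidx' (a := (⟨g * y * g⁻¹, hgy⟩ : Q))
        (b := (⟨y⁻¹, Q.inv_mem hy⟩ : Q))
      simp only [Subgroup.mem_subgroupOf] at h1
      have h2 : (((⟨g * y * g⁻¹, hgy⟩ : Q) * (⟨y⁻¹, Q.inv_mem hy⟩ : Q) : Q) : G) ∈ A := by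
        rw [h1]
        constructor
        · intro h; exact absurd h hgyA
        · intro h; exact absurd (by simpa using A.inv_mem h) hyA
      simpa using h2
    have hgc : c * g = g * c := hgcA c hcA
    have hcomm : Commute g c := hgc.symm
    -- g^k y g^-k = c^k y
    have hpow : ∀ k : ℕ, g ^ k * y * (g ^ k)⁻¹ = c ^ k * y := by
      intro k
      induction k with
      | zero => simp
      | succ k ih =>
        have h1 : g ^ (k + 1) * y * (g ^ (k + 1))⁻¹ = g * (g ^ k * y * (g ^ k)⁻¹) * g⁻¹ := by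
          rw [pow_succ']; group
        rw [h1, ih]
        have h2 : g * (c ^ k * y) * g⁻¹ = (g * c ^ k * g⁻¹) * (g * y * g⁻¹) := by group
        have h3 : g * c ^ k * g⁻¹ = c ^ k := by
          have := (hcomm.pow_right k).eq
          rw [this]; group
        have h4 : g * y * g⁻¹ = c * y := by rw [hc]; group
        rw [h2, h3, h4, pow_succ]; group
    have h5 := hpow (orderOf g)
    rw [pow_orderOf_eq_one, one_mul, inv_one, mul_one] at h5
    have h6 : c ^ orderOf g = 1 := by
      have : c ^ orderOf g * y = 1 * y := by rw [one_mul]; exact h5.symm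
      exact mul_right_cancel this
    obtain ⟨k, hk⟩ := (IsPGroup.iff_orderOf.mp hA2) ⟨c, hcA⟩
    have h7 : c ^ 2 ^ k = 1 := by
      rw [← hk, Subgroup.orderOf_mk]; exact pow_orderOf_eq_one c
    have hc1 : c = 1 := Cfsg.Agent.S1254.eq_one_of_orderOf_coprime c _ k h6 h7 hodd
    have : g * y * g⁻¹ = y := by
      have : g * y * g⁻¹ = c * y := by rw [hc]; group
      rw [this, hc1, one_mul]
    calc y * g = (g * y * g⁻¹) * g := by rw [this]
      _ = g * y := by group

end LemmaA


section Q8

theorem q8_inv_a (i : ZMod (2 * 2)) : (a i : QuaternionGroup 2)⁻¹ = a (-i) := rfl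

theorem q8_inv_xa (i : ZMod (2 * 2)) : (xa i : QuaternionGroup 2)⁻¹ = xa (((2 : ℕ) : ZMod (2 * 2)) + i) := rfl

/-- every element of `Q₈` outside `{1, z}` generates one of the three cyclic subgroups of order 4 -/
theorem q8_zpowers_cases (b : QuaternionGroup 2) :
    b * b = 1 ∨ (orderOf b = 4 ∧ (Subgroup.zpowers b = Subgroup.zpowers (a 1 : QuaternionGroup 2) ∨
      Subgroup.zpowers b = Subgroup.zpowers (xa 0 : QuaternionGroup 2) ∨
      Subgroup.zpowers b = Subgroup.zpowers (xa 1 : QuaternionGroup 2))) := by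
  have h4 : ∀ i : ZMod (2 * 2), i = 0 ∨ i = 1 ∨ i = 2 ∨ i = 3 := by decide
  rcases b with i | i
  · rcases h4 i with rfl | rfl | rfl | rfl
    · left; rfl
    · right
      refine ⟨?_, Or.inl rfl⟩
      rw [orderOf_a_one]
    · left
      rw [a_mul_a]
      have : (2 : ZMod (2 * 2)) + 2 = 0 := by decide
      rw [this]; rfl
    · right
      have h3 : (a 3 : QuaternionGroup 2) = (a 1)⁻¹ := by
        rw [q8_inv_a]; congr 1
      refine ⟨?_, Or.inl ?_⟩
      · rw [h3, orderOf_inv, orderOf_a_one]
      · rw [h3, Subgroup.zpowers_inv]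
  · right
    refine ⟨orderOf_xa i, ?_⟩
    rcases h4 i with rfl | rfl | rfl | rfl
    · right; left; rfl
    · right; right; rfl
    · right; left
      have h3 : (xa 2 : QuaternionGroup 2) = (xa 0)⁻¹ := by
        rw [q8_inv_xa]; congr 1
      rw [h3, Subgroup.zpowers_inv]
    · right; right
      have h3 : (xa 3 : QuaternionGroup 2) = (xa 1)⁻¹ := by
        rw [q8_inv_xa]; congr 1
      rw [h3, Subgroup.zpowers_inv]

/-- the three subgroups of order four of `Q₈` -/
theorem q8_subgroup_card_four (B : Subgroup (QuaternionGroup 2)) (hB : Nat.card B = 4) :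
    B = Subgroup.zpowers (a 1 : QuaternionGroup 2) ∨
      B = Subgroup.zpowers (xa 0 : QuaternionGroup 2) ∨
      B = Subgroup.zpowers (xa 1 : QuaternionGroup 2) := by
  -- an element of order 4 in B
  have hex : ∃ b ∈ B, ¬ (b * b = 1) := by
    by_contra hno
    push Not at hno
    -- then B ≤ {1, z}
    have hle : B ≤ Subgroup.zpowers (a (2 : ℕ) : QuaternionGroup 2) := by
      intro b hb
      rcases quat_unique_invol b (hno b hb) with h | h
      · rw [h]; exact Subgroup.one_mem _
      · rw [h]; exact Subgroup.mem_zpowers _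
    have h1 := Subgroup.card_le_of_le hle
    have h2 : Nat.card (Subgroup.zpowers (a (2 : ℕ) : QuaternionGroup 2)) = 2 := by
      rw [Nat.card_zpowers]
      apply orderOf_eq_prime
      · rw [pow_two]; exact quat_invol_sq
      · exact quat_invol_ne_one
    omega
  obtain ⟨b, hbB, hb⟩ := hex
  rcases q8_zpowers_cases b with h | ⟨ho, hz⟩
  · exact absurd h hb
  · have hle : Subgroup.zpowers b ≤ B := by rw [Subgroup.zpowers_le]; exact hbB
    have heq : Subgroup.zpowers b = B :=
      Subgroup.eq_of_le_of_card_ge hle (by rw [Nat.card_zpowers, ho, hB])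
    rw [← heq]; exact hz

end Q8

end Cfsg.Agent.Lib.Helper21
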