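import Mathlib
import Cfsg.Agent.Lib.helper14.Quat
import Cfsg.Agent.Lib.helper14.SL2Card

set_option autoImplicit false

namespace Cfsg.Agent.Lib.Helper21

open QuaternionGroup

/-- the order-3 automorphism `i ↦ j ↦ k ↦ i` of `Q₈`, as a function -/
def q8rot : QuaternionGroup 2 → QuaternionGroup 2
  | a i => if i = 0 then a 0 else if i = 1 then xa 0 else if i = 2 then a 2 else xa 2
  | xa i => if i = 0 then xa 3 else if i = 1 then a 3 else if i = 2 then xa 1 else a 1

theorem q8rot_mul : ∀ x y : QuaternionGroup 2, q8rot (x * y) = q8rot x * q8rot y := by decide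

theorem q8rot_cube : ∀ x : QuaternionGroup 2, q8rot (q8rot (q8rot x)) = x := by decide

/-- the order-3 automorphism of `Q₈` -/
def q8rotAut : MulAut (QuaternionGroup 2) where
  toFun := q8rot
  invFun x := q8rot (q8rot x)
  left_inv := q8rot_cube
  right_inv := q8rot_cube
  map_mul' := q8rot_mul

theorem q8rotAut_apply (x : QuaternionGroup 2) : q8rotAut x = q8rot x := rfl

theorem q8rotAut_pow_three : q8rotAut ^ 3 = 1 := by
  ext x
  show q8rotAut (q8rotAut (q8rotAut x)) = x
  exact q8rot_cube x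


open Cfsg.Agent.Lib.helper14

/-- the homomorphism `C₃ → Y` sending the generator to `t` -/
noncomputable def c3Hom {Y : Type*} [Group Y] (t : Y) (ht : t ^ 3 = 1) :
    Multiplicative (ZMod 3) →* Y :=
  AddMonoidHom.toMultiplicativeLeft (zmodPowHom 3 t ht)

theorem c3Hom_apply {Y : Type*} [Group Y] (t : Y) (ht : t ^ 3 = 1) (x : Multiplicative (ZMod 3)) :
    c3Hom t ht x = t ^ (Multiplicative.toAdd x).val := by
  have h := zmodPow_eq_pow 3 t ht (Multiplicative.toAdd x)
  rw [← h]
  rfl

/-- the action of `C₃` on `Q₈` -/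
noncomputable def q8act : Multiplicative (ZMod 3) →* MulAut (QuaternionGroup 2) :=
  c3Hom q8rotAut q8rotAut_pow_three

/-- the model of `SL(2,3)` as `Q₈ ⋊ C₃` -/
abbrev SL23Model := QuaternionGroup 2 ⋊[q8act] Multiplicative (ZMod 3)

theorem q8_pow_eight : ∀ x : QuaternionGroup 2, x ^ 8 = 1 := by decide

theorem q8_xa_three : (xa 3 : QuaternionGroup 2) = a 1 * xa 0 := by decide

theorem card_SL23Model : Nat.card SL23Model = 24 := by
  rw [Nat.card_congr (SemidirectProduct.equivProd (φ := q8act)), Nat.card_prod,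
    Nat.card_eq_fintype_card, QuaternionGroup.card, Nat.card_eq_fintype_card]
  simp [ZMod.card]

/-- **Lemma R**: a group containing `i, j, t` with the relations of `SL(2,3)` contains a copy of
the model. -/
theorem sl23_lift {Y : Type*} [Group Y] (i j t : Y) (hi : orderOf i = 4) (hj : j * j = i ^ 2)
    (hji : j * i * j⁻¹ = i⁻¹) (ht : orderOf t = 3) (hti : t * i * t⁻¹ = j)
    (htj : t * j * t⁻¹ = i * j) :
    ∃ Φ : SL23Model →* Y, Function.Injective Φ ∧
      Φ (SemidirectProduct.inl (a 1)) = i ∧ Φ (SemidirectProduct.inl (xa 0)) = j ∧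
      Φ (SemidirectProduct.inr (Multiplicative.ofAdd 1)) = t := by
  obtain ⟨f₁, hf₁inj, hf₁a, hf₁x⟩ := exists_quatHom 2 (by norm_num) i j (by rw [hi]) hj hji
  have ht3 : t ^ 3 = 1 := by rw [← ht]; exact pow_orderOf_eq_one t
  set f₂ : Multiplicative (ZMod 3) →* Y := c3Hom t ht3 with hf₂
  -- base compatibility
  have hbase : ∀ x : QuaternionGroup 2, f₁ (q8rot x) = t * f₁ x * t⁻¹ := by
    have heq : f₁.comp q8rotAut.toMonoidHom = (MulAut.conj t).toMonoidHom.comp f₁ := by
      apply MonoidHom.eq_of_eqOn_dense (quaternionGroup_closure 2)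
      intro x hx
      rcases hx with rfl | rfl
      · show f₁ (q8rot (a 1)) = t * f₁ (a 1) * t⁻¹
        rw [hf₁a, hti]
        exact hf₁x
      · show f₁ (q8rot (xa 0)) = t * f₁ (xa 0) * t⁻¹
        rw [hf₁x, htj]
        have : q8rot (xa 0) = a 1 * xa 0 := by decide
        rw [this, map_mul, hf₁a, hf₁x]
    intro x
    exact DFunLike.congr_fun heq x
  have hpow : ∀ (k : ℕ) (x : QuaternionGroup 2),
      f₁ ((q8rotAut ^ k) x) = t ^ k * f₁ x * (t ^ k)⁻¹ := by
    intro k
    induction k with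
    | zero => intro x; simp
    | succ k ih =>
      intro x
      rw [pow_succ, MulAut.mul_apply, ih, q8rotAut_apply, hbase, pow_succ]
      group
  have hcompat : ∀ g : Multiplicative (ZMod 3),
      f₁.comp (q8act g).toMonoidHom = (MulAut.conj (f₂ g)).toMonoidHom.comp f₁ := by
    intro g
    ext x
    show f₁ ((q8act g) x) = f₂ g * f₁ x * (f₂ g)⁻¹
    rw [hf₂, c3Hom_apply]
    unfold q8act
    rw [c3Hom_apply]
    exact hpow _ x
  refine ⟨SemidirectProduct.lift f₁ f₂ hcompat, ?_, ?_, ?_, ?_⟩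
  · rw [injective_iff_map_eq_one]
    intro x hx
    have hx' : f₁ x.left * f₂ x.right = 1 := hx
    have h2 : f₂ x.right = f₁ (x.left⁻¹) := by
      rw [map_inv]
      exact eq_inv_of_mul_eq_one_right hx'
    rw [hf₂, c3Hom_apply] at h2
    set k := (Multiplicative.toAdd x.right).val with hk
    have hk3 : k < 3 := ZMod.val_lt _
    have h8 : (t ^ k) ^ 8 = 1 := by
      rw [h2, ← map_pow, q8_pow_eight, map_one]
    rw [← pow_mul] at h8
    have hdvd : 3 ∣ k * 8 := by
      rw [← ht]; exact orderOf_dvd_of_pow_eq_one h8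
    have hk0 : k = 0 := by omega
    have hr : x.right = 1 := by
      have : Multiplicative.toAdd x.right = 0 := by
        rw [← ZMod.val_eq_zero]; rw [← hk]; exact hk0
      exact this
    have hl : x.left = 1 := by
      have h3 : f₁ (x.left⁻¹) = 1 := by rw [← h2, hk0, pow_zero]
      have := hf₁inj (h3.trans (map_one f₁).symm)
      exact inv_eq_one.mp this
    ext
    · exact hl
    · exact hr
  · rw [SemidirectProduct.lift_inl, hf₁a]
  · rw [SemidirectProduct.lift_inl, hf₁x]
  · rw [SemidirectProduct.lift_inr, hf₂, c3Hom_apply]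
    have : (Multiplicative.toAdd (Multiplicative.ofAdd (1 : ZMod 3))).val = 1 := by decide
    rw [this, pow_one]


/-- `SL(2,3)` -/
abbrev SL23 := Matrix.SpecialLinearGroup (Fin 2) (ZMod 3)

def sl23I : SL23 := ⟨!![0, 1; -1, 0], by decide⟩
def sl23J : SL23 := ⟨!![1, 1; 1, -1], by decide⟩
def sl23T : SL23 := ⟨!![0, 1; -1, -1], by decide⟩

theorem card_SL23 : Nat.card SL23 = 24 := by
  rw [card_sl2, ZMod.card]; norm_num

theorem sl23_model_iso : Nonempty (SL23Model ≃* SL23) := by
  have hi : orderOf sl23I = 4 := by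
    have := orderOf_eq_prime_pow (x := sl23I) (p := 2) (n := 1) (by decide) (by decide)
    simpa using this
  have ht : orderOf sl23T = 3 := by
    haveI : Fact (Nat.Prime 3) := ⟨Nat.prime_three⟩
    exact orderOf_eq_prime (by decide) (by decide)
  obtain ⟨Φ, hinj, -, -, -⟩ := sl23_lift sl23I sl23J sl23T hi (by decide) (by decide) ht
    (by decide) (by decide)
  haveI : Finite SL23Model := Nat.finite_of_card_ne_zero (by rw [card_SL23Model]; norm_num)
  have hbij : Function.Bijective Φ := by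
    rw [Nat.bijective_iff_injective_and_card]
    exact ⟨hinj, by rw [card_SL23Model, card_SL23]⟩
  exact ⟨MulEquiv.ofBijective Φ hbij⟩

/-- a group generated by `i, j, t` with the relations of `SL(2,3)` is isomorphic to `SL(2,3)` -/
theorem sl23_iso_of_relations {Y : Type*} [Group Y] (i j t : Y) (hi : orderOf i = 4)
    (hj : j * j = i ^ 2) (hji : j * i * j⁻¹ = i⁻¹) (ht : orderOf t = 3) (hti : t * i * t⁻¹ = j)
    (htj : t * j * t⁻¹ = i * j)
    (hgen : ∀ K : Subgroup Y, i ∈ K → j ∈ K → t ∈ K → K = ⊤) : Nonempty (Y ≃* SL23) := by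
  obtain ⟨Φ, hinj, h1, h2, h3⟩ := sl23_lift i j t hi hj hji ht hti htj
  have hsurj : Function.Surjective Φ := by
    rw [← MonoidHom.range_eq_top]
    exact hgen _ ⟨_, h1⟩ ⟨_, h2⟩ ⟨_, h3⟩
  obtain ⟨e⟩ := sl23_model_iso
  exact ⟨(MulEquiv.ofBijective Φ ⟨hinj, hsurj⟩).symm.trans e⟩

end Cfsg.Agent.Lib.Helper21
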