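import Mathlib
import Cfsg.Agent.Lib.Helper21.SL23Model
import Cfsg.Agent.Lib.Helper21.QuatAut

set_option autoImplicit false

namespace Cfsg.Agent.Lib.Helper21

open QuaternionGroup

set_option synthInstance.maxSize 2000 in
set_option synthInstance.maxHeartbeats 400000 in
theorem q8_L1 : ∀ u v : QuaternionGroup 2, u * u ≠ 1 → v * v ≠ 1 → v ≠ u → v ≠ u⁻¹ →
    v * v = u ^ 2 ∧ v * u * v⁻¹ = u⁻¹ ∧ u * (u * v)⁻¹ = v := by decide

set_option synthInstance.maxSize 2000 in
set_option synthInstance.maxHeartbeats 400000 in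
set_option maxRecDepth 100000 in
theorem q8_L2 : ∀ u v w l : QuaternionGroup 2, u * u ≠ 1 → v * v ≠ 1 → w * w ≠ 1 → l * l ≠ 1 →
    v ≠ u → v ≠ u⁻¹ → w ≠ v → w ≠ v⁻¹ → w ≠ u → w ≠ u⁻¹ → l ≠ w → l ≠ w⁻¹ → l ≠ v → l ≠ v⁻¹ →
    (l = u ∨ l = u⁻¹) ∧ (w = u * v ∨ w = (u * v)⁻¹) := by decide

theorem q8_L5 : ∀ u v x : QuaternionGroup 2, u * u ≠ 1 → v * v ≠ 1 → v ≠ u → v ≠ u⁻¹ →
    x = 1 ∨ x = u ∨ x = u * u ∨ x = u * u * u ∨ x = v ∨ x = u * v ∨ x = u * u * v ∨
      x = u * u * u * v := by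
  decide

theorem q8_pow_four : ∀ x : QuaternionGroup 2, x ^ 4 = 1 := by decide

theorem q8_orderOf_four (x : QuaternionGroup 2) (hx : x * x ≠ 1) : orderOf x = 4 := by
  have := orderOf_eq_prime_pow (x := x) (p := 2) (n := 1) (by rw [pow_one, pow_two]; exact hx)
    (by norm_num; exact q8_pow_four x)
  simpa using this

section
variable {G : Type*} [Group G] [Finite G]

/-- an odd-order element normalizing `Q` (of order 8) and sending an element of order 4 to itself or
its inverse centralizes `Q` -/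
theorem odd_centralizes_of_conj_order_four (Q : Subgroup G) (hQ8 : Nat.card Q = 8)
    (q : G) (hqQ : q ∈ Q) (hq4 : orderOf q = 4) (h : G)
    (hhQ : h ∈ Subgroup.normalizer (Q : Set G)) (hodd : (orderOf h).Coprime 2)
    (hconj : h * q * h⁻¹ = q ∨ h * q * h⁻¹ = q⁻¹) :
    h ∈ Subgroup.centralizer (Q : Set G) := by
  haveI : Fact (Nat.Prime 2) := ⟨Nat.prime_two⟩
  have hQ2 : IsPGroup 2 Q := IsPGroup.of_card (n := 3) (by rw [hQ8]; norm_num)
  have hAQ : Subgroup.zpowers q ≤ Q := by rw [Subgroup.zpowers_le]; exact hqQ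
  have hidx : (Subgroup.zpowers q).relIndex Q = 2 := by
    have h1 := Cfsg.Agent.Lib.Helper1.card_mul_relIndex_of_le hAQ
    rw [Nat.card_zpowers, hq4, hQ8] at h1
    omega
  have hhA : h ∈ Subgroup.normalizer ((Subgroup.zpowers q : Subgroup G) : Set G) := by
    apply Cfsg.Agent.S1254.mem_normalizer_of_conj_mem
    intro u hu
    obtain ⟨k, rfl⟩ := Subgroup.mem_zpowers_iff.mp hu
    have h2 : h * q ^ k * h⁻¹ = (h * q * h⁻¹) ^ k := by
      have := map_zpow (MulAut.conj h) q k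
      simpa [MulAut.conj_apply] using this
    rw [h2]
    rcases hconj with h3 | h3
    · rw [h3]; exact Subgroup.zpow_mem_zpowers q k
    · rw [h3]; exact Subgroup.zpow_mem _ (Subgroup.inv_mem _ (Subgroup.mem_zpowers q)) k
  exact centralizes_of_normalizes_cyclic_index_two Q (Subgroup.zpowers q) hQ2 hAQ
    (Subgroup.isCyclic_zpowers q) hidx h hhQ hhA hodd


/-- From elements `i, j ∈ Q` and `t = g^{±1}` with the relations of `SL(2,3)`, produce a section of
`G` isomorphic to `SL(2,3)`. -/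
theorem section_of_relations (Q : Subgroup G) (g : G)
    (hodd : (orderOf g).Coprime 2) (hg3 : g ^ 3 ∈ Subgroup.centralizer (Q : Set G))
    (hgC : g ∉ Subgroup.centralizer (Q : Set G))
    (i j t : G) (hiQ : i ∈ Q) (hjQ : j ∈ Q) (ht : t = g ∨ t = g⁻¹)
    (hi : orderOf i = 4) (hj : j * j = i ^ 2) (hji : j * i * j⁻¹ = i⁻¹)
    (hti : t * i * t⁻¹ = j) (htj : t * j * t⁻¹ = i * j)
    (hgen : ∀ L : Subgroup G, i ∈ L → j ∈ L → Q ≤ L) :
    ∃ (H K : Subgroup G) (_ : (K.subgroupOf H).Normal),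
      Nonempty ((H ⧸ K.subgroupOf H) ≃* SL23) := by
  classical
  set H : Subgroup G := Q ⊔ Subgroup.zpowers g with hH
  set K : Subgroup G := Subgroup.zpowers (g ^ 3) with hK
  have hQH : Q ≤ H := le_sup_left
  have hgH : g ∈ H := (le_sup_right : Subgroup.zpowers g ≤ H) (Subgroup.mem_zpowers g)
  have hKC : K ≤ Subgroup.centralizer (Q : Set G) := by
    rw [hK, Subgroup.zpowers_le]; exact hg3
  have hKg : K ≤ Subgroup.zpowers g := by
    rw [hK, Subgroup.zpowers_le]; exact Subgroup.npow_mem_zpowers g 3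
  -- K central in H
  have hle : H ≤ Subgroup.centralizer (K : Set G) := by
    apply sup_le
    · intro q hq
      rw [Subgroup.mem_centralizer_iff]
      intro k hk
      exact ((Subgroup.mem_centralizer_iff.mp (hKC hk)) q hq).symm
    · rw [Subgroup.zpowers_le, Subgroup.mem_centralizer_iff]
      intro k hk
      obtain ⟨m, rfl⟩ := Subgroup.mem_zpowers_iff.mp (hKg hk)
      exact (Commute.zpow_self g m).eq
  have hcomm : ∀ h ∈ H, ∀ k ∈ K, h * k = k * h := by
    intro h hh k hk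
    exact ((Subgroup.mem_centralizer_iff.mp (hle hh)) k hk).symm
  have hKn : (K.subgroupOf H).Normal := by
    constructor
    intro n hn h
    rw [Subgroup.mem_subgroupOf] at hn ⊢
    have : ((h * n * h⁻¹ : H) : G) = (n : G) := by
      rw [Subgroup.coe_mul, Subgroup.coe_mul, Subgroup.coe_inv, hcomm h h.2 n hn]
      group
    rw [this]; exact hn
  haveI := hKn
  -- elements of K have odd order
  have hKodd : ∀ x ∈ K, x ^ orderOf g = 1 := by
    intro x hx
    obtain ⟨m, rfl⟩ := Subgroup.mem_zpowers_iff.mp (hKg hx)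
    rw [← zpow_natCast, ← zpow_mul, mul_comm, zpow_mul, zpow_natCast, pow_orderOf_eq_one, one_zpow]
  have hK2 : ∀ x ∈ K, ∀ k : ℕ, x ^ (2 ^ k) = 1 → x = 1 := by
    intro x hx k hxk
    exact Cfsg.Agent.S1254.eq_one_of_orderOf_coprime x (orderOf g) k (hKodd x hx) hxk hodd
  have htH : t ∈ H := by
    rcases ht with h | h
    · rw [h]; exact hgH
    · rw [h]; exact Subgroup.inv_mem _ hgH
  set π : H →* (H ⧸ K.subgroupOf H) := QuotientGroup.mk' (K.subgroupOf H) with hπ
  have hπ1 : ∀ x : H, π x = 1 ↔ (x : G) ∈ K := by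
    intro x
    rw [hπ, QuotientGroup.mk'_apply, QuotientGroup.eq_one_iff, Subgroup.mem_subgroupOf]
  set i' : H := ⟨i, hQH hiQ⟩ with hi'
  set j' : H := ⟨j, hQH hjQ⟩ with hj'
  set t' : H := ⟨t, htH⟩ with ht'
  have hi4 : i ^ 4 = 1 := by rw [← hi]; exact pow_orderOf_eq_one i
  have hi2 : i ^ 2 ≠ 1 := by
    intro h
    have := orderOf_dvd_of_pow_eq_one h
    rw [hi] at this
    omega
  have hoi : orderOf (π i') = 4 := by
    have := orderOf_eq_prime_pow (x := π i') (p := 2) (n := 1) ?_ ?_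
    · simpa using this
    · rw [pow_one, ← map_pow, hπ1]
      intro hmem
      apply hi2
      apply hK2 _ hmem 1
      show (i ^ 2) ^ 2 ^ 1 = 1
      rw [pow_one, ← pow_mul]; exact hi4
    · rw [← map_pow]
      have : i' ^ 2 ^ (1 + 1) = 1 := by
        apply Subtype.ext
        show i ^ 2 ^ (1 + 1) = 1
        exact hi4
      rw [this, map_one]
  have hot : orderOf (π t') = 3 := by
    haveI : Fact (Nat.Prime 3) := ⟨Nat.prime_three⟩
    apply orderOf_eq_prime
    · rw [← map_pow, hπ1]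
      show t ^ 3 ∈ K
      rcases ht with h | h
      · rw [h]; exact Subgroup.mem_zpowers _
      · rw [h, inv_pow]; exact Subgroup.inv_mem _ (Subgroup.mem_zpowers _)
    · intro h
      rw [hπ1] at h
      have htK : t ∈ K := h
      apply hgC
      apply hKC
      rcases ht with h | h
      · rw [← h]; exact htK
      · have : g = t⁻¹ := by rw [h, inv_inv]
        rw [this]; exact Subgroup.inv_mem _ htK
  have hrel1 : π j' * π j' = π i' ^ 2 := by
    rw [← map_mul, ← map_pow]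
    congr 1
    exact Subtype.ext hj
  have hrel2 : π j' * π i' * (π j')⁻¹ = (π i')⁻¹ := by
    rw [← map_inv, ← map_mul, ← map_mul, ← map_inv]
    congr 1
    exact Subtype.ext hji
  have hrel3 : π t' * π i' * (π t')⁻¹ = π j' := by
    rw [← map_inv, ← map_mul, ← map_mul]
    congr 1
    exact Subtype.ext hti
  have hrel4 : π t' * π j' * (π t')⁻¹ = π i' * π j' := by
    rw [← map_inv, ← map_mul, ← map_mul, ← map_mul]
    congr 1
    exact Subtype.ext htj
  have hgenY : ∀ L : Subgroup (H ⧸ K.subgroupOf H), π i' ∈ L → π j' ∈ L → π t' ∈ L → L = ⊤ := by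
    intro L hLi hLj hLt
    rw [eq_top_iff]
    rintro y -
    obtain ⟨h, rfl⟩ := QuotientGroup.mk'_surjective (K.subgroupOf H) y
    set L' : Subgroup G := (L.comap π).map H.subtype with hL'
    have hiL : i ∈ L' := ⟨i', hLi, rfl⟩
    have hjL : j ∈ L' := ⟨j', hLj, rfl⟩
    have htL : t ∈ L' := ⟨t', hLt, rfl⟩
    have hgL : g ∈ L' := by
      rcases ht with h | h
      · rw [← h]; exact htL
      · have : g = t⁻¹ := by rw [h, inv_inv]
        rw [this]; exact Subgroup.inv_mem _ htL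
    have hHL : H ≤ L' := sup_le (hgen L' hiL hjL) (Subgroup.zpowers_le.mpr hgL)
    obtain ⟨h', hh'L, hh'⟩ := hHL h.2
    have : h' = h := Subtype.ext hh'
    rw [← this]; exact hh'L
  exact ⟨H, K, hKn, sl23_iso_of_relations (π i') (π j') (π t') hoi hrel1 hrel2 hot hrel3 hrel4 hgenY⟩


/-- relations in `Q ≅ Q₈` for two elements of order four generating different subgroups -/
theorem q8_rel_transport (Q : Subgroup G) (eQ : Q ≃* QuaternionGroup 2) (A B : Q)
    (hA : eQ A * eQ A ≠ 1) (hB : eQ B * eQ B ≠ 1) (h1 : eQ B ≠ eQ A) (h2 : eQ B ≠ (eQ A)⁻¹) :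
    (B : G) * B = (A : G) ^ 2 ∧ (B : G) * A * (B : G)⁻¹ = (A : G)⁻¹ ∧
      (A : G) * ((A : G) * B)⁻¹ = B ∧ ∀ L : Subgroup G, (A : G) ∈ L → (B : G) ∈ L → Q ≤ L := by
  obtain ⟨r1, r2, r3⟩ := q8_L1 (eQ A) (eQ B) hA hB h1 h2
  refine ⟨?_, ?_, ?_, ?_⟩
  · have : B * B = A ^ 2 := by
      apply eQ.injective
      rw [map_mul, map_pow]; exact r1
    have := congrArg Subtype.val this
    simpa using this
  · have : B * A * B⁻¹ = A⁻¹ := by
      apply eQ.injective
      rw [map_mul, map_mul, map_inv, map_inv]; exact r2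
    have := congrArg Subtype.val this
    simpa using this
  · have : A * (A * B)⁻¹ = B := by
      apply eQ.injective
      rw [map_mul, map_inv, map_mul]; exact r3
    have := congrArg Subtype.val this
    simpa using this
  · intro L hAL hBL q hq
    have hw := q8_L5 (eQ A) (eQ B) (eQ ⟨q, hq⟩) hA hB h1 h2
    have hcases : (⟨q, hq⟩ : Q) = 1 ∨ (⟨q, hq⟩ : Q) = A ∨ (⟨q, hq⟩ : Q) = A * A ∨
        (⟨q, hq⟩ : Q) = A * A * A ∨ (⟨q, hq⟩ : Q) = B ∨ (⟨q, hq⟩ : Q) = A * B ∨
        (⟨q, hq⟩ : Q) = A * A * B ∨ (⟨q, hq⟩ : Q) = A * A * A * B := by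
      rcases hw with h | h | h | h | h | h | h | h
      · left; apply eQ.injective; rw [h, map_one]
      · right; left; apply eQ.injective; rw [h]
      · right; right; left; apply eQ.injective; rw [h]; simp only [map_mul]
      · right; right; right; left; apply eQ.injective; rw [h]; simp only [map_mul]
      · right; right; right; right; left; apply eQ.injective; rw [h]
      · right; right; right; right; right; left; apply eQ.injective; rw [h]; simp only [map_mul]
      · right; right; right; right; right; right; left; apply eQ.injective; rw [h]; simp only [map_mul]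
      · right; right; right; right; right; right; right; apply eQ.injective; rw [h]; simp only [map_mul]
    have hq' : q = ((⟨q, hq⟩ : Q) : G) := rfl
    rw [hq']
    rcases hcases with h | h | h | h | h | h | h | h <;> rw [h]
    · exact Subgroup.one_mem _
    · exact hAL
    · exact Subgroup.mul_mem _ hAL hAL
    · exact Subgroup.mul_mem _ (Subgroup.mul_mem _ hAL hAL) hAL
    · exact hBL
    · exact Subgroup.mul_mem _ hAL hBL
    · exact Subgroup.mul_mem _ (Subgroup.mul_mem _ hAL hAL) hBL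
    · exact Subgroup.mul_mem _ (Subgroup.mul_mem _ (Subgroup.mul_mem _ hAL hAL) hAL) hBL


/-- **Core**: a subgroup `Q ≅ Q₈` normalized but not centralized by an element of odd order gives a
section isomorphic to `SL(2,3)`. -/
theorem exists_sl23_section (Q : Subgroup G) (eQ : Q ≃* QuaternionGroup 2) (g : G)
    (hgQ : g ∈ Subgroup.normalizer (Q : Set G)) (hodd : (orderOf g).Coprime 2)
    (hgC : g ∉ Subgroup.centralizer (Q : Set G)) :
    ∃ (H K : Subgroup G) (_ : (K.subgroupOf H).Normal),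
      Nonempty ((H ⧸ K.subgroupOf H) ≃* SL23) := by
  classical
  have hQ8 : Nat.card Q = 8 := by
    rw [Nat.card_congr eQ.toEquiv, Nat.card_eq_fintype_card, QuaternionGroup.card]
  have hconjQ : ∀ h : G, h ∈ Subgroup.normalizer (Q : Set G) → ∀ q ∈ Q, h * q * h⁻¹ ∈ Q :=
    fun h hh q hq => (Subgroup.mem_normalizer_iff.mp hh q).mp hq
  have hggQ : g * g ∈ Subgroup.normalizer (Q : Set G) := Subgroup.mul_mem _ hgQ hgQ
  have hoddgg : (orderOf (g * g)).Coprime 2 := by
    rw [← pow_two]; exact Nat.Coprime.coprime_dvd_left (orderOf_pow_dvd 2) hodd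
  have hg3Q : g ^ 3 ∈ Subgroup.normalizer (Q : Set G) := Subgroup.pow_mem _ hgQ 3
  have hoddg3 : (orderOf (g ^ 3)).Coprime 2 :=
    Nat.Coprime.coprime_dvd_left (orderOf_pow_dvd 3) hodd
  have hggC : g * g ∉ Subgroup.centralizer (Q : Set G) := by
    intro h
    apply hgC
    obtain ⟨m, hm⟩ : ∃ m, orderOf g = 2 * m + 1 := by
      obtain ⟨m, hm⟩ := Nat.coprime_two_right.mp hodd
      exact ⟨m, hm⟩
    have hpow : (g * g) ^ (m + 1) = g := by
      rw [← pow_two, ← pow_mul, show 2 * (m + 1) = (2 * m + 1) + 1 by ring, pow_succ, ← hm,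
        pow_orderOf_eq_one, one_mul]
    rw [← hpow]
    exact Subgroup.pow_mem _ h _
  have key1 : ∀ q ∈ Q, orderOf q = 4 → g * q * g⁻¹ ≠ q ∧ g * q * g⁻¹ ≠ q⁻¹ := by
    intro q hq h4
    constructor <;> intro h
    · exact hgC (odd_centralizes_of_conj_order_four Q hQ8 q hq h4 g hgQ hodd (Or.inl h))
    · exact hgC (odd_centralizes_of_conj_order_four Q hQ8 q hq h4 g hgQ hodd (Or.inr h))
  have key2 : ∀ q ∈ Q, orderOf q = 4 → (g * g) * q * (g * g)⁻¹ ≠ q ∧ (g * g) * q * (g * g)⁻¹ ≠ q⁻¹ := by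
    intro q hq h4
    constructor <;> intro h
    · exact hggC (odd_centralizes_of_conj_order_four Q hQ8 q hq h4 (g * g) hggQ hoddgg (Or.inl h))
    · exact hggC (odd_centralizes_of_conj_order_four Q hQ8 q hq h4 (g * g) hggQ hoddgg (Or.inr h))
  have hconj4 : ∀ q : G, orderOf q = 4 → orderOf (g * q * g⁻¹) = 4 := by
    intro q h4
    have := MulEquiv.orderOf_eq (MulAut.conj g) q
    rw [MulAut.conj_apply] at this
    rw [this, h4]
  -- the elements
  set Qi : Q := eQ.symm (a 1) with hQi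
  have hi4 : orderOf (Qi : G) = 4 := by
    rw [Subgroup.orderOf_coe, MulEquiv.orderOf_eq, orderOf_a_one]
  set Qj : Q := ⟨g * Qi * g⁻¹, hconjQ g hgQ _ Qi.2⟩ with hQj
  have hj4 : orderOf (Qj : G) = 4 := hconj4 _ hi4
  set Qk : Q := ⟨g * Qj * g⁻¹, hconjQ g hgQ _ Qj.2⟩ with hQk
  have hk4 : orderOf (Qk : G) = 4 := hconj4 _ hj4
  set Ql : Q := ⟨g * Qk * g⁻¹, hconjQ g hgQ _ Qk.2⟩ with hQl
  have hl4 : orderOf (Ql : G) = 4 := hconj4 _ hk4
  -- transport facts
  have hne : ∀ A B : Q, (A : G) ≠ B → eQ A ≠ eQ B := fun A B h heq =>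
    h (congrArg Subtype.val (eQ.injective heq))
  have hne' : ∀ A B : Q, (A : G) ≠ (B : G)⁻¹ → eQ A ≠ (eQ B)⁻¹ := by
    intro A B h heq
    rw [← map_inv] at heq
    apply h
    have := congrArg Subtype.val (eQ.injective heq)
    simpa using this
  have hsq : ∀ A : Q, orderOf (A : G) = 4 → eQ A * eQ A ≠ 1 := by
    intro A h4 heq
    rw [← map_mul, ← map_one eQ] at heq
    have := congrArg Subtype.val (eQ.injective heq)
    have h2 : (A : G) ^ 2 = 1 := by rw [pow_two]; simpa using this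
    have := orderOf_dvd_of_pow_eq_one h2
    rw [h4] at this
    omega
  have hkg : (Qk : G) = (g * g) * Qi * (g * g)⁻¹ := by
    show g * (g * Qi * g⁻¹) * g⁻¹ = _
    group
  have hlg : (Ql : G) = (g * g) * Qj * (g * g)⁻¹ := by
    show g * (g * Qj * g⁻¹) * g⁻¹ = _
    group
  have hlg3 : (Ql : G) = g ^ 3 * Qi * (g ^ 3)⁻¹ := by
    have e3 : g ^ 3 = g * g * g := by rw [pow_succ, pow_succ, pow_one]
    rw [e3]
    show g * (g * (g * Qi * g⁻¹) * g⁻¹) * g⁻¹ = _
    group
  obtain ⟨hL2a, hL2b⟩ := q8_L2 (eQ Qi) (eQ Qj) (eQ Qk) (eQ Ql) (hsq Qi hi4) (hsq Qj hj4)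
    (hsq Qk hk4) (hsq Ql hl4)
    (hne Qj Qi (key1 Qi Qi.2 hi4).1) (hne' Qj Qi (key1 Qi Qi.2 hi4).2)
    (hne Qk Qj (key1 Qj Qj.2 hj4).1) (hne' Qk Qj (key1 Qj Qj.2 hj4).2)
    (hne Qk Qi (by rw [hkg]; exact (key2 Qi Qi.2 hi4).1))
    (hne' Qk Qi (by rw [hkg]; exact (key2 Qi Qi.2 hi4).2))
    (hne Ql Qk (key1 Qk Qk.2 hk4).1) (hne' Ql Qk (key1 Qk Qk.2 hk4).2)
    (hne Ql Qj (by rw [hlg]; exact (key2 Qj Qj.2 hj4).1))
    (hne' Ql Qj (by rw [hlg]; exact (key2 Qj Qj.2 hj4).2))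
  -- g ^ 3 centralizes Q
  have hg3 : g ^ 3 ∈ Subgroup.centralizer (Q : Set G) := by
    apply odd_centralizes_of_conj_order_four Q hQ8 Qi Qi.2 hi4 (g ^ 3) hg3Q hoddg3
    rw [← hlg3]
    rcases hL2a with h | h
    · left
      exact congrArg Subtype.val (eQ.injective h)
    · right
      rw [← map_inv] at h
      have := congrArg Subtype.val (eQ.injective h)
      simpa using this
  have hli : (Ql : G) = Qi := by
    rw [hlg3]
    have := (Subgroup.mem_centralizer_iff.mp hg3) Qi Qi.2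
    rw [← this]; group
  rcases hL2b with hw | hw
  · -- k = i j, t = g
    have hkij : (Qk : G) = Qi * Qj := by
      rw [← map_mul] at hw
      have := congrArg Subtype.val (eQ.injective hw)
      simpa using this
    obtain ⟨r1, r2, -, r4⟩ := q8_rel_transport Q eQ Qi Qj (hsq Qi hi4) (hsq Qj hj4)
      (hne Qj Qi (key1 Qi Qi.2 hi4).1) (hne' Qj Qi (key1 Qi Qi.2 hi4).2)
    exact section_of_relations Q g hodd hg3 hgC Qi Qj g Qi.2 Qj.2 (Or.inl rfl) hi4 r1 r2 rfl
      (by rw [← hkij]) r4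
  · -- k = (i j)⁻¹, t = g⁻¹
    have hkij : (Qk : G) = ((Qi : G) * Qj)⁻¹ := by
      rw [← map_mul, ← map_inv] at hw
      have := congrArg Subtype.val (eQ.injective hw)
      simpa using this
    obtain ⟨-, -, r3, -⟩ := q8_rel_transport Q eQ Qi Qj (hsq Qi hi4) (hsq Qj hj4)
      (hne Qj Qi (key1 Qi Qi.2 hi4).1) (hne' Qj Qi (key1 Qi Qi.2 hi4).2)
    obtain ⟨s1, s2, -, s4⟩ := q8_rel_transport Q eQ Qi Qk (hsq Qi hi4) (hsq Qk hk4)
      (hne Qk Qi (by rw [hkg]; exact (key2 Qi Qi.2 hi4).1))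
      (hne' Qk Qi (by rw [hkg]; exact (key2 Qi Qi.2 hi4).2))
    have ht1 : g⁻¹ * (Qi : G) * g⁻¹⁻¹ = Qk := by
      rw [← hli]
      show g⁻¹ * (g * Qk * g⁻¹) * g⁻¹⁻¹ = _
      group
    have ht2 : g⁻¹ * (Qk : G) * g⁻¹⁻¹ = Qi * Qk := by
      rw [hkij, r3]
      rw [← hkij]
      show g⁻¹ * (g * Qj * g⁻¹) * g⁻¹⁻¹ = _
      group
    exact section_of_relations Q g hodd hg3 hgC Qi Qk g⁻¹ Qi.2 Qk.2 (Or.inr rfl) hi4 s1 s2 ht1
      ht2 s4

end

end Cfsg.Agent.Lib.Helper21
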