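import Mathlib
import Cfsg.Agent.S0634

set_option autoImplicit false

namespace Cfsg.Agent.Lib.Helper21

open Cfsg Cfsg.Agent.Lib.Helper1 Cfsg.Agent.S0634

section basic

variable {G : Type*} [Group G]

/-- the `n`-th term of the upper `p`-series, as a subgroup -/
abbrev ups (p : ℕ) (G : Type*) [Group G] (n : ℕ) : Subgroup G := (upperPSeries p G n).1

theorem card_map_dvd_of_ker_le {H H' : Type*} [Group H] [Group H'] (f : G →* H) (g : G →* H')
    (K : Subgroup G) (h : f.ker ≤ g.ker) : Nat.card (K.map g) ∣ Nat.card (K.map f) := by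
  rw [← Subgroup.relIndex_ker, ← Subgroup.relIndex_ker]
  exact Subgroup.relIndex_dvd_of_le_left K h

/-- the admissible orders of the factor `U_{n+1}/U_n` -/
def GoodCard (p n m : ℕ) : Prop := if Even n then m.Coprime p else ∃ k : ℕ, m = p ^ k

theorem goodCard_of_dvd {p n a b : ℕ} (hp : p.Prime) (hab : a ∣ b) (hb : GoodCard p n b) :
    GoodCard p n a := by
  unfold GoodCard at *
  by_cases hn : Even n
  · rw [if_pos hn] at hb ⊢
    exact Nat.Coprime.coprime_dvd_left hab hb
  · rw [if_neg hn] at hb ⊢
    obtain ⟨k, rfl⟩ := hb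
    obtain ⟨j, -, rfl⟩ := (Nat.dvd_prime_pow hp).mp hab
    exact ⟨j, rfl⟩

theorem goodCard_parity {p n m a : ℕ} (h : Even n ↔ Even m) : GoodCard p n a ↔ GoodCard p m a := by
  unfold GoodCard
  by_cases hn : Even n
  · rw [if_pos hn, if_pos (h.mp hn)]
  · rw [if_neg hn, if_neg (fun hm => hn (h.mpr hm))]

theorem ups_zero (p : ℕ) : ups p G 0 = ⊥ := rfl

theorem ups_le_succ (p n : ℕ) : ups p G n ≤ ups p G (n + 1) := by
  by_cases hn : Even n
  · show (upperPSeries p G n).1 ≤ (upperPSeries p G (n + 1)).1
    rw [ups_succ_even p n hn]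
    intro x hx
    rw [Subgroup.mem_comap]
    have : QuotientGroup.mk' (upperPSeries p G n).1 x = 1 := (QuotientGroup.eq_one_iff x).mpr hx
    rw [this]; exact Subgroup.one_mem _
  · show (upperPSeries p G n).1 ≤ (upperPSeries p G (n + 1)).1
    rw [ups_succ_odd p n hn]
    intro x hx
    rw [Subgroup.mem_comap]
    have : QuotientGroup.mk' (upperPSeries p G n).1 x = 1 := (QuotientGroup.eq_one_iff x).mpr hx
    rw [this]; exact Subgroup.one_mem _

theorem ups_mono (p : ℕ) {n m : ℕ} (h : n ≤ m) : ups p G n ≤ ups p G m := by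
  induction m with
  | zero =>
    have : n = 0 := by omega
    rw [this]
  | succ m ih =>
    rcases Nat.lt_or_ge n (m + 1) with h1 | h1
    · exact le_trans (ih (by omega)) (ups_le_succ p m)
    · have : n = m + 1 := by omega
      rw [this]

variable [Finite G] {p : ℕ} [hp : Fact p.Prime]

/-- a normal subgroup whose image modulo `U_n` has admissible order lies in `U_{n+1}` -/
theorem le_ups_succ (n : ℕ) (Y : Subgroup G) [hY : Y.Normal]
    (h : GoodCard p n (Nat.card (Y.map (QuotientGroup.mk' (ups p G n))))) :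
    Y ≤ ups p G (n + 1) := by
  have hnorm : (Y.map (QuotientGroup.mk' (ups p G n))).Normal :=
    Subgroup.Normal.map hY _ (QuotientGroup.mk'_surjective _)
  unfold GoodCard at h
  by_cases hn : Even n
  · rw [if_pos hn] at h
    show Y ≤ (upperPSeries p G (n + 1)).1
    rw [ups_succ_even p n hn]
    intro y hy
    rw [Subgroup.mem_comap]
    exact le_pPrimeCore hnorm h ⟨y, hy, rfl⟩
  · rw [if_neg hn] at h
    obtain ⟨k, hk⟩ := h
    show Y ≤ (upperPSeries p G (n + 1)).1
    rw [ups_succ_odd p n hn]
    intro y hy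
    rw [Subgroup.mem_comap]
    exact le_pCore hnorm (IsPGroup.of_card hk) ⟨y, hy, rfl⟩

/-- the factor `U_{n+1}/U_n` has admissible order -/
theorem goodCard_factor (n : ℕ) :
    GoodCard p n (Nat.card ((ups p G (n + 1)).map (QuotientGroup.mk' (ups p G n)))) := by
  unfold GoodCard
  by_cases hn : Even n
  · rw [if_pos hn]
    have : ups p G (n + 1) = _ := ups_succ_even (G := G) p n hn
    rw [this, Subgroup.map_comap_eq_self_of_surjective (QuotientGroup.mk'_surjective _)]
    exact pPrimeCore_card_coprime p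
  · rw [if_neg hn]
    have : ups p G (n + 1) = _ := ups_succ_odd (G := G) p n hn
    rw [this, Subgroup.map_comap_eq_self_of_surjective (QuotientGroup.mk'_surjective _)]
    exact (IsPGroup.iff_card.mp (pCore_isPGroup p))

end basic

section functorial

variable {X X' : Type*} [Group X] [Group X'] [Finite X] [Finite X'] {p : ℕ} [hp : Fact p.Prime]

/-- push-forward step -/
theorem ups_map_step (φ : X →* X') (n m : ℕ) (hpar : Even n ↔ Even m)
    (h : (ups p X n).map φ ≤ ups p X' m) (hnorm : ((ups p X (n + 1)).map φ).Normal) :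
    (ups p X (n + 1)).map φ ≤ ups p X' (m + 1) := by
  haveI := hnorm
  apply le_ups_succ m
  rw [Subgroup.map_map]
  have hker : (QuotientGroup.mk' (ups p X n)).ker ≤
      ((QuotientGroup.mk' (ups p X' m)).comp φ).ker := by
    rw [QuotientGroup.ker_mk']
    intro x hx
    rw [MonoidHom.mem_ker, MonoidHom.comp_apply, QuotientGroup.mk'_apply, QuotientGroup.eq_one_iff]
    exact h ⟨x, hx, rfl⟩
  have hdvd := card_map_dvd_of_ker_le (QuotientGroup.mk' (ups p X n))
    ((QuotientGroup.mk' (ups p X' m)).comp φ) (ups p X (n + 1)) hker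
  exact goodCard_of_dvd hp.out hdvd ((goodCard_parity hpar).mp (goodCard_factor n))

/-- pull-back step -/
theorem ups_comap_step (φ : X →* X') (n m : ℕ) (hpar : Even n ↔ Even m)
    (h : (ups p X' m).comap φ ≤ ups p X n) :
    (ups p X' (m + 1)).comap φ ≤ ups p X (n + 1) := by
  apply le_ups_succ n
  have hker : ((QuotientGroup.mk' (ups p X' m)).comp φ).ker ≤
      (QuotientGroup.mk' (ups p X n)).ker := by
    rw [QuotientGroup.ker_mk']
    intro x hx
    rw [MonoidHom.mem_ker, MonoidHom.comp_apply, QuotientGroup.mk'_apply,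
      QuotientGroup.eq_one_iff] at hx
    exact h hx
  have hdvd := card_map_dvd_of_ker_le ((QuotientGroup.mk' (ups p X' m)).comp φ)
    (QuotientGroup.mk' (ups p X n)) ((ups p X' (m + 1)).comap φ) hker
  have hle : ((ups p X' (m + 1)).comap φ).map ((QuotientGroup.mk' (ups p X' m)).comp φ) ≤
      (ups p X' (m + 1)).map (QuotientGroup.mk' (ups p X' m)) := by
    rw [← Subgroup.map_map]
    exact Subgroup.map_mono (Subgroup.map_comap_le _ _)
  have hdvd2 := Subgroup.card_dvd_of_le hle
  exact goodCard_of_dvd hp.out (hdvd.trans hdvd2) ((goodCard_parity hpar).mpr (goodCard_factor m))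

/-- **M1** the image of `U_n` under a surjective homomorphism lies in `U_n` -/
theorem ups_map_le_of_surjective (φ : X →* X') (hφ : Function.Surjective φ) (n : ℕ) :
    (ups p X n).map φ ≤ ups p X' n := by
  induction n with
  | zero => rw [ups_zero, Subgroup.map_bot]; exact bot_le
  | succ n ih =>
    exact ups_map_step φ n n Iff.rfl ih (Subgroup.Normal.map inferInstance φ hφ)

/-- the terms of the upper `p`-series are invariant under automorphisms -/
theorem ups_map_aut (α : X ≃* X) (n : ℕ) : (ups p X n).map α.toMonoidHom = ups p X n := by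
  apply Subgroup.eq_of_le_of_card_ge (ups_map_le_of_surjective α.toMonoidHom α.surjective n)
  rw [Subgroup.card_map_of_injective α.injective]

/-- **M2** shifting down by two -/
theorem ups_map_shift (n : ℕ) :
    (ups p X (n + 2)).map (QuotientGroup.mk' (ups p X 2)) ≤ ups p (X ⧸ ups p X 2) n := by
  induction n with
  | zero =>
    rw [ups_zero]
    rintro _ ⟨x, hx, rfl⟩
    rw [Subgroup.mem_bot, QuotientGroup.mk'_apply, QuotientGroup.eq_one_iff]
    exact hx
  | succ n ih =>
    exact ups_map_step (QuotientGroup.mk' (ups p X 2)) (n + 2) n (by simp [Nat.even_add]) ih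
      (Subgroup.Normal.map inferInstance _ (QuotientGroup.mk'_surjective _))

/-- **M4'** the terms of the series of a subgroup contain the intersections -/
theorem ups_comap_subtype_le (N : Subgroup X) (n : ℕ) :
    (ups p X n).comap N.subtype ≤ ups p ↥N n := by
  induction n with
  | zero =>
    rw [ups_zero, ups_zero]
    intro x hx
    rw [Subgroup.mem_comap, Subgroup.mem_bot] at hx
    rw [Subgroup.mem_bot]
    exact Subtype.ext hx
  | succ n ih => exact ups_comap_step N.subtype n n Iff.rfl ih

/-- **M4** the terms of the series of a normal subgroup lie in the terms of the series -/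
theorem ups_map_subtype_le (N : Subgroup X) [hN : N.Normal] (n : ℕ) :
    (ups p ↥N n).map N.subtype ≤ ups p X n := by
  induction n with
  | zero => rw [ups_zero, Subgroup.map_bot]; exact bot_le
  | succ n ih =>
    apply ups_map_step N.subtype n n Iff.rfl ih
    constructor
    rintro _ ⟨y, hy, rfl⟩ g
    have hmem : g * (y : X) * g⁻¹ ∈ N := hN.conj_mem _ y.2 g
    refine ⟨⟨g * (y : X) * g⁻¹, hmem⟩, ?_, rfl⟩
    have h1 := ups_map_aut (p := p) (MulAut.conjNormal g : ↥N ≃* ↥N) (n + 1)
    rw [← h1]
    refine ⟨y, hy, ?_⟩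
    apply Subtype.ext
    simp [MulAut.conjNormal_apply]

end functorial

section plength

variable {X X' : Type*} [Group X] [Group X'] [Finite X] [Finite X'] {p : ℕ} [hp : Fact p.Prime]

theorem plength_iff (k : ℕ) : PLengthLE p k X ↔ ups p X (2 * k + 1) = ⊤ := Iff.rfl

/-- **C7** -/
theorem plength_mono {k k' : ℕ} (h : k ≤ k') (hk : PLengthLE p k X) : PLengthLE p k' X := by
  rw [plength_iff] at hk ⊢
  rw [eq_top_iff, ← hk]
  exact ups_mono p (by omega)

/-- **C1** -/
theorem plength_of_surjective (φ : X →* X') (hφ : Function.Surjective φ) {k : ℕ}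
    (hk : PLengthLE p k X) : PLengthLE p k X' := by
  rw [plength_iff] at hk ⊢
  rw [eq_top_iff]
  have := ups_map_le_of_surjective (p := p) φ hφ (2 * k + 1)
  rw [hk, ← MonoidHom.range_eq_map, MonoidHom.range_eq_top.mpr hφ] at this
  exact this

/-- **C2** -/
theorem plength_subgroup_of_normal (N : Subgroup X) {k : ℕ} (hk : PLengthLE p k X) :
    PLengthLE p k ↥N := by
  rw [plength_iff] at hk ⊢
  rw [eq_top_iff]
  have := ups_comap_subtype_le (p := p) N (2 * k + 1)
  rw [hk, Subgroup.comap_top] at this
  exact this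

/-- **C3** -/
theorem plength_shift {k : ℕ} (hk : PLengthLE p (k + 1) X) :
    PLengthLE p k (X ⧸ ups p X 2) := by
  rw [plength_iff] at hk ⊢
  rw [eq_top_iff]
  have := ups_map_shift (p := p) (X := X) (2 * k + 1)
  have h2 : 2 * k + 1 + 2 = 2 * (k + 1) + 1 := by ring
  rw [h2, hk, ← MonoidHom.range_eq_map,
    MonoidHom.range_eq_top.mpr (QuotientGroup.mk'_surjective _)] at this
  exact this

/-- **C5** -/
theorem plength_zero_of_coprime (h : (Nat.card X).Coprime p) : PLengthLE p 0 X := by
  rw [plength_iff, eq_top_iff]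
  apply le_ups_succ 0
  unfold GoodCard
  rw [if_pos (by decide : Even 0)]
  exact Nat.Coprime.coprime_dvd_left
    ((Subgroup.card_map_dvd _ _).trans (Subgroup.card_subgroup_dvd_card _)) h

/-- **C6** -/
theorem plength_one_of_isPGroup (h : IsPGroup p X) : PLengthLE p 1 X := by
  rw [plength_iff]
  have h2 : ups p X 2 = ⊤ := by
    rw [eq_top_iff]
    apply le_ups_succ 1
    unfold GoodCard
    rw [if_neg (by decide : ¬ Even 1)]
    exact IsPGroup.iff_card.mp (h.to_subgroup _ |>.map _)
  rw [eq_top_iff, ← h2]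
  exact ups_mono p (by norm_num)

theorem card_ups_one_coprime : (Nat.card (ups p X 1)).Coprime p := by
  have h := goodCard_factor (G := X) (p := p) 0
  unfold GoodCard at h
  rw [if_pos (by decide : Even 0)] at h
  have hdvd := card_map_dvd_of_ker_le (QuotientGroup.mk' (ups p X 0)) (MonoidHom.id X) (ups p X 1)
    (by rw [QuotientGroup.ker_mk', ups_zero]; exact bot_le)
  rw [Subgroup.map_id] at hdvd
  exact Nat.Coprime.coprime_dvd_left hdvd h

/-- `U_1 (X / U_{2a+1} X) = ⊥` -/
theorem ups_one_quotient_odd (a : ℕ) : ups p (X ⧸ ups p X (2 * a + 1)) 1 = ⊥ := by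
  rw [eq_bot_iff]
  set π := QuotientGroup.mk' (ups p X (2 * a + 1)) with hπ
  have hπs : Function.Surjective π := QuotientGroup.mk'_surjective _
  -- the preimage Y of U_1 of the quotient
  set Y := (ups p (X ⧸ ups p X (2 * a + 1)) 1).comap π with hY
  have hBY : ups p X (2 * a + 1) ≤ Y := by
    intro x hx
    rw [hY, Subgroup.mem_comap]
    have : π x = 1 := (QuotientGroup.eq_one_iff x).mpr hx
    rw [this]; exact Subgroup.one_mem _
  have hYle : Y ≤ ups p X (2 * a + 1) := by
    apply le_ups_succ (2 * a)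
    unfold GoodCard
    rw [if_pos (even_two_mul a)]
    have h1 : Nat.card (Y.map (QuotientGroup.mk' (ups p X (2 * a)))) =
        (ups p X (2 * a)).relIndex Y := by
      rw [← Subgroup.relIndex_ker, QuotientGroup.ker_mk']
    have h2 := Subgroup.relIndex_mul_relIndex (ups p X (2 * a)) (ups p X (2 * a + 1)) Y
      (ups_le_succ p (2 * a)) hBY
    have h3 : (ups p X (2 * a)).relIndex (ups p X (2 * a + 1)) =
        Nat.card ((ups p X (2 * a + 1)).map (QuotientGroup.mk' (ups p X (2 * a)))) := by
      rw [← Subgroup.relIndex_ker, QuotientGroup.ker_mk']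
    have h4 : (ups p X (2 * a + 1)).relIndex Y =
        Nat.card (ups p (X ⧸ ups p X (2 * a + 1)) 1) := by
      have : (ups p X (2 * a + 1)).relIndex Y = Nat.card (Y.map π) := by
        rw [← Subgroup.relIndex_ker, hπ, QuotientGroup.ker_mk']
      rw [this, hY, Subgroup.map_comap_eq_self_of_surjective hπs]
    rw [h1, ← h2, h3, h4]
    have h5 := goodCard_factor (G := X) (p := p) (2 * a)
    unfold GoodCard at h5
    rw [if_pos (even_two_mul a)] at h5
    exact Nat.Coprime.mul_left h5 card_ups_one_coprime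
  intro y hy
  obtain ⟨x, rfl⟩ := hπs y
  have hx : x ∈ Y := hy
  rw [Subgroup.mem_bot]
  exact (QuotientGroup.eq_one_iff x).mpr (hYle hx)

/-- **M3** shifting up -/
theorem ups_comap_quotient_odd (a m : ℕ) :
    (ups p (X ⧸ ups p X (2 * a + 1)) (m + 1)).comap (QuotientGroup.mk' (ups p X (2 * a + 1))) ≤
      ups p X (m + 1 + 2 * a) := by
  induction m with
  | zero =>
    rw [zero_add, ups_one_quotient_odd]
    intro x hx
    rw [Subgroup.mem_comap, Subgroup.mem_bot, QuotientGroup.mk'_apply,
      QuotientGroup.eq_one_iff] at hx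
    rw [add_comm]
    exact hx
  | succ m ih =>
    have h := ups_comap_step (p := p) (QuotientGroup.mk' (ups p X (2 * a + 1))) (m + 1 + 2 * a)
      (m + 1) (by simp [Nat.even_add]) ih
    have e : m + 1 + 1 + 2 * a = m + 1 + 2 * a + 1 := by ring
    rw [e]
    exact h

/-- **C4** subadditivity of the `p`-length -/
theorem plength_add (N : Subgroup X) [hN : N.Normal] {a b : ℕ} (ha : PLengthLE p a ↥N)
    (hb : PLengthLE p b (X ⧸ N)) : PLengthLE p (a + b) X := by
  rw [plength_iff] at ha
  have hNle : N ≤ ups p X (2 * a + 1) := by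
    have := ups_map_subtype_le (p := p) N (2 * a + 1)
    rw [ha, ← MonoidHom.range_eq_map, Subgroup.range_subtype] at this
    exact this
  -- the quotient by U_{2a+1} is a quotient of X ⧸ N
  have hsurj : Function.Surjective
      (QuotientGroup.map N (ups p X (2 * a + 1)) (MonoidHom.id X) hNle) := by
    intro y
    obtain ⟨x, rfl⟩ := QuotientGroup.mk'_surjective _ y
    exact ⟨QuotientGroup.mk' N x, rfl⟩
  have hb' : PLengthLE p b (X ⧸ ups p X (2 * a + 1)) := plength_of_surjective _ hsurj hb
  rw [plength_iff] at hb' ⊢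
  rw [eq_top_iff]
  have := ups_comap_quotient_odd (p := p) (X := X) a (2 * b)
  rw [hb', Subgroup.comap_top] at this
  have e : 2 * b + 1 + 2 * a = 2 * (a + b) + 1 := by ring
  rw [e] at this
  exact this

end plength

end Cfsg.Agent.Lib.Helper21
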