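import Mathlib
import Cfsg.Agent.Lib.Helper11.QuadPairPGroup

/-!
# Automorphisms induced on characteristic sections

For subgroups `N ≤ M` of `R`, both invariant under every automorphism of `R` and with `N` normal,
we build the homomorphism `MulAut R →* MulAut (M ⧸ N)` and record that its kernel contains the
commutator subgroup and all `(p-1)`-st powers when the section has order dividing `p`.
-/

set_option autoImplicit false

namespace Cfsg.Agent.Lib.Helper21.Narrow

open Cfsg.Agent.Lib.Helper11.QuadPairPGroup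

variable {R : Type*} [Group R]

theorem subgroupOf_map_resAut (M N : Subgroup R)
    (hM : ∀ α : MulAut R, ∀ s ∈ M, α s ∈ M) (hN : ∀ α : MulAut R, ∀ s ∈ N, α s ∈ N)
    (α : MulAut R) :
    (N.subgroupOf M).map ((resAut M hM α : ↥M ≃* ↥M) : ↥M →* ↥M) = N.subgroupOf M := by
  apply le_antisymm
  · rintro _ ⟨s, hs, rfl⟩
    have hs' : (s : R) ∈ N := Subgroup.mem_subgroupOf.mp hs
    exact Subgroup.mem_subgroupOf.mpr (hN α _ hs')
  · intro s hs
    have hs' : (s : R) ∈ N := Subgroup.mem_subgroupOf.mp hs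
    refine ⟨resAut M hM α⁻¹ s, Subgroup.mem_subgroupOf.mpr (hN α⁻¹ _ hs'), ?_⟩
    apply Subtype.ext
    show α (α⁻¹ (s : R)) = s
    simp

/-- the automorphism induced on the section `M / N` -/
noncomputable def secHom (M N : Subgroup R) [N.Normal]
    (hM : ∀ α : MulAut R, ∀ s ∈ M, α s ∈ M) (hN : ∀ α : MulAut R, ∀ s ∈ N, α s ∈ N) :
    MulAut R →* MulAut (↥M ⧸ N.subgroupOf M) where
  toFun α := QuotientGroup.congr (N.subgroupOf M) (N.subgroupOf M) (resAut M hM α)
    (subgroupOf_map_resAut M N hM hN α)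
  map_one' := by
    ext q
    induction q using QuotientGroup.induction_on with
    | H v => rfl
  map_mul' := by
    intro a b
    ext q
    induction q using QuotientGroup.induction_on with
    | H v => rfl

theorem secHom_mk (M N : Subgroup R) [N.Normal]
    (hM : ∀ α : MulAut R, ∀ s ∈ M, α s ∈ M) (hN : ∀ α : MulAut R, ∀ s ∈ N, α s ∈ N)
    (α : MulAut R) (v : ↥M) :
    secHom M N hM hN α (QuotientGroup.mk v) = QuotientGroup.mk (resAut M hM α v) := rfl

theorem secHom_eq_one_iff (M N : Subgroup R) [N.Normal]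
    (hM : ∀ α : MulAut R, ∀ s ∈ M, α s ∈ M) (hN : ∀ α : MulAut R, ∀ s ∈ N, α s ∈ N)
    (α : MulAut R) :
    secHom M N hM hN α = 1 ↔ ∀ m ∈ M, m⁻¹ * α m ∈ N := by
  constructor
  · intro h m hm
    have h1 := congrArg (fun β : MulAut (↥M ⧸ N.subgroupOf M) => β (QuotientGroup.mk ⟨m, hm⟩)) h
    simp only [secHom_mk, MulAut.one_apply] at h1
    have h2 := (QuotientGroup.eq.mp h1.symm)
    rw [Subgroup.mem_subgroupOf] at h2
    simpa [resAut_apply] using h2
  · intro h
    ext q
    induction q using QuotientGroup.induction_on with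
    | H v =>
      rw [secHom_mk, MulAut.one_apply]
      symm
      rw [QuotientGroup.eq, Subgroup.mem_subgroupOf]
      simpa [resAut_apply] using h v.1 v.2

/-- commutators act trivially on a cyclic section -/
theorem commutator_le_ker_secHom (M N : Subgroup R) [N.Normal]
    (hM : ∀ α : MulAut R, ∀ s ∈ M, α s ∈ M) (hN : ∀ α : MulAut R, ∀ s ∈ N, α s ∈ N)
    (hcyc : IsCyclic (↥M ⧸ N.subgroupOf M)) :
    commutator (MulAut R) ≤ (secHom M N hM hN).ker := by
  intro γ hγ
  have h1 := Abelianization.commutator_subset_ker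
    ((IsCyclic.mulAutMulEquiv (↥M ⧸ N.subgroupOf M)).toMonoidHom.comp (secHom M N hM hN)) hγ
  rw [MonoidHom.mem_ker] at h1 ⊢
  rw [MonoidHom.comp_apply] at h1
  exact (IsCyclic.mulAutMulEquiv (↥M ⧸ N.subgroupOf M)).injective (by simpa using h1)

theorem card_mulAut_dvd_of_card_le {Q : Type*} [Group Q] [Finite Q] (p : ℕ) [hp : Fact p.Prime]
    (hQ : IsPGroup p Q) (hcard : Nat.card Q ≤ p) :
    IsCyclic Q ∧ Nat.card (MulAut Q) ∣ p - 1 := by
  obtain ⟨k, hk⟩ := IsPGroup.iff_card.mp hQ
  have hk1 : k ≤ 1 := by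
    by_contra hcon
    push Not at hcon
    have h1 : p ^ 2 ≤ p ^ k := Nat.pow_le_pow_right hp.out.pos hcon
    have h2 : p < p ^ 2 := by
      have := hp.out.one_lt
      nlinarith
    omega
  interval_cases k
  · rw [pow_zero] at hk
    have : Subsingleton Q := (Nat.card_eq_one_iff_unique.mp hk).1
    have : IsCyclic Q := isCyclic_of_subsingleton
    refine ⟨inferInstance, ?_⟩
    rw [IsCyclic.card_mulAut, hk, Nat.totient_one]
    exact one_dvd _
  · rw [pow_one] at hk
    have : IsCyclic Q := isCyclic_of_prime_card hk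
    refine ⟨inferInstance, ?_⟩
    rw [IsCyclic.card_mulAut, hk, Nat.totient_prime hp.out]

theorem pow_mem_ker_secHom [Finite R] (p : ℕ) [hp : Fact p.Prime] (M N : Subgroup R) [N.Normal]
    (hM : ∀ α : MulAut R, ∀ s ∈ M, α s ∈ M) (hN : ∀ α : MulAut R, ∀ s ∈ N, α s ∈ N)
    (hcard : Nat.card (MulAut (↥M ⧸ N.subgroupOf M)) ∣ p - 1) (α : MulAut R) :
    α ^ (p - 1) ∈ (secHom M N hM hN).ker := by
  rw [MonoidHom.mem_ker, map_pow]
  have h1 : orderOf (secHom M N hM hN α) ∣ p - 1 := (orderOf_dvd_natCard _).trans hcard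
  exact orderOf_dvd_iff_pow_eq_one.mp h1

end Cfsg.Agent.Lib.Helper21.Narrow
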