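import Mathlib
import Cfsg.Agent.Lib.Helper1.Critical
import Cfsg.Agent.Lib.Helper9.KJ1
import Cfsg.Agent.Lib.Helper18.PPrimeCore

/-!
# Normal subgroups below a subgroup on which some element has few fixed points

If `x` centralizes at most `p` elements of a normal subgroup `D₀` of the `p`-group `R`, then the
normal subgroups of `R` inside `D₀` form a chain; hence they are invariant under all automorphisms
of `R` that preserve `D₀`.
-/

set_option autoImplicit false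

namespace Cfsg.Agent.Lib.Helper21.Narrow

open scoped commutatorElement
open Cfsg.Agent.Lib.Helper1

variable {R : Type*} [Group R]

/-- the elements of `D₀` that are central of order dividing `p` modulo `I` -/
def zSec (p : ℕ) (D₀ I : Subgroup R) [I.Normal] : Subgroup R :=
  D₀ ⊓ (omegaCenter p (R ⧸ I)).comap (QuotientGroup.mk' I)

theorem mem_zSec {p : ℕ} {D₀ I : Subgroup R} [I.Normal] {y : R} :
    y ∈ zSec p D₀ I ↔ y ∈ D₀ ∧ (∀ g : R, ⁅y, g⁆ ∈ I) ∧ y ^ p ∈ I := by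
  unfold zSec
  rw [Subgroup.mem_inf, mem_comap_omegaCenter]

theorem zSec_le {p : ℕ} (D₀ I : Subgroup R) [I.Normal] : zSec p D₀ I ≤ D₀ := inf_le_left

theorem le_zSec {p : ℕ} {D₀ I : Subgroup R} [hI : I.Normal] (h : I ≤ D₀) : I ≤ zSec p D₀ I := by
  intro y hy
  rw [mem_zSec]
  refine ⟨h hy, fun g => ?_, I.pow_mem hy p⟩
  rw [commutatorElement_def]
  have h1 : y * g * y⁻¹ * g⁻¹ = y * (g * y⁻¹ * g⁻¹) := by group
  rw [h1]
  exact I.mul_mem hy (hI.conj_mem _ (I.inv_mem hy) g)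

theorem zSec_normal {p : ℕ} (D₀ I : Subgroup R) [hD : D₀.Normal] [hI : I.Normal] :
    (zSec p D₀ I).Normal := by
  refine ⟨fun y hy g => ?_⟩
  rw [mem_zSec] at hy ⊢
  obtain ⟨h1, h2, h3⟩ := hy
  refine ⟨hD.conj_mem y h1 g, fun h => ?_, ?_⟩
  · have h4 : ⁅g * y * g⁻¹, h⁆ = g * ⁅y, g⁻¹ * h * g⁆ * g⁻¹ := by
      rw [commutatorElement_def, commutatorElement_def]; group
    rw [h4]
    exact hI.conj_mem _ (h2 _) g
  · have h4 : (g * y * g⁻¹) ^ p = g * y ^ p * g⁻¹ := by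
      rw [conj_pow]
    rw [h4]
    exact hI.conj_mem _ h3 g

theorem zSec_invariant {p : ℕ} (D₀ I : Subgroup R) [I.Normal]
    (hD : ∀ α : MulAut R, ∀ s ∈ D₀, α s ∈ D₀) (hI : ∀ α : MulAut R, ∀ s ∈ I, α s ∈ I)
    (α : MulAut R) (y : R) (hy : y ∈ zSec p D₀ I) : α y ∈ zSec p D₀ I := by
  rw [mem_zSec] at hy ⊢
  obtain ⟨h1, h2, h3⟩ := hy
  refine ⟨hD α y h1, fun h => ?_, ?_⟩
  · have h4 : ⁅α y, h⁆ = α ⁅y, α⁻¹ h⁆ := by
      rw [commutatorElement_def, commutatorElement_def]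
      simp
    rw [h4]
    exact hI α _ (h2 _)
  · rw [← map_pow]
    exact hI α _ h3

/-- fibre counting: `|Z_I| ≤ c |I|` when `x` centralizes at most `c` elements of `D₀` -/
theorem card_zSec_le [Finite R] {p : ℕ} (D₀ I : Subgroup R) [I.Normal] (x : R) (c : ℕ)
    (hC : Nat.card ↥(D₀ ⊓ Subgroup.centralizer ({x} : Set R)) ≤ c) :
    Nat.card ↥(zSec p D₀ I) ≤ c * Nat.card ↥I := by
  classical
  letI : Fintype ↥(zSec p D₀ I) := Fintype.ofFinite _
  letI : Fintype ↥I := Fintype.ofFinite _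
  letI : Fintype ↥(D₀ ⊓ Subgroup.centralizer ({x} : Set R)) := Fintype.ofFinite _
  obtain ⟨f, hf⟩ : ∃ f : ↥(zSec p D₀ I) → ↥I, ∀ y, ((f y : ↥I) : R) = ⁅(y : R), x⁆ :=
    ⟨fun y => ⟨⁅(y : R), x⁆, (mem_zSec.mp y.2).2.1 x⟩, fun y => rfl⟩
  have h1 := Finset.card_le_mul_card_image (f := f) (Finset.univ : Finset ↥(zSec p D₀ I)) c ?_
  · rw [Nat.card_eq_fintype_card, Nat.card_eq_fintype_card]
    calc Fintype.card ↥(zSec p D₀ I) = (Finset.univ : Finset ↥(zSec p D₀ I)).card := rfl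
      _ ≤ c * (Finset.univ.image f).card := h1
      _ ≤ c * Fintype.card ↥I := Nat.mul_le_mul_left c (Finset.card_le_univ _)
  · intro a ha
    obtain ⟨y₀, -, rfl⟩ := Finset.mem_image.mp ha
    have hmem : ∀ y : ↥(zSec p D₀ I), f y = f y₀ →
        (y₀ : R)⁻¹ * y ∈ D₀ ⊓ Subgroup.centralizer ({x} : Set R) := by
      intro y hy
      have h2 : ⁅(y : R), x⁆ = ⁅(y₀ : R), x⁆ := by rw [← hf, ← hf, hy]
      refine Subgroup.mem_inf.mpr
        ⟨D₀.mul_mem (D₀.inv_mem (zSec_le D₀ I y₀.2)) (zSec_le D₀ I y.2), ?_⟩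
      rw [Subgroup.mem_centralizer_iff]
      intro h hh
      rw [Set.mem_singleton_iff] at hh
      subst hh
      rw [commutatorElement_def, commutatorElement_def] at h2
      have h3 : (y : R) * h * (y : R)⁻¹ = (y₀ : R) * h * (y₀ : R)⁻¹ := by
        have := congrArg (fun t => t * h) h2
        simpa using this
      calc h * ((y₀ : R)⁻¹ * y) = (y₀ : R)⁻¹ * ((y₀ : R) * h * (y₀ : R)⁻¹) * y := by group
        _ = (y₀ : R)⁻¹ * ((y : R) * h * (y : R)⁻¹) * y := by rw [h3]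
        _ = (y₀ : R)⁻¹ * y * h := by group
    have h4 : (Finset.univ.filter fun y => f y = f y₀).card ≤
        (Finset.univ : Finset ↥(D₀ ⊓ Subgroup.centralizer ({x} : Set R))).card := by
      apply Finset.card_le_card_of_injOn
        (fun y => if h : f y = f y₀ then ⟨(y₀ : R)⁻¹ * y, hmem y h⟩ else 1)
      · intro y _
        exact Finset.mem_univ _
      · intro y hy z hz hyz
        have hy' : f y = f y₀ := (Finset.mem_filter.mp hy).2
        have hz' : f z = f y₀ := (Finset.mem_filter.mp hz).2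
        simp only [dif_pos hy', dif_pos hz'] at hyz
        have := congrArg Subtype.val hyz
        simp only [mul_right_inj] at this
        exact Subtype.ext this
    calc (Finset.univ.filter fun y => f y = f y₀).card
        ≤ Fintype.card ↥(D₀ ⊓ Subgroup.centralizer ({x} : Set R)) := h4
      _ = Nat.card ↥(D₀ ⊓ Subgroup.centralizer ({x} : Set R)) := Nat.card_eq_fintype_card.symm
      _ ≤ c := hC

/-- `Z_I` lies in every normal subgroup of `R` strictly between `I` and `D₀` -/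
theorem zSec_le_of_ne [Finite R] {p : ℕ} [hp : Fact p.Prime] (hR : IsPGroup p R)
    (D₀ I M : Subgroup R) [hI : I.Normal] [M.Normal] (x : R)
    (hC : Nat.card ↥(D₀ ⊓ Subgroup.centralizer ({x} : Set R)) ≤ p)
    (hIM : I ≤ M) (hMD : M ≤ D₀) (hne : I ≠ M) : zSec p D₀ I ≤ M := by
  obtain ⟨m, hmM, hmI, hmp, hmc⟩ := Cfsg.Agent.Lib.Helper9.kj_exists_over_in hR I M hIM hne
  have hmZ : m ∈ zSec p D₀ I := by
    rw [mem_zSec]
    refine ⟨hMD hmM, fun g => ?_, hmp⟩
    have h1 : ⁅m, g⁆ = (m * (m⁻¹ * g * m * g⁻¹) * m⁻¹)⁻¹ := by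
      rw [commutatorElement_def]; group
    rw [h1]
    exact I.inv_mem (hI.conj_mem _ (hmc g) m)
  obtain ⟨K, hK⟩ : ∃ K : Subgroup R, K = zSec p D₀ I ⊓ M := ⟨_, rfl⟩
  have hIK : I ≤ K := by
    rw [hK]; exact le_inf (le_zSec (hIM.trans hMD)) hIM
  have hmK : m ∈ K := by rw [hK]; exact ⟨hmZ, hmM⟩
  have hcard := Cfsg.Agent.Lib.Helper18.card_mul_relIndex_of_le_h18 hIK
  have hrel : p ≤ I.relIndex K := by
    obtain ⟨j, hj⟩ := IsPGroup.iff_card.mp (hR.to_subgroup K)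
    have hdvd : I.relIndex K ∣ p ^ j := by rw [← hj, ← hcard]; exact dvd_mul_left _ _
    obtain ⟨i, -, hi⟩ := (Nat.dvd_prime_pow hp.out).mp hdvd
    rcases Nat.eq_zero_or_pos i with h0 | hpos
    · exfalso
      rw [h0, pow_zero] at hi
      exact hmI ((Subgroup.relIndex_eq_one.mp hi) hmK)
    · rw [hi]
      calc p = p ^ 1 := (pow_one p).symm
        _ ≤ p ^ i := Nat.pow_le_pow_right hp.out.pos hpos
  have hKZ : K = zSec p D₀ I := by
    apply Subgroup.eq_of_le_of_card_ge (by rw [hK]; exact inf_le_left)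
    calc Nat.card ↥(zSec p D₀ I) ≤ p * Nat.card ↥I := card_zSec_le D₀ I x p hC
      _ = Nat.card ↥I * p := mul_comm _ _
      _ ≤ Nat.card ↥I * I.relIndex K := Nat.mul_le_mul_left _ hrel
      _ = Nat.card ↥K := hcard
  rw [← hKZ, hK]
  exact inf_le_right

/-- the normal subgroups of `R` inside `D₀` form a chain -/
theorem normal_le_total [Finite R] {p : ℕ} [hp : Fact p.Prime] (hR : IsPGroup p R)
    (D₀ : Subgroup R) (x : R)
    (hC : Nat.card ↥(D₀ ⊓ Subgroup.centralizer ({x} : Set R)) ≤ p)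
    (M M' : Subgroup R) [hM : M.Normal] [hM' : M'.Normal] (hMD : M ≤ D₀) (hMD' : M' ≤ D₀) :
    M ≤ M' ∨ M' ≤ M := by
  by_contra hcon
  push Not at hcon
  obtain ⟨h1, h2⟩ := hcon
  have hIn : (M ⊓ M').Normal := Subgroup.normal_inf_normal M M'
  have hne1 : M ⊓ M' ≠ M := fun h => h1 (h ▸ inf_le_right)
  have hne2 : M ⊓ M' ≠ M' := fun h => h2 (h ▸ inf_le_left)
  have hZ1 := zSec_le_of_ne hR D₀ (M ⊓ M') M x hC inf_le_left hMD hne1
  have hZ2 := zSec_le_of_ne hR D₀ (M ⊓ M') M' x hC inf_le_right hMD' hne2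
  obtain ⟨m, hmM, hmI, hmp, hmc⟩ :=
    Cfsg.Agent.Lib.Helper9.kj_exists_over_in hR (M ⊓ M') M inf_le_left hne1
  have hmZ : m ∈ zSec p D₀ (M ⊓ M') := by
    rw [mem_zSec]
    refine ⟨hMD hmM, fun g => ?_, hmp⟩
    have h1 : ⁅m, g⁆ = (m * (m⁻¹ * g * m * g⁻¹) * m⁻¹)⁻¹ := by
      rw [commutatorElement_def]; group
    rw [h1]
    exact (M ⊓ M').inv_mem (hIn.conj_mem _ (hmc g) m)
  exact hmI ⟨hZ1 hmZ, hZ2 hmZ⟩

/-- normal subgroups of `R` inside `D₀` are invariant under the automorphisms preserving `D₀` -/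
theorem normal_invariant [Finite R] {p : ℕ} [hp : Fact p.Prime] (hR : IsPGroup p R)
    (D₀ : Subgroup R) (x : R)
    (hC : Nat.card ↥(D₀ ⊓ Subgroup.centralizer ({x} : Set R)) ≤ p)
    (hD : ∀ α : MulAut R, ∀ s ∈ D₀, α s ∈ D₀)
    (M : Subgroup R) [hM : M.Normal] (hMD : M ≤ D₀) (α : MulAut R) (s : R) (hs : s ∈ M) :
    α s ∈ M := by
  have hM' : (M.map α.toMonoidHom).Normal := Subgroup.Normal.map hM _ α.surjective
  have hMD' : M.map α.toMonoidHom ≤ D₀ := by
    rintro _ ⟨t, ht, rfl⟩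
    exact hD α t (hMD ht)
  have hcard : Nat.card ↥(M.map α.toMonoidHom) = Nat.card ↥M :=
    Subgroup.card_map_of_injective α.injective
  have heq : M.map α.toMonoidHom = M := by
    rcases normal_le_total hR D₀ x hC M (M.map α.toMonoidHom) hMD hMD' with h | h
    · exact (Subgroup.eq_of_le_of_card_ge h hcard.le).symm
    · exact Subgroup.eq_of_le_of_card_ge h hcard.ge
  rw [← heq]
  exact ⟨s, hs, rfl⟩

end Cfsg.Agent.Lib.Helper21.Narrow
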