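import Mathlib
import Cfsg.Agent.Lib.Helper21.NarrowA
import Cfsg.Agent.Lib.Helper21.NarrowB
import Cfsg.Agent.Lib.Helper24.CritAut
import Cfsg.Agent.Lib.Helper24.OmegaAut

/-!
# The abstract chain argument

`R` a `p`-group, `D` and `T` subgroups invariant under all automorphisms, `T` of index `p`,
`x` centralizing at most `p` elements of `D ⊓ T`, and the `p'`-automorphisms faithful on `D`.
Then every `p'`-automorphism of `R` has order dividing `p - 1` and the `p'`-elements of the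
commutator subgroup of `MulAut R` are trivial.
-/

set_option autoImplicit false

namespace Cfsg.Agent.Lib.Helper21.Narrow

open scoped commutatorElement
open Cfsg.Agent.Lib.Helper24

variable {R : Type*} [Group R]

theorem normal_of_invariant (S : Subgroup R) (hS : ∀ α : MulAut R, ∀ s ∈ S, α s ∈ S) :
    S.Normal := by
  refine ⟨fun s hs g => ?_⟩
  have := hS (MulAut.conj g) s hs
  simpa [MulAut.conj_apply] using this

/-- the key step: a `p'`-automorphism acting trivially on all the sections is trivial -/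
theorem key_trivial [Finite R] {p : ℕ} [hp : Fact p.Prime] (hR : IsPGroup p R)
    (D T : Subgroup R) (x : R)
    (hDinv : ∀ α : MulAut R, ∀ s ∈ D, α s ∈ D)
    (hTinv : ∀ α : MulAut R, ∀ s ∈ T, α s ∈ T)
    (hC : Nat.card ↥(D ⊓ T ⊓ Subgroup.centralizer ({x} : Set R)) ≤ p)
    (hfaith : ∀ α : MulAut R, (orderOf α).Coprime p → (∀ d ∈ D, α d = d) → α = 1)
    (α : MulAut R) (hα : (orderOf α).Coprime p)
    (hA : ∀ (N : Subgroup R) [N.Normal], N ≤ D ⊓ T → ∀ z ∈ zSec p (D ⊓ T) N, z⁻¹ * α z ∈ N)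
    (hB : ∀ r : R, r⁻¹ * α r ∈ T) : α = 1 := by
  classical
  have hDn : D.Normal := normal_of_invariant D hDinv
  have hTn : T.Normal := normal_of_invariant T hTinv
  have hD₀n : (D ⊓ T).Normal := Subgroup.normal_inf_normal D T
  have hD₀inv : ∀ α : MulAut R, ∀ s ∈ D ⊓ T, α s ∈ D ⊓ T :=
    fun α s hs => ⟨hDinv α s hs.1, hTinv α s hs.2⟩
  -- `α` fixes `D ⊓ T` pointwise
  have hfix₀ : ∀ d ∈ D ⊓ T, α d = d := by
    have hfin : {N : Subgroup R | N.Normal ∧ N ≤ D ⊓ T ∧ ∀ n ∈ N, α n = n}.Finite :=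
      Set.toFinite _
    have hne : {N : Subgroup R | N.Normal ∧ N ≤ D ⊓ T ∧ ∀ n ∈ N, α n = n}.Nonempty :=
      ⟨⊥, Subgroup.normal_bot, bot_le, fun n hn => by
        rw [Subgroup.mem_bot] at hn; rw [hn, map_one]⟩
    obtain ⟨N, hN⟩ := hfin.exists_maximal hne
    obtain ⟨hNn, hNle, hNfix⟩ := hN.1
    by_cases hND : N = D ⊓ T
    · intro d hd
      exact hNfix d (hND ▸ hd)
    · exfalso
      obtain ⟨y, hyD, hyN, hyp, hyc⟩ :=
        Cfsg.Agent.Lib.Helper9.kj_exists_over_in hR N (D ⊓ T) hNle hND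
      have hyZ : y ∈ zSec p (D ⊓ T) N := by
        rw [mem_zSec]
        refine ⟨hyD, fun g => ?_, hyp⟩
        have h1 : ⁅y, g⁆ = (y * (y⁻¹ * g * y * g⁻¹) * y⁻¹)⁻¹ := by
          rw [commutatorElement_def]; group
        rw [h1]
        exact N.inv_mem (hNn.conj_mem _ (hyc g) y)
      have hNinv : ∀ α : MulAut R, ∀ s ∈ N, α s ∈ N :=
        fun α s hs => normal_invariant hR (D ⊓ T) x hC hD₀inv N hNle α s hs
      have hZinv : ∀ k ∈ zSec p (D ⊓ T) N, α k ∈ zSec p (D ⊓ T) N :=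
        fun k hk => zSec_invariant (D ⊓ T) N hD₀inv hNinv α k hk
      obtain ⟨β, hβ, hβo⟩ := oa_restrict α (zSec p (D ⊓ T) N) hZinv
      have hβ1 : β = 1 := by
        apply ca_stab_trivial (hR.to_subgroup _) β (Nat.Coprime.coprime_dvd_left hβo hα)
          (N.subgroupOf (zSec p (D ⊓ T) N))
        · intro k hk
          apply Subtype.ext
          rw [hβ]
          exact hNfix _ (Subgroup.mem_subgroupOf.mp hk)
        · intro g
          rw [Subgroup.mem_subgroupOf]
          simp only [Subgroup.coe_mul, Subgroup.coe_inv, hβ]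
          exact hA N hNle g.1 g.2
      have hZfix : ∀ z ∈ zSec p (D ⊓ T) N, α z = z := by
        intro z hz
        have := hβ ⟨z, hz⟩
        rw [hβ1] at this
        simpa using this.symm
      have hZn : (zSec p (D ⊓ T) N).Normal := zSec_normal (D ⊓ T) N
      have hle := hN.2 (show zSec p (D ⊓ T) N ∈ {N : Subgroup R | N.Normal ∧ N ≤ D ⊓ T ∧
        ∀ n ∈ N, α n = n} from ⟨hZn, zSec_le (D ⊓ T) N, hZfix⟩) (le_zSec hNle)
      exact hyN (hle hyZ)
  -- `α` fixes `D` pointwise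
  have hfix : ∀ d ∈ D, α d = d := by
    obtain ⟨β, hβ, hβo⟩ := oa_restrict α D (hDinv α)
    have hβ1 : β = 1 := by
      apply ca_stab_trivial (hR.to_subgroup _) β (Nat.Coprime.coprime_dvd_left hβo hα)
        ((D ⊓ T).subgroupOf D)
      · intro k hk
        apply Subtype.ext
        rw [hβ]
        exact hfix₀ _ (Subgroup.mem_subgroupOf.mp hk)
      · intro g
        rw [Subgroup.mem_subgroupOf]
        simp only [Subgroup.coe_mul, Subgroup.coe_inv, hβ]
        exact ⟨D.mul_mem (D.inv_mem g.2) (hDinv α _ g.2), hB _⟩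
    intro d hd
    have := hβ ⟨d, hd⟩
    rw [hβ1] at this
    simpa using this.symm
  exact hfaith α hα hfix

/-- the abstract main theorem -/
theorem abstract_main [Finite R] {p : ℕ} [hp : Fact p.Prime] (hR : IsPGroup p R)
    (D T : Subgroup R) (x : R)
    (hDinv : ∀ α : MulAut R, ∀ s ∈ D, α s ∈ D)
    (hTinv : ∀ α : MulAut R, ∀ s ∈ T, α s ∈ T)
    (hTidx : T.index = p)
    (hC : Nat.card ↥(D ⊓ T ⊓ Subgroup.centralizer ({x} : Set R)) ≤ p)
    (hfaith : ∀ α : MulAut R, (orderOf α).Coprime p → (∀ d ∈ D, α d = d) → α = 1)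
    (α : MulAut R) (hα : (orderOf α).Coprime p) :
    (α ∈ commutator (MulAut R) → α = 1) ∧ α ^ (p - 1) = 1 := by
  have hDn : D.Normal := normal_of_invariant D hDinv
  haveI hTn : T.Normal := normal_of_invariant T hTinv
  have hD₀n : (D ⊓ T).Normal := Subgroup.normal_inf_normal D T
  have hD₀inv : ∀ α : MulAut R, ∀ s ∈ D ⊓ T, α s ∈ D ⊓ T :=
    fun α s hs => ⟨hDinv α s hs.1, hTinv α s hs.2⟩
  have htopinv : ∀ α : MulAut R, ∀ s ∈ (⊤ : Subgroup R), α s ∈ (⊤ : Subgroup R) :=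
    fun _ _ _ => Subgroup.mem_top _
  -- the top section
  have hcardtop : Nat.card (↥(⊤ : Subgroup R) ⧸ T.subgroupOf ⊤) = p := by
    rw [← Subgroup.index_eq_card]
    show T.relIndex ⊤ = p
    rw [Subgroup.relIndex_top_right, hTidx]
  have htop := card_mulAut_dvd_of_card_le (Q := ↥(⊤ : Subgroup R) ⧸ T.subgroupOf ⊤) p
    ((hR.to_subgroup ⊤).to_quotient _) hcardtop.le
  -- the lower sections
  have hlow : ∀ (N : Subgroup R) [N.Normal], N ≤ D ⊓ T →
      IsCyclic (↥(zSec p (D ⊓ T) N) ⧸ N.subgroupOf (zSec p (D ⊓ T) N)) ∧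
      Nat.card (MulAut (↥(zSec p (D ⊓ T) N) ⧸ N.subgroupOf (zSec p (D ⊓ T) N))) ∣ p - 1 := by
    intro N _ hNle
    apply card_mulAut_dvd_of_card_le p ((hR.to_subgroup _).to_quotient _)
    rw [← Subgroup.index_eq_card]
    show N.relIndex (zSec p (D ⊓ T) N) ≤ p
    have h1 := Cfsg.Agent.Lib.Helper18.card_mul_relIndex_of_le_h18 (le_zSec (p := p) hNle)
    have h2 := card_zSec_le (p := p) (D ⊓ T) N x p hC
    have hpos : 0 < Nat.card ↥N := Nat.card_pos
    rw [← h1, mul_comm] at h2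
    exact Nat.le_of_mul_le_mul_right h2 hpos
  have hNinv : ∀ (N : Subgroup R) [N.Normal], N ≤ D ⊓ T → ∀ α : MulAut R, ∀ s ∈ N, α s ∈ N :=
    fun N _ hNle α s hs => normal_invariant hR (D ⊓ T) x hC hD₀inv N hNle α s hs
  constructor
  · intro hcomm
    apply key_trivial hR D T x hDinv hTinv hC hfaith α hα
    · intro N _ hNle
      have hZinv : ∀ α : MulAut R, ∀ k ∈ zSec p (D ⊓ T) N, α k ∈ zSec p (D ⊓ T) N :=
        fun α k hk => zSec_invariant (D ⊓ T) N hD₀inv (hNinv N hNle) α k hk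
      have h1 := commutator_le_ker_secHom (zSec p (D ⊓ T) N) N hZinv (hNinv N hNle)
        (hlow N hNle).1 hcomm
      exact (secHom_eq_one_iff _ _ hZinv (hNinv N hNle) α).mp (MonoidHom.mem_ker.mp h1)
    · have h1 := commutator_le_ker_secHom (⊤ : Subgroup R) T htopinv hTinv htop.1 hcomm
      have h2 := (secHom_eq_one_iff _ _ htopinv hTinv α).mp (MonoidHom.mem_ker.mp h1)
      exact fun r => h2 r (Subgroup.mem_top r)
  · have hα' : (orderOf (α ^ (p - 1))).Coprime p :=
      Nat.Coprime.coprime_dvd_left (orderOf_pow_dvd (p - 1)) hα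
    apply key_trivial hR D T x hDinv hTinv hC hfaith (α ^ (p - 1)) hα'
    · intro N _ hNle
      have hZinv : ∀ α : MulAut R, ∀ k ∈ zSec p (D ⊓ T) N, α k ∈ zSec p (D ⊓ T) N :=
        fun α k hk => zSec_invariant (D ⊓ T) N hD₀inv (hNinv N hNle) α k hk
      have h1 := pow_mem_ker_secHom p (zSec p (D ⊓ T) N) N hZinv (hNinv N hNle)
        (hlow N hNle).2 α
      exact (secHom_eq_one_iff _ _ hZinv (hNinv N hNle) _).mp (MonoidHom.mem_ker.mp h1)
    · have h1 := pow_mem_ker_secHom p (⊤ : Subgroup R) T htopinv hTinv htop.2 α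
      have h2 := (secHom_eq_one_iff _ _ htopinv hTinv _).mp (MonoidHom.mem_ker.mp h1)
      exact fun r => h2 r (Subgroup.mem_top r)

end Cfsg.Agent.Lib.Helper21.Narrow
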