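import Mathlib
import Cfsg.Agent.Lib.Helper21.NarrowC
import Cfsg.Agent.Lib.Helper1.Class2
import Cfsg.Agent.Lib.Helper1.Critical
import Cfsg.Agent.Lib.Helper5.ElemAb
import Cfsg.Agent.S1453

/-!
# `p`-groups of rank at least three with a maximal elementary abelian subgroup of order `p²`

Every `p'`-automorphism has order dividing `p - 1`, and the `p'`-elements of the derived subgroup
of the automorphism group are trivial (B & G, Theorem 5.5 (a), (b)).
-/

set_option autoImplicit false

namespace Cfsg.Agent.Lib.Helper21.Narrow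

open scoped commutatorElement
open Cfsg.Agent.Lib.Helper24 Cfsg.Agent.Lib.Helper11.QuadPairPGroup

universe u

variable {R : Type u} [Group R]

theorem max_elem_main [Finite R] (p : ℕ) [hp : Fact p.Prime] (hp2 : p ≠ 2) (hR : IsPGroup p R)
    (hr : ¬ Cfsg.PRankLE p 2 R) (E : Subgroup R) (hE : Cfsg.IsElementaryAbelian p E)
    (hE2 : Nat.card E = p ^ 2)
    (hEmax : ∀ B : Subgroup R, Cfsg.IsElementaryAbelian p B → E ≤ B → B = E)
    (α : MulAut R) (hα : (orderOf α).Coprime p) :
    (α ∈ commutator (MulAut R) → α = 1) ∧ α ^ (p - 1) = 1 := by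
  have hpp : p.Prime := hp.out
  obtain ⟨hET, hZcard, -, hTchar, hTidx⟩ := Cfsg.Agent.S1453.result p hp2 hR hr E hE hE2 hEmax
  obtain ⟨T, hT⟩ : ∃ T : Subgroup R, T = Subgroup.centralizer ((Subgroup.closure
      {x : R | x ∈ Subgroup.upperCentralSeries R 2 ∧ x ^ p = 1} : Subgroup R) : Set R) := ⟨_, rfl⟩
  rw [← hT] at hET hTchar hTidx
  obtain ⟨Z, hZ⟩ : ∃ Z : Subgroup R, Z = Subgroup.closure
      {x : R | x ∈ Subgroup.center R ∧ x ^ p = 1} := ⟨_, rfl⟩
  rw [← hZ] at hZcard
  have hTinv : ∀ α : MulAut R, ∀ s ∈ T, α s ∈ T := by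
    intro α s hs
    have := (Subgroup.characteristic_iff_map_eq.1 hTchar) α
    rw [← this]
    exact Subgroup.mem_map.2 ⟨s, hs, rfl⟩
  obtain ⟨x, hxE, hxT⟩ := SetLike.not_le_iff_exists.mp hET
  -- the critical subgroup
  obtain ⟨H, hchar, -, hcomm, hcent⟩ := Cfsg.Agent.Lib.Helper1.exists_critical hR
  have hHinv : ∀ α : MulAut R, ∀ s ∈ H, α s ∈ H := by
    intro α k hk
    have := (Subgroup.characteristic_iff_map_eq.1 hchar) α
    rw [← this]
    exact Subgroup.mem_map.2 ⟨k, hk, rfl⟩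
  have hcl : commutator ↥H ≤ Subgroup.center ↥H := by
    rw [commutator_def, Subgroup.commutator_le]
    intro a _ b _
    rw [Subgroup.mem_center_iff]
    intro g
    apply Subtype.ext
    have h1 : ⁅a.1, b.1⁆ ∈ Subgroup.centralizer (H : Set R) :=
      (hcomm (Subgroup.commutator_mem_commutator a.2 (Subgroup.mem_top _))).2
    exact (Subgroup.mem_centralizer_iff.1 h1) g.1 g.2
  obtain ⟨D', hD'⟩ : ∃ D' : Subgroup ↥H, D' = Subgroup.closure {x : ↥H | x ^ p = 1} := ⟨_, rfl⟩
  have hD'exp : ∀ d ∈ D', d ^ p = 1 := fun d hd =>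
    Cfsg.Agent.Lib.Helper1.pow_prime_eq_one_of_mem_closure hpp hp2 hcl d (hD' ▸ hd)
  obtain ⟨D, hD⟩ : ∃ D : Subgroup R, D = D'.map H.subtype := ⟨_, rfl⟩
  have hDexp : ∀ d ∈ D, d ^ p = 1 := by
    intro d hd
    rw [hD] at hd
    obtain ⟨d', hd', rfl⟩ := Subgroup.mem_map.mp hd
    have := hD'exp d' hd'
    simpa using congrArg Subtype.val this
  have hDinv : ∀ α : MulAut R, ∀ s ∈ D, α s ∈ D := by
    intro α s hs
    rw [hD] at hs ⊢
    obtain ⟨d', hd', rfl⟩ := Subgroup.mem_map.mp hs
    refine Subgroup.mem_map.mpr ⟨⟨α d'.1, hHinv α _ d'.2⟩, ?_, rfl⟩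
    rw [hD']
    apply Subgroup.subset_closure
    show (⟨α d'.1, hHinv α _ d'.2⟩ : ↥H) ^ p = 1
    apply Subtype.ext
    have := hD'exp d' hd'
    have h2 : (d' : R) ^ p = 1 := by simpa using congrArg Subtype.val this
    simp only [Subgroup.coe_pow, Subgroup.coe_one]
    rw [← map_pow, h2, map_one]
  have hfaith : ∀ α : MulAut R, (orderOf α).Coprime p → (∀ d ∈ D, α d = d) → α = 1 := by
    intro α hα hfix
    have h2 : (resAut H hHinv) α = 1 := by
      apply oa_main hp2 (Nat.card ↥H) ↥H rfl (hR.to_subgroup H)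
      · apply Nat.Coprime.coprime_dvd_left _ hα
        apply orderOf_dvd_of_pow_eq_one
        rw [← map_pow, pow_orderOf_eq_one, map_one]
      · intro y hy
        apply Subtype.ext
        rw [resAut_apply]
        apply hfix
        rw [hD]
        refine Subgroup.mem_map.mpr ⟨y, ?_, rfl⟩
        rw [hD']
        exact Subgroup.subset_closure hy
    apply ca_crit hR H inferInstance hcent α hα
    intro y hy
    have h3 := congrArg (fun β : MulAut ↥H => ((β ⟨y, hy⟩ : ↥H) : R)) h2
    simpa [resAut_apply] using h3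
  -- `Z ≤ E ⊓ T`
  have hZE : Z ≤ E := by
    rw [hZ, Subgroup.closure_le]
    rintro z ⟨hzc, hzp⟩
    have h1 := Cfsg.Agent.Lib.Helper5.elemAb_adjoin hE z
      (by
        rw [Subgroup.mem_centralizer_iff]
        intro e _
        exact (Subgroup.mem_center_iff.mp hzc e)) hzp
    have h2 : E ≤ Subgroup.closure ((E : Set R) ∪ {z}) :=
      fun e he => Subgroup.subset_closure (Or.inl he)
    rw [← hEmax _ h1 h2]
    exact Subgroup.subset_closure (Or.inr rfl)
  have hZT : Z ≤ T := by
    rw [hZ, Subgroup.closure_le]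
    rintro z ⟨hzc, -⟩
    rw [hT]
    show z ∈ Subgroup.centralizer _
    rw [Subgroup.mem_centralizer_iff]
    intro w _
    exact (Subgroup.mem_center_iff.mp hzc w)
  have hETcard : Nat.card ↥(E ⊓ T) ≤ p := by
    have hdvd : Nat.card ↥(E ⊓ T) ∣ p ^ 2 := hE2 ▸ Subgroup.card_dvd_of_le inf_le_left
    obtain ⟨i, hi, hcard⟩ := (Nat.dvd_prime_pow hpp).mp hdvd
    rcases Nat.lt_or_ge i 2 with h | h
    · rw [hcard]
      calc p ^ i ≤ p ^ 1 := Nat.pow_le_pow_right hpp.pos (by omega)
        _ = p := pow_one p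
    · exfalso
      have hi2 : i = 2 := le_antisymm hi h
      rw [hi2, ← hE2] at hcard
      have := Subgroup.eq_of_le_of_card_ge (inf_le_left : E ⊓ T ≤ E) hcard.ge
      have hx2 : x ∈ E ⊓ T := by rw [this]; exact hxE
      exact hxT hx2.2
  have hZeq : Z = E ⊓ T :=
    Subgroup.eq_of_le_of_card_ge (le_inf hZE hZT) (by rw [hZcard]; exact hETcard)
  have hZcen : ∀ z ∈ Z, ∀ g : R, g * z = z * g := by
    intro z hz g
    have : Z ≤ Subgroup.center R := by
      rw [hZ, Subgroup.closure_le]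
      rintro w ⟨hw, -⟩
      exact hw
    exact Subgroup.mem_center_iff.mp (this hz) g
  -- the fixed points of `x`
  have hC : Nat.card ↥(D ⊓ T ⊓ Subgroup.centralizer ({x} : Set R)) ≤ p := by
    refine le_trans (Subgroup.card_le_of_le ?_) hETcard
    rintro d ⟨⟨hdD, hdT⟩, hdx⟩
    refine ⟨?_, hdT⟩
    have hdx' : x * d = d * x := (Subgroup.mem_centralizer_iff.mp hdx) x rfl
    -- `d` centralizes `E`
    obtain ⟨K, hK⟩ : ∃ K : Subgroup R, K = E ⊓ Subgroup.centralizer ({d} : Set R) := ⟨_, rfl⟩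
    have hxK : x ∈ K := by
      rw [hK]
      refine Subgroup.mem_inf.mpr ⟨hxE, ?_⟩
      rw [Subgroup.mem_centralizer_iff]
      intro h hh
      rw [Set.mem_singleton_iff] at hh
      subst hh
      exact hdx'.symm
    have hZK : Z ≤ K := by
      intro z hz
      rw [hK]
      refine Subgroup.mem_inf.mpr ⟨hZE hz, ?_⟩
      rw [Subgroup.mem_centralizer_iff]
      intro h hh
      rw [Set.mem_singleton_iff] at hh
      subst hh
      exact hZcen z hz h
    have hKE : K = E := by
      apply Subgroup.eq_of_le_of_card_ge (by rw [hK]; exact inf_le_left)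
      have hdvd : Nat.card ↥K ∣ p ^ 2 :=
        hE2 ▸ Subgroup.card_dvd_of_le (by rw [hK]; exact inf_le_left)
      obtain ⟨i, hi, hcard⟩ := (Nat.dvd_prime_pow hpp).mp hdvd
      rcases Nat.lt_or_ge i 2 with h | h
      · exfalso
        have h1 : Nat.card ↥K ≤ Nat.card ↥Z := by
          rw [hcard, hZcard]
          calc p ^ i ≤ p ^ 1 := Nat.pow_le_pow_right hpp.pos (by omega)
            _ = p := pow_one p
        have h2 := Subgroup.eq_of_le_of_card_ge hZK h1
        exact hxT (hZT (h2 ▸ hxK))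
      · have hi2 : i = 2 := le_antisymm hi h
        rw [hE2, hcard, hi2]
    have hdE : d ∈ Subgroup.centralizer (E : Set R) := by
      rw [Subgroup.mem_centralizer_iff]
      intro e he
      have : e ∈ K := hKE ▸ he
      rw [hK] at this
      exact ((Subgroup.mem_centralizer_iff.mp this.2) d rfl).symm
    have h1 := Cfsg.Agent.Lib.Helper5.elemAb_adjoin hE d hdE (hDexp d hdD)
    have h2 : E ≤ Subgroup.closure ((E : Set R) ∪ {d}) :=
      fun e he => Subgroup.subset_closure (Or.inl he)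
    rw [← hEmax _ h1 h2]
    exact Subgroup.subset_closure (Or.inr rfl)
  exact abstract_main hR D T x hDinv hTinv hTidx hC hfaith α hα

end Cfsg.Agent.Lib.Helper21.Narrow
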