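import Mathlib
import Cfsg.Prelude.Def_OddOrderLocal
import Cfsg.Agent.Lib.Helper5.ElemAb

/-!
# Narrow `p`-groups of rank at least three have a maximal elementary abelian subgroup of order `p²`
-/

set_option autoImplicit false

namespace Cfsg.Agent.Lib.Helper21.Narrow

universe u

variable {R : Type u} [Group R]

theorem card_le_of_pow_eq_one_of_le_cyclic [Finite R] (p : ℕ) (hp : 0 < p) (B R₁ : Subgroup R)
    (hcyc : IsCyclic ↥R₁) (hB : B ≤ R₁) (hexp : ∀ b ∈ B, b ^ p = 1) : Nat.card ↥B ≤ p := by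
  classical
  letI : Fintype ↥R₁ := Fintype.ofFinite _
  letI : Fintype ↥B := Fintype.ofFinite _
  have h1 := IsCyclic.card_pow_eq_one_le (α := ↥R₁) hp
  refine le_trans ?_ h1
  rw [Nat.card_eq_fintype_card, ← Finset.card_univ]
  apply Finset.card_le_card_of_injOn (fun b => ⟨b.1, hB b.2⟩)
  · intro b _
    simp only [Finset.coe_filter, Finset.mem_univ, true_and, Set.mem_ofPred_eq]
    apply Subtype.ext
    simpa using hexp b.1 b.2
  · intro a _ b _ hab
    have := congrArg Subtype.val hab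
    exact Subtype.ext this

theorem exists_max_elem_of_narrow [Finite R] (p : ℕ) [hp : Fact p.Prime] (hR : IsPGroup p R)
    (hn : Cfsg.IsNarrow p R) (hr : ¬ Cfsg.PRankLE p 2 R) :
    ∃ E : Subgroup R, Cfsg.IsElementaryAbelian p E ∧ Nat.card E = p ^ 2 ∧
      ∀ B : Subgroup R, Cfsg.IsElementaryAbelian p B → E ≤ B → B = E := by
  classical
  have hpp : p.Prime := hp.out
  rcases hn with h | ⟨R₀, R₁, hcard, hcyc, hdisj, hcomm, hsup⟩
  · exact absurd h hr
  -- `C = R₀ ⊔ R₁` is commutative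
  have hR₀C : R₀ ≤ Subgroup.centralizer (R₀ : Set R) := hsup ▸ le_sup_left
  have hR₁C : R₁ ≤ Subgroup.centralizer (R₀ : Set R) := hsup ▸ le_sup_right
  have hR₁c : ∀ a ∈ R₁, ∀ b ∈ R₁, a * b = b * a := by
    intro a ha b hb
    letI := IsCyclic.commGroup (α := ↥R₁)
    have := mul_comm (⟨a, ha⟩ : ↥R₁) ⟨b, hb⟩
    exact congrArg Subtype.val this
  have hpair : ∀ g ∈ ((R₀ : Set R) ∪ R₁), ∀ h ∈ ((R₀ : Set R) ∪ R₁), g * h = h * g := by
    rintro g (hg | hg) h (hh | hh)
    · exact ((Subgroup.mem_centralizer_iff.mp (hR₀C hh)) g hg)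
    · exact ((Subgroup.mem_centralizer_iff.mp (hR₁C hh)) g hg)
    · exact ((Subgroup.mem_centralizer_iff.mp (hR₁C hg)) h hh).symm
    · exact hR₁c g hg h hh
  have hCeq : R₀ ⊔ R₁ = Subgroup.closure ((R₀ : Set R) ∪ R₁) := by
    rw [Subgroup.closure_union, Subgroup.closure_eq, Subgroup.closure_eq]
  have hCcomm : ∀ g ∈ R₀ ⊔ R₁, ∀ h ∈ R₀ ⊔ R₁, g * h = h * g := by
    intro g hg h hh
    rw [hCeq] at hg hh
    have hc := Subgroup.isMulCommutative_closure hpair
    exact setLike_mul_comm hg hh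
  -- decomposition
  have hdec : ∀ g ∈ R₀ ⊔ R₁, ∃ a ∈ R₀, ∃ b ∈ R₁, g = a * b := by
    intro g hg
    rw [hCeq] at hg
    induction hg using Subgroup.closure_induction with
    | mem x hx =>
      rcases hx with hx | hx
      · exact ⟨x, hx, 1, R₁.one_mem, (mul_one x).symm⟩
      · exact ⟨1, R₀.one_mem, x, hx, (one_mul x).symm⟩
    | one => exact ⟨1, R₀.one_mem, 1, R₁.one_mem, (mul_one 1).symm⟩
    | mul x y _ _ hx hy =>
      obtain ⟨a, ha, b, hb, rfl⟩ := hx
      obtain ⟨a', ha', b', hb', rfl⟩ := hy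
      refine ⟨a * a', R₀.mul_mem ha ha', b * b', R₁.mul_mem hb hb', ?_⟩
      have h1 : b * a' = a' * b := (hcomm a' ha' b hb).symm
      calc a * b * (a' * b') = a * (b * a') * b' := by group
        _ = a * (a' * b) * b' := by rw [h1]
        _ = a * a' * (b * b') := by group
    | inv x _ hx =>
      obtain ⟨a, ha, b, hb, rfl⟩ := hx
      refine ⟨a⁻¹, R₀.inv_mem ha, b⁻¹, R₁.inv_mem hb, ?_⟩
      have h1 : a * b = b * a := hcomm a ha b hb
      rw [h1]
      group
  -- `R₀` is elementary abelian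
  have hR₀el : Cfsg.IsElementaryAbelian p R₀ := by
    refine ⟨⟨⟨fun a b => Subtype.ext ?_⟩⟩, fun a ha => ?_⟩
    · exact ((Subgroup.mem_centralizer_iff.mp (hR₀C b.2)) a a.2)
    · have := pow_card_eq_one' (G := ↥R₀) (x := ⟨a, ha⟩)
      rw [hcard] at this
      simpa using congrArg Subtype.val this
  -- `R₁ ≠ ⊥`
  have hR₁ne : R₁ ≠ ⊥ := by
    intro hbot
    rw [hbot, sup_bot_eq] at hsup
    apply hr
    -- the centre lies in `R₀`
    have hne : Nontrivial R := by
      by_contra hcon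
      rw [not_nontrivial_iff_subsingleton] at hcon
      have : Nat.card ↥R₀ = 1 := by
        haveI : Subsingleton ↥R₀ := inferInstance
        exact Nat.card_unique
      rw [hcard] at this
      exact hpp.one_lt.ne' this
    have hcen : Subgroup.center R ≤ R₀ := by
      rw [hsup]
      intro z hz
      rw [Subgroup.mem_centralizer_iff]
      intro h _
      exact Subgroup.mem_center_iff.mp hz h
    have hcne : Subgroup.center R ≠ ⊥ := by
      have := hR.center_nontrivial
      intro h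
      rw [h] at this
      exact not_nontrivial _ this
    have hceq : Subgroup.center R = R₀ := by
      have hdvd : Nat.card ↥(Subgroup.center R) ∣ p := hcard ▸ Subgroup.card_dvd_of_le hcen
      rcases (Nat.dvd_prime hpp).mp hdvd with h | h
      · exact absurd (Subgroup.card_eq_one.mp h) hcne
      · exact Subgroup.eq_of_le_of_card_ge hcen (by rw [h, hcard])
    have htop : R₀ = ⊤ := by
      rw [hsup, ← hceq, eq_top_iff]
      intro g _
      rw [Subgroup.mem_centralizer_iff]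
      intro z hz
      exact (Subgroup.mem_center_iff.mp hz g).symm
    intro A _ _
    calc Nat.card ↥A ≤ Nat.card R := Subgroup.card_le_card_group A
      _ = Nat.card ↥R₀ := by rw [htop, Subgroup.card_top]
      _ = p := hcard
      _ = p ^ 1 := (pow_one p).symm
      _ ≤ p ^ 2 := Nat.pow_le_pow_right hpp.pos (by omega)
  -- a maximal elementary abelian subgroup containing `R₀`
  have hfin : {B : Subgroup R | Cfsg.IsElementaryAbelian p B ∧ R₀ ≤ B}.Finite := Set.toFinite _
  obtain ⟨E, hEmax⟩ := hfin.exists_maximal ⟨R₀, hR₀el, le_refl _⟩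
  obtain ⟨hEel, hR₀E⟩ := hEmax.1
  have hmax : ∀ B : Subgroup R, Cfsg.IsElementaryAbelian p B → E ≤ B → B = E := by
    intro B hB hEB
    exact le_antisymm (hEmax.2 ⟨hB, hR₀E.trans hEB⟩ hEB) hEB
  have hEC : E ≤ R₀ ⊔ R₁ := by
    rw [hsup]
    intro e he
    rw [Subgroup.mem_centralizer_iff]
    intro a ha
    have := hEel.1
    exact setLike_mul_comm (hR₀E ha) he
  -- an element of order `p` of `R₁` lies in `E`
  obtain ⟨r, hr1, hrp, hrne⟩ : ∃ r : R, r ∈ R₁ ∧ r ^ p = 1 ∧ r ≠ 1 := by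
    have hR₁p : IsPGroup p ↥R₁ := hR.to_subgroup R₁
    have hnt : Nontrivial ↥R₁ := by
      rw [← Subgroup.nontrivial_iff_ne_bot] at hR₁ne
      exact hR₁ne
    obtain ⟨k, hk⟩ := IsPGroup.iff_card.mp hR₁p
    have hk0 : k ≠ 0 := by
      intro h0
      rw [h0, pow_zero] at hk
      have : Subsingleton ↥R₁ := (Nat.card_eq_one_iff_unique.mp hk).1
      exact not_subsingleton _ this
    have hdvd : p ∣ Nat.card ↥R₁ := by rw [hk]; exact dvd_pow_self p hk0
    obtain ⟨y, hy⟩ := exists_prime_orderOf_dvd_card' p hdvd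
    refine ⟨y.1, y.2, ?_, ?_⟩
    · have := pow_orderOf_eq_one y
      rw [hy] at this
      simpa using congrArg Subtype.val this
    · intro h1
      have : y = 1 := Subtype.ext h1
      rw [this, orderOf_one] at hy
      exact hpp.one_lt.ne hy
  have hrE : r ∈ E := by
    have hrc : r ∈ Subgroup.centralizer (E : Set R) := by
      rw [Subgroup.mem_centralizer_iff]
      intro e he
      exact hCcomm e (hEC he) r (le_sup_right (a := R₀) hr1)
    have h1 := Cfsg.Agent.Lib.Helper5.elemAb_adjoin hEel r hrc hrp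
    have h2 : E ≤ Subgroup.closure ((E : Set R) ∪ {r}) :=
      fun e he => Subgroup.subset_closure (Or.inl he)
    rw [← hmax _ h1 h2]
    exact Subgroup.subset_closure (Or.inr rfl)
  have hrR₀ : r ∉ R₀ := by
    intro h
    have : r ∈ R₀ ⊓ R₁ := ⟨h, hr1⟩
    rw [hdisj, Subgroup.mem_bot] at this
    exact hrne this
  -- the order of `E`
  have hle : Nat.card ↥E ≤ p ^ 2 := by
    have hB : Nat.card ↥(E ⊓ R₁) ≤ p :=
      card_le_of_pow_eq_one_of_le_cyclic p hpp.pos (E ⊓ R₁) R₁ hcyc inf_le_right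
        (fun b hb => hEel.2 b hb.1)
    have hsurj : Function.Surjective (fun ab : ↥R₀ × ↥(E ⊓ R₁) =>
        (⟨ab.1.1 * ab.2.1, E.mul_mem (hR₀E ab.1.2) ab.2.2.1⟩ : ↥E)) := by
      rintro ⟨e, he⟩
      obtain ⟨a, ha, b, hb, rfl⟩ := hdec e (hEC he)
      have hbE : b ∈ E := by
        have : b = a⁻¹ * (a * b) := by group
        rw [this]
        exact E.mul_mem (E.inv_mem (hR₀E ha)) he
      exact ⟨(⟨a, ha⟩, ⟨b, hbE, hb⟩), rfl⟩
    calc Nat.card ↥E ≤ Nat.card (↥R₀ × ↥(E ⊓ R₁)) := Nat.card_le_card_of_surjective _ hsurj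
      _ = Nat.card ↥R₀ * Nat.card ↥(E ⊓ R₁) := Nat.card_prod _ _
      _ ≤ p * p := by rw [hcard]; exact Nat.mul_le_mul_left p hB
      _ = p ^ 2 := (sq p).symm
  have hEp : IsPGroup p ↥E := hR.to_subgroup E
  obtain ⟨k, hk⟩ := IsPGroup.iff_card.mp hEp
  have hk2 : 2 ≤ k := by
    by_contra hcon
    push Not at hcon
    have h1 : Nat.card ↥E ≤ Nat.card ↥R₀ := by
      rw [hk, hcard]
      calc p ^ k ≤ p ^ 1 := Nat.pow_le_pow_right hpp.pos (by omega)
        _ = p := pow_one p
    have := Subgroup.eq_of_le_of_card_ge hR₀E h1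
    exact hrR₀ (this ▸ hrE)
  have hk2' : k ≤ 2 := by
    by_contra hcon
    push Not at hcon
    have h1 : p ^ 3 ≤ p ^ k := Nat.pow_le_pow_right hpp.pos hcon
    have h2 : p ^ 2 < p ^ 3 := Nat.pow_lt_pow_right hpp.one_lt (by omega)
    omega
  refine ⟨E, hEel, ?_, hmax⟩
  rw [hk, le_antisymm hk2' hk2]

end Cfsg.Agent.Lib.Helper21.Narrow
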