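import Mathlib
import Cfsg.Agent.Lib.Helper21.NarrowD
import Cfsg.Agent.Lib.Helper21.NarrowE
import Cfsg.Agent.Lib.Helper11.AutRankTwo

/-!
# Automorphisms of narrow `p`-groups: action form
-/

set_option autoImplicit false

namespace Cfsg.Agent.Lib.Helper21.Narrow

universe u

/-- `R` has a maximal elementary abelian subgroup of order `p²` -/
def HasMaxElem (p : ℕ) (R : Type u) [Group R] : Prop :=
  ∃ E : Subgroup R, Cfsg.IsElementaryAbelian p E ∧ Nat.card E = p ^ 2 ∧
    ∀ B : Subgroup R, Cfsg.IsElementaryAbelian p B → E ≤ B → B = E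

theorem hasMaxElem_of_mulEquiv {p : ℕ} {R R' : Type u} [Group R] [Group R'] (e : R ≃* R')
    (h : HasMaxElem p R) : HasMaxElem p R' := by
  obtain ⟨E, hE, hcard, hmax⟩ := h
  refine ⟨E.map e.toMonoidHom, Cfsg.Agent.Lib.Helper5.elemAb_map _ hE, ?_, ?_⟩
  · rw [Subgroup.card_map_of_injective e.injective, hcard]
  · intro B hB hEB
    have h1 : Cfsg.IsElementaryAbelian p (B.comap e.toMonoidHom) :=
      Cfsg.Agent.Lib.Helper5.elemAb_comap_of_injective _ e.injective hB
    have h2 : E ≤ B.comap e.toMonoidHom := by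
      intro x hx
      exact hEB (Subgroup.mem_map_of_mem _ hx)
    have h3 := hmax _ h1 h2
    rw [← h3, Subgroup.map_comap_eq_self_of_surjective e.surjective]

theorem hasMaxElem_of_narrow {p : ℕ} [Fact p.Prime] {R : Type u} [Group R] [Finite R]
    (hR : IsPGroup p R) (hn : Cfsg.IsNarrow p R) (hr : ¬ Cfsg.PRankLE p 2 R) : HasMaxElem p R :=
  exists_max_elem_of_narrow p hR hn hr

theorem orderOf_coprime_of_pow' {A : Type*} [Group A] (a : A) (p m : ℕ) (hp : p.Prime)
    (ham : a ^ m = 1) (hpm : ¬ p ∣ m) : Nat.Coprime (orderOf a) p := by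
  have h1 : orderOf a ∣ m := orderOf_dvd_of_pow_eq_one ham
  have h2 : Nat.Coprime m p := ((Nat.Prime.coprime_iff_not_dvd hp).mpr hpm).symm
  exact Nat.Coprime.coprime_dvd_left h1 h2

theorem map_commutator_le {Γ A : Type*} [Group Γ] [Group A] (φ : Γ →* A) {g : Γ}
    (hg : g ∈ commutator Γ) : φ g ∈ commutator A := by
  have h1 : (commutator Γ).map φ ≤ commutator A := by
    rw [commutator_def, Subgroup.map_commutator, commutator_def]
    exact Subgroup.commutator_mono le_top le_top
  exact h1 (Subgroup.mem_map_of_mem _ hg)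

/-- rank at least three with a maximal elementary abelian subgroup of order `p²`:
`p'`-elements of the derived subgroup act trivially -/
theorem maxElem_der_trivial {R : Type u} [Group R] [Finite R] (p : ℕ) [hp : Fact p.Prime]
    (hp2 : p ≠ 2) (hR : IsPGroup p R) (hr : ¬ Cfsg.PRankLE p 2 R) (hE : HasMaxElem p R)
    {Γ : Type*} [Group Γ] (φ : Γ →* MulAut R) (g : Γ) (hg : g ∈ commutator Γ) (m : ℕ)
    (hgm : g ^ m = 1) (hpm : ¬ p ∣ m) : φ g = 1 := by
  obtain ⟨E, hEel, hcard, hmax⟩ := hE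
  have hα : (orderOf (φ g)).Coprime p :=
    orderOf_coprime_of_pow' _ p m hp.out (by rw [← map_pow, hgm, map_one]) hpm
  exact (max_elem_main p hp2 hR hr E hEel hcard hmax (φ g) hα).1 (map_commutator_le φ hg)

/-- rank at least three with a maximal elementary abelian subgroup of order `p²`:
`p'`-elements act with order dividing `p - 1` -/
theorem maxElem_pow_trivial {R : Type u} [Group R] [Finite R] (p : ℕ) [hp : Fact p.Prime]
    (hp2 : p ≠ 2) (hR : IsPGroup p R) (hr : ¬ Cfsg.PRankLE p 2 R) (hE : HasMaxElem p R)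
    (α : MulAut R) (hα : (orderOf α).Coprime p) : α ^ (p - 1) = 1 := by
  obtain ⟨E, hEel, hcard, hmax⟩ := hE
  exact (max_elem_main p hp2 hR hr E hEel hcard hmax α hα).2

/-- B & G 5.5 (a), action form: for a solvable group of odd order acting on a narrow `p`-group,
the `p'`-elements of the derived subgroup act trivially -/
theorem narrow_der_trivial {R : Type u} [Group R] [Finite R] (p : ℕ) [hp : Fact p.Prime]
    (hp2 : p ≠ 2) (hR : IsPGroup p R) (hn : Cfsg.IsNarrow p R)
    {Γ : Type*} [Group Γ] [Finite Γ] (hodd : Odd (Nat.card Γ)) [Group.IsSolvable Γ]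
    (φ : Γ →* MulAut R) (g : Γ) (hg : g ∈ commutator Γ) (m : ℕ)
    (hgm : g ^ m = 1) (hpm : ¬ p ∣ m) : φ g = 1 := by
  by_cases hr : Cfsg.PRankLE p 2 R
  · exact Cfsg.Agent.Lib.Helper11.AutRankTwo.der_coprime_trivial_rank_two p hp2 hR hr hodd φ g hg
      m hgm hpm
  · exact maxElem_der_trivial p hp2 hR hr (hasMaxElem_of_narrow hR hn hr) φ g hg m hgm hpm

end Cfsg.Agent.Lib.Helper21.Narrow
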