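import Mathlib
import Cfsg.Agent.Lib.Helper21.NarrowF
import Cfsg.Agent.Lib.Helper21.PSeries
import Cfsg.Agent.Lib.Helper11.RankTwoTower

/-!
# Solvable groups of odd order with a narrow Sylow `p`-subgroup (B & G 5.6)
-/

set_option autoImplicit false

namespace Cfsg.Agent.Lib.Helper21.Narrow

open Cfsg Cfsg.Agent.Lib.Helper21

universe u

variable {G : Type u} [Group G]

/-- for `p`-length one, `O_{p',p}(G)` has index prime to `p` -/
theorem pCore_quotient_index_coprime [Finite G] (p : ℕ) [hp : Fact p.Prime]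
    (hpl : Cfsg.PLengthLE p 1 G) :
    ((Cfsg.pCore p (G ⧸ Cfsg.pPrimeCore p G)).index).Coprime p := by
  have hpp : p.Prime := hp.out
  obtain ⟨N, hN⟩ : ∃ N : Subgroup G, N = Cfsg.pPrimeCore p G := ⟨_, rfl⟩
  have hU1n : (ups p G 1).Normal := (upperPSeries p G 1).2
  have hU2n : (ups p G 2).Normal := (upperPSeries p G 2).2
  have hU1 : ups p G 1 ≤ Cfsg.pPrimeCore p G :=
    Cfsg.Agent.Lib.Helper1.le_pPrimeCore hU1n card_ups_one_coprime
  -- the image of `U₂` is a normal `p`-subgroup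
  have h1 := goodCard_factor (G := G) (p := p) 1
  unfold GoodCard at h1
  rw [if_neg (by decide : ¬ Even 1)] at h1
  obtain ⟨k, hk⟩ := h1
  have hdvd := card_map_dvd_of_ker_le (QuotientGroup.mk' (ups p G 1))
    (QuotientGroup.mk' (Cfsg.pPrimeCore p G)) (ups p G 2)
    (by rw [QuotientGroup.ker_mk', QuotientGroup.ker_mk']; exact hU1)
  rw [hk] at hdvd
  obtain ⟨j, -, hj⟩ := (Nat.dvd_prime_pow hpp).mp hdvd
  have hPg : IsPGroup p ↥((ups p G 2).map (QuotientGroup.mk' (Cfsg.pPrimeCore p G))) :=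
    IsPGroup.of_card hj
  have hnorm : ((ups p G 2).map (QuotientGroup.mk' (Cfsg.pPrimeCore p G))).Normal :=
    Subgroup.Normal.map hU2n _ (QuotientGroup.mk'_surjective _)
  have hle : (ups p G 2).map (QuotientGroup.mk' (Cfsg.pPrimeCore p G)) ≤
      Cfsg.pCore p (G ⧸ Cfsg.pPrimeCore p G) := Cfsg.Agent.Lib.Helper1.le_pCore hnorm hPg
  -- the index of `U₂`
  have h2 := goodCard_factor (G := G) (p := p) 2
  unfold GoodCard at h2
  rw [if_pos (by decide : Even 2)] at h2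
  have htop : ups p G 3 = ⊤ := hpl
  rw [show (2 : ℕ) + 1 = 3 from rfl, htop, ← MonoidHom.range_eq_map,
    MonoidHom.range_eq_top_of_surjective _ (QuotientGroup.mk'_surjective _), Subgroup.card_top,
    ← Subgroup.index_eq_card] at h2
  -- compare indices
  have hle2 : ups p G 2 ≤ (Cfsg.pCore p (G ⧸ Cfsg.pPrimeCore p G)).comap
      (QuotientGroup.mk' (Cfsg.pPrimeCore p G)) := by
    intro x hx
    exact hle (Subgroup.mem_map_of_mem _ hx)
  have hidx := Subgroup.index_dvd_of_le hle2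
  rw [Subgroup.index_comap_of_surjective _ (QuotientGroup.mk'_surjective _)] at hidx
  exact Nat.Coprime.coprime_dvd_left hidx h2

/-- for `p`-length one, a Sylow `p`-subgroup is isomorphic to `O_p(G / O_{p'}(G))` -/
theorem sylow_equiv_pCore_quotient [Finite G] (p : ℕ) [hp : Fact p.Prime]
    (hpl : Cfsg.PLengthLE p 1 G) (S : Sylow p G) :
    Nonempty (↥(S : Subgroup G) ≃* ↥(Cfsg.pCore p (G ⧸ Cfsg.pPrimeCore p G))) := by
  have hpp : p.Prime := hp.out
  have hidx := pCore_quotient_index_coprime p hpl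
  have hNcop : (Nat.card ↥(Cfsg.pPrimeCore p G)).Coprime p :=
    Cfsg.Agent.Lib.Helper1.pPrimeCore_card_coprime p
  have hTp : IsPGroup p ↥(Cfsg.pCore p (G ⧸ Cfsg.pPrimeCore p G)) :=
    Cfsg.Agent.Lib.Helper1.pCore_isPGroup p
  -- `p`-elements of the quotient lie in `T`
  have hmem : ∀ s ∈ (S : Subgroup G), QuotientGroup.mk' (Cfsg.pPrimeCore p G) s ∈
      Cfsg.pCore p (G ⧸ Cfsg.pPrimeCore p G) := by
    intro s hs
    obtain ⟨k, hk⟩ := S.isPGroup' ⟨s, hs⟩
    have hs1 : s ^ p ^ k = 1 := by simpa using congrArg Subtype.val hk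
    rw [← QuotientGroup.eq_one_iff]
    have e1 : (QuotientGroup.mk' (Cfsg.pCore p (G ⧸ Cfsg.pPrimeCore p G))
        (QuotientGroup.mk' (Cfsg.pPrimeCore p G) s)) ^ p ^ k = 1 := by
      rw [← map_pow, ← map_pow, hs1, map_one, map_one]
    have e2 : (QuotientGroup.mk' (Cfsg.pCore p (G ⧸ Cfsg.pPrimeCore p G))
        (QuotientGroup.mk' (Cfsg.pPrimeCore p G) s)) ^
        Nat.card ((G ⧸ Cfsg.pPrimeCore p G) ⧸ Cfsg.pCore p (G ⧸ Cfsg.pPrimeCore p G)) = 1 :=
      pow_card_eq_one'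
    have e3 := pow_gcd_eq_one.2 ⟨e1, e2⟩
    rw [← Subgroup.index_eq_card, Nat.Coprime.gcd_eq_one (Nat.Coprime.pow_left k hidx.symm),
      pow_one] at e3
    exact e3
  obtain ⟨f, hf⟩ : ∃ f : ↥(S : Subgroup G) →* ↥(Cfsg.pCore p (G ⧸ Cfsg.pPrimeCore p G)),
      ∀ s, ((f s : ↥(Cfsg.pCore p (G ⧸ Cfsg.pPrimeCore p G))) : G ⧸ Cfsg.pPrimeCore p G) =
        QuotientGroup.mk' (Cfsg.pPrimeCore p G) (s : G) :=
    ⟨((QuotientGroup.mk' (Cfsg.pPrimeCore p G)).comp (S : Subgroup G).subtype).codRestrict _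
      (fun s => hmem s.1 s.2), fun s => rfl⟩
  have hinj : Function.Injective f := by
    rw [injective_iff_map_eq_one]
    intro s hs
    have h1 := congrArg Subtype.val hs
    rw [hf] at h1
    have h2 : (s : G) ∈ Cfsg.pPrimeCore p G := (QuotientGroup.eq_one_iff _).mp h1
    have h3 : (s : G) ∈ (S : Subgroup G) ⊓ Cfsg.pPrimeCore p G := ⟨s.2, h2⟩
    have hdisj : (S : Subgroup G) ⊓ Cfsg.pPrimeCore p G = ⊥ := by
      apply disjoint_iff.1
      apply Subgroup.disjoint_of_coprime_natCard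
      obtain ⟨b, hb⟩ := IsPGroup.iff_card.mp S.isPGroup'
      rw [hb]
      exact Nat.Coprime.pow_left b hNcop.symm
    rw [hdisj, Subgroup.mem_bot] at h3
    exact Subtype.ext h3
  -- cardinalities
  have hcard : Nat.card ↥(Cfsg.pCore p (G ⧸ Cfsg.pPrimeCore p G)) ≤ Nat.card ↥(S : Subgroup G) := by
    obtain ⟨a, ha⟩ := IsPGroup.iff_card.mp hTp
    rw [ha, S.card_eq_multiplicity]
    apply Nat.pow_le_pow_right hpp.pos
    rw [← Nat.Prime.pow_dvd_iff_le_factorization hpp Nat.card_pos.ne', ← ha]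
    exact (Subgroup.card_subgroup_dvd_card _).trans (Subgroup.card_quotient_dvd_card _)
  have hbij : Function.Bijective f := hinj.bijective_of_nat_card_le hcard
  exact ⟨MulEquiv.ofBijective f hbij⟩

/-- B & G 5.6, main part in the case of rank at least three -/
theorem narrow_solvable_main [Finite G] [Group.IsSolvable G] (p : ℕ) [hp : Fact p.Prime]
    (hp2 : p ≠ 2) (S : Sylow p G) (hr : ¬ Cfsg.PRankLE p 2 ↥(S : Subgroup G))
    (hE : HasMaxElem p ↥(S : Subgroup G)) (hpl : Cfsg.PLengthLE p 1 G) :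
    (∀ q : ℕ, q.Prime → q ∣ (Cfsg.pPrimeCore p G).index → q ≤ p) ∧
      commutator G ≤ Cfsg.pPrimePCore p G := by
  have hpp : p.Prime := hp.out
  obtain ⟨e⟩ := sylow_equiv_pCore_quotient p hpl S
  have hTp : IsPGroup p ↥(Cfsg.pCore p (G ⧸ Cfsg.pPrimeCore p G)) :=
    Cfsg.Agent.Lib.Helper1.pCore_isPGroup p
  have hrT : ¬ Cfsg.PRankLE p 2 ↥(Cfsg.pCore p (G ⧸ Cfsg.pPrimeCore p G)) := fun h =>
    hr (Cfsg.Agent.Lib.Helper11.RankTwoTower.prank_of_injective e.toMonoidHom e.injective h)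
  have hET : HasMaxElem p ↥(Cfsg.pCore p (G ⧸ Cfsg.pPrimeCore p G)) :=
    hasMaxElem_of_mulEquiv e hE
  have hO : Cfsg.pPrimeCore p (G ⧸ Cfsg.pPrimeCore p G) = ⊥ :=
    Cfsg.Agent.Lib.Helper1.pPrimeCore_quotient_eq_bot p
  have hC : Subgroup.centralizer (Cfsg.pCore p (G ⧸ Cfsg.pPrimeCore p G) :
      Set (G ⧸ Cfsg.pPrimeCore p G)) ≤ Cfsg.pCore p (G ⧸ Cfsg.pPrimeCore p G) :=
    Cfsg.Agent.Lib.Helper1.centralizer_pCore_le p hO
  have hker : (MulAut.conjNormal (H := Cfsg.pCore p (G ⧸ Cfsg.pPrimeCore p G))).ker ≤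
      Cfsg.pCore p (G ⧸ Cfsg.pPrimeCore p G) :=
    (Cfsg.Agent.Lib.Helper11.RankTwoSolvable.conjNormal_ker_le _).trans hC
  constructor
  · intro q hq hqd
    by_cases hqp : q = p
    · exact hqp.le
    · haveI : Fact q.Prime := ⟨hq⟩
      rw [Subgroup.index_eq_card] at hqd
      have hmul := Subgroup.card_mul_index
        (MulAut.conjNormal (H := Cfsg.pCore p (G ⧸ Cfsg.pPrimeCore p G))).ker
      rw [Subgroup.index_ker] at hmul
      rw [← hmul] at hqd
      have hkerp : IsPGroup p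
          ↥(MulAut.conjNormal (H := Cfsg.pCore p (G ⧸ Cfsg.pPrimeCore p G))).ker :=
        hTp.to_le hker
      obtain ⟨j, hj⟩ := IsPGroup.iff_card.mp hkerp
      rw [hj] at hqd
      have hq2 : q ∣ Nat.card
          ↥(MulAut.conjNormal (H := Cfsg.pCore p (G ⧸ Cfsg.pPrimeCore p G))).range := by
        rcases (Nat.Prime.dvd_mul hq).mp hqd with h | h
        · exfalso
          exact hqp ((Nat.prime_dvd_prime_iff_eq hq hpp).mp (hq.dvd_of_dvd_pow h))
        · exact h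
      obtain ⟨y, hy⟩ := exists_prime_orderOf_dvd_card' q hq2
      have hyo : orderOf (y : MulAut ↥(Cfsg.pCore p (G ⧸ Cfsg.pPrimeCore p G))) = q := by
        rw [Subgroup.orderOf_coe, hy]
      have hcop : (orderOf (y : MulAut ↥(Cfsg.pCore p (G ⧸ Cfsg.pPrimeCore p G)))).Coprime p := by
        rw [hyo]
        exact (Nat.coprime_primes hq hpp).mpr hqp
      have h1 := maxElem_pow_trivial p hp2 hTp hrT hET _ hcop
      have h2 : q ∣ p - 1 := by
        rw [← hyo]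
        exact orderOf_dvd_of_pow_eq_one h1
      have h3 : q ≤ p - 1 := Nat.le_of_dvd (by have := hpp.two_le; omega) h2
      omega
  · have hQder : ∀ c ∈ commutator (G ⧸ Cfsg.pPrimeCore p G), ∀ m : ℕ, c ^ m = 1 → ¬ p ∣ m →
        c = 1 := by
      intro c hc m hcm hpm
      have h1 := maxElem_der_trivial p hp2 hTp hrT hET
        (MulAut.conjNormal (H := Cfsg.pCore p (G ⧸ Cfsg.pPrimeCore p G))) c hc m hcm hpm
      have hcT : c ∈ Cfsg.pCore p (G ⧸ Cfsg.pPrimeCore p G) := hker (MonoidHom.mem_ker.mpr h1)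
      obtain ⟨j, hj⟩ := hTp ⟨c, hcT⟩
      have hcj : c ^ p ^ j = 1 := by simpa using congrArg Subtype.val hj
      have hcop : Nat.Coprime m (p ^ j) :=
        Nat.Coprime.pow_right j ((Nat.Prime.coprime_iff_not_dvd hpp).mpr hpm).symm
      have := pow_gcd_eq_one.mpr ⟨hcm, hcj⟩
      rwa [Nat.Coprime.gcd_eq_one hcop, pow_one] at this
    have hQp : IsPGroup p ↥(commutator (G ⧸ Cfsg.pPrimeCore p G)) := by
      rintro ⟨c, hc⟩
      obtain ⟨k, m, hpm, hkm⟩ := Nat.exists_eq_pow_mul_and_not_dvd (orderOf_pos c).ne' p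
        hpp.ne_one
      refine ⟨k, Subtype.ext ?_⟩
      simp only [Subgroup.coe_pow, Subgroup.coe_one]
      exact hQder _ (pow_mem hc _) m (by rw [← pow_mul, ← hkm, pow_orderOf_eq_one]) hpm
    have hQle : commutator (G ⧸ Cfsg.pPrimeCore p G) ≤ Cfsg.pCore p (G ⧸ Cfsg.pPrimeCore p G) :=
      Cfsg.Agent.Lib.Helper1.le_pCore inferInstance hQp
    intro c hc
    show QuotientGroup.mk' (Cfsg.pPrimeCore p G) c ∈ Cfsg.pCore p (G ⧸ Cfsg.pPrimeCore p G)
    apply hQle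
    exact map_commutator_le _ hc

end Cfsg.Agent.Lib.Helper21.Narrow
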