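import Mathlib
import Cfsg.Agent.Lib.Lead.Coprime

/-!
# Generic subgroup lemmas for B & G Theorem 3.6
-/

set_option autoImplicit false

namespace Cfsg.Agent.Lib.Helper21.ZG

open Cfsg.Agent.Lib.Lead

variable {G : Type*} [Group G]

/-- the elements of order dividing `n` in an abelian subgroup -/
def omegaSub (V : Subgroup G) (hVc : ∀ x ∈ V, ∀ y ∈ V, x * y = y * x) (n : ℕ) : Subgroup G where
  carrier := {x | x ∈ V ∧ x ^ n = 1}
  one_mem' := ⟨V.one_mem, one_pow n⟩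
  mul_mem' := fun {a b} ha hb => ⟨V.mul_mem ha.1 hb.1, by
    have hc : Commute a b := hVc a ha.1 b hb.1
    rw [hc.mul_pow, ha.2, hb.2, one_mul]⟩
  inv_mem' := fun {a} ha => ⟨V.inv_mem ha.1, by rw [inv_pow, ha.2, inv_one]⟩

theorem mem_omegaSub {V : Subgroup G} {hVc : ∀ x ∈ V, ∀ y ∈ V, x * y = y * x} {n : ℕ} {x : G} :
    x ∈ omegaSub V hVc n ↔ x ∈ V ∧ x ^ n = 1 := Iff.rfl

theorem omegaSub_le (V : Subgroup G) (hVc : ∀ x ∈ V, ∀ y ∈ V, x * y = y * x) (n : ℕ) :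
    omegaSub V hVc n ≤ V := fun _ hx => hx.1

theorem le_normalizer_omegaSub {V : Subgroup G} (hVc : ∀ x ∈ V, ∀ y ∈ V, x * y = y * x) (n : ℕ)
    {A : Subgroup G} (h : A ≤ Subgroup.normalizer (V : Set G)) :
    A ≤ Subgroup.normalizer ((omegaSub V hVc n : Subgroup G) : Set G) := by
  rw [Subgroup.le_normalizer_iff]
  intro a ha x hx
  refine ⟨(Subgroup.le_normalizer_iff.mp h) a ha x hx.1, ?_⟩
  rw [conj_pow, hx.2, mul_one, mul_inv_cancel]

theorem le_normalizer_inf {A B C : Subgroup G} (h1 : A ≤ Subgroup.normalizer (B : Set G))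
    (h2 : A ≤ Subgroup.normalizer (C : Set G)) :
    A ≤ Subgroup.normalizer ((B ⊓ C : Subgroup G) : Set G) :=
  (le_inf h1 h2).trans Subgroup.inf_normalizer_le_normalizer_inf

theorem le_normalizer_sup {A B C : Subgroup G} (h1 : A ≤ Subgroup.normalizer (B : Set G))
    (h2 : A ≤ Subgroup.normalizer (C : Set G)) :
    A ≤ Subgroup.normalizer ((B ⊔ C : Subgroup G) : Set G) :=
  (le_inf h1 h2).trans (Subgroup.normalizer_inf_normalizer_le_normalizer_sup B C)

theorem le_normalizer_centralizer {A B : Subgroup G} (h : A ≤ Subgroup.normalizer (B : Set G)) :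
    A ≤ Subgroup.normalizer ((Subgroup.centralizer (B : Set G) : Subgroup G) : Set G) := by
  rw [Subgroup.le_normalizer_iff]
  intro a ha c hc
  rw [Subgroup.mem_centralizer_iff] at hc ⊢
  intro b hb
  have h1 : a⁻¹ * b * a ∈ B := by
    have := (Subgroup.le_normalizer_iff.mp h) a⁻¹ (A.inv_mem ha) b hb
    rwa [inv_inv] at this
  have h2 := hc _ h1
  have e1 : b * (a * c * a⁻¹) = a * ((a⁻¹ * b * a) * c) * a⁻¹ := by group
  have e2 : a * c * a⁻¹ * b = a * (c * (a⁻¹ * b * a)) * a⁻¹ := by group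
  rw [e1, e2, h2]

theorem le_normalizer_normalizer {A B : Subgroup G} (h : A ≤ Subgroup.normalizer (B : Set G)) :
    A ≤ Subgroup.normalizer ((Subgroup.normalizer (B : Set G) : Subgroup G) : Set G) :=
  h.trans Subgroup.le_normalizer

theorem le_normalizer_self_sup {V X : Subgroup G} :
    V ≤ Subgroup.normalizer ((V ⊔ X : Subgroup G) : Set G) :=
  le_sup_left.trans Subgroup.le_normalizer

/-- elements of `V ⊔ X` when `X` normalises `V` -/
theorem exists_mul_of_mem_sup {V X : Subgroup G} (h : X ≤ Subgroup.normalizer (V : Set G)) {g : G}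
    (hg : g ∈ V ⊔ X) : ∃ v ∈ V, ∃ x ∈ X, g = v * x := by
  have hg' : g ∈ ((V ⊔ X : Subgroup G) : Set G) := hg
  rw [Subgroup.coe_mul_of_right_le_normalizer_left V X h] at hg'
  obtain ⟨v, hv, x, hx, rfl⟩ := hg'
  exact ⟨v, hv, x, hx, rfl⟩

theorem commutator_le_inf {A B : Subgroup G} (hA : A ≤ Subgroup.normalizer (B : Set G))
    (hB : B ≤ Subgroup.normalizer (A : Set G)) : ⁅A, B⁆ ≤ A ⊓ B := by
  apply le_inf
  · exact commutator_le_left_of_le_normalizer A B hB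
  · rw [Subgroup.commutator_comm]
    exact commutator_le_left_of_le_normalizer B A hA

theorem le_centralizer_of_inf_eq_bot {A B : Subgroup G} (hA : A ≤ Subgroup.normalizer (B : Set G))
    (hB : B ≤ Subgroup.normalizer (A : Set G)) (h : A ⊓ B = ⊥) :
    A ≤ Subgroup.centralizer (B : Set G) := by
  rw [← Subgroup.commutator_eq_bot_iff_le_centralizer, eq_bot_iff, ← h]
  exact commutator_le_inf hA hB

theorem inf_eq_bot_of_isPGroup_of_coprime [Finite G] {p : ℕ} [hp : Fact p.Prime] {A B : Subgroup G}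
    (hA : IsPGroup p A) (hB : (Nat.card B).Coprime p) : A ⊓ B = ⊥ := by
  obtain ⟨k, hk⟩ := IsPGroup.iff_card.mp hA
  have hcop : (Nat.card A).Coprime (Nat.card B) := by
    rw [hk]; exact Nat.Coprime.pow_left k hB.symm
  rw [eq_bot_iff]
  intro x hx
  rw [Subgroup.mem_bot]
  exact inf_eq_bot_of_coprime' A B hcop (Subgroup.mem_inf.mp hx).1 (Subgroup.mem_inf.mp hx).2

/-- a nontrivial solvable subgroup is not perfect -/
theorem commutator_self_ne [Group.IsSolvable G] (V : Subgroup G) (hV : V ≠ ⊥) : ⁅V, V⁆ ≠ V := by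
  intro h
  haveI : Nontrivial ↥V := (Subgroup.nontrivial_iff_ne_bot V).mpr hV
  have h1 := IsSolvable.commutator_lt_top_of_nontrivial ↥V
  have h2 : (commutator ↥V).map V.subtype = (⊤ : Subgroup ↥V).map V.subtype := by
    rw [Subgroup.map_subtype_commutator, h, ← MonoidHom.range_eq_map, Subgroup.range_subtype]
  exact h1.ne (Subgroup.map_injective V.subtype_injective h2)

theorem comm_of_commutator_eq_bot {V : Subgroup G} (h : ⁅V, V⁆ = ⊥) :
    ∀ x ∈ V, ∀ y ∈ V, x * y = y * x := by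
  intro x hx y hy
  have h1 := Subgroup.commutator_eq_bot_iff_le_centralizer.mp h hx
  exact ((Subgroup.mem_centralizer_iff.mp h1) y hy).symm

theorem isPGroup_of_exp {p : ℕ} {V : Subgroup G} (h : ∀ x ∈ V, x ^ p = 1) : IsPGroup p V := by
  intro g
  refine ⟨1, ?_⟩
  rw [pow_one]
  apply Subtype.ext
  rw [Subgroup.coe_pow, Subgroup.coe_one]
  exact h g g.2

open scoped commutatorElement in
/-- the derived subgroup of the normaliser of a cyclic subgroup centralises it -/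
theorem commutator_normalizer_cyclic_le {U : Subgroup G} (hU : IsCyclic U) :
    ⁅Subgroup.normalizer (U : Set G), Subgroup.normalizer (U : Set G)⁆ ≤
      Subgroup.centralizer (U : Set G) := by
  obtain ⟨u₀, hu₀⟩ := IsCyclic.exists_generator (α := U)
  set u : G := (u₀ : G) with hu
  have huU : u ∈ U := u₀.2
  have hgen : ∀ v ∈ U, ∃ i : ℤ, u ^ i = v := by
    intro v hv
    obtain ⟨i, hi⟩ := Subgroup.mem_zpowers_iff.1 (hu₀ ⟨v, hv⟩)
    refine ⟨i, ?_⟩
    have := congrArg Subtype.val hi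
    simpa using this
  have hpow : ∀ n ∈ Subgroup.normalizer (U : Set G), ∃ j : ℤ, ∀ v ∈ U, n * v * n⁻¹ = v ^ j := by
    intro n hn
    have h1 : n * u * n⁻¹ ∈ U := (Subgroup.mem_normalizer_iff.1 hn u).1 huU
    obtain ⟨j, hj⟩ := hgen _ h1
    refine ⟨j, fun v hv => ?_⟩
    obtain ⟨i, rfl⟩ := hgen v hv
    have e : n * u ^ i * n⁻¹ = (n * u * n⁻¹) ^ i := by
      have := (MulAut.conj n).toMonoidHom.map_zpow u i
      simpa [MulAut.conj_apply] using this
    rw [e, ← hj, ← _root_.zpow_mul, ← _root_.zpow_mul, mul_comm]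
  rw [Subgroup.commutator_le]
  intro n₁ hn₁ n₂ hn₂
  obtain ⟨j₁, hj₁⟩ := hpow n₁ hn₁
  obtain ⟨j₂, hj₂⟩ := hpow n₂ hn₂
  rw [Subgroup.mem_centralizer_iff]
  intro v hv
  have hv' : v ∈ U := hv
  have key : ∀ w ∈ U, (n₁ * n₂) * w * (n₁ * n₂)⁻¹ = (n₂ * n₁) * w * (n₂ * n₁)⁻¹ := by
    intro w hw
    have e1 : (n₁ * n₂) * w * (n₁ * n₂)⁻¹ = n₁ * (n₂ * w * n₂⁻¹) * n₁⁻¹ := by group
    have e2 : (n₂ * n₁) * w * (n₂ * n₁)⁻¹ = n₂ * (n₁ * w * n₁⁻¹) * n₂⁻¹ := by group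
    rw [e1, e2, hj₂ w hw, hj₁ w hw, hj₁ _ (U.zpow_mem hw _), hj₂ _ (U.zpow_mem hw _),
      ← _root_.zpow_mul, ← _root_.zpow_mul, mul_comm]
  have hmem : (n₂ * n₁)⁻¹ * v * (n₂ * n₁) ∈ U := by
    have hn : n₂ * n₁ ∈ Subgroup.normalizer (U : Set G) := Subgroup.mul_mem _ hn₂ hn₁
    have := (Subgroup.mem_normalizer_iff.1 (Subgroup.inv_mem _ hn) v).1 hv'
    simpa using this
  have h3 := key _ hmem
  have h4 : (n₂ * n₁) * ((n₂ * n₁)⁻¹ * v * (n₂ * n₁)) * (n₂ * n₁)⁻¹ = v := by group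
  rw [h4] at h3
  have h5 : ⁅n₁, n₂⁆ * v * ⁅n₁, n₂⁆⁻¹ = v := by
    have h6 : ⁅n₁, n₂⁆ * v * ⁅n₁, n₂⁆⁻¹ =
        n₁ * n₂ * ((n₂ * n₁)⁻¹ * v * (n₂ * n₁)) * (n₁ * n₂)⁻¹ := by
      rw [commutatorElement_def]
      group
    rw [h6, h3]
  calc v * ⁅n₁, n₂⁆ = (⁅n₁, n₂⁆ * v * ⁅n₁, n₂⁆⁻¹) * ⁅n₁, n₂⁆ := by rw [h5]
    _ = ⁅n₁, n₂⁆ * v := by group

/-- in a subgroup of prime order, the centraliser of a nontrivial element is the centraliser of the
subgroup -/
theorem centralizer_singleton_of_prime_card {R₀ : Subgroup G} (hprime : (Nat.card R₀).Prime)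
    {r₀ : G} (hr₀ : r₀ ∈ R₀) (hne : r₀ ≠ 1) :
    Subgroup.centralizer ({r₀} : Set G) = Subgroup.centralizer (R₀ : Set G) := by
  apply le_antisymm
  · intro y hy
    have hy' : r₀ * y = y * r₀ := (Subgroup.mem_centralizer_iff.mp hy) r₀ rfl
    rw [Subgroup.mem_centralizer_iff]
    intro x hx
    haveI : Fact (Nat.card R₀).Prime := ⟨hprime⟩
    have h1 : Subgroup.zpowers (⟨r₀, hr₀⟩ : ↥R₀) = ⊤ :=
      zpowers_eq_top_of_prime_card rfl (fun h => hne (congrArg Subtype.val h))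
    have h2 : (⟨x, hx⟩ : ↥R₀) ∈ Subgroup.zpowers (⟨r₀, hr₀⟩ : ↥R₀) := by
      rw [h1]; exact Subgroup.mem_top _
    obtain ⟨k, hk⟩ := Subgroup.mem_zpowers_iff.mp h2
    have h3 : r₀ ^ k = x := by
      have := congrArg Subtype.val hk
      simpa using this
    rw [← h3]
    have hc : Commute r₀ y := hy'
    exact (hc.zpow_left k)
  · exact Subgroup.centralizer_le (by
      intro z hz
      rw [Set.mem_singleton_iff] at hz
      rw [hz]; exact hr₀)

theorem exists_ne_one_of_prime_card {R₀ : Subgroup G} (hprime : (Nat.card R₀).Prime) :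
    ∃ r₀ ∈ R₀, r₀ ≠ 1 := by
  have h1 : R₀ ≠ ⊥ := by
    intro h
    rw [h, Subgroup.card_bot] at hprime
    exact Nat.not_prime_one hprime
  obtain ⟨a, ha⟩ := (Subgroup.ne_bot_iff_exists_ne_one (H := R₀)).mp h1
  exact ⟨(a : G), a.2, fun h => ha (Subtype.ext h)⟩

end Cfsg.Agent.Lib.Helper21.ZG
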