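import Mathlib
import Cfsg.Agent.Lib.Helper21.PSeries

/-!
# Generic `p`-length lemmas for B & G Theorem 3.6
-/

set_option autoImplicit false

namespace Cfsg.Agent.Lib.Helper21.ZG

open Cfsg Cfsg.Agent.Lib.Helper21 Cfsg.Agent.Lib.Helper1

theorem goodCard_mul {p n a b : ℕ} (hp : p.Prime) (ha : GoodCard p n a) (hb : GoodCard p n b) :
    GoodCard p n (a * b) := by
  unfold GoodCard at *
  by_cases hn : Even n
  · rw [if_pos hn] at ha hb ⊢
    exact Nat.Coprime.mul_left ha hb
  · rw [if_neg hn] at ha hb ⊢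
    obtain ⟨k, rfl⟩ := ha
    obtain ⟨j, rfl⟩ := hb
    exact ⟨k + j, (pow_add p k j).symm⟩

section

variable {X : Type*} [Group X] [Finite X] {p : ℕ} [hp : Fact p.Prime]

/-- if `A ⊓ B = ⊥` and both quotients have `p`-length at most `k`, so does the group -/
theorem plength_of_inf_eq_bot (A B : Subgroup X) [hA : A.Normal] [hB : B.Normal] (h : A ⊓ B = ⊥)
    {k : ℕ} (hkA : PLengthLE p k (X ⧸ A)) (hkB : PLengthLE p k (X ⧸ B)) : PLengthLE p k X := by
  have key : ∀ n : ℕ, (ups p (X ⧸ A) n).comap (QuotientGroup.mk' A) ⊓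
      (ups p (X ⧸ B) n).comap (QuotientGroup.mk' B) ≤ ups p X n := by
    intro n
    induction n with
    | zero =>
      rw [ups_zero, ups_zero, ups_zero, ← h]
      intro x hx
      obtain ⟨h1, h2⟩ := Subgroup.mem_inf.mp hx
      rw [Subgroup.mem_comap, Subgroup.mem_bot, QuotientGroup.mk'_apply,
        QuotientGroup.eq_one_iff] at h1 h2
      exact Subgroup.mem_inf.mpr ⟨h1, h2⟩
    | succ n ih =>
      haveI : ((ups p (X ⧸ A) (n + 1)).comap (QuotientGroup.mk' A) ⊓
          (ups p (X ⧸ B) (n + 1)).comap (QuotientGroup.mk' B)).Normal :=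
        Subgroup.normal_inf_normal _ _
      apply le_ups_succ n
      set W := (ups p (X ⧸ A) (n + 1)).comap (QuotientGroup.mk' A) ⊓
          (ups p (X ⧸ B) (n + 1)).comap (QuotientGroup.mk' B) with hW
      set f : X →* ((X ⧸ A) ⧸ ups p (X ⧸ A) n) × ((X ⧸ B) ⧸ ups p (X ⧸ B) n) :=
        ((QuotientGroup.mk' (ups p (X ⧸ A) n)).comp (QuotientGroup.mk' A)).prod
          ((QuotientGroup.mk' (ups p (X ⧸ B) n)).comp (QuotientGroup.mk' B)) with hf
      have hker : f.ker ≤ (QuotientGroup.mk' (ups p X n)).ker := by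
        rw [QuotientGroup.ker_mk']
        intro x hx
        apply ih
        rw [MonoidHom.mem_ker, hf, MonoidHom.prod_apply, Prod.mk_eq_one] at hx
        obtain ⟨h1, h2⟩ := hx
        rw [MonoidHom.comp_apply, QuotientGroup.mk'_apply, QuotientGroup.eq_one_iff] at h1 h2
        exact Subgroup.mem_inf.mpr ⟨h1, h2⟩
      have hdvd := card_map_dvd_of_ker_le f (QuotientGroup.mk' (ups p X n)) W hker
      have hle : W.map f ≤
          ((ups p (X ⧸ A) (n + 1)).map (QuotientGroup.mk' (ups p (X ⧸ A) n))).prod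
            ((ups p (X ⧸ B) (n + 1)).map (QuotientGroup.mk' (ups p (X ⧸ B) n))) := by
        rintro _ ⟨x, hx, rfl⟩
        obtain ⟨h1, h2⟩ := Subgroup.mem_inf.mp hx
        rw [Subgroup.mem_prod]
        exact ⟨⟨_, h1, rfl⟩, ⟨_, h2, rfl⟩⟩
      have hdvd2 := Subgroup.card_dvd_of_le hle
      have hcard : Nat.card ↥(((ups p (X ⧸ A) (n + 1)).map
            (QuotientGroup.mk' (ups p (X ⧸ A) n))).prod
            ((ups p (X ⧸ B) (n + 1)).map (QuotientGroup.mk' (ups p (X ⧸ B) n)))) =
          Nat.card ↥((ups p (X ⧸ A) (n + 1)).map (QuotientGroup.mk' (ups p (X ⧸ A) n))) *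
          Nat.card ↥((ups p (X ⧸ B) (n + 1)).map (QuotientGroup.mk' (ups p (X ⧸ B) n))) := by
        rw [Nat.card_congr (Subgroup.prodEquiv _ _).toEquiv, Nat.card_prod]
      rw [hcard] at hdvd2
      exact goodCard_of_dvd hp.out (hdvd.trans hdvd2)
        (goodCard_mul hp.out (goodCard_factor n) (goodCard_factor n))
  rw [plength_iff] at hkA hkB ⊢
  rw [eq_top_iff]
  have := key (2 * k + 1)
  rw [hkA, hkB, Subgroup.comap_top, Subgroup.comap_top, inf_top_eq] at this
  exact this

/-- a group with a normal `p`-subgroup of index prime to `p` has `p`-length at most one -/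
theorem plength_of_normal_pgroup (T : Subgroup X) [hT : T.Normal] (hTp : IsPGroup p T)
    (hidx : T.index.Coprime p) : PLengthLE p 1 X := by
  have h1 : PLengthLE p 1 ↥T := plength_one_of_isPGroup hTp
  have h0 : PLengthLE p 0 (X ⧸ T) := by
    apply plength_zero_of_coprime
    rw [← Subgroup.index_eq_card]
    exact hidx
  exact plength_add T h1 h0

/-- for `p`-length one and `O_{p'} = 1`, `O_p` has index prime to `p` -/
theorem pCore_index_coprime (hpl : PLengthLE p 1 X) (h : pPrimeCore p X = ⊥) :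
    (pCore p X).index.Coprime p := by
  have hpp : p.Prime := hp.out
  have hU1n : (ups p X 1).Normal := (upperPSeries p X 1).2
  have hU2n : (ups p X 2).Normal := (upperPSeries p X 2).2
  have hU1 : ups p X 1 = ⊥ := by
    rw [eq_bot_iff, ← h]
    exact le_pPrimeCore hU1n card_ups_one_coprime
  have h1 := goodCard_factor (G := X) (p := p) 1
  unfold GoodCard at h1
  rw [if_neg (by decide : ¬ Even 1)] at h1
  obtain ⟨k, hk⟩ := h1
  have hdvd := card_map_dvd_of_ker_le (QuotientGroup.mk' (ups p X 1)) (MonoidHom.id X) (ups p X 2)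
    (by rw [QuotientGroup.ker_mk', hU1]; exact bot_le)
  rw [Subgroup.map_id, hk] at hdvd
  obtain ⟨j, -, hj⟩ := (Nat.dvd_prime_pow hpp).mp hdvd
  have hle : ups p X 2 ≤ pCore p X := le_pCore hU2n (IsPGroup.of_card hj)
  have h2 := goodCard_factor (G := X) (p := p) 2
  unfold GoodCard at h2
  rw [if_pos (by decide : Even 2)] at h2
  have htop : ups p X 3 = ⊤ := hpl
  rw [show (2 : ℕ) + 1 = 3 from rfl, htop, ← MonoidHom.range_eq_map,
    MonoidHom.range_eq_top_of_surjective _ (QuotientGroup.mk'_surjective _), Subgroup.card_top,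
    ← Subgroup.index_eq_card] at h2
  exact Nat.Coprime.coprime_dvd_left (Subgroup.index_dvd_of_le hle) h2

/-- a normal `p`-subgroup of index prime to `p` contains every `p`-subgroup -/
theorem le_of_index_coprime (T : Subgroup X) [hT : T.Normal] (hidx : T.index.Coprime p)
    (Q : Subgroup X) (hQ : IsPGroup p Q) : Q ≤ T := by
  have hpp : p.Prime := hp.out
  have h1 : Nat.card ↥(Q.map (QuotientGroup.mk' T)) ∣ Nat.card Q := Subgroup.card_map_dvd _ _
  have h2 : Nat.card ↥(Q.map (QuotientGroup.mk' T)) ∣ T.index := by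
    rw [Subgroup.index_eq_card]
    exact Subgroup.card_subgroup_dvd_card _
  obtain ⟨k, hk⟩ := IsPGroup.iff_card.mp hQ
  rw [hk] at h1
  obtain ⟨j, -, hj⟩ := (Nat.dvd_prime_pow hpp).mp h1
  have h3 : Nat.card ↥(Q.map (QuotientGroup.mk' T)) = 1 := by
    have h4 : (Nat.card ↥(Q.map (QuotientGroup.mk' T))).Coprime p :=
      Nat.Coprime.coprime_dvd_left h2 hidx
    rw [hj] at h4 ⊢
    rcases Nat.eq_zero_or_pos j with h0 | h0
    · rw [h0, pow_zero]
    · exfalso
      have := Nat.Coprime.coprime_dvd_left (dvd_pow_self p h0.ne') h4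
      rw [Nat.coprime_self] at this
      exact hpp.one_lt.ne' this
  intro x hx
  have h5 : QuotientGroup.mk' T x ∈ Q.map (QuotientGroup.mk' T) := Subgroup.mem_map_of_mem _ hx
  rw [Subgroup.card_eq_one.mp h3, Subgroup.mem_bot, QuotientGroup.mk'_apply,
    QuotientGroup.eq_one_iff] at h5
  exact h5

end

end Cfsg.Agent.Lib.Helper21.ZG
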