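import Mathlib
import Cfsg.Agent.Lib.Helper21.ZGA
import Cfsg.Agent.Lib.Lead.Coprime
import Cfsg.Agent.Lib.Helper11.FrobDerived

/-!
# B & G Theorem 3.6: the inductive set-up, subgroups and quotients
-/

set_option autoImplicit false

namespace Cfsg.Agent.Lib.Helper21.ZG

open Cfsg Cfsg.Agent.Lib.Helper21 Cfsg.Agent.Lib.Helper1 Cfsg.Agent.Lib.Lead

universe u

/-- the hypotheses of the flexible form of B & G 3.6 -/
structure Setup {G : Type u} [Group G] (H R R₀ : Subgroup G) : Prop where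
  odd : Odd (Nat.card G)
  hRH : R ≤ Subgroup.normalizer (H : Set G)
  cop : (Nat.card H).Coprime (Nat.card R)
  hR₀ : R₀ ≤ R
  prime : (Nat.card R₀).Prime
  zg : IsZGroup ↥(H ⊓ Subgroup.centralizer (R₀ : Set G))

/-- the induction hypothesis -/
def IH (p : ℕ) (n : ℕ) : Prop :=
  ∀ (G : Type u) [Group G] [Finite G] [Group.IsSolvable G] (H R R₀ : Subgroup G),
    Setup H R R₀ → Nat.card H * Nat.card R < n → PLengthLE p 1 ↥⁅H, R⁆

section

variable {G : Type u} [Group G] [Finite G] [Group.IsSolvable G] {p : ℕ} [hp : Fact p.Prime]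

theorem Setup.sub {H R R₀ : Subgroup G} (hs : Setup H R R₀) (H₁ R₁ : Subgroup G) (hH₁ : H₁ ≤ H)
    (hR₁ : R₁ ≤ R) (hR₀₁ : R₀ ≤ R₁) (hN : R₁ ≤ Subgroup.normalizer (H₁ : Set G)) :
    Setup H₁ R₁ R₀ where
  odd := hs.odd
  hRH := hN
  cop := Nat.Coprime.coprime_dvd_left (Subgroup.card_dvd_of_le hH₁)
    (Nat.Coprime.coprime_dvd_right (Subgroup.card_dvd_of_le hR₁) hs.cop)
  hR₀ := hR₀₁
  prime := hs.prime
  zg := by
    haveI := hs.zg
    exact IsZGroup.of_injective (f := Subgroup.inclusion (inf_le_inf_right _ hH₁))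
      (Subgroup.inclusion_injective _)

theorem IH.sub {n : ℕ} (ih : IH.{u} p n) {H R R₀ : Subgroup G} (hs : Setup H R R₀)
    (H₁ R₁ : Subgroup G) (hH₁ : H₁ ≤ H)
    (hR₁ : R₁ ≤ R) (hR₀₁ : R₀ ≤ R₁) (hN : R₁ ≤ Subgroup.normalizer (H₁ : Set G))
    (hlt : Nat.card H₁ * Nat.card R₁ < n) : PLengthLE p 1 ↥⁅H₁, R₁⁆ :=
  ih G H₁ R₁ R₀ (hs.sub H₁ R₁ hH₁ hR₁ hR₀₁ hN) hlt

theorem subgroupOf_le_normalizer {A B : Subgroup G} (M : Subgroup G)
    (h : A ≤ Subgroup.normalizer (B : Set G)) :
    A.subgroupOf M ≤ Subgroup.normalizer ((B.subgroupOf M : Subgroup ↥M) : Set ↥M) := by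
  intro a ha
  rw [Subgroup.mem_subgroupOf] at ha
  have := h ha
  rw [Subgroup.mem_normalizer_iff] at this ⊢
  intro x
  rw [Subgroup.mem_subgroupOf, Subgroup.mem_subgroupOf]
  exact this x

theorem map_le_normalizer_map {A B : Type*} [Group A] [Group B] (f : A →* B) {K L : Subgroup A}
    (h : K ≤ Subgroup.normalizer (L : Set A)) :
    K.map f ≤ Subgroup.normalizer ((L.map f : Subgroup B) : Set B) :=
  (Subgroup.map_mono h).trans (Subgroup.le_normalizer_map f)

theorem commutator_subgroupOf {A B M : Subgroup G} (hA : A ≤ M) (hB : B ≤ M) :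
    ⁅A.subgroupOf M, B.subgroupOf M⁆ = (⁅A, B⁆).subgroupOf M := by
  apply Subgroup.map_injective M.subtype_injective
  rw [Subgroup.map_commutator, Subgroup.map_subgroupOf_eq_of_le hA,
    Subgroup.map_subgroupOf_eq_of_le hB, Subgroup.map_subgroupOf_eq_of_le]
  exact Subgroup.commutator_le.mpr (fun a ha b hb =>
    M.mul_mem (M.mul_mem (M.mul_mem (hA ha) (hB hb)) (M.inv_mem (hA ha))) (M.inv_mem (hB hb)))

/-- **Lemma Q**: passing to a quotient by an invariant normal subgroup -/
theorem IH.quot {n : ℕ} (ih : IH.{u} p n) {H R R₀ : Subgroup G} (hs : Setup H R R₀)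
    (hn : Nat.card H * Nat.card R = n) (hcomm : ⁅H, R⁆ = H)
    (D' : Subgroup ↥H) [hD'n : D'.Normal] (hD' : D' ≠ ⊥)
    (hRD : R ≤ Subgroup.normalizer ((D'.map H.subtype : Subgroup G) : Set G)) :
    PLengthLE p 1 (↥H ⧸ D') := by
  obtain ⟨D, hD⟩ : ∃ D : Subgroup G, D = D'.map H.subtype := ⟨_, rfl⟩
  rw [← hD] at hRD
  have hDH : D ≤ H := by rw [hD]; exact Subgroup.map_subtype_le D'
  have hmemD : ∀ h : ↥H, (h : G) ∈ D ↔ h ∈ D' := by
    intro h
    rw [hD]
    exact Subgroup.mem_map_iff_mem H.subtype_injective (x := h)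
  have hHD : H ≤ Subgroup.normalizer (D : Set G) := by
    rw [Subgroup.le_normalizer_iff]
    intro h hh d hd
    have h1 : (⟨d, hDH hd⟩ : ↥H) ∈ D' := (hmemD ⟨d, hDH hd⟩).mp hd
    have h2 := hD'n.conj_mem _ h1 ⟨h, hh⟩
    exact (hmemD _).mpr h2
  obtain ⟨M, hM⟩ : ∃ M : Subgroup G, M = Subgroup.normalizer (D : Set G) := ⟨_, rfl⟩
  rw [← hM] at hHD hRD
  have hDM : D ≤ M := hDH.trans hHD
  haveI hDMn : (D.subgroupOf M).Normal := by
    rw [hM]; exact Subgroup.normal_in_normalizer
  obtain ⟨π, hπ⟩ : ∃ π : ↥M →* ↥M ⧸ D.subgroupOf M, π = QuotientGroup.mk' (D.subgroupOf M) :=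
    ⟨_, rfl⟩
  have hπker : π.ker = D.subgroupOf M := by rw [hπ, QuotientGroup.ker_mk']
  have hπs : Function.Surjective π := by rw [hπ]; exact QuotientGroup.mk'_surjective _
  have hcardH : Nat.card ↥(H.subgroupOf M) = Nat.card H :=
    Nat.card_congr (Subgroup.subgroupOfEquivOfLe hHD).toEquiv
  have hcardR : Nat.card ↥(R.subgroupOf M) = Nat.card R :=
    Nat.card_congr (Subgroup.subgroupOfEquivOfLe hRD).toEquiv
  have hR₀M : R₀ ≤ M := hs.hR₀.trans hRD
  have hcardR₀ : Nat.card ↥(R₀.subgroupOf M) = Nat.card R₀ :=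
    Nat.card_congr (Subgroup.subgroupOfEquivOfLe hR₀M).toEquiv
  have hcopR₀ : (Nat.card R₀).Coprime (Nat.card H) :=
    (Nat.Coprime.coprime_dvd_right (Subgroup.card_dvd_of_le hs.hR₀) hs.cop).symm
  have hR₀H : R₀ ≤ Subgroup.normalizer (H : Set G) := hs.hR₀.trans hs.hRH
  -- the new set-up
  have hs' : Setup ((H.subgroupOf M).map π) ((R.subgroupOf M).map π) ((R₀.subgroupOf M).map π) := by
    refine ⟨?_, ?_, ?_, ?_, ?_, ?_⟩
    · exact Odd.of_dvd_nat hs.odd ((Subgroup.card_quotient_dvd_card _).trans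
        (Subgroup.card_subgroup_dvd_card _))
    · exact map_le_normalizer_map π (subgroupOf_le_normalizer M hs.hRH)
    · apply Nat.Coprime.coprime_dvd_left (Subgroup.card_map_dvd _ _)
      apply Nat.Coprime.coprime_dvd_right (Subgroup.card_map_dvd _ _)
      rw [hcardH, hcardR]
      exact hs.cop
    · exact Subgroup.map_mono (Subgroup.comap_mono hs.hR₀)
    · have h1 : Nat.card ↥((R₀.subgroupOf M).map π) ∣ Nat.card R₀ := by
        rw [← hcardR₀]; exact Subgroup.card_map_dvd _ _
      rcases (Nat.Prime.eq_one_or_self_of_dvd hs.prime _ h1) with h2 | h2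
      · exfalso
        have h3 : (R₀.subgroupOf M).map π = ⊥ := Subgroup.card_eq_one.mp h2
        have h4 : R₀ ≤ D := by
          intro x hx
          have h5 : π ⟨x, hR₀M hx⟩ ∈ (R₀.subgroupOf M).map π :=
            Subgroup.mem_map_of_mem _ (Subgroup.mem_subgroupOf.mpr hx)
          rw [h3, Subgroup.mem_bot, ← MonoidHom.mem_ker, hπker, Subgroup.mem_subgroupOf] at h5
          exact h5
        have h6 : R₀ = ⊥ := by
          rw [eq_bot_iff]
          intro x hx
          rw [Subgroup.mem_bot]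
          exact inf_eq_bot_of_coprime' R₀ H hcopR₀ hx (hDH (h4 hx))
        have h7 := hs.prime
        rw [h6, Subgroup.card_bot] at h7
        exact Nat.not_prime_one h7
      · rw [h2]; exact hs.prime
    · have hsolvH : Group.IsSolvable ↥(H.subgroupOf M) := inferInstance
      have key := Cfsg.Agent.Lib.Helper11.FrobDerived.map_fixed_quot (D.subgroupOf M) (H.subgroupOf M)
        (R₀.subgroupOf M) (Subgroup.comap_mono hDH) (subgroupOf_le_normalizer M hR₀H)
        (by rw [hcardR₀, hcardH]; exact hcopR₀) hsolvH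
      rw [← hπ] at key
      rw [← key]
      haveI := hs.zg
      have hZ1 : IsZGroup ↥(H.subgroupOf M ⊓
          Subgroup.centralizer ((R₀.subgroupOf M : Subgroup ↥M) : Set ↥M)) := by
        have hmem : ∀ x : ↥(H.subgroupOf M ⊓
            Subgroup.centralizer ((R₀.subgroupOf M : Subgroup ↥M) : Set ↥M)),
            (M.subtype.comp (Subgroup.subtype _)) x ∈
              H ⊓ Subgroup.centralizer (R₀ : Set G) := by
          intro x
          obtain ⟨h1, h2⟩ := Subgroup.mem_inf.mp x.2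
          refine Subgroup.mem_inf.mpr ⟨Subgroup.mem_subgroupOf.mp h1, ?_⟩
          rw [Subgroup.mem_centralizer_iff]
          intro r hr
          have h3 := (Subgroup.mem_centralizer_iff.mp h2) ⟨r, hR₀M hr⟩
            (Subgroup.mem_subgroupOf.mpr hr)
          exact congrArg Subtype.val h3
        apply IsZGroup.of_injective
          (f := MonoidHom.codRestrict (M.subtype.comp (Subgroup.subtype _))
            (H ⊓ Subgroup.centralizer (R₀ : Set G)) hmem)
        intro x y hxy
        have h1 := congrArg Subtype.val hxy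
        exact Subtype.ext (Subtype.ext h1)
      exact IsZGroup.of_surjective (f := MonoidHom.subgroupMap π _)
        (MonoidHom.subgroupMap_surjective π _)
  -- the order drops
  have hlt : Nat.card ↥((H.subgroupOf M).map π) * Nat.card ↥((R.subgroupOf M).map π) < n := by
    have h1 : Nat.card ↥((R.subgroupOf M).map π) ≤ Nat.card R := by
      rw [← hcardR]; exact Nat.le_of_dvd Nat.card_pos (Subgroup.card_map_dvd _ _)
    have h2 : Nat.card ↥((H.subgroupOf M).map π) < Nat.card H := by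
      have h3 := Subgroup.card_mul_index ((D.subgroupOf M).subgroupOf (H.subgroupOf M))
      have h4 : ((D.subgroupOf M).subgroupOf (H.subgroupOf M)).index =
          Nat.card ↥((H.subgroupOf M).map π) := by
        rw [← Subgroup.relIndex_ker, hπker]; rfl
      have h5 : Nat.card ↥((D.subgroupOf M).subgroupOf (H.subgroupOf M)) = Nat.card D := by
        have hle : D.subgroupOf M ≤ H.subgroupOf M := Subgroup.comap_mono hDH
        rw [Nat.card_congr (Subgroup.subgroupOfEquivOfLe hle).toEquiv,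
          Nat.card_congr (Subgroup.subgroupOfEquivOfLe hDM).toEquiv]
      rw [h4, h5, hcardH] at h3
      have h6 : 1 < Nat.card D := by
        rw [Subgroup.one_lt_card_iff_ne_bot]
        intro h7
        apply hD'
        rw [eq_bot_iff]
        intro x hx
        have := (hmemD x).mpr hx
        rw [h7, Subgroup.mem_bot] at this
        rw [Subgroup.mem_bot]
        exact Subtype.ext this
      have h8 : 0 < Nat.card ↥((H.subgroupOf M).map π) := Nat.card_pos
      nlinarith
    rw [← hn]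
    exact Nat.mul_lt_mul_of_lt_of_le h2 h1 Nat.card_pos
  have h1 := ih (↥M ⧸ D.subgroupOf M) _ _ _ hs' hlt
  have hcomm' : ⁅(H.subgroupOf M).map π, (R.subgroupOf M).map π⁆ = (H.subgroupOf M).map π := by
    rw [← Subgroup.map_commutator, commutator_subgroupOf hHD hRD, hcomm]
  -- the isomorphism
  obtain ⟨φ, hφ⟩ : ∃ φ : ↥H →* ↥((H.subgroupOf M).map π),
      ∀ h : ↥H, ((φ h : ↥((H.subgroupOf M).map π)) : ↥M ⧸ D.subgroupOf M) =
        π ⟨(h : G), hHD h.2⟩ :=
    ⟨MonoidHom.codRestrict (π.comp (Subgroup.inclusion hHD)) _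
      (fun h => Subgroup.mem_map_of_mem _ (Subgroup.mem_subgroupOf.mpr h.2)), fun h => rfl⟩
  have hφs : Function.Surjective φ := by
    rintro ⟨y, m, hm, rfl⟩
    refine ⟨⟨(m : G), Subgroup.mem_subgroupOf.mp hm⟩, ?_⟩
    apply Subtype.ext
    rw [hφ]
  have hφker : D' = φ.ker := by
    ext h
    rw [MonoidHom.mem_ker, ← hmemD]
    constructor
    · intro hh
      apply Subtype.ext
      rw [hφ, Subgroup.coe_one, ← MonoidHom.mem_ker, hπker, Subgroup.mem_subgroupOf]
      exact hh
    · intro hh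
      have := congrArg Subtype.val hh
      rw [hφ, Subgroup.coe_one, ← MonoidHom.mem_ker, hπker, Subgroup.mem_subgroupOf] at this
      exact this
  have e : ↥H ⧸ D' ≃* ↥((H.subgroupOf M).map π) :=
    (QuotientGroup.quotientMulEquivOfEq hφker).trans
      (QuotientGroup.quotientKerEquivOfSurjective φ hφs)
  have h2 : PLengthLE p 1 ↥((H.subgroupOf M).map π) := by
    have h3 : ∀ K : Subgroup (↥M ⧸ D.subgroupOf M),
        K = (H.subgroupOf M).map π → PLengthLE p 1 ↥K → PLengthLE p 1 ↥((H.subgroupOf M).map π) := by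
      intro K hK h; subst hK; exact h
    exact h3 _ hcomm' h1
  exact plength_of_surjective e.symm.toMonoidHom e.symm.surjective h2

end

end Cfsg.Agent.Lib.Helper21.ZG
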