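import Mathlib
import Cfsg.Agent.Lib.Helper21.ZGQ
import Cfsg.Agent.Lib.Helper21.ZGB
import Cfsg.Agent.Lib.Helper24.SelfCentCore
import Cfsg.Agent.S0027

/-!
# B & G Theorem 3.6: the minimal counterexample, first reductions
-/

set_option autoImplicit false

namespace Cfsg.Agent.Lib.Helper21.ZG

open Cfsg Cfsg.Agent.Lib.Helper21 Cfsg.Agent.Lib.Helper1 Cfsg.Agent.Lib.Lead

universe u

/-- a minimal counterexample, after the first reduction -/
structure CE (p : ℕ) {G : Type u} [Group G] (H R R₀ : Subgroup G) : Prop where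
  setup : Setup H R R₀
  ih : IH.{u} p (Nat.card H * Nat.card R)
  comm : ⁅H, R⁆ = H
  not : ¬ PLengthLE p 1 ↥H

/-- a minimal counterexample together with its minimal invariant subgroup -/
structure CEV (p : ℕ) {G : Type u} [Group G] (H R R₀ V : Subgroup G) : Prop
    extends CE p H R R₀ where
  pprime : pPrimeCore p ↥H = ⊥
  hVH : V ≤ H
  hV : V ≠ ⊥
  hHV : H ≤ Subgroup.normalizer (V : Set G)
  hRV : R ≤ Subgroup.normalizer (V : Set G)
  hVc : ∀ x ∈ V, ∀ y ∈ V, x * y = y * x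
  hVe : ∀ x ∈ V, x ^ p = 1
  hVmin : ∀ W : Subgroup G, W ≤ H → W ≠ ⊥ → H ≤ Subgroup.normalizer (W : Set G) →
    R ≤ Subgroup.normalizer (W : Set G) → V ≤ W

section

variable {G : Type u} [Group G] [Finite G] [Group.IsSolvable G] {p : ℕ} [hp : Fact p.Prime]

theorem plength_congr {K L : Subgroup G} (h : K = L) (hK : PLengthLE p 1 ↥K) : PLengthLE p 1 ↥L := by
  subst h; exact hK

/-- Step A -/
theorem step_A {H R R₀ : Subgroup G} (hs : Setup H R R₀) (ih : IH.{u} p (Nat.card H * Nat.card R))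
    (hnot : ¬ PLengthLE p 1 ↥⁅H, R⁆) : CE p H R R₀ := by
  have hKH : ⁅H, R⁆ ≤ H := commutator_le_left_of_le_normalizer H R hs.hRH
  have hKK : ⁅⁅H, R⁆, R⁆ = ⁅H, R⁆ :=
    Cfsg.Agent.S0027.result R H hs.hRH hs.cop.symm (Or.inl inferInstance)
  by_cases hK : ⁅H, R⁆ = H
  · exact ⟨hs, ih, hK, fun h => hnot (plength_congr hK.symm h)⟩
  · exfalso
    have hlt : ⁅H, R⁆ < H := lt_of_le_of_ne hKH hK
    have h1 := ih.sub hs ⁅H, R⁆ R hKH le_rfl hs.hR₀ (right_le_normalizer_commutator H R hs.hRH)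
      (Nat.mul_lt_mul_of_lt_of_le (card_lt_card_of_lt hlt) le_rfl Nat.card_pos)
    exact hnot (plength_congr hKK h1)

variable {H R R₀ : Subgroup G}

theorem CE.quot (c : CE p H R R₀) (D' : Subgroup ↥H) [hD'n : D'.Normal] (hD' : D' ≠ ⊥)
    (hRD : R ≤ Subgroup.normalizer ((D'.map H.subtype : Subgroup G) : Set G)) :
    PLengthLE p 1 (↥H ⧸ D') :=
  c.ih.quot c.setup rfl c.comm D' hD' hRD

theorem CE.quot' (c : CE p H R R₀) (W : Subgroup G) (hWH : W ≤ H) (hW : W ≠ ⊥)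
    [hn : (W.subgroupOf H).Normal]
    (hRW : R ≤ Subgroup.normalizer (W : Set G)) :
    PLengthLE p 1 (↥H ⧸ W.subgroupOf H) := by
  apply c.quot
  · intro h
    apply hW
    rw [eq_bot_iff]
    intro x hx
    have h1 : (⟨x, hWH hx⟩ : ↥H) ∈ W.subgroupOf H := Subgroup.mem_subgroupOf.mpr hx
    rw [h, Subgroup.mem_bot] at h1
    rw [Subgroup.mem_bot]
    exact congrArg Subtype.val h1
  · rw [Subgroup.map_subgroupOf_eq_of_le hWH]
    exact hRW

theorem CE.sub (c : CE p H R R₀) (H₁ R₁ : Subgroup G) (hH₁ : H₁ ≤ H)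
    (hR₁ : R₁ ≤ R) (hR₀₁ : R₀ ≤ R₁) (hN : R₁ ≤ Subgroup.normalizer (H₁ : Set G))
    (hlt : Nat.card H₁ * Nat.card R₁ < Nat.card H * Nat.card R) : PLengthLE p 1 ↥⁅H₁, R₁⁆ :=
  c.ih.sub c.setup H₁ R₁ hH₁ hR₁ hR₀₁ hN hlt

theorem CE.H_ne_bot (c : CE p H R R₀) : H ≠ ⊥ := by
  intro h
  apply c.not
  apply plength_mono (Nat.zero_le 1)
  apply plength_zero_of_coprime
  rw [h, Subgroup.card_bot]
  exact Nat.coprime_one_left p

/-- Step B -/
theorem CE.pprime (c : CE p H R R₀) : pPrimeCore p ↥H = ⊥ := by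
  by_contra hne
  haveI := Cfsg.Agent.Lib.Helper24.pPrimeCore_characteristic (G := ↥H) p
  have h1 := c.quot (pPrimeCore p ↥H) hne
    (le_normalizer_map_characteristic H R c.setup.hRH (pPrimeCore p ↥H))
  have h0 : PLengthLE p 0 ↥(pPrimeCore p ↥H) :=
    plength_zero_of_coprime (pPrimeCore_card_coprime p)
  exact c.not (plength_add (pPrimeCore p ↥H) h0 h1)

/-- a normal subgroup of `H` of order prime to `p` is trivial -/
theorem CE.eq_bot_of_coprime (c : CE p H R R₀) (W : Subgroup G) (hWH : W ≤ H)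
    (hHW : H ≤ Subgroup.normalizer (W : Set G)) (hcop : (Nat.card W).Coprime p) : W = ⊥ := by
  have hn : (W.subgroupOf H).Normal := Subgroup.normal_subgroupOf_of_le_normalizer hHW
  have h1 : W.subgroupOf H ≤ pPrimeCore p ↥H := by
    apply le_pPrimeCore hn
    rw [Nat.card_congr (Subgroup.subgroupOfEquivOfLe hWH).toEquiv]
    exact hcop
  rw [c.pprime] at h1
  rw [eq_bot_iff]
  intro x hx
  have h2 : (⟨x, hWH hx⟩ : ↥H) ∈ W.subgroupOf H := Subgroup.mem_subgroupOf.mpr hx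
  have h3 := h1 h2
  rw [Subgroup.mem_bot] at h3 ⊢
  exact congrArg Subtype.val h3

/-- Step C -/
theorem CE.exists_V (c : CE p H R R₀) : ∃ V : Subgroup G, CEV p H R R₀ V := by
  have hpp : p.Prime := hp.out
  -- the invariant subgroups
  set 𝒱 : Set (Subgroup G) := {W | W ≤ H ∧ W ≠ ⊥ ∧ H ≤ Subgroup.normalizer (W : Set G) ∧
    R ≤ Subgroup.normalizer (W : Set G)} with h𝒱
  have hfin : 𝒱.Finite := Set.toFinite _
  have hne : 𝒱.Nonempty := ⟨H, le_rfl, c.H_ne_bot, Subgroup.le_normalizer, c.setup.hRH⟩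
  obtain ⟨V, hVmem, hVmin0⟩ := hfin.exists_minimal hne
  obtain ⟨hVH, hV, hHV, hRV⟩ := hVmem
  have hmin : ∀ W : Subgroup G, W ≤ V → W ≠ ⊥ → H ≤ Subgroup.normalizer (W : Set G) →
      R ≤ Subgroup.normalizer (W : Set G) → V ≤ W := by
    intro W hWV hW hHW hRW
    exact hVmin0 ⟨hWV.trans hVH, hW, hHW, hRW⟩ hWV
  -- `V` is abelian
  have hVV : ⁅V, V⁆ = ⊥ := by
    by_contra hne'
    have h1 : ⁅V, V⁆ ≤ V := commutator_le_left_of_le_normalizer V V Subgroup.le_normalizer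
    have h2 := hmin ⁅V, V⁆ h1 hne' (le_normalizer_commutator H V V hHV hHV)
      (le_normalizer_commutator R V V hRV hRV)
    exact commutator_self_ne V hV (le_antisymm h1 h2)
  have hVc := comm_of_commutator_eq_bot hVV
  -- `V` has exponent `p`
  have hVe : ∀ x ∈ V, x ^ p = 1 := by
    have hΩ : omegaSub V hVc p ≠ ⊥ := by
      intro hΩ
      apply hV
      apply c.eq_bot_of_coprime V hVH hHV
      rw [Nat.coprime_comm, Nat.Prime.coprime_iff_not_dvd hpp]
      intro hdvd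
      obtain ⟨x, hx⟩ := exists_prime_orderOf_dvd_card' (G := ↥V) p hdvd
      have h1 : (x : G) ∈ omegaSub V hVc p := by
        refine ⟨x.2, ?_⟩
        rw [← Subgroup.coe_pow, ← hx, pow_orderOf_eq_one, Subgroup.coe_one]
      rw [hΩ, Subgroup.mem_bot] at h1
      have h2 : x = 1 := Subtype.ext h1
      rw [h2, orderOf_one] at hx
      exact hpp.one_lt.ne hx
    have h2 := hmin (omegaSub V hVc p) (omegaSub_le V hVc p) hΩ
      (le_normalizer_omegaSub hVc p hHV) (le_normalizer_omegaSub hVc p hRV)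
    intro x hx
    exact (h2 hx).2
  -- uniqueness
  have hVmin : ∀ W : Subgroup G, W ≤ H → W ≠ ⊥ → H ≤ Subgroup.normalizer (W : Set G) →
      R ≤ Subgroup.normalizer (W : Set G) → V ≤ W := by
    intro W hWH hW hHW hRW
    by_cases hVW : V ⊓ W = ⊥
    · exfalso
      haveI hn1 : (V.subgroupOf H).Normal := Subgroup.normal_subgroupOf_of_le_normalizer hHV
      haveI hn2 : (W.subgroupOf H).Normal := Subgroup.normal_subgroupOf_of_le_normalizer hHW
      have h1 := c.quot' V hVH hV hRV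
      have h2 := c.quot' W hWH hW hRW
      apply c.not
      apply plength_of_inf_eq_bot (V.subgroupOf H) (W.subgroupOf H) _ h1 h2
      rw [eq_bot_iff]
      intro x hx
      obtain ⟨hx1, hx2⟩ := Subgroup.mem_inf.mp hx
      have h3 : (x : G) ∈ V ⊓ W :=
        Subgroup.mem_inf.mpr ⟨Subgroup.mem_subgroupOf.mp hx1, Subgroup.mem_subgroupOf.mp hx2⟩
      rw [hVW, Subgroup.mem_bot] at h3
      rw [Subgroup.mem_bot]
      exact Subtype.ext h3
    · have h1 := hmin (V ⊓ W) inf_le_left hVW (le_normalizer_inf hHV hHW)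
        (le_normalizer_inf hRV hRW)
      exact h1.trans inf_le_right
  exact ⟨V, ⟨c, c.pprime, hVH, hV, hHV, hRV, hVc, hVe, hVmin⟩⟩

end

end Cfsg.Agent.Lib.Helper21.ZG
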