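import Mathlib
import Cfsg.Agent.Lib.Helper21.ZGC
import Cfsg.Agent.Lib.Helper11.GlaubermanFix
import Cfsg.Agent.Lib.Helper11.FrobFormula

/-!
# B & G Theorem 3.6: the invariant complement (step D)
-/

set_option autoImplicit false

namespace Cfsg.Agent.Lib.Helper21.ZG

open Cfsg Cfsg.Agent.Lib.Helper21 Cfsg.Agent.Lib.Helper1 Cfsg.Agent.Lib.Lead
  Cfsg.Agent.Lib.Helper11
open scoped Pointwise

universe u

section generic

variable {G : Type*} [Group G]

theorem smul_eq_conjSub (k : G) (X : Subgroup G) : MulAut.conj k • X = conjSub k X := by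
  ext x
  rw [Subgroup.mem_pointwise_smul_iff_inv_smul_mem, mem_conjSub]
  simp only [MulAut.smul_def, MulAut.conj_inv_apply]

/-- an invariant complement to a normal Hall subgroup -/
theorem exists_invariant_complement [Finite G] [Group.IsSolvable G] (V L R : Subgroup G)
    (hVL : V ≤ L) (hLV : L ≤ Subgroup.normalizer (V : Set G))
    (hRV : R ≤ Subgroup.normalizer (V : Set G)) (hRL : R ≤ Subgroup.normalizer (L : Set G))
    (hcop : (Nat.card V).Coprime (V.relIndex L)) (hcopR : (Nat.card R).Coprime (Nat.card V)) :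
    ∃ D : Subgroup G, D ≤ L ∧ V ⊓ D = ⊥ ∧ V ⊔ D = L ∧ R ≤ Subgroup.normalizer (D : Set G) ∧
      Nat.card D = V.relIndex L := by
  haveI hn : (V.subgroupOf L).Normal := Subgroup.normal_subgroupOf_of_le_normalizer hLV
  have hcardN : Nat.card ↥(V.subgroupOf L) = Nat.card V :=
    Nat.card_congr (Subgroup.subgroupOfEquivOfLe hVL).toEquiv
  have hN : (Nat.card ↥(V.subgroupOf L)).Coprime (V.subgroupOf L).index := by
    rw [hcardN]; exact hcop
  obtain ⟨D₀', hD₀'⟩ := Subgroup.exists_right_complement'_of_coprime hN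
  obtain ⟨D₀, hD₀⟩ : ∃ D₀ : Subgroup G, D₀ = D₀'.map L.subtype := ⟨_, rfl⟩
  have hD₀L : D₀ ≤ L := by rw [hD₀]; exact Subgroup.map_subtype_le D₀'
  have hcardD₀ : Nat.card D₀ = V.relIndex L := by
    rw [hD₀, Subgroup.card_map_of_injective L.subtype_injective, ← hD₀'.symm.index_eq_card]
    rfl
  have hcopD₀ : (Nat.card D₀).Coprime (Nat.card V) := by rw [hcardD₀]; exact hcop.symm
  have hD₀V : D₀ ≤ Subgroup.normalizer (V : Set G) := hD₀L.trans hLV
  have hsup₀ : D₀ ⊔ V = L := by
    have h1 := hD₀'.sup_eq_top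
    have h2 := congrArg (Subgroup.map L.subtype) h1
    rw [Subgroup.map_sup, ← hD₀, Subgroup.map_subgroupOf_eq_of_le hVL, ← MonoidHom.range_eq_map,
      Subgroup.range_subtype] at h2
    rw [sup_comm]; exact h2
  have horb : ∀ a ∈ R, ∃ k ∈ V, conjSub a D₀ = conjSub k D₀ := by
    intro a ha
    have hB : conjSub a D₀ ≤ D₀ ⊔ V := by
      rw [hsup₀]
      calc conjSub a D₀ ≤ conjSub a L := conjSub_mono hD₀L
        _ = L := conjSub_eq_self_of_mem_normalizer (hRL ha)
    obtain ⟨k, hk, hkB⟩ := hall_conj D₀ V hD₀V hcopD₀ (Or.inl inferInstance) (conjSub a D₀) hB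
      (card_conjSub a D₀)
    exact ⟨k, hk, by rw [← hkB, smul_eq_conjSub]⟩
  obtain ⟨k, hk, hRD⟩ := exists_invariant_conj R V hRV hcopR (Or.inl inferInstance) D₀ horb
  have hDL : conjSub k D₀ ≤ L := by
    calc conjSub k D₀ ≤ conjSub k L := conjSub_mono hD₀L
      _ = L := conjSub_eq_self_of_mem_normalizer (Subgroup.le_normalizer (hVL hk))
  have hcardD : Nat.card ↥(conjSub k D₀) = V.relIndex L := by rw [card_conjSub, hcardD₀]
  have hinf : V ⊓ conjSub k D₀ = ⊥ := by
    rw [eq_bot_iff]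
    intro x hx
    rw [Subgroup.mem_bot]
    exact inf_eq_bot_of_coprime' V (conjSub k D₀) (by rw [hcardD]; exact hcop)
      (Subgroup.mem_inf.mp hx).1 (Subgroup.mem_inf.mp hx).2
  refine ⟨conjSub k D₀, hDL, hinf, ?_, hRD, hcardD⟩
  apply Subgroup.eq_of_le_of_card_ge (sup_le hVL hDL)
  rw [sup_comm, FrobFormula.card_sup_split (conjSub k D₀) V (hDL.trans hLV)
    (by rw [inf_comm]; exact hinf), hcardD, ← hcardN, mul_comm]
  exact (Subgroup.card_mul_index (V.subgroupOf L)).ge

/-- the Frattini argument for a complement of a normal Hall subgroup -/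
theorem frattini_complement [Finite G] [Group.IsSolvable G] (V D H : Subgroup G)
    (hDV : D ≤ Subgroup.normalizer (V : Set G)) (hcop : (Nat.card D).Coprime (Nat.card V))
    (hVH : V ≤ H) (hHL : H ≤ Subgroup.normalizer ((V ⊔ D : Subgroup G) : Set G)) :
    H ≤ V ⊔ (H ⊓ Subgroup.normalizer (D : Set G)) := by
  intro h hh
  have hB : conjSub h D ≤ D ⊔ V := by
    rw [sup_comm]
    calc conjSub h D ≤ conjSub h (V ⊔ D) := conjSub_mono le_sup_right
      _ = V ⊔ D := conjSub_eq_self_of_mem_normalizer (hHL hh)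
  obtain ⟨k, hk, hkB⟩ := hall_conj D V hDV hcop (Or.inl inferInstance) (conjSub h D) hB
    (card_conjSub h D)
  rw [smul_eq_conjSub] at hkB
  have h1 : k⁻¹ * h ∈ Subgroup.normalizer (D : Set G) := by
    rw [mem_normalizer_iff_conjSub, conjSub_mul, ← hkB, conjSub_inv_conjSub]
  have h2 : k⁻¹ * h ∈ H := H.mul_mem (H.inv_mem (hVH hk)) hh
  have e : h = k * (k⁻¹ * h) := by group
  rw [e]
  exact Subgroup.mul_mem _ (Subgroup.mem_sup_left hk)
    (Subgroup.mem_sup_right (Subgroup.mem_inf.mpr ⟨h2, h1⟩))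

/-- the preimage of a characteristic subgroup of a quotient is invariant under automorphisms
preserving the kernel -/
theorem comap_char_invariant {X : Type*} [Group X] (N : Subgroup X) [hN : N.Normal]
    (C : Subgroup (X ⧸ N)) [hC : C.Characteristic] (α : X ≃* X)
    (hα : N.map α.toMonoidHom = N) {x : X} (hx : x ∈ C.comap (QuotientGroup.mk' N)) :
    α x ∈ C.comap (QuotientGroup.mk' N) := by
  rw [Subgroup.mem_comap] at hx ⊢
  have h1 := hC.fixed (QuotientGroup.congr N N α hα)
  rw [← h1, Subgroup.mem_comap] at hx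
  have h2 : (QuotientGroup.congr N N α hα) (QuotientGroup.mk' N x) = QuotientGroup.mk' N (α x) :=
    QuotientGroup.congr_mk N N α hα x
  rw [← h2]
  exact hx

end generic

/-- a minimal counterexample together with the invariant complement -/
structure CEX (p : ℕ) {G : Type u} [Group G] (H R R₀ V X : Subgroup G) : Prop
    extends CEV p H R R₀ V where
  hXH : X ≤ H
  hRX : R ≤ Subgroup.normalizer (X : Set G)
  hsup : V ⊔ X = H
  hinf : V ⊓ X = ⊥
  hXpl : PLengthLE p 1 ↥X
  hXne : pPrimeCore p ↥X ≠ ⊥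

section

variable {G : Type u} [Group G] [Finite G] [Group.IsSolvable G] {p : ℕ} [hp : Fact p.Prime]
variable {H R R₀ V : Subgroup G}

theorem CEV.isPGroup_V (c : CEV p H R R₀ V) : IsPGroup p V := isPGroup_of_exp c.hVe

theorem CEV.cop_RV (c : CEV p H R R₀ V) : (Nat.card R).Coprime (Nat.card V) :=
  (Nat.Coprime.coprime_dvd_left (Subgroup.card_dvd_of_le c.hVH) c.setup.cop).symm

/-- Step D -/
theorem CEV.exists_X (c : CEV p H R R₀ V) : ∃ X : Subgroup G, CEX p H R R₀ V X := by
  have hpp : p.Prime := hp.out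
  haveI hVn : (V.subgroupOf H).Normal := Subgroup.normal_subgroupOf_of_le_normalizer c.hHV
  have hVp : IsPGroup p V := c.isPGroup_V
  have hquot : PLengthLE p 1 (↥H ⧸ V.subgroupOf H) := c.toCE.quot' V c.hVH c.hV c.hRV
  obtain ⟨π, hπ⟩ : ∃ π : ↥H →* ↥H ⧸ V.subgroupOf H, π = QuotientGroup.mk' _ := ⟨_, rfl⟩
  have hπs : Function.Surjective π := by rw [hπ]; exact QuotientGroup.mk'_surjective _
  have hπker : π.ker = V.subgroupOf H := by rw [hπ, QuotientGroup.ker_mk']
  have hkerp : IsPGroup p π.ker := by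
    rw [hπker]
    exact hVp.of_equiv (Subgroup.subgroupOfEquivOfLe c.hVH).symm
  -- the subgroup `L`
  obtain ⟨LH, hLH⟩ : ∃ LH : Subgroup ↥H,
      LH = (pPrimeCore p (↥H ⧸ V.subgroupOf H)).comap π := ⟨_, rfl⟩
  obtain ⟨L, hL⟩ : ∃ L : Subgroup G, L = LH.map H.subtype := ⟨_, rfl⟩
  have hmemL : ∀ h : ↥H, (h : G) ∈ L ↔ h ∈ LH := by
    intro h; rw [hL]; exact Subgroup.mem_map_iff_mem H.subtype_injective (x := h)
  have hLle : L ≤ H := by rw [hL]; exact Subgroup.map_subtype_le LH
  have hVLH : V.subgroupOf H ≤ LH := by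
    intro x hx
    rw [hLH, Subgroup.mem_comap]
    have h1 : π x = 1 := by rw [← MonoidHom.mem_ker, hπker]; exact hx
    rw [h1]
    exact Subgroup.one_mem _
  have hVL : V ≤ L := by
    intro v hv
    exact (hmemL ⟨v, c.hVH hv⟩).mpr (hVLH (Subgroup.mem_subgroupOf.mpr hv))
  haveI hLHn : LH.Normal := by rw [hLH]; exact Subgroup.Normal.comap inferInstance π
  have hHL : H ≤ Subgroup.normalizer (L : Set G) := by
    rw [Subgroup.le_normalizer_iff]
    intro h hh l hl
    have h1 : (⟨l, hLle hl⟩ : ↥H) ∈ LH := (hmemL ⟨l, hLle hl⟩).mp hl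
    exact (hmemL _).mpr (hLHn.conj_mem _ h1 ⟨h, hh⟩)
  have hRL : R ≤ Subgroup.normalizer (L : Set G) := by
    rw [Subgroup.le_normalizer_iff]
    intro r hr l hl
    have h1 : (⟨l, hLle hl⟩ : ↥H) ∈ LH := (hmemL ⟨l, hLle hl⟩).mp hl
    haveI := Cfsg.Agent.Lib.Helper24.pPrimeCore_characteristic (G := ↥H ⧸ V.subgroupOf H) p
    have hα : (V.subgroupOf H).map (conjAut H r (c.setup.hRH hr)).toMonoidHom = V.subgroupOf H := by
      apply le_antisymm
      · rintro _ ⟨x, hx, rfl⟩
        have hx' : (x : G) ∈ V := Subgroup.mem_subgroupOf.mp hx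
        apply Subgroup.mem_subgroupOf.mpr
        exact (Subgroup.le_normalizer_iff.mp c.hRV) r hr _ hx'
      · intro x hx
        have hx' : (x : G) ∈ V := Subgroup.mem_subgroupOf.mp hx
        refine ⟨(conjAut H r (c.setup.hRH hr)).symm x, ?_, by simp⟩
        apply Subgroup.mem_subgroupOf.mpr
        have h2 := (Subgroup.le_normalizer_iff.mp c.hRV) r⁻¹ (R.inv_mem hr) _ hx'
        rw [inv_inv] at h2
        exact h2
    have h2 := comap_char_invariant (V.subgroupOf H) (pPrimeCore p (↥H ⧸ V.subgroupOf H))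
      (conjAut H r (c.setup.hRH hr)) hα (x := ⟨l, hLle hl⟩) (by rw [← hπ, ← hLH]; exact h1)
    rw [← hπ, ← hLH] at h2
    exact (hmemL _).mpr h2
  have hrel : V.relIndex L = Nat.card ↥(pPrimeCore p (↥H ⧸ V.subgroupOf H)) := by
    have h1 : V.relIndex L = (V.subgroupOf H).relIndex LH := by
      rw [hL, ← Subgroup.relIndex_map_map_of_injective (V.subgroupOf H) LH H.subtype_injective,
        Subgroup.map_subgroupOf_eq_of_le c.hVH]
    have h2 := Subgroup.relIndex_ker π (K := LH)
    rw [hπker] at h2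
    rw [h1, h2, hLH, Subgroup.map_comap_eq_self_of_surjective hπs]
  have hrelcop : (V.relIndex L).Coprime p := by rw [hrel]; exact pPrimeCore_card_coprime p
  have hcopVL : (Nat.card V).Coprime (V.relIndex L) := by
    obtain ⟨k, hk⟩ := IsPGroup.iff_card.mp hVp
    rw [hk]; exact Nat.Coprime.pow_left k hrelcop.symm
  -- `L ≠ V`
  have hLV : L ≠ V := by
    intro hLV
    have hP : pPrimeCore p (↥H ⧸ V.subgroupOf H) = ⊥ := by
      rw [← Subgroup.card_eq_one, ← hrel, hLV, Subgroup.relIndex_self]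
    have hidx := pCore_index_coprime hquot hP
    have hTp : IsPGroup p ((pCore p (↥H ⧸ V.subgroupOf H)).comap π) :=
      IsPGroup.comap_of_ker_isPGroup (pCore_isPGroup p) π hkerp
    haveI : ((pCore p (↥H ⧸ V.subgroupOf H)).comap π).Normal :=
      Subgroup.Normal.comap inferInstance π
    apply c.not
    apply plength_of_normal_pgroup _ hTp
    rw [Subgroup.index_comap_of_surjective _ hπs]
    exact hidx
  -- the complement
  obtain ⟨D, hDL, hVD, hVDsup, hRD, hDcard⟩ := exists_invariant_complement V L R hVL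
    (hLle.trans c.hHV) c.hRV hRL hcopVL c.cop_RV
  have hDcop : (Nat.card D).Coprime p := by rw [hDcard]; exact hrelcop
  have hDH : D ≤ H := hDL.trans hLle
  have hDne : D ≠ ⊥ := by
    intro h
    apply hLV
    rw [← hVDsup, h, sup_bot_eq]
  obtain ⟨X, hX⟩ : ∃ X : Subgroup G, X = H ⊓ Subgroup.normalizer (D : Set G) := ⟨_, rfl⟩
  have hXH : X ≤ H := by rw [hX]; exact inf_le_left
  have hXD : X ≤ Subgroup.normalizer (D : Set G) := by rw [hX]; exact inf_le_right
  have hRX : R ≤ Subgroup.normalizer (X : Set G) := by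
    rw [hX]; exact le_normalizer_inf c.setup.hRH (le_normalizer_normalizer hRD)
  have hsup : V ⊔ X = H := by
    apply le_antisymm (sup_le c.hVH hXH)
    rw [hX]
    apply frattini_complement V D H (hDH.trans c.hHV) _ c.hVH (by rw [hVDsup]; exact hHL)
    rw [hDcard]; exact hcopVL.symm
  have hXV : X ≤ Subgroup.normalizer (V : Set G) := hXH.trans c.hHV
  have hinf : V ⊓ X = ⊥ := by
    -- `V ⊓ X` centralises `D`
    have h1 : V ⊓ X ≤ V ⊓ Subgroup.centralizer (D : Set G) := by
      apply le_inf inf_le_left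
      have h2 : V ⊓ X ≤ Subgroup.normalizer (D : Set G) := inf_le_right.trans hXD
      have h3 : D ≤ Subgroup.normalizer ((V ⊓ X : Subgroup G) : Set G) :=
        le_normalizer_inf (hDH.trans c.hHV) ((le_inf hDH Subgroup.le_normalizer).trans
          (by rw [hX]; exact Subgroup.le_normalizer))
      apply le_centralizer_of_inf_eq_bot h2 h3
      rw [eq_bot_iff, ← hVD]
      exact inf_le_inf_right _ inf_le_left
    by_contra hne
    have hCne : V ⊓ Subgroup.centralizer (D : Set G) ≠ ⊥ := by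
      intro h; apply hne; rw [eq_bot_iff, ← h]; exact h1
    -- the centraliser is invariant
    have hHC : H ≤ Subgroup.normalizer
        ((V ⊓ Subgroup.centralizer (D : Set G) : Subgroup G) : Set G) := by
      rw [← hsup]
      apply sup_le
      · intro v hv
        rw [Subgroup.mem_normalizer_iff]
        intro x
        constructor
        · intro hx
          have : v * x * v⁻¹ = x := by
            rw [c.hVc v hv x (Subgroup.mem_inf.mp hx).1]; group
          rw [this]; exact hx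
        · intro hx
          have h5 : v * x * v⁻¹ ∈ V := (Subgroup.mem_inf.mp hx).1
          have h6 : x ∈ V := by
            have e : x = v⁻¹ * (v * x * v⁻¹) * v := by group
            rw [e]; exact V.mul_mem (V.mul_mem (V.inv_mem hv) h5) hv
          have : v * x * v⁻¹ = x := by
            rw [c.hVc v hv x h6]; group
          rw [← this]; exact hx
      · exact le_normalizer_inf hXV (le_normalizer_centralizer hXD)
    have hRC : R ≤ Subgroup.normalizer
        ((V ⊓ Subgroup.centralizer (D : Set G) : Subgroup G) : Set G) :=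
      le_normalizer_inf c.hRV (le_normalizer_centralizer hRD)
    have hVC := c.hVmin _ (inf_le_left.trans c.hVH) hCne hHC hRC
    -- so `V` centralises `D`, and `D` is normal in `H`
    have hVcD : V ≤ Subgroup.centralizer (D : Set G) := hVC.trans inf_le_right
    have hHD : H ≤ Subgroup.normalizer (D : Set G) := by
      rw [← hsup]
      exact sup_le (hVcD.trans (Subgroup.centralizer_le_normalizer _)) hXD
    exact hDne (c.toCE.eq_bot_of_coprime D hDH hHD hDcop)
  -- `X ≅ H / V`
  obtain ⟨φ, hφ⟩ : ∃ φ : ↥X →* ↥H ⧸ V.subgroupOf H, ∀ x : ↥X, φ x = π ⟨(x : G), hXH x.2⟩ :=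
    ⟨π.comp (Subgroup.inclusion hXH), fun x => rfl⟩
  have hφinj : Function.Injective φ := by
    rw [injective_iff_map_eq_one]
    intro x hx
    rw [hφ, ← MonoidHom.mem_ker, hπker, Subgroup.mem_subgroupOf] at hx
    have h1 : (x : G) ∈ V ⊓ X := Subgroup.mem_inf.mpr ⟨hx, x.2⟩
    rw [hinf, Subgroup.mem_bot] at h1
    exact Subtype.ext h1
  have hφsurj : Function.Surjective φ := by
    intro y
    obtain ⟨h, rfl⟩ := hπs y
    have hh : (h : G) ∈ V ⊔ X := by rw [hsup]; exact h.2
    obtain ⟨v, hv, x, hx, hvx⟩ := exists_mul_of_mem_sup hXV hh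
    refine ⟨⟨x, hx⟩, ?_⟩
    rw [hφ]
    have e : h = ⟨v, c.hVH hv⟩ * ⟨x, hXH hx⟩ := Subtype.ext hvx
    rw [e, map_mul]
    have h1 : π ⟨v, c.hVH hv⟩ = 1 := by
      rw [← MonoidHom.mem_ker, hπker, Subgroup.mem_subgroupOf]; exact hv
    rw [h1, one_mul]
  have e : ↥X ≃* ↥H ⧸ V.subgroupOf H := MulEquiv.ofBijective φ ⟨hφinj, hφsurj⟩
  have hXpl : PLengthLE p 1 ↥X :=
    plength_of_surjective e.symm.toMonoidHom e.symm.surjective hquot
  -- `O_{p'}(X) ≠ 1`
  have hXne : pPrimeCore p ↥X ≠ ⊥ := by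
    intro h
    have hDX : D ≤ X := by rw [hX]; exact le_inf hDH Subgroup.le_normalizer
    have hn : (D.subgroupOf X).Normal := Subgroup.normal_subgroupOf_of_le_normalizer hXD
    have h1 : D.subgroupOf X ≤ pPrimeCore p ↥X := by
      apply le_pPrimeCore hn
      rw [Nat.card_congr (Subgroup.subgroupOfEquivOfLe hDX).toEquiv]
      exact hDcop
    rw [h] at h1
    apply hDne
    rw [eq_bot_iff]
    intro x hx
    have h2 : (⟨x, hDX hx⟩ : ↥X) ∈ D.subgroupOf X := Subgroup.mem_subgroupOf.mpr hx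
    have h3 := h1 h2
    rw [Subgroup.mem_bot] at h3 ⊢
    exact congrArg Subtype.val h3
  exact ⟨X, ⟨c, hXH, hRX, hsup, hinf, hXpl, hXne⟩⟩

end

end Cfsg.Agent.Lib.Helper21.ZG
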