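import Mathlib
import Cfsg.Agent.Lib.Helper21.ZGD
import Cfsg.Agent.Lib.helper17.PAct
import Cfsg.Agent.Lib.Helper18.PCore
import Cfsg.Agent.Lib.Helper1.CFitting
import Cfsg.Agent.S0023

/-!
# B & G Theorem 3.6: structure of the complement (step E and the key lemma)
-/

set_option autoImplicit false

namespace Cfsg.Agent.Lib.Helper21.ZG

open Cfsg Cfsg.Agent.Lib.Helper21 Cfsg.Agent.Lib.Helper1 Cfsg.Agent.Lib.Lead
  Cfsg.Agent.Lib.Helper11
open scoped commutatorElement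

universe u

section

variable {G : Type u} [Group G] [Finite G] [Group.IsSolvable G] {p : ℕ} [hp : Fact p.Prime]
variable {H R R₀ V X : Subgroup G}

theorem CEX.hXV (c : CEX p H R R₀ V X) : X ≤ Subgroup.normalizer (V : Set G) :=
  c.hXH.trans c.hHV

theorem CEX.card_H (c : CEX p H R R₀ V X) : Nat.card H = Nat.card V * Nat.card X := by
  rw [← c.hsup, sup_comm, FrobFormula.card_sup_split X V c.hXV (by rw [inf_comm]; exact c.hinf),
    mul_comm]

/-- a subgroup of `V` is normalised by `V` -/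
theorem CEX.V_le_normalizer (c : CEX p H R R₀ V X) {W : Subgroup G} (hW : W ≤ V) :
    V ≤ Subgroup.normalizer (W : Set G) := by
  rw [Subgroup.le_normalizer_iff]
  intro v hv w hw
  have : v * w * v⁻¹ = w := by rw [c.hVc v hv w (hW hw)]; group
  rw [this]; exact hw

/-- a subgroup centralised by `V` is normalised by `V` -/
theorem CEX.V_le_normalizer' (c : CEX p H R R₀ V X) {W : Subgroup G}
    (hW : W ≤ Subgroup.centralizer (V : Set G)) :
    V ≤ Subgroup.normalizer (W : Set G) := by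
  rw [Subgroup.le_normalizer_iff]
  intro v hv w hw
  have h1 := (Subgroup.mem_centralizer_iff.mp (hW hw)) v hv
  have : v * w * v⁻¹ = w := by rw [h1]; group
  rw [this]; exact hw

theorem CEX.le_of_invariant (c : CEX p H R R₀ V X) (W : Subgroup G) (hWH : W ≤ H) (hW : W ≠ ⊥)
    (hV : V ≤ Subgroup.normalizer (W : Set G)) (hX : X ≤ Subgroup.normalizer (W : Set G))
    (hR : R ≤ Subgroup.normalizer (W : Set G)) : V ≤ W :=
  c.hVmin W hWH hW (by rw [← c.hsup]; exact sup_le hV hX) hR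

theorem CEX.eq_bot_of_invariant (c : CEX p H R R₀ V X) (W : Subgroup G) (hWX : W ≤ X)
    (hV : V ≤ Subgroup.normalizer (W : Set G)) (hX : X ≤ Subgroup.normalizer (W : Set G))
    (hR : R ≤ Subgroup.normalizer (W : Set G)) : W = ⊥ := by
  by_contra hW
  have h1 := c.le_of_invariant W (hWX.trans c.hXH) hW hV hX hR
  apply c.hV
  rw [eq_bot_iff, ← c.hinf]
  exact le_inf le_rfl (h1.trans hWX)

/-- (E2) -/
theorem CEX.inf_centralizer (c : CEX p H R R₀ V X) :
    X ⊓ Subgroup.centralizer (V : Set G) = ⊥ :=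
  c.eq_bot_of_invariant _ inf_le_left (c.V_le_normalizer' inf_le_right)
    (le_normalizer_inf Subgroup.le_normalizer (le_normalizer_centralizer c.hXV))
    (le_normalizer_inf c.hRX (le_normalizer_centralizer c.hRV))

theorem CEX.V_le_centralizer (c : CEX p H R R₀ V X) : V ≤ Subgroup.centralizer (V : Set G) := by
  intro v hv
  rw [Subgroup.mem_centralizer_iff]
  intro w hw
  exact c.hVc w hw v hv

/-- `C_H(V) = V` -/
theorem CEX.centralizer_le (c : CEX p H R R₀ V X) :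
    H ⊓ Subgroup.centralizer (V : Set G) ≤ V := by
  intro h hh
  obtain ⟨hhH, hhC⟩ := Subgroup.mem_inf.mp hh
  rw [← c.hsup] at hhH
  obtain ⟨v, hv, x, hx, rfl⟩ := exists_mul_of_mem_sup c.hXV hhH
  have h1 : x ∈ Subgroup.centralizer (V : Set G) := by
    have e : x = v⁻¹ * (v * x) := by group
    rw [e]
    exact Subgroup.mul_mem _ (Subgroup.inv_mem _ (c.V_le_centralizer hv)) hhC
  have h2 : x ∈ X ⊓ Subgroup.centralizer (V : Set G) := Subgroup.mem_inf.mpr ⟨hx, h1⟩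
  rw [c.inf_centralizer, Subgroup.mem_bot] at h2
  rw [h2, mul_one]; exact hv

/-- elements of `X` are determined modulo `V` -/
theorem CEX.eq_of_mul_mem (c : CEX p H R R₀ V X) {v x y : G} (hv : v ∈ V) (hx : x ∈ X)
    (hy : y ∈ X) (h : y = v * x) : y = x := by
  have h1 : v ∈ V ⊓ X := by
    refine Subgroup.mem_inf.mpr ⟨hv, ?_⟩
    have e : v = y * x⁻¹ := by rw [h]; group
    rw [e]; exact X.mul_mem hy (X.inv_mem hx)
  rw [c.hinf, Subgroup.mem_bot] at h1
  rw [h, h1, one_mul]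

/-- a normal `p`-subgroup of `X` is trivial: `O_p(X) = 1` (E3) -/
theorem CEX.eq_bot_of_normal_pgroup (c : CEX p H R R₀ V X) (T : Subgroup G) (hTX : T ≤ X)
    (hTp : IsPGroup p T) (hXT : X ≤ Subgroup.normalizer (T : Set G))
    (hRT : R ≤ Subgroup.normalizer (T : Set G)) : T = ⊥ := by
  have hTV : T ≤ Subgroup.normalizer (V : Set G) := hTX.trans c.hXV
  have h1 : V ⊓ Subgroup.centralizer (T : Set G) ≠ ⊥ :=
    Cfsg.Agent.Lib.helper17.inf_centralizer_ne_bot_of_pgroups hTp c.isPGroup_V c.hV hTV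
  have h2 := c.le_of_invariant _ (inf_le_left.trans c.hVH) h1 (c.V_le_normalizer inf_le_left)
    (le_normalizer_inf c.hXV (le_normalizer_centralizer hXT))
    (le_normalizer_inf c.hRV (le_normalizer_centralizer hRT))
  have h3 : T ≤ X ⊓ Subgroup.centralizer (V : Set G) := by
    apply le_inf hTX
    intro t ht
    rw [Subgroup.mem_centralizer_iff]
    intro v hv
    exact ((Subgroup.mem_centralizer_iff.mp (h2 hv).2) t ht).symm
  rw [c.inf_centralizer] at h3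
  exact eq_bot_iff.mpr h3

theorem CEX.pCore_eq_bot (c : CEX p H R R₀ V X) : pCore p ↥X = ⊥ := by
  haveI := Cfsg.Agent.Lib.Helper18.pCore_characteristic p ↥X
  have h1 := c.eq_bot_of_normal_pgroup ((pCore p ↥X).map X.subtype) (Subgroup.map_subtype_le _)
    ((pCore_isPGroup p).map _)
    (le_normalizer_map_characteristic X X Subgroup.le_normalizer (pCore p ↥X))
    (le_normalizer_map_characteristic X R c.hRX (pCore p ↥X))
  exact (Subgroup.map_eq_bot_iff_of_injective _ X.subtype_injective).mp h1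

/-- a normal `p`-subgroup of `H` lies in `V` -/
theorem CEX.le_V_of_normal_pgroup (c : CEX p H R R₀ V X) (T : Subgroup G) (hTH : T ≤ H)
    (hTp : IsPGroup p T) (hHT : H ≤ Subgroup.normalizer (T : Set G)) : T ≤ V := by
  -- `T' = T V` is a normal `p`-subgroup of `H`
  have hT'p : IsPGroup p (T ⊔ V : Subgroup G) :=
    hTp.to_sup_of_normal_right' c.isPGroup_V (hTH.trans c.hHV)
  have hHT' : H ≤ Subgroup.normalizer ((T ⊔ V : Subgroup G) : Set G) :=
    le_normalizer_sup hHT c.hHV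
  have h1 : ((T ⊔ V) ⊓ X : Subgroup G) = ⊥ := by
    have hn : (((T ⊔ V) ⊓ X : Subgroup G).subgroupOf X).Normal :=
      Subgroup.normal_subgroupOf_of_le_normalizer
        (le_normalizer_inf (c.hXH.trans hHT') Subgroup.le_normalizer)
    have hpg : IsPGroup p ↥(((T ⊔ V) ⊓ X : Subgroup G).subgroupOf X) :=
      (hT'p.to_le inf_le_left).of_equiv (Subgroup.subgroupOfEquivOfLe inf_le_right).symm
    have h2 := le_pCore hn hpg
    rw [c.pCore_eq_bot] at h2
    rw [eq_bot_iff]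
    intro x hx
    have h3 : (⟨x, (Subgroup.mem_inf.mp hx).2⟩ : ↥X) ∈
        ((T ⊔ V) ⊓ X : Subgroup G).subgroupOf X := Subgroup.mem_subgroupOf.mpr hx
    have h4 := h2 h3
    rw [Subgroup.mem_bot] at h4 ⊢
    exact congrArg Subtype.val h4
  intro t ht
  have htH : t ∈ V ⊔ X := by rw [c.hsup]; exact hTH ht
  obtain ⟨v, hv, x, hx, rfl⟩ := exists_mul_of_mem_sup c.hXV htH
  have h2 : x ∈ (T ⊔ V) ⊓ X := by
    refine Subgroup.mem_inf.mpr ⟨?_, hx⟩
    have e : x = v⁻¹ * (v * x) := by group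
    rw [e]
    exact Subgroup.mul_mem _ (Subgroup.inv_mem _ (Subgroup.mem_sup_right hv))
      (Subgroup.mem_sup_left ht)
  rw [h1, Subgroup.mem_bot] at h2
  rw [h2, mul_one]; exact hv

/-- (E7) -/
theorem CEX.comm_X (c : CEX p H R R₀ V X) : ⁅X, R⁆ = X := by
  apply le_antisymm (commutator_le_left_of_le_normalizer X R c.hRX)
  have hYX : ⁅X, R⁆ ≤ X := commutator_le_left_of_le_normalizer X R c.hRX
  have hHM : H ≤ V ⊔ ⁅X, R⁆ := by
    have h1 : ⁅H, R⁆ ≤ V ⊔ ⁅X, R⁆ := by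
      rw [Subgroup.commutator_le]
      intro h hh r hr
      rw [← c.hsup] at hh
      obtain ⟨v, hv, x, hx, rfl⟩ := exists_mul_of_mem_sup c.hXV hh
      have e : ⁅v * x, r⁆ = (v * ⁅x, r⁆ * v⁻¹) * ⁅v, r⁆ := by
        simp only [commutatorElement_def]; group
      rw [e]
      apply Subgroup.mul_mem
      · have h2 : v ∈ Subgroup.normalizer ((V ⊔ ⁅X, R⁆ : Subgroup G) : Set G) :=
          Subgroup.le_normalizer (Subgroup.mem_sup_left hv)
        exact (Subgroup.mem_normalizer_iff.mp h2 _).mp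
          (Subgroup.mem_sup_right (Subgroup.commutator_mem_commutator hx hr))
      · apply Subgroup.mem_sup_left
        exact commutator_le_left_of_le_normalizer V R c.hRV
          (Subgroup.commutator_mem_commutator hv hr)
    rw [c.comm] at h1
    exact h1
  intro x hx
  obtain ⟨v, hv, y, hy, hxy⟩ := exists_mul_of_mem_sup (hYX.trans c.hXV) (hHM (c.hXH hx))
  rw [c.eq_of_mul_mem hv (hYX hy) hx hxy]
  exact hy

/-- the key lemma -/
theorem CEX.KL (c : CEX p H R R₀ V X) (Y : Subgroup G) (hYX : Y ≤ X)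
    (hRY : R ≤ Subgroup.normalizer (Y : Set G)) (hYR : ⁅Y, R⁆ = Y) (hne : Y ≠ X) :
    ∃ T : Subgroup G, T ≤ Y ∧ IsPGroup p T ∧ Y ≤ Subgroup.normalizer (T : Set G) ∧
      ∀ Q : Subgroup G, Q ≤ Y → IsPGroup p Q → Q ≤ T := by
  have hYV : Y ≤ Subgroup.normalizer (V : Set G) := hYX.trans c.hXV
  have hH₁H : V ⊔ Y ≤ H := sup_le c.hVH (hYX.trans c.hXH)
  have hRH₁ : R ≤ Subgroup.normalizer ((V ⊔ Y : Subgroup G) : Set G) :=
    le_normalizer_sup c.hRV hRY
  have hcard : Nat.card ↥(V ⊔ Y) = Nat.card V * Nat.card Y := by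
    rw [sup_comm, FrobFormula.card_sup_split Y V hYV
      (by rw [eq_bot_iff, ← c.hinf, inf_comm]; exact inf_le_inf_left _ hYX), mul_comm]
  have hlt : Nat.card ↥(V ⊔ Y) * Nat.card R < Nat.card H * Nat.card R := by
    apply Nat.mul_lt_mul_of_lt_of_le _ le_rfl Nat.card_pos
    rw [hcard, c.card_H]
    exact Nat.mul_lt_mul_of_le_of_lt le_rfl (card_lt_card_of_lt (lt_of_le_of_ne hYX hne))
      Nat.card_pos
  have hpl := c.toCE.sub (V ⊔ Y) R hH₁H le_rfl c.setup.hR₀ hRH₁ hlt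
  obtain ⟨E, hE⟩ : ∃ E : Subgroup G, E = ⁅V ⊔ Y, R⁆ := ⟨_, rfl⟩
  rw [← hE] at hpl
  have hYE : Y ≤ E := by
    rw [hE]
    calc Y = ⁅Y, R⁆ := hYR.symm
      _ ≤ ⁅V ⊔ Y, R⁆ := Subgroup.commutator_mono le_sup_right le_rfl
  have hEH₁ : E ≤ V ⊔ Y := by
    rw [hE]; exact commutator_le_left_of_le_normalizer _ R hRH₁
  have hEH : E ≤ H := hEH₁.trans hH₁H
  have hH₁E : V ⊔ Y ≤ Subgroup.normalizer (E : Set G) := by
    rw [hE]; exact left_le_normalizer_commutator _ R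
  -- `O_{p'}(E) = 1`
  have hEpp : pPrimeCore p ↥E = ⊥ := by
    obtain ⟨D, hD⟩ : ∃ D : Subgroup G, D = (pPrimeCore p ↥E).map E.subtype := ⟨_, rfl⟩
    have hDE : D ≤ E := by rw [hD]; exact Subgroup.map_subtype_le _
    have hDcop : (Nat.card D).Coprime p := by
      rw [hD, Subgroup.card_map_of_injective E.subtype_injective]
      exact pPrimeCore_card_coprime p
    haveI := Cfsg.Agent.Lib.Helper24.pPrimeCore_characteristic (G := ↥E) p
    have hH₁D : V ⊔ Y ≤ Subgroup.normalizer (D : Set G) := by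
      rw [hD]; exact le_normalizer_map_characteristic E (V ⊔ Y) hH₁E (pPrimeCore p ↥E)
    have hDV : D ≤ Subgroup.normalizer (V : Set G) := (hDE.trans hEH).trans c.hHV
    have hVE : V ≤ Subgroup.normalizer (E : Set G) := le_sup_left.trans hH₁E
    -- `[V, D] ≤ V ⊓ E`
    have h1 : ⁅V, D⁆ ≤ V ⊓ E := by
      apply le_inf (commutator_le_left_of_le_normalizer V D hDV)
      rw [Subgroup.commutator_comm]
      exact (Subgroup.commutator_mono hDE le_rfl).trans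
        (commutator_le_left_of_le_normalizer E V hVE)
    -- `D` centralises `V ⊓ E`
    have h2 : V ⊓ E ≤ Subgroup.centralizer (D : Set G) := by
      apply le_centralizer_of_inf_eq_bot
      · exact (inf_le_left.trans le_sup_left).trans hH₁D
      · exact le_normalizer_inf hDV (hDE.trans Subgroup.le_normalizer)
      · exact inf_eq_bot_of_isPGroup_of_coprime (c.isPGroup_V.to_le inf_le_left) hDcop
    have h3 : ⁅⁅V, D⁆, D⁆ = ⊥ := by
      rw [Subgroup.commutator_eq_bot_iff_le_centralizer]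
      exact h1.trans h2
    have hcop : (Nat.card D).Coprime (Nat.card V) := by
      obtain ⟨k, hk⟩ := IsPGroup.iff_card.mp c.isPGroup_V
      rw [hk]; exact Nat.Coprime.pow_right k hDcop
    have h4 := Cfsg.Agent.S0027.result D V hDV hcop (Or.inl inferInstance)
    rw [h3] at h4
    have h5 : D ≤ H ⊓ Subgroup.centralizer (V : Set G) := by
      apply le_inf (hDE.trans hEH)
      have h6 := Subgroup.commutator_eq_bot_iff_le_centralizer.mp h4.symm
      intro d hd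
      rw [Subgroup.mem_centralizer_iff]
      intro v hv
      exact ((Subgroup.mem_centralizer_iff.mp (h6 hv)) d hd).symm
    have h7 : D ≤ V ⊓ D := le_inf (h5.trans c.centralizer_le) le_rfl
    rw [inf_eq_bot_of_isPGroup_of_coprime c.isPGroup_V hDcop] at h7
    have h8 : D = ⊥ := eq_bot_iff.mpr h7
    rw [hD] at h8
    exact (Subgroup.map_eq_bot_iff_of_injective _ E.subtype_injective).mp h8
  have hidx := pCore_index_coprime hpl hEpp
  refine ⟨(pCore p ↥E).map E.subtype ⊓ Y, inf_le_right,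
    (((pCore_isPGroup p).map _).to_le inf_le_left), ?_, ?_⟩
  · apply le_normalizer_inf _ Subgroup.le_normalizer
    exact hYE.trans (le_normalizer_map_characteristic E E Subgroup.le_normalizer _
      (hC := Cfsg.Agent.Lib.Helper18.pCore_characteristic p ↥E))
  · intro Q hQY hQp
    apply le_inf _ hQY
    have hQE : Q ≤ E := hQY.trans hYE
    have h1 := le_of_index_coprime (pCore p ↥E) hidx (Q.subgroupOf E)
      (hQp.of_equiv (Subgroup.subgroupOfEquivOfLe hQE).symm)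
    intro q hq
    exact ⟨⟨q, hQE hq⟩, h1 (Subgroup.mem_subgroupOf.mpr hq), rfl⟩

/-- second form of the key lemma -/
theorem CEX.KL' (c : CEX p H R R₀ V X) (N₂ S₂ : Subgroup G) (hN₂X : N₂ ≤ X)
    (hN₂ : (Nat.card N₂).Coprime p) (hS₂X : S₂ ≤ X) (hS₂ : IsPGroup p S₂)
    (hRN₂ : R ≤ Subgroup.normalizer (N₂ : Set G)) (hRS₂ : R ≤ Subgroup.normalizer (S₂ : Set G))
    (hS₂R : ⁅S₂, R⁆ = S₂) (hSN : S₂ ≤ Subgroup.normalizer (N₂ : Set G))
    (hne : ⁅N₂, S₂⁆ ⊔ S₂ ≠ X) : ⁅N₂, S₂⁆ = ⊥ := by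
  have hMN : ⁅N₂, S₂⁆ ≤ N₂ := commutator_le_left_of_le_normalizer N₂ S₂ hSN
  have hYX : ⁅N₂, S₂⁆ ⊔ S₂ ≤ X := sup_le (hMN.trans hN₂X) hS₂X
  have hRM : R ≤ Subgroup.normalizer ((⁅N₂, S₂⁆ : Subgroup G) : Set G) :=
    le_normalizer_commutator R N₂ S₂ hRN₂ hRS₂
  have hRY : R ≤ Subgroup.normalizer ((⁅N₂, S₂⁆ ⊔ S₂ : Subgroup G) : Set G) :=
    le_normalizer_sup hRM hRS₂
  have hSM : S₂ ≤ Subgroup.normalizer ((⁅N₂, S₂⁆ : Subgroup G) : Set G) :=
    right_le_normalizer_commutator N₂ S₂ hSN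
  have hYM : ⁅N₂, S₂⁆ ⊔ S₂ ≤ Subgroup.normalizer ((⁅N₂, S₂⁆ : Subgroup G) : Set G) :=
    sup_le Subgroup.le_normalizer hSM
  have hcop : (Nat.card S₂).Coprime (Nat.card N₂) := by
    obtain ⟨k, hk⟩ := IsPGroup.iff_card.mp hS₂
    rw [hk]; exact Nat.Coprime.pow_left k hN₂.symm
  have hMM : ⁅⁅N₂, S₂⁆, S₂⁆ = ⁅N₂, S₂⁆ :=
    Cfsg.Agent.S0027.result S₂ N₂ hSN hcop (Or.inl inferInstance)
  have hYR : ⁅⁅N₂, S₂⁆ ⊔ S₂, R⁆ = ⁅N₂, S₂⁆ ⊔ S₂ := by
    apply le_antisymm (commutator_le_left_of_le_normalizer _ R hRY)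
    have h1 : S₂ ≤ ⁅⁅N₂, S₂⁆ ⊔ S₂, R⁆ := by
      calc S₂ = ⁅S₂, R⁆ := hS₂R.symm
        _ ≤ ⁅⁅N₂, S₂⁆ ⊔ S₂, R⁆ := Subgroup.commutator_mono le_sup_right le_rfl
    have h2 : ⁅N₂, S₂⁆ ⊔ S₂ ≤ Subgroup.normalizer
        ((⁅⁅N₂, S₂⁆ ⊔ S₂, R⁆ : Subgroup G) : Set G) := left_le_normalizer_commutator _ R
    have h3 : ⁅N₂, S₂⁆ ≤ ⁅⁅N₂, S₂⁆ ⊔ S₂, R⁆ := by
      calc ⁅N₂, S₂⁆ = ⁅⁅N₂, S₂⁆, S₂⁆ := hMM.symm
        _ ≤ ⁅⁅N₂, S₂⁆ ⊔ S₂, ⁅⁅N₂, S₂⁆ ⊔ S₂, R⁆⁆ :=
            Subgroup.commutator_mono le_sup_left h1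
        _ = ⁅⁅⁅N₂, S₂⁆ ⊔ S₂, R⁆, ⁅N₂, S₂⁆ ⊔ S₂⁆ := Subgroup.commutator_comm _ _
        _ ≤ ⁅⁅N₂, S₂⁆ ⊔ S₂, R⁆ := commutator_le_left_of_le_normalizer _ _ h2
    exact sup_le h3 h1
  obtain ⟨T, hTY, hTp, hYT, hT⟩ := c.KL _ hYX hRY hYR hne
  have hS₂T : S₂ ≤ T := hT S₂ le_sup_right hS₂
  have hMcop : (Nat.card ↥⁅N₂, S₂⁆).Coprime p :=
    Nat.Coprime.coprime_dvd_left (Subgroup.card_dvd_of_le hMN) hN₂
  have h1 : ⁅N₂, S₂⁆ ≤ Subgroup.centralizer (T : Set G) := by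
    apply le_centralizer_of_inf_eq_bot (le_sup_left.trans hYT) (hTY.trans hYM)
    rw [inf_comm]
    exact inf_eq_bot_of_isPGroup_of_coprime hTp hMcop
  rw [← hMM, Subgroup.commutator_eq_bot_iff_le_centralizer]
  exact h1.trans (Subgroup.centralizer_le hS₂T)

end

end Cfsg.Agent.Lib.Helper21.ZG
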