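import Mathlib
import Cfsg.Agent.Lib.Helper21.ZGE
import Cfsg.Agent.Lib.Helper1.PrimeAct.IrrActGen
import Cfsg.Agent.Lib.Helper24.CycSylow1

/-!
# B & G Theorem 3.6: reduction to `R = R₀` with nontrivial fixed points on `V`
-/

set_option autoImplicit false

namespace Cfsg.Agent.Lib.Helper21.ZG

open Cfsg Cfsg.Agent.Lib.Helper21 Cfsg.Agent.Lib.Helper1 Cfsg.Agent.Lib.Lead
  Cfsg.Agent.Lib.Helper11
open scoped commutatorElement

universe u

/-- the complement together with its `p'`-core and an invariant Sylow `p`-subgroup -/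
structure CES (p : ℕ) {G : Type u} [Group G] (H R R₀ V X N S : Subgroup G) : Prop
    extends CEX p H R R₀ V X where
  hNdef : N = (pPrimeCore p ↥X).map X.subtype
  hSX : S ≤ X
  hSp : IsPGroup p S
  hRS : R ≤ Subgroup.normalizer (S : Set G)
  hS : S ≠ ⊥

section

variable {G : Type u} [Group G] [Finite G] [Group.IsSolvable G] {p : ℕ} [hp : Fact p.Prime]
variable {H R R₀ V X N S : Subgroup G}

theorem CEX.cop_RX (c : CEX p H R R₀ V X) : (Nat.card R).Coprime (Nat.card X) :=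
  (Nat.Coprime.coprime_dvd_left (Subgroup.card_dvd_of_le c.hXH) c.setup.cop).symm

theorem CEX.exists_NS (c : CEX p H R R₀ V X) : ∃ N S : Subgroup G, CES p H R R₀ V X N S := by
  have hpp : p.Prime := hp.out
  obtain ⟨P, hP⟩ := Cfsg.Agent.S0023.result R X c.hRX c.cop_RX (Or.inl inferInstance) p
  refine ⟨(pPrimeCore p ↥X).map X.subtype, (P : Subgroup ↥X).map X.subtype,
    ⟨c, rfl, Subgroup.map_subtype_le _, P.2.map _, hP, ?_⟩⟩
  intro hS
  have hPbot : (P : Subgroup ↥X) = ⊥ :=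
    (Subgroup.map_eq_bot_iff_of_injective _ X.subtype_injective).mp hS
  have hnd : ¬ p ∣ Nat.card ↥X := fun hd => P.ne_bot_of_dvd_card hd hPbot
  haveI hVn : (V.subgroupOf H).Normal := Subgroup.normal_subgroupOf_of_le_normalizer c.hHV
  apply c.not
  apply plength_of_normal_pgroup (V.subgroupOf H)
    (c.isPGroup_V.of_equiv (Subgroup.subgroupOfEquivOfLe c.hVH).symm)
  have h1 := Subgroup.card_mul_index (V.subgroupOf H)
  rw [Nat.card_congr (Subgroup.subgroupOfEquivOfLe c.hVH).toEquiv, c.card_H] at h1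
  have h2 : (V.subgroupOf H).index = Nat.card X :=
    Nat.eq_of_mul_eq_mul_left Nat.card_pos h1
  rw [h2, Nat.coprime_comm, Nat.Prime.coprime_iff_not_dvd hpp]
  exact hnd

theorem CES.hNX (c : CES p H R R₀ V X N S) : N ≤ X := by
  rw [c.hNdef]; exact Subgroup.map_subtype_le _

theorem CES.hXN (c : CES p H R R₀ V X N S) : X ≤ Subgroup.normalizer (N : Set G) := by
  rw [c.hNdef]
  haveI := Cfsg.Agent.Lib.Helper24.pPrimeCore_characteristic (G := ↥X) p
  exact le_normalizer_map_characteristic X X Subgroup.le_normalizer _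

theorem CES.hRN (c : CES p H R R₀ V X N S) : R ≤ Subgroup.normalizer (N : Set G) := by
  rw [c.hNdef]
  haveI := Cfsg.Agent.Lib.Helper24.pPrimeCore_characteristic (G := ↥X) p
  exact le_normalizer_map_characteristic X R c.hRX _

theorem CES.hNcop (c : CES p H R R₀ V X N S) : (Nat.card N).Coprime p := by
  rw [c.hNdef, Subgroup.card_map_of_injective X.subtype_injective]
  exact pPrimeCore_card_coprime p

theorem CES.hNne (c : CES p H R R₀ V X N S) : N ≠ ⊥ := by
  rw [c.hNdef]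
  intro h
  exact c.hXne ((Subgroup.map_eq_bot_iff_of_injective _ X.subtype_injective).mp h)

theorem CES.hSN (c : CES p H R R₀ V X N S) : S ≤ Subgroup.normalizer (N : Set G) :=
  c.hSX.trans c.hXN

theorem CES.inf_NS (c : CES p H R R₀ V X N S) : S ⊓ N = ⊥ :=
  inf_eq_bot_of_isPGroup_of_coprime c.hSp c.hNcop

theorem CES.cop_SN (c : CES p H R R₀ V X N S) : (Nat.card S).Coprime (Nat.card N) := by
  obtain ⟨k, hk⟩ := IsPGroup.iff_card.mp c.hSp
  rw [hk]; exact Nat.Coprime.pow_left k c.hNcop.symm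

/-- `C_X(O_{p'}(X)) ≤ O_{p'}(X)` -/
theorem CES.centralizer_N_le (c : CES p H R R₀ V X N S) :
    X ⊓ Subgroup.centralizer (N : Set G) ≤ N := by
  have hpp : p.Prime := hp.out
  have h1 : fittingSubgroup ↥X ≤ pPrimeCore p ↥X := by
    rw [fittingSubgroup_eq_iSup_pCore]
    apply iSup_le
    intro q
    by_cases hq : (q : ℕ) = p
    · rw [hq, c.toCEX.pCore_eq_bot]; exact bot_le
    · exact pCore_le_pPrimeCore_of_ne hpp q.2 hq
  have h2 : Subgroup.centralizer ((pPrimeCore p ↥X : Subgroup ↥X) : Set ↥X) ≤ pPrimeCore p ↥X :=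
    ((Subgroup.centralizer_le h1).trans centralizer_fittingSubgroup_le).trans h1
  intro x hx
  obtain ⟨hxX, hxC⟩ := Subgroup.mem_inf.mp hx
  have h3 : (⟨x, hxX⟩ : ↥X) ∈ Subgroup.centralizer
      ((pPrimeCore p ↥X : Subgroup ↥X) : Set ↥X) := by
    rw [Subgroup.mem_centralizer_iff]
    intro y hy
    have h4 : (y : G) ∈ N := by rw [c.hNdef]; exact ⟨y, hy, rfl⟩
    exact Subtype.ext ((Subgroup.mem_centralizer_iff.mp hxC) _ h4)
  rw [c.hNdef]
  exact ⟨⟨x, hxX⟩, h2 h3, rfl⟩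

/-- (E6) -/
theorem CES.eq_bot_of_centralizes_N (c : CES p H R R₀ V X N S) (Q : Subgroup G) (hQX : Q ≤ X)
    (hQp : IsPGroup p Q) (hQN : Q ≤ Subgroup.centralizer (N : Set G)) : Q = ⊥ := by
  have h1 : Q ≤ Q ⊓ N := le_inf le_rfl ((le_inf hQX hQN).trans c.centralizer_N_le)
  rw [inf_eq_bot_of_isPGroup_of_coprime hQp c.hNcop] at h1
  exact eq_bot_iff.mpr h1

/-- Case I: `R₀` has a nontrivial fixed point on `V` -/
theorem CES.caseI (c : CES p H R R₀ V X N S) :
    V ⊓ Subgroup.centralizer (R₀ : Set G) ≠ ⊥ := by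
  intro h
  have hpp : p.Prime := hp.out
  obtain ⟨r₀, hr₀, hr₀1⟩ := exists_ne_one_of_prime_card c.setup.prime
  have hcent := centralizer_singleton_of_prime_card c.setup.prime hr₀ hr₀1
  have hr₀R : r₀ ∈ R := c.setup.hR₀ hr₀
  obtain ⟨Γ, hΓ⟩ : ∃ Γ : Subgroup G, Γ = H ⊔ R := ⟨_, rfl⟩
  have hHΓ : H ≤ Γ := hΓ ▸ le_sup_left
  have hRΓ : R ≤ Γ := hΓ ▸ le_sup_right
  have hΓV : Γ ≤ Subgroup.normalizer (V : Set G) := hΓ ▸ sup_le c.hHV c.hRV
  have hΓH : Γ ≤ Subgroup.normalizer (H : Set G) := hΓ ▸ sup_le Subgroup.le_normalizer c.setup.hRH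
  letI : CommGroup ↥V :=
    { (inferInstance : Group ↥V) with mul_comm := fun a b => Subtype.ext (c.hVc a a.2 b b.2) }
  obtain ⟨ψ, hψ⟩ : ∃ ψ : ↥Γ →* MulAut ↥V,
      ∀ (g : ↥Γ) (v : ↥V), ((ψ g v : ↥V) : G) = g * v * (g : G)⁻¹ :=
    ⟨V.normalizerMonoidHom.comp (Subgroup.inclusion hΓV), fun g v => rfl⟩
  haveI hKn : (H.subgroupOf Γ).Normal := Subgroup.normal_subgroupOf_of_le_normalizer hΓH
  have hodd : Odd (Nat.card ↥Γ) :=
    Odd.of_dvd_nat c.setup.odd (Subgroup.card_subgroup_dvd_card _)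
  have hW : ∀ w : ↥V, w ^ p = 1 := fun v =>
    Subtype.ext (by rw [Subgroup.coe_pow]; exact c.hVe v v.2)
  have hirr : ∀ W₁ : Subgroup ↥V, (∀ (g : ↥Γ) (w : ↥V), w ∈ W₁ → ψ g w ∈ W₁) →
      W₁ = ⊥ ∨ W₁ = ⊤ := by
    intro W₁ hinv
    by_cases hW₁ : W₁ = ⊥
    · exact Or.inl hW₁
    · right
      have hWne : W₁.map V.subtype ≠ ⊥ := fun h' =>
        hW₁ ((Subgroup.map_eq_bot_iff_of_injective _ V.subtype_injective).mp h')
      have hnorm : ∀ g ∈ Γ, g ∈ Subgroup.normalizer ((W₁.map V.subtype : Subgroup G) : Set G) := by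
        have : Γ ≤ Subgroup.normalizer ((W₁.map V.subtype : Subgroup G) : Set G) := by
          rw [Subgroup.le_normalizer_iff]
          rintro g hg _ ⟨w, hw, rfl⟩
          refine ⟨ψ ⟨g, hg⟩ w, hinv ⟨g, hg⟩ w hw, ?_⟩
          rw [Subgroup.coe_subtype, hψ]
        exact fun g hg => this hg
      have h1 := c.hVmin (W₁.map V.subtype) ((Subgroup.map_subtype_le _).trans c.hVH) hWne
        (fun g hg => hnorm g (hHΓ hg)) (fun g hg => hnorm g (hRΓ hg))
      rw [eq_top_iff]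
      intro v _
      obtain ⟨w, hw, hwv⟩ := h1 v.2
      have : w = v := Subtype.ext hwv
      rw [← this]; exact hw
  have hxr : (⟨r₀, hRΓ hr₀R⟩ : ↥Γ) ^ Nat.card R₀ = 1 := by
    apply Subtype.ext
    rw [Subgroup.coe_pow, Subgroup.coe_one]
    have h1 : (⟨r₀, hr₀⟩ : ↥R₀) ^ Nat.card R₀ = 1 := pow_card_eq_one'
    have h2 := congrArg Subtype.val h1
    rw [Subgroup.coe_pow, Subgroup.coe_one] at h2
    exact h2
  have hcop : (Nat.card ↥(H.subgroupOf Γ)).Coprime (Nat.card R₀) := by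
    rw [Nat.card_congr (Subgroup.subgroupOfEquivOfLe hHΓ).toEquiv]
    exact Nat.Coprime.coprime_dvd_right (Subgroup.card_dvd_of_le c.setup.hR₀) c.setup.cop
  have hfix : ∀ w : ↥V, ψ ⟨r₀, hRΓ hr₀R⟩ w = w → w = 1 := by
    intro w hw
    have h1 := congrArg Subtype.val hw
    rw [hψ] at h1
    have h2 : (w : G) ∈ V ⊓ Subgroup.centralizer (R₀ : Set G) := by
      refine Subgroup.mem_inf.mpr ⟨w.2, ?_⟩
      rw [← hcent, Subgroup.mem_centralizer_iff]
      intro z hz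
      rw [Set.mem_singleton_iff] at hz
      rw [hz]
      have h3 : r₀ * (w : G) * r₀⁻¹ = w := h1
      calc r₀ * (w : G) = (r₀ * (w : G) * r₀⁻¹) * r₀ := by group
        _ = (w : G) * r₀ := by rw [h3]
    rw [h, Subgroup.mem_bot] at h2
    exact Subtype.ext h2
  have key := Cfsg.Agent.Lib.Helper1.PrimeAct.comm_of_irred (H := ↥Γ) hodd (W := ↥V) (ℓ := p)
    (r := Nat.card R₀) hpp c.setup.prime hW ψ hirr
    (H.subgroupOf Γ) ⟨r₀, hRΓ hr₀R⟩ hxr hcop hfix
  -- `R₀` centralises `X`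
  have hXC : X ≤ Subgroup.centralizer (R₀ : Set G) := by
    intro x hx
    have hxH : x ∈ H := c.hXH hx
    have h1 := key ⟨x, hHΓ hxH⟩ (Subgroup.mem_subgroupOf.mpr hxH)
    have hgC : x⁻¹ * r₀⁻¹ * x * r₀ ∈ Subgroup.centralizer (V : Set G) := by
      rw [Subgroup.mem_centralizer_iff]
      intro v hv
      have h2 := congrArg (fun f => ((f ⟨v, hv⟩ : ↥V) : G)) h1
      simp only [MulAut.mul_apply] at h2
      rw [hψ, hψ, hψ, hψ] at h2
      have h3 : r₀ * (x * v * x⁻¹) * r₀⁻¹ = x * (r₀ * v * r₀⁻¹) * x⁻¹ := h2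
      have h4 : (x⁻¹ * r₀⁻¹ * x * r₀) * v * (x⁻¹ * r₀⁻¹ * x * r₀)⁻¹ = v := by
        calc (x⁻¹ * r₀⁻¹ * x * r₀) * v * (x⁻¹ * r₀⁻¹ * x * r₀)⁻¹
            = x⁻¹ * r₀⁻¹ * (x * (r₀ * v * r₀⁻¹) * x⁻¹) * r₀ * x := by group
          _ = x⁻¹ * r₀⁻¹ * (r₀ * (x * v * x⁻¹) * r₀⁻¹) * r₀ * x := by rw [h3]
          _ = v := by group
      calc v * (x⁻¹ * r₀⁻¹ * x * r₀)
          = ((x⁻¹ * r₀⁻¹ * x * r₀) * v * (x⁻¹ * r₀⁻¹ * x * r₀)⁻¹) * (x⁻¹ * r₀⁻¹ * x * r₀) := by
            rw [h4]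
        _ = (x⁻¹ * r₀⁻¹ * x * r₀) * v := by group
    have hgX : x⁻¹ * r₀⁻¹ * x * r₀ ∈ X := by
      have h5 : r₀⁻¹ * x * r₀⁻¹⁻¹ ∈ X :=
        (Subgroup.le_normalizer_iff.mp c.hRX) r₀⁻¹ (R.inv_mem hr₀R) x hx
      rw [inv_inv] at h5
      have e : x⁻¹ * r₀⁻¹ * x * r₀ = x⁻¹ * (r₀⁻¹ * x * r₀) := by group
      rw [e]; exact X.mul_mem (X.inv_mem hx) h5
    have hg1 : x⁻¹ * r₀⁻¹ * x * r₀ ∈ X ⊓ Subgroup.centralizer (V : Set G) :=
      Subgroup.mem_inf.mpr ⟨hgX, hgC⟩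
    rw [c.toCEX.inf_centralizer, Subgroup.mem_bot] at hg1
    rw [← hcent, Subgroup.mem_centralizer_iff]
    intro z hz
    rw [Set.mem_singleton_iff] at hz
    rw [hz]
    calc r₀ * x = x * r₀ * (x⁻¹ * r₀⁻¹ * x * r₀)⁻¹ := by group
      _ = x * r₀ := by rw [hg1, inv_one, mul_one]
  -- so `X` is a Z-group
  haveI := c.setup.zg
  haveI hXZ : IsZGroup ↥X :=
    IsZGroup.of_injective (f := Subgroup.inclusion (le_inf c.hXH hXC))
      (Subgroup.inclusion_injective _)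
  -- the derived subgroup of `X` is cyclic, and is centralised by `X = [X, R]`
  have hcyc : IsCyclic ↥((commutator ↥X).map X.subtype) := by
    haveI : IsCyclic ↥(commutator ↥X) := IsZGroup.isCyclic_commutator ↥X
    exact isCyclic_of_surjective (MonoidHom.subgroupMap X.subtype (commutator ↥X))
      (MonoidHom.subgroupMap_surjective _ _)
  have hXU : X ≤ Subgroup.normalizer (((commutator ↥X).map X.subtype : Subgroup G) : Set G) :=
    le_normalizer_map_characteristic X X Subgroup.le_normalizer _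
  have hRU : R ≤ Subgroup.normalizer (((commutator ↥X).map X.subtype : Subgroup G) : Set G) :=
    le_normalizer_map_characteristic X R c.hRX _
  have hXcU : X ≤ Subgroup.centralizer (((commutator ↥X).map X.subtype : Subgroup G) : Set G) := by
    calc X = ⁅X, R⁆ := c.toCEX.comm_X.symm
      _ ≤ ⁅Subgroup.normalizer (((commutator ↥X).map X.subtype : Subgroup G) : Set G),
          Subgroup.normalizer (((commutator ↥X).map X.subtype : Subgroup G) : Set G)⁆ :=
          Subgroup.commutator_mono hXU hRU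
      _ ≤ _ := commutator_normalizer_cyclic_le hcyc
  have hcen : (Abelianization.of : ↥X →* Abelianization ↥X).ker ≤ Subgroup.center ↥X := by
    rw [Abelianization.ker_of]
    intro z hz
    rw [Subgroup.mem_center_iff]
    intro g
    have h1 : (z : G) ∈ (commutator ↥X).map X.subtype := ⟨z, hz, rfl⟩
    exact Subtype.ext ((Subgroup.mem_centralizer_iff.mp (hXcU g.2)) _ h1).symm
  have hab : ∀ a b : ↥X, a * b = b * a := by
    have h1 := MonoidHom.isMulCommutative_of_isCyclic_of_ker_le_center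
      (Abelianization.of : ↥X →* Abelianization ↥X) hcen
    exact fun a b => (isMulCommutative_iff.mp h1) a b
  -- hence `S` is normal in `X`
  have hXS : X ≤ Subgroup.normalizer (S : Set G) := by
    rw [Subgroup.le_normalizer_iff]
    intro x hx s hs
    have h1 := congrArg Subtype.val (hab ⟨x, hx⟩ ⟨s, c.hSX hs⟩)
    have h2 : x * s = s * x := h1
    have : x * s * x⁻¹ = s := by rw [h2]; group
    rw [this]; exact hs
  exact c.hS (c.toCEX.eq_bot_of_normal_pgroup S c.hSX c.hSp hXS c.hRS)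

/-- Case II: a `p`-subgroup of `X` centralised by `R₀` is trivial -/
theorem CES.eq_bot_of_centralized (c : CES p H R R₀ V X N S) (Q : Subgroup G) (hQX : Q ≤ X)
    (hQp : IsPGroup p Q) (hQC : Q ≤ Subgroup.centralizer (R₀ : Set G)) : Q = ⊥ := by
  have hpp : p.Prime := hp.out
  have hA := c.caseI
  have hQA : Q ≤ Subgroup.normalizer
      ((V ⊓ Subgroup.centralizer (R₀ : Set G) : Subgroup G) : Set G) :=
    le_normalizer_inf (hQX.trans c.toCEX.hXV) (hQC.trans Subgroup.le_normalizer)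
  have hPp : IsPGroup p ((V ⊓ Subgroup.centralizer (R₀ : Set G)) ⊔ Q : Subgroup G) :=
    (c.isPGroup_V.to_le inf_le_left).to_sup_of_normal_left' hQp hQA
  have hPZ : (V ⊓ Subgroup.centralizer (R₀ : Set G)) ⊔ Q ≤
      H ⊓ Subgroup.centralizer (R₀ : Set G) :=
    sup_le (inf_le_inf_right _ c.hVH) (le_inf (hQX.trans c.hXH) hQC)
  haveI := c.setup.zg
  have hcyc : IsCyclic ↥((V ⊓ Subgroup.centralizer (R₀ : Set G)) ⊔ Q : Subgroup G) := by
    haveI : IsCyclic ↥(((V ⊓ Subgroup.centralizer (R₀ : Set G)) ⊔ Q : Subgroup G).subgroupOf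
        (H ⊓ Subgroup.centralizer (R₀ : Set G))) :=
      (hPp.of_equiv (Subgroup.subgroupOfEquivOfLe hPZ).symm).isCyclic_of_isZGroup
    exact isCyclic_of_surjective (Subgroup.subgroupOfEquivOfLe hPZ)
      (Subgroup.subgroupOfEquivOfLe hPZ).surjective
  obtain ⟨a, ha1⟩ := (Subgroup.ne_bot_iff_exists_ne_one
    (H := V ⊓ Subgroup.centralizer (R₀ : Set G))).mp hA
  have haV : (a : G) ∈ V := (Subgroup.mem_inf.mp a.2).1
  have hord : orderOf (a : G) = p := by
    have h1 : orderOf (a : G) ∣ p := orderOf_dvd_of_pow_eq_one (c.hVe _ haV)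
    rcases (Nat.dvd_prime hpp).mp h1 with h2 | h2
    · exfalso
      rw [orderOf_eq_one_iff] at h2
      exact ha1 (Subtype.ext h2)
    · exact h2
  by_contra hQ
  obtain ⟨k, hk⟩ := IsPGroup.iff_card.mp hQp
  have hdvd : p ∣ Nat.card Q := by
    rw [hk]
    apply dvd_pow_self
    intro hk0
    rw [hk0, pow_zero] at hk
    exact hQ (Subgroup.card_eq_one.mp hk)
  obtain ⟨y, hy⟩ := exists_prime_orderOf_dvd_card' (G := ↥Q) p hdvd
  have hyp : (y : G) ^ p = 1 := by
    rw [← Subgroup.coe_pow, ← hy, pow_orderOf_eq_one, Subgroup.coe_one]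
  have h1 := Cfsg.Agent.Lib.Helper24.cs_mem_zpowers_sub _ hcyc p hpp (a : G) (y : G)
    (Subgroup.mem_sup_left a.2) (Subgroup.mem_sup_right y.2) hord hyp
  have h2 : (y : G) ∈ V := (Subgroup.zpowers_le.mpr haV) h1
  have h3 : (y : G) ∈ V ⊓ X := Subgroup.mem_inf.mpr ⟨h2, hQX y.2⟩
  rw [c.hinf, Subgroup.mem_bot] at h3
  have h4 : y = 1 := Subtype.ext h3
  rw [h4, orderOf_one] at hy
  exact hpp.one_lt.ne hy

/-- Case II: `R₀ = R` -/
theorem CES.R₀_eq (c : CES p H R R₀ V X N S) : R₀ = R := by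
  by_contra hne
  have hlt : R₀ < R := lt_of_le_of_ne c.setup.hR₀ hne
  have hR₀H : R₀ ≤ Subgroup.normalizer (H : Set G) := c.setup.hR₀.trans c.setup.hRH
  have hpl := c.toCE.sub H R₀ le_rfl c.setup.hR₀ le_rfl hR₀H
    (Nat.mul_lt_mul_of_le_of_lt le_rfl (card_lt_card_of_lt hlt) Nat.card_pos)
  obtain ⟨E, hE⟩ : ∃ E : Subgroup G, E = ⁅H, R₀⁆ := ⟨_, rfl⟩
  rw [← hE] at hpl
  have hEH : E ≤ H := by rw [hE]; exact commutator_le_left_of_le_normalizer H R₀ hR₀H
  have hHE : H ≤ Subgroup.normalizer (E : Set G) := by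
    rw [hE]; exact left_le_normalizer_commutator H R₀
  have hEpp : pPrimeCore p ↥E = ⊥ := by
    haveI := Cfsg.Agent.Lib.Helper24.pPrimeCore_characteristic (G := ↥E) p
    have h1 := c.toCE.eq_bot_of_coprime ((pPrimeCore p ↥E).map E.subtype)
      ((Subgroup.map_subtype_le _).trans hEH)
      (le_normalizer_map_characteristic E H hHE _)
      (by rw [Subgroup.card_map_of_injective E.subtype_injective]
          exact pPrimeCore_card_coprime p)
    exact (Subgroup.map_eq_bot_iff_of_injective _ E.subtype_injective).mp h1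
  have hidx := pCore_index_coprime hpl hEpp
  have hTV : (pCore p ↥E).map E.subtype ≤ V := by
    apply c.toCEX.le_V_of_normal_pgroup _ ((Subgroup.map_subtype_le _).trans hEH)
      ((pCore_isPGroup p).map _)
    exact le_normalizer_map_characteristic E H hHE _
      (hC := Cfsg.Agent.Lib.Helper18.pCore_characteristic p ↥E)
  have hSR₀ : R₀ ≤ Subgroup.normalizer (S : Set G) := c.setup.hR₀.trans c.hRS
  have hQS : ⁅S, R₀⁆ ≤ S := commutator_le_left_of_le_normalizer S R₀ hSR₀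
  have hQE : ⁅S, R₀⁆ ≤ E := by
    rw [hE]; exact Subgroup.commutator_mono (c.hSX.trans c.hXH) le_rfl
  have h1 := le_of_index_coprime (pCore p ↥E) hidx ((⁅S, R₀⁆).subgroupOf E)
    ((c.hSp.to_le hQS).of_equiv (Subgroup.subgroupOfEquivOfLe hQE).symm)
  have h2 : ⁅S, R₀⁆ ≤ V ⊓ X := by
    apply le_inf _ (hQS.trans c.hSX)
    intro q hq
    exact hTV ⟨⟨q, hQE hq⟩, h1 (Subgroup.mem_subgroupOf.mpr hq), rfl⟩
  rw [c.hinf] at h2
  have h3 : S ≤ Subgroup.centralizer (R₀ : Set G) :=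
    Subgroup.commutator_eq_bot_iff_le_centralizer.mp (eq_bot_iff.mpr h2)
  exact c.hS (c.eq_bot_of_centralized S c.hSX c.hSp h3)

end

end Cfsg.Agent.Lib.Helper21.ZG
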