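import Mathlib
import Cfsg.Agent.Lib.Helper21.ZGF
import Cfsg.Agent.Lib.Helper1.CoprimeAbelian
import Cfsg.Agent.S0026

/-!
# B & G Theorem 3.6: the final configuration `R = R₀`, basic facts
-/

set_option autoImplicit false

namespace Cfsg.Agent.Lib.Helper21.ZG

open Cfsg Cfsg.Agent.Lib.Helper21 Cfsg.Agent.Lib.Helper1 Cfsg.Agent.Lib.Lead
  Cfsg.Agent.Lib.Helper11
open scoped commutatorElement

universe u

section generic

variable {G : Type*} [Group G]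

theorem isNilpotent_of_comm (A : Subgroup G) (h : ∀ x ∈ A, ∀ y ∈ A, x * y = y * x) :
    Group.IsNilpotent ↥A := by
  refine ⟨⟨1, ?_⟩⟩
  rw [upperCentralSeries_one, eq_top_iff]
  intro x _
  rw [Subgroup.mem_center_iff]
  intro g
  exact Subtype.ext (h g g.2 x x.2)

/-- a nontrivial cyclic group of exponent `q` has order `q` -/
theorem card_eq_prime_of_cyclic_exp [Finite G] {q : ℕ} (hq : q.Prime) (A : Subgroup G)
    (hA : IsCyclic ↥A) (hexp : ∀ x ∈ A, x ^ q = 1) (hne : A ≠ ⊥) : Nat.card A = q := by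
  obtain ⟨g, hg⟩ := IsCyclic.exists_generator (α := ↥A)
  have h1 : orderOf g = Nat.card ↥A := orderOf_eq_card_of_forall_mem_zpowers hg
  have h2 : orderOf g ∣ q := by
    apply orderOf_dvd_of_pow_eq_one
    apply Subtype.ext
    rw [Subgroup.coe_pow, Subgroup.coe_one]
    exact hexp g g.2
  rw [h1] at h2
  rcases (Nat.dvd_prime hq).mp h2 with h3 | h3
  · exact absurd (Subgroup.card_eq_one.mp h3) hne
  · exact h3

theorem card_pos_of_ne_bot_of_isPGroup [Finite G] {p : ℕ} [hp : Fact p.Prime] {A : Subgroup G}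
    (hA : IsPGroup p A) (hne : A ≠ ⊥) : p ∣ Nat.card A := by
  obtain ⟨k, hk⟩ := IsPGroup.iff_card.mp hA
  rw [hk]
  apply dvd_pow_self
  intro hk0
  rw [hk0, pow_zero] at hk
  exact hne (Subgroup.card_eq_one.mp hk)

end generic

/-- the final configuration: `R = R₀` and `C_V(R) ≠ 1` -/
structure CEF (p : ℕ) {G : Type u} [Group G] (H R V X N S : Subgroup G) : Prop
    extends CES p H R R V X N S where
  hCV : V ⊓ Subgroup.centralizer (R : Set G) ≠ ⊥

section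

variable {G : Type u} [Group G] [Finite G] [Group.IsSolvable G] {p : ℕ} [hp : Fact p.Prime]
variable {H R R₀ V X N S : Subgroup G}

theorem CES.toCEF (c : CES p H R R₀ V X N S) : CEF p H R V X N S := by
  have h := c.R₀_eq
  subst h
  exact ⟨c, c.caseI⟩

theorem CEF.prime (c : CEF p H R V X N S) : (Nat.card R).Prime := c.setup.prime

theorem CEF.cop_RS (c : CEF p H R V X N S) : (Nat.card R).Coprime (Nat.card S) :=
  Nat.Coprime.coprime_dvd_right (Subgroup.card_dvd_of_le c.hSX) c.toCEX.cop_RX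

theorem CEF.cop_RN (c : CEF p H R V X N S) : (Nat.card R).Coprime (Nat.card N) :=
  Nat.Coprime.coprime_dvd_right (Subgroup.card_dvd_of_le c.toCES.hNX) c.toCEX.cop_RX

theorem CEF.not_dvd_card_R (c : CEF p H R V X N S) : ¬ p ∣ Nat.card R := by
  intro h
  have h1 : p ∣ Nat.card V := card_pos_of_ne_bot_of_isPGroup c.isPGroup_V c.hV
  have h2 := Nat.dvd_gcd h h1
  rw [c.cop_RV] at h2
  exact hp.out.one_lt.ne' (Nat.dvd_one.mp h2)

/-- fixed-point-freeness in the element-wise form -/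
theorem CEF.fpf (c : CEF p H R V X N S) {K : Subgroup G}
    (hK : K ⊓ Subgroup.centralizer (R : Set G) = ⊥) :
    ∀ r ∈ R, r ≠ 1 → K ⊓ Subgroup.centralizer ({r} : Set G) = ⊥ := by
  intro r hr hr1
  rw [centralizer_singleton_of_prime_card c.prime hr hr1]
  exact hK

/-- (F1) -/
theorem CEF.inf_SR (c : CEF p H R V X N S) : S ⊓ Subgroup.centralizer (R : Set G) = ⊥ :=
  c.toCES.eq_bot_of_centralized _ (inf_le_left.trans c.hSX) (c.hSp.to_le inf_le_left) inf_le_right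

/-- (F2) for invariant subgroups of `S` -/
theorem CEF.comm_of_le_S (c : CEF p H R V X N S) (S₂ : Subgroup G) (hS₂ : S₂ ≤ S)
    (hRS₂ : R ≤ Subgroup.normalizer (S₂ : Set G)) : ⁅S₂, R⁆ = S₂ := by
  have h1 := Cfsg.Agent.S0026.result R S₂ hRS₂
    (Nat.Coprime.coprime_dvd_right (Subgroup.card_dvd_of_le hS₂) c.cop_RS) (Or.inl inferInstance)
  have h2 : S₂ ⊓ Subgroup.centralizer (R : Set G) = ⊥ := by
    rw [eq_bot_iff, ← c.inf_SR]
    exact inf_le_inf_right _ hS₂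
  rw [h2, sup_bot_eq] at h1
  exact h1

theorem CEF.comm_S (c : CEF p H R V X N S) : ⁅S, R⁆ = S := c.comm_of_le_S S le_rfl c.hRS

/-- (F3) -/
theorem CEF.card_CV (c : CEF p H R V X N S) :
    Nat.card ↥(V ⊓ Subgroup.centralizer (R : Set G)) = p := by
  have hpp : p.Prime := hp.out
  haveI := c.setup.zg
  have hle : V ⊓ Subgroup.centralizer (R : Set G) ≤ H ⊓ Subgroup.centralizer (R : Set G) :=
    inf_le_inf_right _ c.hVH
  have hcyc : IsCyclic ↥(V ⊓ Subgroup.centralizer (R : Set G)) := by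
    haveI : IsCyclic ↥((V ⊓ Subgroup.centralizer (R : Set G)).subgroupOf
        (H ⊓ Subgroup.centralizer (R : Set G))) :=
      ((c.isPGroup_V.to_le inf_le_left).of_equiv
        (Subgroup.subgroupOfEquivOfLe hle).symm).isCyclic_of_isZGroup
    exact isCyclic_of_surjective (Subgroup.subgroupOfEquivOfLe hle)
      (Subgroup.subgroupOfEquivOfLe hle).surjective
  exact card_eq_prime_of_cyclic_exp hpp _ hcyc (fun x hx => c.hVe x (Subgroup.mem_inf.mp hx).1)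
    c.hCV

theorem CEF.card_X_of (c : CEF p H R V X N S) (N₂ S₂ : Subgroup G)
    (hS₂N₂ : S₂ ≤ Subgroup.normalizer (N₂ : Set G)) (hN₂ : N₂ ≤ N) (hS₂ : S₂ ≤ S) :
    Nat.card ↥(N₂ ⊔ S₂) = Nat.card N₂ * Nat.card S₂ := by
  rw [sup_comm, FrobFormula.card_sup_split S₂ N₂ hS₂N₂, mul_comm]
  rw [eq_bot_iff, ← c.toCES.inf_NS]
  exact inf_le_inf hS₂ hN₂

/-- (G1) -/
theorem CEF.G1 (c : CEF p H R V X N S) : ⁅N, S⁆ = N ∧ N ⊔ S = X := by
  have hMN : ⁅N, S⁆ ≤ N := commutator_le_left_of_le_normalizer N S c.toCES.hSN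
  have h1 : ⁅N, S⁆ ⊔ S = X := by
    by_contra hne
    have h2 := c.toCEX.KL' N S c.toCES.hNX c.toCES.hNcop c.hSX c.hSp c.toCES.hRN c.hRS c.comm_S
      c.toCES.hSN hne
    have h3 : S ≤ Subgroup.centralizer (N : Set G) :=
      Subgroup.le_centralizer_iff.mp (Subgroup.commutator_eq_bot_iff_le_centralizer.mp h2)
    exact c.hS (c.toCES.eq_bot_of_centralizes_N S c.hSX c.hSp h3)
  have hSM : S ≤ Subgroup.normalizer ((⁅N, S⁆ : Subgroup G) : Set G) :=
    right_le_normalizer_commutator N S c.toCES.hSN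
  have h4 := c.card_X_of ⁅N, S⁆ S hSM hMN le_rfl
  have h5 := c.card_X_of N S c.toCES.hSN le_rfl le_rfl
  have h6 : N ⊔ S ≤ X := sup_le c.toCES.hNX c.hSX
  have h7 : Nat.card ↥(N ⊔ S) ≤ Nat.card ↥(⁅N, S⁆ ⊔ S) := by
    rw [h1]; exact Subgroup.card_le_of_le h6
  rw [h4, h5] at h7
  have h8 : Nat.card N ≤ Nat.card ↥⁅N, S⁆ := Nat.le_of_mul_le_mul_right h7 Nat.card_pos
  have h9 : ⁅N, S⁆ = N := Subgroup.eq_of_le_of_card_ge hMN h8
  refine ⟨h9, ?_⟩
  rw [← h9]; exact h1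

theorem CEF.card_X (c : CEF p H R V X N S) : Nat.card X = Nat.card N * Nat.card S := by
  rw [← c.G1.2]
  exact c.card_X_of N S c.toCES.hSN le_rfl le_rfl

/-- (G2) -/
theorem CEF.G2 (c : CEF p H R V X N S) (N₂ : Subgroup G) (hN₂ : N₂ ≤ N) (hne : N₂ ≠ N)
    (hSN₂ : S ≤ Subgroup.normalizer (N₂ : Set G)) (hRN₂ : R ≤ Subgroup.normalizer (N₂ : Set G)) :
    ⁅N₂, S⁆ = ⊥ := by
  apply c.toCEX.KL' N₂ S (hN₂.trans c.toCES.hNX)
    (Nat.Coprime.coprime_dvd_left (Subgroup.card_dvd_of_le hN₂) c.toCES.hNcop) c.hSX c.hSp hRN₂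
    c.hRS c.comm_S hSN₂
  intro h
  have h1 : ⁅N₂, S⁆ ⊔ S ≤ N₂ ⊔ S :=
    sup_le_sup_right (commutator_le_left_of_le_normalizer N₂ S hSN₂) S
  have h2 := Subgroup.card_le_of_le h1
  rw [h, c.card_X, c.card_X_of N₂ S hSN₂ hN₂ le_rfl] at h2
  have h3 : Nat.card N ≤ Nat.card N₂ := Nat.le_of_mul_le_mul_right h2 Nat.card_pos
  exact hne (Subgroup.eq_of_le_of_card_ge hN₂ h3)

/-- (G3) -/
theorem CEF.G3 (c : CEF p H R V X N S) (S₂ : Subgroup G) (hS₂ : S₂ ≤ S) (hne : S₂ ≠ S)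
    (hRS₂ : R ≤ Subgroup.normalizer (S₂ : Set G)) : S₂ = ⊥ := by
  have hS₂N : S₂ ≤ Subgroup.normalizer (N : Set G) := hS₂.trans c.toCES.hSN
  have h0 : ⁅N, S₂⁆ = ⊥ := by
    apply c.toCEX.KL' N S₂ c.toCES.hNX c.toCES.hNcop (hS₂.trans c.hSX) (c.hSp.to_le hS₂)
      c.toCES.hRN hRS₂ (c.comm_of_le_S S₂ hS₂ hRS₂) hS₂N
    intro h
    have h1 : ⁅N, S₂⁆ ⊔ S₂ ≤ N ⊔ S₂ :=
      sup_le_sup_right (commutator_le_left_of_le_normalizer N S₂ hS₂N) S₂
    have h2 := Subgroup.card_le_of_le h1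
    rw [h, c.card_X, c.card_X_of N S₂ hS₂N le_rfl hS₂] at h2
    have h3 : Nat.card S ≤ Nat.card S₂ := Nat.le_of_mul_le_mul_left h2 Nat.card_pos
    exact hne (Subgroup.eq_of_le_of_card_ge hS₂ h3)
  have h3 : S₂ ≤ Subgroup.centralizer (N : Set G) :=
    Subgroup.le_centralizer_iff.mp (Subgroup.commutator_eq_bot_iff_le_centralizer.mp h0)
  exact c.toCES.eq_bot_of_centralizes_N S₂ (hS₂.trans c.hSX) (c.hSp.to_le hS₂) h3

/-- the four term formula for `N` -/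
theorem CEF.four_term (c : CEF p H R V X N S) :
    Nat.card ↥(N ⊓ Subgroup.centralizer ((S ⊔ R : Subgroup G) : Set G)) ^ Nat.card R *
      Nat.card N = Nat.card ↥(N ⊓ Subgroup.centralizer (R : Set G)) ^ Nat.card R *
        Nat.card ↥(N ⊓ Subgroup.centralizer (S : Set G)) :=
  Cfsg.Agent.Lib.Helper11.FrobFourTerm2.four_term_conc N S R c.toCES.hSN c.toCES.hRN c.hRS
    c.hSp.isNilpotent (c.fpf c.inf_SR) inferInstance c.toCES.cop_SN.symm c.cop_RN.symm

end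

end Cfsg.Agent.Lib.Helper21.ZG
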