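import Mathlib
import Cfsg.Agent.Lib.Helper21.ZGG
import Cfsg.Agent.Lib.Helper11.FrobConcCore

/-!
# B & G Theorem 3.6: `O_{p'}(X)` is abelian
-/

set_option autoImplicit false

namespace Cfsg.Agent.Lib.Helper21.ZG

open Cfsg Cfsg.Agent.Lib.Helper21 Cfsg.Agent.Lib.Helper1 Cfsg.Agent.Lib.Lead
  Cfsg.Agent.Lib.Helper11
open scoped commutatorElement

universe u

section

variable {G : Type u} [Group G] [Finite G] [Group.IsSolvable G] {p : ℕ} [hp : Fact p.Prime]
variable {H R V X N S : Subgroup G}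

theorem CEF.hNV (c : CEF p H R V X N S) : N ≤ Subgroup.normalizer (V : Set G) :=
  c.toCES.hNX.trans c.toCEX.hXV

theorem CEF.not_dvd_card_le_N (c : CEF p H R V X N S) {A : Subgroup G} (hA : A ≤ N) :
    ¬ p ∣ Nat.card A := by
  intro h
  have h1 := Nat.Coprime.coprime_dvd_left (Subgroup.card_dvd_of_le hA) c.toCES.hNcop
  have h2 := Nat.dvd_gcd h (dvd_refl p)
  rw [h1] at h2
  exact hp.out.one_lt.ne' (Nat.dvd_one.mp h2)

/-- a subgroup of `X` centralising `V` is trivial -/
theorem CEF.eq_bot_of_centralizes_V (c : CEF p H R V X N S) {A : Subgroup G} (hAX : A ≤ X)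
    (hAV : A ≤ Subgroup.centralizer (V : Set G)) : A = ⊥ := by
  rw [eq_bot_iff, ← c.toCEX.inf_centralizer]
  exact le_inf hAX hAV

/-- if a subgroup `A` of `X`, normal in `X` and `R`-invariant, is nontrivial, it has no fixed
points on `V` -/
theorem CEF.inf_centralizer_eq_bot (c : CEF p H R V X N S) {A : Subgroup G} (hAX : A ≤ X)
    (hA : A ≠ ⊥) (hXA : X ≤ Subgroup.normalizer (A : Set G))
    (hRA : R ≤ Subgroup.normalizer (A : Set G)) :
    V ⊓ Subgroup.centralizer (A : Set G) = ⊥ := by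
  by_contra hne
  have h1 := c.toCEX.le_of_invariant _ (inf_le_left.trans c.hVH) hne
    (c.toCEX.V_le_normalizer inf_le_left)
    (le_normalizer_inf c.toCEX.hXV (le_normalizer_centralizer hXA))
    (le_normalizer_inf c.hRV (le_normalizer_centralizer hRA))
  exact hA (c.eq_bot_of_centralizes_V hAX
    (Subgroup.le_centralizer_iff.mp (h1.trans inf_le_right)))

theorem CEF.N_comm (c : CEF p H R V X N S) : ∀ x ∈ N, ∀ y ∈ N, x * y = y * x := by
  have hpp : p.Prime := hp.out
  by_contra hnc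
  have hSN := c.toCES.hSN
  have hRN := c.toCES.hRN
  have hN' : ⁅N, N⁆ ≠ ⊥ := fun h => hnc (comm_of_commutator_eq_bot h)
  have hN'N : ⁅N, N⁆ ≤ N := commutator_le_left_of_le_normalizer N N Subgroup.le_normalizer
  have hN'ne : ⁅N, N⁆ ≠ N := commutator_self_ne N c.toCES.hNne
  have hSN' : S ≤ Subgroup.normalizer ((⁅N, N⁆ : Subgroup G) : Set G) :=
    le_normalizer_commutator S N N hSN hSN
  have hRN' : R ≤ Subgroup.normalizer ((⁅N, N⁆ : Subgroup G) : Set G) :=
    le_normalizer_commutator R N N hRN hRN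
  have hN'S : ⁅⁅N, N⁆, S⁆ = ⊥ := c.G2 _ hN'N hN'ne hSN' hRN'
  -- `N'` is central in `N`
  have hNN' : ⁅N, ⁅N, N⁆⁆ = ⊥ := by
    have h1 : ⁅⁅N, ⁅N, N⁆⁆, S⁆ = ⊥ := by
      rw [eq_bot_iff, ← hN'S]
      apply Subgroup.commutator_mono _ le_rfl
      rw [Subgroup.commutator_comm]
      exact commutator_le_left_of_le_normalizer ⁅N, N⁆ N (left_le_normalizer_commutator N N)
    have h2 : ⁅⁅⁅N, N⁆, S⁆, N⁆ = ⊥ := by rw [hN'S, Subgroup.commutator_bot_left]
    have h3 := Subgroup.commutator_commutator_eq_bot_of_rotate h1 h2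
    rw [Subgroup.commutator_comm S N, c.G1.1] at h3
    exact h3
  have hN'cN : ⁅N, N⁆ ≤ Subgroup.centralizer (N : Set G) :=
    Subgroup.le_centralizer_iff.mp (Subgroup.commutator_eq_bot_iff_le_centralizer.mp hNN')
  have hN'cS : ⁅N, N⁆ ≤ Subgroup.centralizer (S : Set G) :=
    Subgroup.commutator_eq_bot_iff_le_centralizer.mp hN'S
  -- `R` centralises `N'`
  have hA₁ : ⁅⁅N, N⁆, R⁆ = ⊥ := by
    by_contra hA₁ne
    obtain ⟨A₁, hA₁def⟩ : ∃ A₁ : Subgroup G, A₁ = ⁅⁅N, N⁆, R⁆ := ⟨_, rfl⟩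
    rw [← hA₁def] at hA₁ne
    have hA₁N' : A₁ ≤ ⁅N, N⁆ := by
      rw [hA₁def]; exact commutator_le_left_of_le_normalizer _ R hRN'
    have hA₁N : A₁ ≤ N := hA₁N'.trans hN'N
    have hA₁X : A₁ ≤ X := hA₁N.trans c.toCES.hNX
    have hA₁R : ⁅A₁, R⁆ = A₁ := by
      rw [hA₁def]
      exact Cfsg.Agent.S0027.result R ⁅N, N⁆ hRN'
        (Nat.Coprime.coprime_dvd_right (Subgroup.card_dvd_of_le hN'N) c.cop_RN)
        (Or.inl inferInstance)
    have hRA₁ : R ≤ Subgroup.normalizer (A₁ : Set G) := by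
      rw [hA₁def]; exact right_le_normalizer_commutator _ R hRN'
    have hA₁cN : A₁ ≤ Subgroup.centralizer (N : Set G) := hA₁N'.trans hN'cN
    have hA₁cS : A₁ ≤ Subgroup.centralizer (S : Set G) := hA₁N'.trans hN'cS
    have hA₁c : ∀ x ∈ A₁, ∀ y ∈ A₁, x * y = y * x := by
      intro x hx y hy
      exact ((Subgroup.mem_centralizer_iff.mp (hA₁cN hx)) y (hA₁N hy)).symm
    have hXcA₁ : X ≤ Subgroup.centralizer (A₁ : Set G) := by
      rw [← c.G1.2]
      exact sup_le (Subgroup.le_centralizer_iff.mp hA₁cN) (Subgroup.le_centralizer_iff.mp hA₁cS)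
    have hXA₁ : X ≤ Subgroup.normalizer (A₁ : Set G) :=
      hXcA₁.trans (Subgroup.centralizer_le_normalizer _)
    have hCA := c.inf_centralizer_eq_bot hA₁X hA₁ne hXA₁ hRA₁
    have hcopRA₁ : (Nat.card R).Coprime (Nat.card A₁) :=
      Nat.Coprime.coprime_dvd_right (Subgroup.card_dvd_of_le hA₁N) c.cop_RN
    have hA₁fix : A₁ ⊓ Subgroup.centralizer (R : Set G) = ⊥ := by
      haveI : IsMulCommutative A₁ :=
        isMulCommutative_iff.mpr (fun a b => Subtype.ext (hA₁c a a.2 b b.2))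
      have h1 := (coprime_abelian_decomposition R A₁ hRA₁ hcopRA₁).1
      rw [hA₁R, inf_eq_left.mpr (inf_le_left)] at h1
      exact h1
    have hA₁V : A₁ ≤ Subgroup.normalizer (V : Set G) := hA₁N.trans c.hNV
    have hfpf := c.fpf hA₁fix
    have hcardV : Nat.card V = p ^ Nat.card R := by
      have h1 := Cfsg.Agent.Lib.Helper11.FrobFormula.frob_formula p A₁ R hRA₁
        (isNilpotent_of_comm A₁ hA₁c) hfpf (c.not_dvd_card_le_N hA₁N) c.not_dvd_card_R
        (Nat.card V) V rfl c.hVc c.hVe hA₁V c.hRV hCA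
      rw [c.card_CV] at h1
      exact h1
    have h2 := Cfsg.Agent.Lib.Helper11.FrobConcCore.core_conc_ab p A₁ R N V c.hVc c.hVe hRA₁ hA₁V
      c.hRV c.hNV (c.not_dvd_card_le_N hA₁N)
      (by
        have : ⁅A₁, A₁⁆ = ⊥ := by
          rw [Subgroup.commutator_eq_bot_iff_le_centralizer]
          intro x hx
          rw [Subgroup.mem_centralizer_iff]
          intro y hy
          exact hA₁c y hy x hx
        rw [this]; exact bot_le)
      hfpf hCA
      (by
        have : ⁅N, A₁⁆ = ⊥ := by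
          rw [Subgroup.commutator_eq_bot_iff_le_centralizer]
          exact Subgroup.le_centralizer_iff.mp hA₁cN
        rw [this]; exact bot_le)
      hcardV
    exact hN' (c.eq_bot_of_centralizes_V (hN'N.trans c.toCES.hNX) h2)
  have hN'cR : ⁅N, N⁆ ≤ Subgroup.centralizer (R : Set G) :=
    Subgroup.commutator_eq_bot_iff_le_centralizer.mp hA₁
  -- `C_N(R)` centralises `[N, R]`
  have hKc : ⁅N, R⁆ ≤ Subgroup.centralizer
      ((N ⊓ Subgroup.centralizer (R : Set G) : Subgroup G) : Set G) := by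
    rw [Subgroup.commutator_le]
    intro y hy r hr
    rw [Subgroup.mem_centralizer_iff]
    intro x hx
    obtain ⟨hxN, hxR⟩ := Subgroup.mem_inf.mp hx
    have hxr : r * x = x * r := (Subgroup.mem_centralizer_iff.mp hxR) r hr
    have hz : ⁅x, y⁆ ∈ ⁅N, N⁆ := Subgroup.commutator_mem_commutator hxN hy
    have hzr : r * ⁅x, y⁆ = ⁅x, y⁆ * r := (Subgroup.mem_centralizer_iff.mp (hN'cR hz)) r hr
    have hwN : ⁅y, r⁆ ∈ N :=
      commutator_le_left_of_le_normalizer N R hRN (Subgroup.commutator_mem_commutator hy hr)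
    have hzw : ⁅y, r⁆ * ⁅x, y⁆ = ⁅x, y⁆ * ⁅y, r⁆ :=
      (Subgroup.mem_centralizer_iff.mp (hN'cN hz)) _ hwN
    have e1 : x * ⁅y, r⁆ * x⁻¹ = ⁅⁅x, y⁆ * y, x * r * x⁻¹⁆ := by
      simp only [commutatorElement_def]; group
    have e2 : x * r * x⁻¹ = r := by rw [← hxr]; group
    have e3 : ⁅⁅x, y⁆ * y, r⁆ = (⁅x, y⁆ * ⁅y, r⁆ * ⁅x, y⁆⁻¹) * ⁅⁅x, y⁆, r⁆ := by
      simp only [commutatorElement_def]; group
    have e4 : ⁅⁅x, y⁆, r⁆ = 1 := by
      rw [commutatorElement_def ⁅x, y⁆ r, ← hzr]; group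
    have e5 : ⁅x, y⁆ * ⁅y, r⁆ * ⁅x, y⁆⁻¹ = ⁅y, r⁆ := by rw [← hzw]; group
    have e6 : x * ⁅y, r⁆ * x⁻¹ = ⁅y, r⁆ := by rw [e1, e2, e3, e4, e5, mul_one]
    calc x * ⁅y, r⁆ = (x * ⁅y, r⁆ * x⁻¹) * x := by group
      _ = ⁅y, r⁆ * x := by rw [e6]
  -- `C_N(R)` is abelian
  have hNRc : N ⊓ Subgroup.centralizer (R : Set G) ≤ Subgroup.centralizer
      ((N ⊓ Subgroup.centralizer (R : Set G) : Subgroup G) : Set G) := by
    haveI := c.setup.zg
    haveI hZ : IsZGroup ↥(N ⊓ Subgroup.centralizer (R : Set G)) :=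
      IsZGroup.of_injective (f := Subgroup.inclusion
        (inf_le_inf_right _ (c.toCES.hNX.trans c.hXH)))
        (Subgroup.inclusion_injective _)
    have hcen : (Abelianization.of : ↥(N ⊓ Subgroup.centralizer (R : Set G)) →* _).ker ≤
        Subgroup.center ↥(N ⊓ Subgroup.centralizer (R : Set G)) := by
      rw [Abelianization.ker_of]
      intro z hz
      rw [Subgroup.mem_center_iff]
      intro g
      have h1 : (z : G) ∈ ⁅N, N⁆ := by
        have h2 : (z : G) ∈ (commutator ↥(N ⊓ Subgroup.centralizer (R : Set G))).map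
            (Subgroup.subtype _) := ⟨z, hz, rfl⟩
        rw [Subgroup.map_subtype_commutator] at h2
        exact Subgroup.commutator_mono inf_le_left inf_le_left h2
      exact Subtype.ext ((Subgroup.mem_centralizer_iff.mp (hN'cN h1)) _
        (Subgroup.mem_inf.mp g.2).1)
    have hcomm := MonoidHom.isMulCommutative_of_isCyclic_of_ker_le_center
      (Abelianization.of : ↥(N ⊓ Subgroup.centralizer (R : Set G)) →* _) hcen
    intro x hx
    rw [Subgroup.mem_centralizer_iff]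
    intro y hy
    exact congrArg Subtype.val ((isMulCommutative_iff.mp hcomm) ⟨y, hy⟩ ⟨x, hx⟩)
  -- hence `C_N(R)` is central in `N`
  have hNcNR : N ≤ Subgroup.centralizer
      ((N ⊓ Subgroup.centralizer (R : Set G) : Subgroup G) : Set G) := by
    have h1 := Cfsg.Agent.S0026.result R N hRN c.cop_RN (Or.inl inferInstance)
    calc N = ⁅N, R⁆ ⊔ (N ⊓ Subgroup.centralizer (R : Set G)) := h1.symm
      _ ≤ _ := sup_le hKc hNRc
  -- the centre of `N` is centralised by `S`
  have hZS : N ⊓ Subgroup.centralizer (N : Set G) ≤ Subgroup.centralizer (S : Set G) := by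
    have hZne : N ⊓ Subgroup.centralizer (N : Set G) ≠ N := by
      intro h
      apply hnc
      intro x hx y hy
      have h1 : x ∈ N ⊓ Subgroup.centralizer (N : Set G) := by rw [h]; exact hx
      exact ((Subgroup.mem_centralizer_iff.mp (Subgroup.mem_inf.mp h1).2) y hy).symm
    have h2 := c.G2 _ inf_le_left hZne (le_normalizer_inf hSN (le_normalizer_centralizer hSN))
      (le_normalizer_inf hRN (le_normalizer_centralizer hRN))
    exact Subgroup.commutator_eq_bot_iff_le_centralizer.mp h2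
  have hNRS : N ⊓ Subgroup.centralizer (R : Set G) ≤ Subgroup.centralizer (S : Set G) :=
    (le_inf inf_le_left (Subgroup.le_centralizer_iff.mp hNcNR)).trans hZS
  -- the four term formula
  have hfix : N ⊓ Subgroup.centralizer ((S ⊔ R : Subgroup G) : Set G) =
      N ⊓ Subgroup.centralizer (R : Set G) := by
    apply le_antisymm
    · exact inf_le_inf_left _ (Subgroup.centralizer_le
        (SetLike.coe_subset_coe.mpr (le_sup_right : R ≤ S ⊔ R)))
    · apply le_inf inf_le_left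
      apply Subgroup.le_centralizer_iff.mp
      exact sup_le (Subgroup.le_centralizer_iff.mp hNRS)
        (Subgroup.le_centralizer_iff.mp inf_le_right)
  have h4 := c.four_term
  rw [hfix] at h4
  have h5 : Nat.card N = Nat.card ↥(N ⊓ Subgroup.centralizer (S : Set G)) :=
    Nat.eq_of_mul_eq_mul_left (pow_pos Nat.card_pos _) h4
  have h6 : N ⊓ Subgroup.centralizer (S : Set G) = N :=
    Subgroup.eq_of_le_of_card_ge inf_le_left h5.le
  have h7 : S ≤ Subgroup.centralizer (N : Set G) :=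
    Subgroup.le_centralizer_iff.mp (by rw [← h6]; exact inf_le_right)
  exact c.hS (c.toCES.eq_bot_of_centralizes_N S c.hSX c.hSp h7)

end

end Cfsg.Agent.Lib.Helper21.ZG
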