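import Mathlib
import Cfsg.Agent.Lib.Helper21.ZGB
import Cfsg.Agent.Lib.Helper1.CoprimeAbelian
import Cfsg.Agent.Lib.Helper11.FrobFormula

/-!
# B & G Theorem 3.6: generic counting lemmas for the final configuration
-/

set_option autoImplicit false

namespace Cfsg.Agent.Lib.Helper21.ZG

open Cfsg.Agent.Lib.Helper1 Cfsg.Agent.Lib.Lead Cfsg.Agent.Lib.Helper11

section generic

variable {G : Type*} [Group G] [Finite G]

/-- subgroups of an abelian subgroup normalise each other -/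
theorem le_normalizer_of_le_comm {V A B : Subgroup G} (hVc : ∀ x ∈ V, ∀ y ∈ V, x * y = y * x)
    (hA : A ≤ V) (hB : B ≤ V) : A ≤ Subgroup.normalizer (B : Set G) := by
  rw [Subgroup.le_normalizer_iff]
  intro a ha b hb
  have : a * b * a⁻¹ = b := by rw [hVc a (hA ha) b (hB hb)]; group
  rw [this]; exact hb

/-- fixed points of a subgroup `Y` of the abelian group `N` lie in `[V, Y₀]` if `Y Y₀ = N` and `N`
has no fixed points -/
theorem inf_centralizer_le_commutator (V N Y Y₀ : Subgroup G)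
    (hVc : ∀ x ∈ V, ∀ y ∈ V, x * y = y * x) (hNc : ∀ x ∈ N, ∀ y ∈ N, x * y = y * x)
    (hNV : N ≤ Subgroup.normalizer (V : Set G)) (hcop : (Nat.card N).Coprime (Nat.card V))
    (hCN : V ⊓ Subgroup.centralizer (N : Set G) = ⊥) (hY : Y ≤ N) (hY₀ : Y₀ ≤ N)
    (hsup : Y ⊔ Y₀ = N) : V ⊓ Subgroup.centralizer (Y : Set G) ≤ ⁅V, Y₀⁆ := by
  haveI : IsMulCommutative ↥(V ⊓ Subgroup.centralizer (Y : Set G)) :=
    isMulCommutative_iff.mpr (fun a b => Subtype.ext
      (hVc a (Subgroup.mem_inf.mp a.2).1 b (Subgroup.mem_inf.mp b.2).1))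
  have hY₀cY : Y₀ ≤ Subgroup.centralizer (Y : Set G) := by
    intro y₀ hy₀
    rw [Subgroup.mem_centralizer_iff]
    intro y hy
    exact hNc y (hY hy) y₀ (hY₀ hy₀)
  have hY₀W : Y₀ ≤ Subgroup.normalizer
      ((V ⊓ Subgroup.centralizer (Y : Set G) : Subgroup G) : Set G) :=
    le_normalizer_inf (hY₀.trans hNV) (hY₀cY.trans Subgroup.le_normalizer)
  have hcop' : (Nat.card Y₀).Coprime (Nat.card ↥(V ⊓ Subgroup.centralizer (Y : Set G))) :=
    Nat.Coprime.coprime_dvd_left (Subgroup.card_dvd_of_le hY₀)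
      (Nat.Coprime.coprime_dvd_right (Subgroup.card_dvd_of_le inf_le_left) hcop)
  have h1 := (coprime_abelian_decomposition Y₀ _ hY₀W hcop').2
  have h2 : (V ⊓ Subgroup.centralizer (Y : Set G)) ⊓ Subgroup.centralizer (Y₀ : Set G) = ⊥ := by
    rw [eq_bot_iff, ← hCN]
    apply le_inf (inf_le_left.trans inf_le_left)
    apply Subgroup.le_centralizer_iff.mp
    rw [← hsup]
    exact sup_le (Subgroup.le_centralizer_iff.mp (inf_le_left.trans inf_le_right))
      (Subgroup.le_centralizer_iff.mp inf_le_right)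
  rw [h2, bot_sup_eq] at h1
  calc V ⊓ Subgroup.centralizer (Y : Set G)
      = ⁅V ⊓ Subgroup.centralizer (Y : Set G), Y₀⁆ := h1.symm
    _ ≤ ⁅V, Y₀⁆ := Subgroup.commutator_mono inf_le_left le_rfl

/-- independence of the fixed point subgroups -/
theorem pow_card_le_card_iSup (p : ℕ) (V N : Subgroup G)
    (hVc : ∀ x ∈ V, ∀ y ∈ V, x * y = y * x) (hNc : ∀ x ∈ N, ∀ y ∈ N, x * y = y * x)
    (hNV : N ≤ Subgroup.normalizer (V : Set G)) (hcop : (Nat.card N).Coprime (Nat.card V))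
    (hCN : V ⊓ Subgroup.centralizer (N : Set G) = ⊥) (𝒴 : Finset (Subgroup G)) :
    (∀ Y ∈ 𝒴, Y ≤ N) → (∀ Y ∈ 𝒴, ∀ Y' ∈ 𝒴, Y ≠ Y' → Y ⊔ Y' = N) →
    (∀ Y ∈ 𝒴, p ≤ Nat.card ↥(V ⊓ Subgroup.centralizer (Y : Set G))) →
    p ^ 𝒴.card ≤ Nat.card ↥(⨆ Y ∈ 𝒴, V ⊓ Subgroup.centralizer (Y : Set G)) := by
  classical
  induction 𝒴 using Finset.induction_on with
  | empty =>
    intro _ _ _
    simp
  | insert Y₀ 𝒴 hY₀ ih =>
    intro h𝒴 hpair hcard
    have ih' := ih (fun Y hY => h𝒴 Y (Finset.mem_insert_of_mem hY))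
      (fun Y hY Y' hY' hne => hpair Y (Finset.mem_insert_of_mem hY) Y'
        (Finset.mem_insert_of_mem hY') hne)
      (fun Y hY => hcard Y (Finset.mem_insert_of_mem hY))
    rw [Finset.iSup_insert, Finset.card_insert_of_notMem hY₀, pow_succ]
    have hY₀N : Y₀ ≤ N := h𝒴 Y₀ (Finset.mem_insert_self _ _)
    have hMV : (⨆ Y ∈ 𝒴, V ⊓ Subgroup.centralizer (Y : Set G)) ≤ V :=
      iSup₂_le (fun Y _ => inf_le_left)
    have hM : (⨆ Y ∈ 𝒴, V ⊓ Subgroup.centralizer (Y : Set G)) ≤ ⁅V, Y₀⁆ := by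
      apply iSup₂_le
      intro Y hY
      have hne : Y ≠ Y₀ := fun h => hY₀ (h ▸ hY)
      exact inf_centralizer_le_commutator V N Y Y₀ hVc hNc hNV hcop hCN
        (h𝒴 Y (Finset.mem_insert_of_mem hY)) hY₀N
        (hpair Y (Finset.mem_insert_of_mem hY) Y₀ (Finset.mem_insert_self _ _) hne)
    have hdisj : (V ⊓ Subgroup.centralizer (Y₀ : Set G)) ⊓
        (⨆ Y ∈ 𝒴, V ⊓ Subgroup.centralizer (Y : Set G)) = ⊥ := by
      haveI : IsMulCommutative ↥V :=
        isMulCommutative_iff.mpr (fun a b => Subtype.ext (hVc a a.2 b b.2))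
      have h1 := (coprime_abelian_decomposition Y₀ V (hY₀N.trans hNV)
        (Nat.Coprime.coprime_dvd_left (Subgroup.card_dvd_of_le hY₀N) hcop)).1
      rw [eq_bot_iff, ← h1]
      exact inf_le_inf_left _ hM
    rw [FrobFormula.card_sup_split _ _ (le_normalizer_of_le_comm hVc inf_le_left hMV) hdisj,
      mul_comm]
    exact Nat.mul_le_mul (hcard Y₀ (Finset.mem_insert_self _ _)) ih'

/-- two distinct subgroups of index `q` generate -/
theorem sup_eq_of_card {q : ℕ} (hq : q.Prime) (N A B : Subgroup G) (hA : A ≤ N) (hB : B ≤ N)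
    (hcA : Nat.card A * q = Nat.card N) (hcB : Nat.card B = Nat.card A) (hne : A ≠ B) :
    A ⊔ B = N := by
  have hle : A ⊔ B ≤ N := sup_le hA hB
  obtain ⟨m, hm⟩ := Subgroup.card_dvd_of_le (le_sup_left : A ≤ A ⊔ B)
  have h1 : Nat.card ↥(A ⊔ B) ∣ Nat.card N := Subgroup.card_dvd_of_le hle
  rw [hm, ← hcA] at h1
  have h2 : m ∣ q := Nat.dvd_of_mul_dvd_mul_left Nat.card_pos h1
  rcases (Nat.dvd_prime hq).mp h2 with h3 | h3
  · exfalso
    rw [h3, mul_one] at hm
    have h4 : A ⊔ B = A := (Subgroup.eq_of_le_of_card_ge le_sup_left hm.le).symm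
    have h5 : B ≤ A := by rw [← h4]; exact le_sup_right
    exact hne (Subgroup.eq_of_le_of_card_ge h5 hcB.ge).symm
  · apply Subgroup.eq_of_le_of_card_ge hle
    rw [hm, h3, hcA]

/-- a group of prime order acting without fixed points -/
theorem card_modEq_one_of_fpf (R S : Subgroup G)
    (hRS : R ≤ Subgroup.normalizer (S : Set G)) (hprime : (Nat.card R).Prime)
    (hfix : S ⊓ Subgroup.centralizer (R : Set G) = ⊥) :
    Nat.card S ≡ 1 [MOD Nat.card R] := by
  haveI : Fact (Nat.card R).Prime := ⟨hprime⟩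
  have hRp : IsPGroup (Nat.card R) ↥R := IsPGroup.of_card (n := 1) (pow_one _).symm
  obtain ⟨φ, hφ⟩ : ∃ φ : ↥R →* MulAut ↥S,
      ∀ (r : ↥R) (s : ↥S), ((φ r s : ↥S) : G) = r * s * (r : G)⁻¹ :=
    ⟨S.normalizerMonoidHom.comp (Subgroup.inclusion hRS), fun r s => rfl⟩
  letI : MulAction ↥R ↥S := MulAction.compHom ↥S φ
  have h1 := hRp.card_modEq_card_fixedPoints ↥S
  have h2 : Nat.card ↥(MulAction.fixedPoints ↥R ↥S) = 1 := by
    rw [Nat.card_eq_one_iff_unique]
    constructor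
    · constructor
      intro a b
      have key : ∀ x : ↥(MulAction.fixedPoints ↥R ↥S), (x : ↥S) = 1 := by
        intro x
        have hx := x.2
        rw [MulAction.mem_fixedPoints] at hx
        have h3 : ((x : ↥S) : G) ∈ S ⊓ Subgroup.centralizer (R : Set G) := by
          refine Subgroup.mem_inf.mpr ⟨(x : ↥S).2, ?_⟩
          rw [Subgroup.mem_centralizer_iff]
          intro r hr
          have h4 : φ ⟨r, hr⟩ (x : ↥S) = (x : ↥S) := hx ⟨r, hr⟩
          have h5 := congrArg Subtype.val h4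
          rw [hφ] at h5
          have h6 : r * ((x : ↥S) : G) * r⁻¹ = ((x : ↥S) : G) := h5
          calc r * ((x : ↥S) : G) = (r * ((x : ↥S) : G) * r⁻¹) * r := by group
            _ = ((x : ↥S) : G) * r := by rw [h6]
        rw [hfix, Subgroup.mem_bot] at h3
        exact Subtype.ext h3
      exact Subtype.ext ((key a).trans (key b).symm)
    · refine ⟨⟨1, ?_⟩⟩
      rw [MulAction.mem_fixedPoints]
      intro r
      show φ r 1 = 1
      exact map_one _
  rw [h2] at h1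
  exact h1

end generic

end Cfsg.Agent.Lib.Helper21.ZG
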