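import Mathlib
import Cfsg.Agent.Lib.Helper21.ZGH
import Cfsg.Agent.Lib.Helper21.ZGI

/-!
# B & G Theorem 3.6: the final contradiction
-/

set_option autoImplicit false

namespace Cfsg.Agent.Lib.Helper21.ZG

open Cfsg Cfsg.Agent.Lib.Helper21 Cfsg.Agent.Lib.Helper1 Cfsg.Agent.Lib.Lead
  Cfsg.Agent.Lib.Helper11
open scoped commutatorElement

universe u

section generic

variable {G : Type*} [Group G]

/-- the elements of an abelian subgroup on which conjugation by `n₀` is the `k`-th power map -/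
def eigenSub (V : Subgroup G) (hVc : ∀ x ∈ V, ∀ y ∈ V, x * y = y * x) (n₀ : G) (k : ℤ) :
    Subgroup G where
  carrier := {v | v ∈ V ∧ n₀ * v * n₀⁻¹ = v ^ k}
  one_mem' := ⟨V.one_mem, by simp⟩
  mul_mem' := fun {a b} ha hb => ⟨V.mul_mem ha.1 hb.1, by
    have hc : Commute a b := hVc a ha.1 b hb.1
    rw [hc.mul_zpow, ← ha.2, ← hb.2]; group⟩
  inv_mem' := fun {a} ha => ⟨V.inv_mem ha.1, by
    rw [inv_zpow, ← ha.2]; group⟩

theorem mem_eigenSub {V : Subgroup G} {hVc : ∀ x ∈ V, ∀ y ∈ V, x * y = y * x} {n₀ : G} {k : ℤ}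
    {v : G} : v ∈ eigenSub V hVc n₀ k ↔ v ∈ V ∧ n₀ * v * n₀⁻¹ = v ^ k := Iff.rfl

theorem eigenSub_le (V : Subgroup G) (hVc : ∀ x ∈ V, ∀ y ∈ V, x * y = y * x) (n₀ : G) (k : ℤ) :
    eigenSub V hVc n₀ k ≤ V := fun _ hv => hv.1

theorem le_normalizer_eigenSub {V : Subgroup G} (hVc : ∀ x ∈ V, ∀ y ∈ V, x * y = y * x) (n₀ : G)
    (k : ℤ) {A : Subgroup G} (hAV : A ≤ Subgroup.normalizer (V : Set G))
    (hcomm : ∀ a ∈ A, a * n₀ = n₀ * a) :
    A ≤ Subgroup.normalizer ((eigenSub V hVc n₀ k : Subgroup G) : Set G) := by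
  rw [Subgroup.le_normalizer_iff]
  intro a ha v hv
  refine ⟨(Subgroup.le_normalizer_iff.mp hAV) a ha v hv.1, ?_⟩
  have h1 : n₀ * (a * v * a⁻¹) * n₀⁻¹ = a * (n₀ * v * n₀⁻¹) * a⁻¹ := by
    have h2 : n₀ * a = a * n₀ := (hcomm a ha).symm
    have h3 : a⁻¹ * n₀⁻¹ = n₀⁻¹ * a⁻¹ := by
      rw [← mul_inv_rev, ← mul_inv_rev, h2]
    calc n₀ * (a * v * a⁻¹) * n₀⁻¹ = (n₀ * a) * v * (a⁻¹ * n₀⁻¹) := by group
      _ = (a * n₀) * v * (n₀⁻¹ * a⁻¹) := by rw [h2, h3]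
      _ = a * (n₀ * v * n₀⁻¹) * a⁻¹ := by group
  rw [h1, hv.2, conj_zpow]

end generic

section

variable {G : Type u} [Group G] [Finite G] [Group.IsSolvable G] {p : ℕ} [hp : Fact p.Prime]
variable {H R V X N S : Subgroup G}

/-- (A1) -/
theorem CEF.inf_NS' (c : CEF p H R V X N S) : N ⊓ Subgroup.centralizer (S : Set G) = ⊥ := by
  haveI : IsMulCommutative ↥N :=
    isMulCommutative_iff.mpr (fun a b => Subtype.ext (c.N_comm a a.2 b b.2))
  have h1 := (coprime_abelian_decomposition S N c.toCES.hSN c.toCES.cop_SN).1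
  rw [c.G1.1, inf_eq_left.mpr inf_le_left] at h1
  exact h1

/-- (A2) -/
theorem CEF.exists_q (c : CEF p H R V X N S) :
    ∃ q : ℕ, q.Prime ∧ ∀ x ∈ N, x ^ q = 1 := by
  have hNc := c.N_comm
  have hcard : Nat.card N ≠ 1 := fun h => c.toCES.hNne (Subgroup.card_eq_one.mp h)
  obtain ⟨q, hq, hqd⟩ := Nat.exists_prime_and_dvd hcard
  haveI : Fact q.Prime := ⟨hq⟩
  refine ⟨q, hq, ?_⟩
  have hΩ : omegaSub N hNc q ≠ ⊥ := by
    intro hΩ
    obtain ⟨x, hx⟩ := exists_prime_orderOf_dvd_card' (G := ↥N) q hqd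
    have h1 : (x : G) ∈ omegaSub N hNc q := by
      refine ⟨x.2, ?_⟩
      rw [← Subgroup.coe_pow, ← hx, pow_orderOf_eq_one, Subgroup.coe_one]
    rw [hΩ, Subgroup.mem_bot] at h1
    have h2 : x = 1 := Subtype.ext h1
    rw [h2, orderOf_one] at hx
    exact hq.one_lt.ne hx
  by_cases hΩN : omegaSub N hNc q = N
  · intro x hx
    have : x ∈ omegaSub N hNc q := by rw [hΩN]; exact hx
    exact this.2
  · exfalso
    have h1 := c.G2 _ (omegaSub_le N hNc q) hΩN (le_normalizer_omegaSub hNc q c.toCES.hSN)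
      (le_normalizer_omegaSub hNc q c.toCES.hRN)
    have h2 : omegaSub N hNc q ≤ N ⊓ Subgroup.centralizer (S : Set G) :=
      le_inf (omegaSub_le N hNc q) (Subgroup.commutator_eq_bot_iff_le_centralizer.mp h1)
    rw [c.inf_NS'] at h2
    exact hΩ (eq_bot_iff.mpr h2)

/-- (A3) -/
theorem CEF.card_N (c : CEF p H R V X N S) {q : ℕ} (hq : q.Prime) (hexp : ∀ x ∈ N, x ^ q = 1) :
    Nat.card ↥(N ⊓ Subgroup.centralizer (R : Set G)) = q ∧ Nat.card N = q ^ Nat.card R := by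
  haveI : Fact q.Prime := ⟨hq⟩
  have h4 := c.four_term
  have h1 : N ⊓ Subgroup.centralizer ((S ⊔ R : Subgroup G) : Set G) = ⊥ := by
    rw [eq_bot_iff, ← c.inf_NS']
    exact inf_le_inf_left _ (Subgroup.centralizer_le
      (SetLike.coe_subset_coe.mpr (le_sup_left : S ≤ S ⊔ R)))
  rw [h1, c.inf_NS', Subgroup.card_bot, one_pow, one_mul, mul_one] at h4
  have hne : N ⊓ Subgroup.centralizer (R : Set G) ≠ ⊥ := by
    intro h
    rw [h, Subgroup.card_bot, one_pow] at h4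
    exact c.toCES.hNne (Subgroup.card_eq_one.mp h4)
  haveI := c.setup.zg
  have hle : N ⊓ Subgroup.centralizer (R : Set G) ≤ H ⊓ Subgroup.centralizer (R : Set G) :=
    inf_le_inf_right _ (c.toCES.hNX.trans c.hXH)
  have hqg : IsPGroup q ↥(N ⊓ Subgroup.centralizer (R : Set G)) :=
    isPGroup_of_exp (fun x hx => hexp x (Subgroup.mem_inf.mp hx).1)
  have hcyc : IsCyclic ↥(N ⊓ Subgroup.centralizer (R : Set G)) := by
    haveI : IsCyclic ↥((N ⊓ Subgroup.centralizer (R : Set G)).subgroupOf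
        (H ⊓ Subgroup.centralizer (R : Set G))) :=
      (hqg.of_equiv (Subgroup.subgroupOfEquivOfLe hle).symm).isCyclic_of_isZGroup
    exact isCyclic_of_surjective (Subgroup.subgroupOfEquivOfLe hle)
      (Subgroup.subgroupOfEquivOfLe hle).surjective
  have h5 := card_eq_prime_of_cyclic_exp hq _ hcyc
    (fun x hx => hexp x (Subgroup.mem_inf.mp hx).1) hne
  rw [h5] at h4
  exact ⟨h5, h4⟩

end

end Cfsg.Agent.Lib.Helper21.ZG
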