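import Mathlib
import Cfsg.Agent.Lib.Helper21.ZGJ

/-!
# B & G Theorem 3.6: the final contradiction and the theorem
-/

set_option autoImplicit false

namespace Cfsg.Agent.Lib.Helper21.ZG

open Cfsg Cfsg.Agent.Lib.Helper21 Cfsg.Agent.Lib.Helper1 Cfsg.Agent.Lib.Lead
  Cfsg.Agent.Lib.Helper11
open scoped commutatorElement

universe u

section

variable {G : Type u} [Group G] [Finite G] [Group.IsSolvable G] {p : ℕ} [hp : Fact p.Prime]
variable {H R V X N S : Subgroup G}

/-- data of the abelian case -/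
structure CEK (p : ℕ) {G : Type u} [Group G] (H R V X N S K : Subgroup G) (q : ℕ) : Prop
    extends CEF p H R V X N S where
  hq : q.Prime
  hexp : ∀ x ∈ N, x ^ q = 1
  hKdef : K = ⁅N, R⁆

variable {K : Subgroup G} {q : ℕ}

theorem CEK.hNc (c : CEK p H R V X N S K q) : ∀ x ∈ N, ∀ y ∈ N, x * y = y * x := c.toCEF.N_comm

theorem CEK.hKN (c : CEK p H R V X N S K q) : K ≤ N := by
  rw [c.hKdef]; exact commutator_le_left_of_le_normalizer N R c.toCES.hRN

theorem CEK.hRK (c : CEK p H R V X N S K q) : R ≤ Subgroup.normalizer (K : Set G) := by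
  rw [c.hKdef]; exact right_le_normalizer_commutator N R c.toCES.hRN

theorem CEK.hKc (c : CEK p H R V X N S K q) : ∀ x ∈ K, ∀ y ∈ K, x * y = y * x :=
  fun x hx y hy => c.hNc x (c.hKN hx) y (c.hKN hy)

theorem CEK.hKV (c : CEK p H R V X N S K q) : K ≤ Subgroup.normalizer (V : Set G) :=
  c.hKN.trans c.toCEF.hNV

theorem CEK.hKfix (c : CEK p H R V X N S K q) :
    K ⊓ Subgroup.centralizer (R : Set G) = ⊥ := by
  haveI : IsMulCommutative ↥N :=
    isMulCommutative_iff.mpr (fun a b => Subtype.ext (c.hNc a a.2 b b.2))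
  have h1 := (coprime_abelian_decomposition R N c.toCES.hRN c.cop_RN).1
  rw [← c.hKdef] at h1
  rw [eq_bot_iff, ← h1]
  exact le_inf (inf_le_inf_right _ c.hKN) inf_le_left

theorem CEK.card_K (c : CEK p H R V X N S K q) : Nat.card K * q = Nat.card N := by
  haveI : IsMulCommutative ↥N :=
    isMulCommutative_iff.mpr (fun a b => Subtype.ext (c.hNc a a.2 b b.2))
  have h1 := coprime_abelian_decomposition R N c.toCES.hRN c.cop_RN
  rw [← c.hKdef] at h1
  have h2 := FrobFormula.card_sup_split (N ⊓ Subgroup.centralizer (R : Set G)) K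
    (le_normalizer_of_le_comm c.hNc inf_le_left c.hKN) h1.1
  rw [h1.2, (c.toCEF.card_N c.hq c.hexp).1] at h2
  rw [h2, mul_comm]

theorem CEK.two_le (c : CEK p H R V X N S K q) : 2 ≤ Nat.card R := c.prime.two_le

theorem CEK.hKne (c : CEK p H R V X N S K q) : K ≠ ⊥ := by
  intro h
  have h1 := c.card_K
  rw [h, Subgroup.card_bot, one_mul, (c.toCEF.card_N c.hq c.hexp).2] at h1
  have h2 : q ^ 1 < q ^ Nat.card R := Nat.pow_lt_pow_right c.hq.one_lt c.two_le
  rw [pow_one] at h2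
  omega

theorem CEK.hKneN (c : CEK p H R V X N S K q) : K ≠ N := by
  intro h
  have h1 := c.card_K
  rw [h] at h1
  have h2 : Nat.card N * q = Nat.card N * 1 := by rw [h1, mul_one]
  have h3 := Nat.eq_of_mul_eq_mul_left Nat.card_pos h2
  exact c.hq.one_lt.ne' h3

theorem CEK.hCN (c : CEK p H R V X N S K q) : V ⊓ Subgroup.centralizer (N : Set G) = ⊥ :=
  c.toCEF.inf_centralizer_eq_bot c.toCES.hNX c.toCES.hNne c.toCES.hXN c.toCES.hRN

theorem CEK.frob (c : CEK p H R V X N S K q) (W : Subgroup G) (hWV : W ≤ V)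
    (hKW : K ≤ Subgroup.normalizer (W : Set G)) (hRW : R ≤ Subgroup.normalizer (W : Set G))
    (hWK : W ⊓ Subgroup.centralizer (K : Set G) = ⊥) :
    Nat.card W = Nat.card ↥(W ⊓ Subgroup.centralizer (R : Set G)) ^ Nat.card R :=
  Cfsg.Agent.Lib.Helper11.FrobFormula.frob_formula p K R c.hRK (isNilpotent_of_comm K c.hKc)
    (c.toCEF.fpf c.hKfix) (c.toCEF.not_dvd_card_le_N c.hKN) c.not_dvd_card_R (Nat.card W) W rfl
    (fun x hx y hy => c.hVc x (hWV hx) y (hWV hy)) (fun x hx => c.hVe x (hWV hx)) hKW hRW hWK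

/-- the scalar case: `C_V(K) = 1` is impossible -/
theorem CEK.scalar (c : CEK p H R V X N S K q) :
    V ⊓ Subgroup.centralizer (K : Set G) ≠ ⊥ := by
  intro hU
  have hpp : p.Prime := hp.out
  have hcardV : Nat.card V = p ^ Nat.card R := by
    have h1 := c.frob V le_rfl c.hKV c.hRV hU
    rw [c.card_CV] at h1
    exact h1
  -- a generator of `C_V(R)`
  haveI : Fact (Nat.card ↥(V ⊓ Subgroup.centralizer (R : Set G))).Prime := by
    rw [c.card_CV]; exact ⟨hpp⟩
  obtain ⟨g, hg1⟩ := (Subgroup.ne_bot_iff_exists_ne_one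
    (H := V ⊓ Subgroup.centralizer (R : Set G))).mp c.hCV
  have hgen : Subgroup.zpowers g = ⊤ := zpowers_eq_top_of_prime_card rfl hg1
  -- every element of `C_N(R)` commutes with `S`
  have key : N ⊓ Subgroup.centralizer (R : Set G) ≤ Subgroup.centralizer (S : Set G) := by
    intro n₀ hn₀
    obtain ⟨hn₀N, hn₀R⟩ := Subgroup.mem_inf.mp hn₀
    have hn₀V : n₀ ∈ Subgroup.normalizer (V : Set G) := c.toCEF.hNV hn₀N
    have hn₀CR : n₀ ∈ Subgroup.normalizer
        ((V ⊓ Subgroup.centralizer (R : Set G) : Subgroup G) : Set G) := by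
      have h1 : Subgroup.zpowers n₀ ≤ Subgroup.normalizer
          ((V ⊓ Subgroup.centralizer (R : Set G) : Subgroup G) : Set G) :=
        le_normalizer_inf (Subgroup.zpowers_le.mpr hn₀V)
          ((Subgroup.zpowers_le.mpr hn₀R).trans Subgroup.le_normalizer)
      exact h1 (Subgroup.mem_zpowers n₀)
    have h2 : n₀ * (g : G) * n₀⁻¹ ∈ V ⊓ Subgroup.centralizer (R : Set G) :=
      (Subgroup.mem_normalizer_iff.mp hn₀CR _).mp g.2
    have h3 : (⟨n₀ * (g : G) * n₀⁻¹, h2⟩ : ↥(V ⊓ Subgroup.centralizer (R : Set G))) ∈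
        Subgroup.zpowers g := by rw [hgen]; exact Subgroup.mem_top _
    obtain ⟨k, hk⟩ := Subgroup.mem_zpowers_iff.mp h3
    have hk' : (g : G) ^ k = n₀ * (g : G) * n₀⁻¹ := by
      have := congrArg Subtype.val hk
      simpa using this
    -- the eigen-subgroup
    have hCE : V ⊓ Subgroup.centralizer (R : Set G) ≤ eigenSub V c.hVc n₀ k := by
      intro v hv
      have h4 : (⟨v, hv⟩ : ↥(V ⊓ Subgroup.centralizer (R : Set G))) ∈ Subgroup.zpowers g := by
        rw [hgen]; exact Subgroup.mem_top _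
      obtain ⟨j, hj⟩ := Subgroup.mem_zpowers_iff.mp h4
      have hj' : (g : G) ^ j = v := by
        have := congrArg Subtype.val hj
        simpa using this
      refine ⟨(Subgroup.mem_inf.mp hv).1, ?_⟩
      rw [← hj', ← conj_zpow, ← hk', ← zpow_mul, ← zpow_mul, mul_comm]
    have hKE : K ≤ Subgroup.normalizer ((eigenSub V c.hVc n₀ k : Subgroup G) : Set G) :=
      le_normalizer_eigenSub c.hVc n₀ k c.hKV (fun a ha => c.hNc a (c.hKN ha) n₀ hn₀N)
    have hRE : R ≤ Subgroup.normalizer ((eigenSub V c.hVc n₀ k : Subgroup G) : Set G) :=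
      le_normalizer_eigenSub c.hVc n₀ k c.hRV
        (fun a ha => (Subgroup.mem_centralizer_iff.mp hn₀R) a ha)
    have hEK : eigenSub V c.hVc n₀ k ⊓ Subgroup.centralizer (K : Set G) = ⊥ := by
      rw [eq_bot_iff, ← hU]
      exact inf_le_inf_right _ (eigenSub_le V c.hVc n₀ k)
    have hcardE := c.frob _ (eigenSub_le V c.hVc n₀ k) hKE hRE hEK
    have hER : eigenSub V c.hVc n₀ k ⊓ Subgroup.centralizer (R : Set G) =
        V ⊓ Subgroup.centralizer (R : Set G) :=
      le_antisymm (inf_le_inf_right _ (eigenSub_le V c.hVc n₀ k)) (le_inf hCE inf_le_right)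
    rw [hER, c.card_CV, ← hcardV] at hcardE
    have hEV : eigenSub V c.hVc n₀ k = V :=
      Subgroup.eq_of_le_of_card_ge (eigenSub_le V c.hVc n₀ k) hcardE.ge
    have hact : ∀ v ∈ V, n₀ * v * n₀⁻¹ = v ^ k := by
      intro v hv
      have : v ∈ eigenSub V c.hVc n₀ k := by rw [hEV]; exact hv
      exact this.2
    -- conjugates of `n₀` under `S` act in the same way
    rw [Subgroup.mem_centralizer_iff]
    intro s hs
    have hsX : s ∈ X := c.hSX hs
    have hsV : s ∈ Subgroup.normalizer (V : Set G) := c.toCEX.hXV hsX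
    have ht : n₀⁻¹ * (s * n₀ * s⁻¹) ∈ X ⊓ Subgroup.centralizer (V : Set G) := by
      refine Subgroup.mem_inf.mpr ⟨?_, ?_⟩
      · have hn₀X : n₀ ∈ X := c.toCES.hNX hn₀N
        exact X.mul_mem (X.inv_mem hn₀X) (X.mul_mem (X.mul_mem hsX hn₀X) (X.inv_mem hsX))
      · rw [Subgroup.mem_centralizer_iff]
        intro v hv
        have hw : s⁻¹ * v * s ∈ V := by
          have := (Subgroup.mem_normalizer_iff.mp (Subgroup.inv_mem _ hsV) v).mp hv
          rwa [inv_inv] at this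
        have e1 : (s * n₀ * s⁻¹) * v * (s * n₀ * s⁻¹)⁻¹ = n₀ * v * n₀⁻¹ := by
          calc (s * n₀ * s⁻¹) * v * (s * n₀ * s⁻¹)⁻¹
              = s * (n₀ * (s⁻¹ * v * s) * n₀⁻¹) * s⁻¹ := by group
            _ = s * (s⁻¹ * v * s) ^ k * s⁻¹ := by rw [hact _ hw]
            _ = (s * (s⁻¹ * v * s) * s⁻¹) ^ k := by rw [conj_zpow]
            _ = v ^ k := by congr 1; group
            _ = n₀ * v * n₀⁻¹ := (hact v hv).symm
        have e2 : (n₀⁻¹ * (s * n₀ * s⁻¹)) * v * (n₀⁻¹ * (s * n₀ * s⁻¹))⁻¹ = v := by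
          calc (n₀⁻¹ * (s * n₀ * s⁻¹)) * v * (n₀⁻¹ * (s * n₀ * s⁻¹))⁻¹
              = n₀⁻¹ * ((s * n₀ * s⁻¹) * v * (s * n₀ * s⁻¹)⁻¹) * n₀ := by group
            _ = n₀⁻¹ * (n₀ * v * n₀⁻¹) * n₀ := by rw [e1]
            _ = v := by group
        calc v * (n₀⁻¹ * (s * n₀ * s⁻¹))
            = ((n₀⁻¹ * (s * n₀ * s⁻¹)) * v * (n₀⁻¹ * (s * n₀ * s⁻¹))⁻¹) *
                (n₀⁻¹ * (s * n₀ * s⁻¹)) := by rw [e2]
          _ = (n₀⁻¹ * (s * n₀ * s⁻¹)) * v := by group
    rw [c.toCEX.inf_centralizer, Subgroup.mem_bot] at ht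
    calc s * n₀ = n₀ * (n₀⁻¹ * (s * n₀ * s⁻¹)) * s := by group
      _ = n₀ * s := by rw [ht, mul_one]
  have h5 : N ⊓ Subgroup.centralizer (R : Set G) ≤ N ⊓ Subgroup.centralizer (S : Set G) :=
    le_inf inf_le_left key
  rw [c.toCEF.inf_NS'] at h5
  have h6 := (c.toCEF.card_N c.hq c.hexp).1
  rw [eq_bot_iff.mpr h5, Subgroup.card_bot] at h6
  exact c.hq.one_lt.ne h6

end

end Cfsg.Agent.Lib.Helper21.ZG
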