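import Mathlib
import Cfsg.Agent.Lib.Helper21.ZGK

/-!
# B & G Theorem 3.6: the independent case and the theorem
-/

set_option autoImplicit false

namespace Cfsg.Agent.Lib.Helper21.ZG

open Cfsg Cfsg.Agent.Lib.Helper21 Cfsg.Agent.Lib.Helper1 Cfsg.Agent.Lib.Lead
  Cfsg.Agent.Lib.Helper11
open scoped commutatorElement

universe u

section

variable {G : Type u} [Group G] [Finite G] [Group.IsSolvable G] {p : ℕ} [hp : Fact p.Prime]
variable {H R V X N S K : Subgroup G} {q : ℕ}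

theorem conjSub_inf_centralizer_le {V K : Subgroup G} {s : G}
    (hs : s ∈ Subgroup.normalizer (V : Set G)) :
    conjSub s (V ⊓ Subgroup.centralizer (K : Set G)) ≤
      V ⊓ Subgroup.centralizer ((conjSub s K : Subgroup G) : Set G) := by
  intro x hx
  rw [mem_conjSub] at hx
  obtain ⟨hxV, hxC⟩ := Subgroup.mem_inf.mp hx
  refine Subgroup.mem_inf.mpr ⟨?_, ?_⟩
  · have h1 := (Subgroup.mem_normalizer_iff.mp hs _).mp hxV
    have e : s * (s⁻¹ * x * s) * s⁻¹ = x := by group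
    rwa [e] at h1
  · rw [Subgroup.mem_centralizer_iff]
    intro y hy
    have hy' : s⁻¹ * y * s ∈ K := mem_conjSub.mp hy
    have h := (Subgroup.mem_centralizer_iff.mp hxC) _ hy'
    calc y * x = s * ((s⁻¹ * y * s) * (s⁻¹ * x * s)) * s⁻¹ := by group
      _ = s * ((s⁻¹ * x * s) * (s⁻¹ * y * s)) * s⁻¹ := by rw [h]
      _ = x * y := by group

theorem CEK.false (c : CEK p H R V X N S K q) : False := by
  classical
  have hpp : p.Prime := hp.out
  have hU := c.scalar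
  have hNc := c.hNc
  have hNV := c.toCEF.hNV
  have hSN := c.toCES.hSN
  have hcopNV : (Nat.card N).Coprime (Nat.card V) := by
    obtain ⟨k, hk⟩ := IsPGroup.iff_card.mp c.isPGroup_V
    rw [hk]; exact Nat.Coprime.pow_right k c.toCES.hNcop
  haveI : IsMulCommutative ↥V :=
    isMulCommutative_iff.mpr (fun a b => Subtype.ext (c.hVc a a.2 b b.2))
  have hdecV := coprime_abelian_decomposition K V c.hKV
    (Nat.Coprime.coprime_dvd_left (Subgroup.card_dvd_of_le c.hKN) hcopNV)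
  have hV₁V : ⁅V, K⁆ ≤ V := commutator_le_left_of_le_normalizer V K c.hKV
  have hV₁K : ⁅V, K⁆ ⊓ Subgroup.centralizer (K : Set G) = ⊥ := by
    rw [eq_bot_iff, ← hdecV.1]
    exact le_inf (inf_le_inf_right _ hV₁V) inf_le_left
  have hcardV₁ : Nat.card ↥⁅V, K⁆ ≤ p ^ Nat.card R := by
    have h1 := c.frob ⁅V, K⁆ hV₁V (right_le_normalizer_commutator V K c.hKV)
      (le_normalizer_commutator R V K c.hRV c.hRK) hV₁K
    rw [h1, ← c.card_CV]
    exact Nat.pow_le_pow_left (Subgroup.card_le_of_le (inf_le_inf_right _ hV₁V)) _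
  -- `S ∩ N(K) = 1`
  have hSK : S ⊓ Subgroup.normalizer (K : Set G) = ⊥ := by
    apply c.G3 _ inf_le_left _ (le_normalizer_inf c.hRS (le_normalizer_normalizer c.hRK))
    intro h
    have hSK' : S ≤ Subgroup.normalizer (K : Set G) := by rw [← h]; exact inf_le_right
    have h1 := c.G2 K c.hKN c.hKneN hSK' c.hRK
    have h2 : K ≤ N ⊓ Subgroup.centralizer (S : Set G) :=
      le_inf c.hKN (Subgroup.commutator_eq_bot_iff_le_centralizer.mp h1)
    rw [c.toCEF.inf_NS'] at h2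
    exact c.hKne (eq_bot_iff.mpr h2)
  have hconjN : ∀ s ∈ S, conjSub s K ≤ N := by
    intro s hs
    calc conjSub s K ≤ conjSub s N := conjSub_mono c.hKN
      _ = N := conjSub_eq_self_of_mem_normalizer (hSN hs)
  have hconj_inj : ∀ s ∈ S, ∀ s' ∈ S, conjSub s K = conjSub s' K → s = s' := by
    intro s hs s' hs' h
    have h1 : conjSub (s'⁻¹ * s) K = K := by rw [conjSub_mul, h, conjSub_inv_conjSub]
    have h2 : s'⁻¹ * s ∈ S ⊓ Subgroup.normalizer (K : Set G) :=
      Subgroup.mem_inf.mpr ⟨S.mul_mem (S.inv_mem hs') hs, mem_normalizer_iff_conjSub.mpr h1⟩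
    rw [hSK, Subgroup.mem_bot] at h2
    calc s = s' * (s'⁻¹ * s) := by group
      _ = s' := by rw [h2, mul_one]
  haveI : Fintype ↥S := Fintype.ofFinite _
  obtain ⟨𝒴, h𝒴def⟩ : ∃ 𝒴 : Finset (Subgroup G),
      𝒴 = ((Finset.univ : Finset ↥S).erase (1 : ↥S)).image (fun s : ↥S => conjSub (s : G) K) :=
      ⟨_, rfl⟩
  have hcard𝒴 : 𝒴.card = Nat.card S - 1 := by
    rw [h𝒴def, Finset.card_image_of_injOn, Finset.card_erase_of_mem (Finset.mem_univ _),
      Finset.card_univ, Nat.card_eq_fintype_card]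
    intro s _ s' _ h
    exact Subtype.ext (hconj_inj s s.2 s' s'.2 h)
  have hmem : ∀ Y ∈ 𝒴, ∃ s ∈ S, s ≠ 1 ∧ Y = conjSub s K := by
    intro Y hY
    rw [h𝒴def, Finset.mem_image] at hY
    obtain ⟨s, hs, rfl⟩ := hY
    refine ⟨s, s.2, ?_, rfl⟩
    intro h
    exact (Finset.ne_of_mem_erase hs) (Subtype.ext h)
  have h𝒴N : ∀ Y ∈ 𝒴, Y ≤ N := by
    intro Y hY
    obtain ⟨s, hs, -, rfl⟩ := hmem Y hY
    exact hconjN s hs
  have hpair : ∀ Y ∈ 𝒴, ∀ Y' ∈ 𝒴, Y ≠ Y' → Y ⊔ Y' = N := by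
    intro Y hY Y' hY' hne
    obtain ⟨s, hs, -, rfl⟩ := hmem Y hY
    obtain ⟨s', hs', -, rfl⟩ := hmem Y' hY'
    exact sup_eq_of_card c.hq N _ _ (hconjN s hs) (hconjN s' hs')
      (by rw [card_conjSub]; exact c.card_K) (by rw [card_conjSub, card_conjSub]) hne
  have hU' : p ≤ Nat.card ↥(V ⊓ Subgroup.centralizer (K : Set G)) :=
    Nat.le_of_dvd Nat.card_pos
      (card_pos_of_ne_bot_of_isPGroup (c.isPGroup_V.to_le inf_le_left) hU)
  have hcardW : ∀ Y ∈ 𝒴, p ≤ Nat.card ↥(V ⊓ Subgroup.centralizer (Y : Set G)) := by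
    intro Y hY
    obtain ⟨s, hs, -, rfl⟩ := hmem Y hY
    calc p ≤ Nat.card ↥(V ⊓ Subgroup.centralizer (K : Set G)) := hU'
      _ = Nat.card ↥(conjSub s (V ⊓ Subgroup.centralizer (K : Set G))) := (card_conjSub s _).symm
      _ ≤ _ := Subgroup.card_le_of_le
          (conjSub_inf_centralizer_le (c.toCEX.hXV (c.hSX hs)))
  have hsup_le : (⨆ Y ∈ 𝒴, V ⊓ Subgroup.centralizer (Y : Set G)) ≤ ⁅V, K⁆ := by
    apply iSup₂_le
    intro Y hY
    obtain ⟨s, hs, hs1, rfl⟩ := hmem Y hY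
    have hne : conjSub s K ≠ K := by
      intro h
      apply hs1
      exact hconj_inj s hs 1 S.one_mem (by rw [h, conjSub_one])
    have hsup := sup_eq_of_card c.hq N _ _ (hconjN s hs) c.hKN
      (by rw [card_conjSub]; exact c.card_K) (by rw [card_conjSub]) hne
    exact inf_centralizer_le_commutator V N _ K c.hVc hNc hNV hcopNV c.hCN (hconjN s hs) c.hKN hsup
  have hind := pow_card_le_card_iSup p V N c.hVc hNc hNV hcopNV c.hCN 𝒴 h𝒴N hpair hcardW
  have h1 : p ^ (Nat.card S - 1) ≤ p ^ Nat.card R := by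
    rw [← hcard𝒴]
    exact hind.trans ((Subgroup.card_le_of_le hsup_le).trans hcardV₁)
  have h2 : Nat.card S - 1 ≤ Nat.card R := (Nat.pow_le_pow_iff_right hpp.one_lt).mp h1
  -- the arithmetic contradiction
  have hmod := card_modEq_one_of_fpf R S c.hRS c.prime c.inf_SR
  have hSodd : Odd (Nat.card S) :=
    Odd.of_dvd_nat c.setup.odd (Subgroup.card_subgroup_dvd_card S)
  have hRodd : Odd (Nat.card R) :=
    Odd.of_dvd_nat c.setup.odd (Subgroup.card_subgroup_dvd_card R)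
  have hS1 : 1 < Nat.card S := (Subgroup.one_lt_card_iff_ne_bot S).mpr c.hS
  have hdvd : Nat.card R ∣ Nat.card S - 1 := (Nat.modEq_iff_dvd' hS1.le).mp hmod.symm
  obtain ⟨k, hk⟩ := hdvd
  obtain ⟨m, hm⟩ := hSodd
  obtain ⟨j, hj⟩ := hRodd
  have hkeven : Even k := by
    have h3 : Even (Nat.card R * k) := by
      rw [← hk, hm]
      exact ⟨m, by omega⟩
    rcases Nat.even_mul.mp h3 with h4 | h4
    · exfalso
      rw [hj] at h4
      exact (Nat.not_even_iff_odd.mpr ⟨j, rfl⟩) h4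
    · exact h4
  obtain ⟨k', hk'⟩ := hkeven
  have ht : Nat.card R * k = Nat.card R * k' + Nat.card R * k' := by rw [hk']; ring
  have hRpos : 0 < Nat.card R := Nat.card_pos
  rcases Nat.eq_zero_or_pos k' with h0 | h0
  · rw [h0, mul_zero] at ht
    omega
  · have h5 : Nat.card R ≤ Nat.card R * k' := Nat.le_mul_of_pos_right _ h0
    omega

end

end Cfsg.Agent.Lib.Helper21.ZG

namespace Cfsg.Agent.Lib.Helper21.ZG

open Cfsg

universe u

/-- the flexible form of B & G Theorem 3.6 -/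
theorem main (p : ℕ) [Fact p.Prime] : ∀ (n : ℕ) (G : Type u) [Group G] [Finite G]
    [Group.IsSolvable G] (H R R₀ : Subgroup G), Setup H R R₀ → Nat.card H * Nat.card R = n →
    PLengthLE p 1 ↥⁅H, R⁆ := by
  intro n
  induction n using Nat.strong_induction_on with
  | _ n ih =>
    intro G _ _ _ H R R₀ hs hn
    by_contra hnot
    have ihp : IH.{u} p (Nat.card H * Nat.card R) := by
      intro G' _ _ _ H' R' R₀' hs' hlt
      exact ih _ (hn ▸ hlt) G' H' R' R₀' hs' rfl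
    have c := step_A hs ihp hnot
    obtain ⟨V, cV⟩ := c.exists_V
    obtain ⟨X, cX⟩ := cV.exists_X
    obtain ⟨N, S, cS⟩ := cX.exists_NS
    have cF := cS.toCEF
    obtain ⟨q, hq, hexp⟩ := cF.exists_q
    exact CEK.false (K := ⁅N, R⁆) ⟨cF, hq, hexp, rfl⟩

end Cfsg.Agent.Lib.Helper21.ZG
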