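import Mathlib
import Cfsg.Agent.Lib.Helper11.ThirteenB
import Cfsg.Agent.Lib.Helper11.JsubB
import Cfsg.Agent.Lib.Helper11.BenderL
import Cfsg.Agent.Lib.Helper11.BenderN
import Cfsg.Agent.Lib.Helper9.SylowConj

set_option autoImplicit false

namespace Cfsg.Agent.Lib.Helper21.BG13x

open Cfsg Cfsg.Agent.Lib.Helper18

variable {G : Type*} [Group G] [Finite G]

/-- step (B) of B & G Theorem 13.4: if a Sylow `q`-subgroup `S` of `M` (`q ∈ σ(M)`) has `N_G(S) ≤ H`,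
then every prime dividing `|M : M ∩ H|` lies in `β(M)` -/
theorem index_primes_beta (hG : Cfsg.IsMinSimpleOddOrder G) {M H : Subgroup G} (hM : IsCoatom M)
    {q : ℕ} [hq : Fact q.Prime] (hqM : q ∈ Cfsg.sigma M) {S : Subgroup G} (hS : IsSylowIn q S M)
    (hNS : Subgroup.normalizer (S : Set G) ≤ H) {t : ℕ} (ht : t.Prime)
    (htd : t ∣ (M ⊓ H).relIndex M) : t ∈ Cfsg.beta M := by
  by_contra htβ
  haveI : Fact t.Prime := ⟨ht⟩
  have hSH : S ≤ H := Subgroup.le_normalizer.trans hNS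
  by_cases htq : t = q
  · subst htq
    apply hS.not_dvd
    rw [← Subgroup.relIndex_mul_relIndex S (M ⊓ H) M (le_inf hS.le hSH) inf_le_left]
    exact Dvd.dvd.mul_left htd _
  · obtain ⟨N, hNM, hNn, htN, hcov⟩ :=
      Cfsg.Agent.Lib.Helper11.JsubB.cover_of_sigma hG hM hqM htq htβ hS hNS
    have hsup : (M ⊓ H) ⊔ N = M := by
      apply le_antisymm (sup_le inf_le_left hNM)
      intro x hx
      have := hcov hx
      rw [sup_comm, inf_comm] at this
      exact this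
    have h1 := relIndex_sup_of_le_normalizer (M ⊓ H) N (inf_le_left.trans hNn)
    rw [hsup] at h1
    rw [h1] at htd
    exact htN (htd.trans (Subgroup.relIndex_dvd_card _ _))

/-- step (B): `M_α ≠ 1` -/
theorem alphaCore_ne_bot (hG : Cfsg.IsMinSimpleOddOrder G) {M H : Subgroup G} (hM : IsCoatom M)
    (hH : IsCoatom H) (hne : H ≠ M)
    {q : ℕ} [hq : Fact q.Prime] (hqM : q ∈ Cfsg.sigma M) {S : Subgroup G} (hS : IsSylowIn q S M)
    (hNS : Subgroup.normalizer (S : Set G) ≤ H) :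
    (Cfsg.beta M).Nonempty ∧ Cfsg.alphaCore M ≠ ⊥ := by
  have hlt : (M ⊓ H).relIndex M ≠ 1 := by
    intro h
    have hle : M ≤ M ⊓ H := Subgroup.relIndex_eq_one.mp h
    have hMH : M ≤ H := hle.trans inf_le_right
    rcases eq_or_lt_of_le hMH with h1 | h1
    · exact hne h1.symm
    · exact hH.1 (hM.2 H h1)
  obtain ⟨t, ht, htd⟩ := Nat.exists_prime_and_dvd hlt
  have htβ := index_primes_beta hG hM hqM hS hNS ht htd
  refine ⟨⟨t, htβ⟩, ?_⟩
  intro hbot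
  obtain ⟨h1, -⟩ := Cfsg.Agent.Lib.Helper11.BenderN.alpha_hall hG M hM
  have h2 := h1.2.2 t ht htβ.1
  rw [hbot, Subgroup.relIndex_bot_left] at h2
  exact h2 (htd.trans (Subgroup.relIndex_dvd_card _ _))

/-- step (B): `α(M) ⊆ β(M)` -/
theorem alpha_sub_beta (hG : Cfsg.IsMinSimpleOddOrder G) {M H : Subgroup G} (hM : IsCoatom M)
    (hH : IsCoatom H) (hne : H ≠ M)
    {q : ℕ} [hq : Fact q.Prime] (hqM : q ∈ Cfsg.sigma M) {S : Subgroup G} (hS : IsSylowIn q S M)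
    (hNS : Subgroup.normalizer (S : Set G) ≤ H) {t : ℕ} (htα : t ∈ Cfsg.alpha M) :
    t ∈ Cfsg.beta M := by
  by_contra htβ
  haveI : Fact t.Prime := ⟨htα.1⟩
  have hnd : ¬ t ∣ (M ⊓ H).relIndex M := fun hd =>
    htβ (index_primes_beta hG hM hqM hS hNS htα.1 hd)
  obtain ⟨A, hAM, hAe, hA3⟩ :=
    Cfsg.Agent.Lib.Helper11.BenderF.exists_elemAb_of_not_pRankLE t M htα.2
  obtain ⟨T₀⟩ : Nonempty (Sylow t ↥(M ⊓ H)) := inferInstance
  have hT : IsSylowIn t ((T₀ : Subgroup ↥(M ⊓ H)).map (M ⊓ H).subtype) (M ⊓ H) :=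
    isSylowIn_of_sylow T₀
  obtain ⟨T, hTdef⟩ : ∃ T : Subgroup G, T = (T₀ : Subgroup ↥(M ⊓ H)).map (M ⊓ H).subtype :=
    ⟨_, rfl⟩
  rw [← hTdef] at hT
  have hTM : IsSylowIn t T M := by
    refine ⟨hT.le.trans inf_le_left, hT.isPGroup, fun hd => ?_⟩
    rw [← Subgroup.relIndex_mul_relIndex T (M ⊓ H) M hT.le inf_le_left] at hd
    rcases (Nat.Prime.dvd_mul htα.1).mp hd with h | h
    · exact hT.not_dvd h
    · exact hnd h
  have hAp : IsPGroup t A := by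
    rintro ⟨a, ha⟩
    exact ⟨1, Subtype.ext (by simpa using hAe.2 a ha)⟩
  obtain ⟨x, hx, hle⟩ := hTM.exists_conj_le hAM hAp
  have hBe := Cfsg.Agent.Lib.Helper11.BenderF.elemAb_conjSub t x hAe
  have hB3 : t ^ 3 ≤ Nat.card (Helper18.conjSub x A) := by
    rw [card_conjSub]; exact hA3
  obtain ⟨L, ⟨hL, hBL⟩, huniq⟩ :=
    Cfsg.Agent.Lib.Helper11.BenderL.elemAb3_unique hG t _ hBe hB3
  have hBMH : Helper18.conjSub x A ≤ M ⊓ H := hle.trans hT.le
  have e1 : M = L := huniq M ⟨hM, hBMH.trans inf_le_left⟩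
  have e2 : H = L := huniq H ⟨hH, hBMH.trans inf_le_right⟩
  exact hne (e2.trans e1.symm)

/-- `p`-rank passes to subgroups (both given as subgroups of `G`) -/
theorem pRankLE_of_le {p k : ℕ} {X H : Subgroup G} (hXH : X ≤ H) (h : Cfsg.PRankLE p k ↥H) :
    Cfsg.PRankLE p k ↥X := by
  intro A hAc hAe
  have hinj : Function.Injective (Subgroup.inclusion hXH) := Subgroup.inclusion_injective hXH
  have h1 := h (A.map (Subgroup.inclusion hXH)) (by
      refine ⟨⟨?_⟩⟩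
      rintro ⟨_, ⟨a, ha, rfl⟩⟩ ⟨_, ⟨b, hb, rfl⟩⟩
      apply Subtype.ext
      have := hAc.is_comm.comm ⟨a, ha⟩ ⟨b, hb⟩
      have h2 : a * b = b * a := congrArg Subtype.val this
      show Subgroup.inclusion hXH a * Subgroup.inclusion hXH b
        = Subgroup.inclusion hXH b * Subgroup.inclusion hXH a
      rw [← map_mul, ← map_mul, h2]) (by
      rintro _ ⟨a, ha, rfl⟩
      rw [← map_pow, hAe a ha, map_one])
  rwa [Subgroup.card_map_of_injective hinj] at h1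

/-- a Sylow `q`-subgroup `S` of `K ≤ M` with `N_G(S) ≤ K` is a Sylow `q`-subgroup of `M` -/
theorem isSylowIn_of_normalizer_le {q : ℕ} [hq : Fact q.Prime] {S K M : Subgroup G} (hKM : K ≤ M)
    (hS : IsSylowIn q S K) (hNS : Subgroup.normalizer (S : Set G) ≤ K) : IsSylowIn q S M := by
  obtain ⟨T₀⟩ : Nonempty (Sylow q ↥M) := inferInstance
  have hT₀ : IsSylowIn q ((T₀ : Subgroup ↥M).map M.subtype) M := isSylowIn_of_sylow T₀
  obtain ⟨x, hxM, hle⟩ := hT₀.exists_conj_le (hS.le.trans hKM) hS.isPGroup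
  -- T := x⁻¹ T₀ x is a Sylow subgroup of M containing S
  obtain ⟨T, hTdef⟩ : ∃ T : Subgroup G,
      T = Helper18.conjSub x⁻¹ ((T₀ : Subgroup ↥M).map M.subtype) := ⟨_, rfl⟩
  have hST : S ≤ T := by
    rw [hTdef]; exact conjSub_le_iff.mp hle
  have hTM : IsSylowIn q T M := by
    have h1 := hT₀.conjSub x⁻¹
    have h2 : Helper18.conjSub x⁻¹ M = M :=
      conjSub_eq_of_le (conjSub_le_of_mem le_rfl (M.inv_mem hxM))
    rw [h2, ← hTdef] at h1
    exact h1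
  have hTS : T ≤ S := by
    by_contra hne
    obtain ⟨y, hyT, hyS, hyN⟩ :=
      Cfsg.Agent.Lib.Helper9.exists_normalizer_not_mem T S hTM.isPGroup hST hne
    -- `S ⊔ ⟨y⟩ ≤ T ⊓ K` is a `q`-subgroup of `K` containing `S`
    have hR : T ⊓ K = S :=
      hS.eq_of_le inf_le_right (hTM.isPGroup.to_le inf_le_left) (le_inf hST hS.le)
    apply hyS
    rw [← hR]
    exact ⟨hyT, hNS hyN⟩
  have : T = S := le_antisymm hTS hST
  rw [← this]; exact hTM

/-- step (C) of B & G Theorem 13.4, Sylow-in-`M` form -/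
theorem tau1_transfer (hG : Cfsg.IsMinSimpleOddOrder G) {M H : Subgroup G} (hM : IsCoatom M)
    {q : ℕ} [hq : Fact q.Prime] (hqM : q ∈ Cfsg.sigma M) {S : Subgroup G} (hS : IsSylowIn q S M)
    (hNS : Subgroup.normalizer (S : Set G) ≤ H) {r : ℕ} [hr : Fact r.Prime]
    (hrH : r ∈ Cfsg.tau1 H) (hrdM : r ∣ Nat.card M) (hrM : r ∉ Cfsg.sigma M) :
    r ∈ Cfsg.tau1 M := by
  have hrq : r ≠ q := by
    rintro rfl; exact hrM hqM
  have hrβ : r ∉ Cfsg.beta M := by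
    intro hβ
    exact hrM (Cfsg.Agent.Lib.Helper11.BenderN.alpha_sub_sigma hG M hM r hβ.1)
  obtain ⟨N, hNM, hNn, hrN, hcov⟩ :=
    Cfsg.Agent.Lib.Helper11.JsubB.cover_of_sigma hG hM hqM hrq hrβ hS hNS
  obtain ⟨K, hKdef⟩ : ∃ K : Subgroup G, K = H ⊓ M := ⟨_, rfl⟩
  rw [← hKdef] at hcov
  have hKM : K ≤ M := by rw [hKdef]; exact inf_le_right
  have hKH : K ≤ H := by rw [hKdef]; exact inf_le_left
  have hrK : Cfsg.PRankLE r 1 ↥K := pRankLE_of_le hKH hrH.2.2.2.2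
  have hrkM : Cfsg.PRankLE r 1 ↥M :=
    Cfsg.Agent.Lib.Helper11.JsubA.pRankLE_one_of_factor hNM hKM hNn hrN hcov hrK
  have hder : ⁅M, M⁆ ≤ N ⊔ ⁅K, K⁆ :=
    Cfsg.Agent.Lib.Helper10.SigmaJsubD.derived_le_sup M N K hNn hNM hKM
      (fun x hx => Cfsg.Agent.Lib.Helper10.SigmaJsubD.mem_sup_of_le_normalizer (hKM.trans hNn)
        (hcov hx))
  have hnd : ¬ r ∣ Nat.card ↥⁅M, M⁆ := by
    intro hd
    have h2 : r ∣ Nat.card N * Nat.card ↥⁅K, K⁆ :=
      (hd.trans (Subgroup.card_dvd_of_le hder)).trans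
        (Cfsg.Agent.Lib.Helper11.ThirteenB.card_sup_dvd N ⁅K, K⁆
          (((Cfsg.Agent.Lib.Helper1.BG12.derived_le K).trans hKM).trans hNn))
    rcases (Nat.Prime.dvd_mul hr.out).mp h2 with h | h
    · exact hrN h
    · exact hrH.2.2.2.1 (h.trans (Subgroup.card_dvd_of_le (Subgroup.commutator_mono hKH hKH)))
  exact ⟨hr.out, hrM, hrdM, hnd, hrkM⟩

/-- **step (B)** of B & G Theorem 13.4 in the form used by `Helper11.RegD.hard_case_of` -/
theorem thirteen_four_B (hG : Cfsg.IsMinSimpleOddOrder G) {M H : Subgroup G} (hM : IsCoatom M)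
    (hH : IsCoatom H) (hne : H ≠ M) {q : ℕ} [hq : Fact q.Prime] {S : Subgroup G}
    (hqM : q ∈ Cfsg.sigma M) (hS : IsSylowIn q S (M ⊓ H))
    (hNS : Subgroup.normalizer (S : Set G) ≤ M ⊓ H) :
    Cfsg.alphaCore M ≠ ⊥ ∧ ∀ t ∈ Cfsg.alpha M, t ∈ Cfsg.beta M := by
  have hS' : IsSylowIn q S M := isSylowIn_of_normalizer_le inf_le_left hS hNS
  have hNS' : Subgroup.normalizer (S : Set G) ≤ H := hNS.trans inf_le_right
  exact ⟨(alphaCore_ne_bot hG hM hH hne hqM hS' hNS').2,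
    fun t ht => alpha_sub_beta hG hM hH hne hqM hS' hNS' ht⟩

/-- **step (C)** of B & G Theorem 13.4 in the form used by `Helper11.RegD.hard_case_of` -/
theorem thirteen_four_C (hG : Cfsg.IsMinSimpleOddOrder G) {M H : Subgroup G} (hM : IsCoatom M)
    {q : ℕ} [hq : Fact q.Prime] {S : Subgroup G}
    (hqM : q ∈ Cfsg.sigma M) (hS : IsSylowIn q S (M ⊓ H))
    (hNS : Subgroup.normalizer (S : Set G) ≤ M ⊓ H) {r : ℕ} [hr : Fact r.Prime]
    (hrH : r ∈ Cfsg.tau1 H) {R : Subgroup G} (hRc : Nat.card R = r) (hRM : R ≤ M)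
    (hrM : r ∉ Cfsg.sigma M) : r ∈ Cfsg.tau1 M := by
  have hS' : IsSylowIn q S M := isSylowIn_of_normalizer_le inf_le_left hS hNS
  have hNS' : Subgroup.normalizer (S : Set G) ≤ H := hNS.trans inf_le_right
  have hrd : r ∣ Nat.card M := by
    rw [← hRc]; exact Subgroup.card_dvd_of_le hRM
  exact tau1_transfer hG hM hqM hS' hNS' hrH hrd hrM

end Cfsg.Agent.Lib.Helper21.BG13x
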