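import Mathlib
import Cfsg.Agent.Lib.Helper21.BG13x
import Cfsg.Agent.Lib.Helper11.RegD

set_option autoImplicit false

namespace Cfsg.Agent.Lib.Helper21.BG13y

open Cfsg Cfsg.Agent.Lib.Helper18

variable {G : Type*} [Group G] [Finite G]

/-- `Helper11.RegD.hard_case_of` with the hypotheses `hB`, `hC` (steps (B), (C) of B & G 13.4)
discharged by `BG13x.thirteen_four_B/C` -/
theorem hard_case (hG : Cfsg.IsMinSimpleOddOrder G) {M H : Subgroup G} (hM : IsCoatom M)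
    (hH : IsCoatom H) (hnc : ∀ g : G, H ≠ Helper18.conjSub g M) {p r : ℕ} [hp : Fact p.Prime]
    [hr : Fact r.Prime] (P R : Subgroup G) (hPc : Nat.card P = p) (hRc : Nat.card R = r)
    (hPM : P ≤ M) (hRM : R ≤ M) (hNP : Subgroup.normalizer (P : Set G) ≤ H)
    (hRP : R ≤ Subgroup.centralizer (P : Set G)) (hrM : r ∉ Cfsg.sigma M)
    (hpβ : p ∈ Cfsg.beta H) (hrH : r ∈ Cfsg.tau1 H)
    (hD : Cfsg.sigmaCore M ⊓ H ≤ Subgroup.centralizer (P : Set G))
    (hsym : r ∈ Cfsg.tau1 M →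
      Cfsg.alphaCore M ⊓ Subgroup.centralizer (P : Set G) ≤ Subgroup.centralizer (R : Set G) →
      Cfsg.alphaCore M ⊓ Subgroup.centralizer (R : Set G) ≤ Subgroup.centralizer (P : Set G)) :
    Cfsg.sigmaCore M ⊓ Subgroup.centralizer (P : Set G) ≤ Subgroup.centralizer (R : Set G) := by
  have hne : H ≠ M := by
    have := hnc 1
    rwa [conjSub_one] at this
  exact Cfsg.Agent.Lib.Helper11.RegD.hard_case_of hG hM hH hnc P R hPc hRc hPM hRM hNP hRP hrM hpβ
    hrH hD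
    (fun q _ S h1 _ h3 h4 => Cfsg.Agent.Lib.Helper21.BG13x.thirteen_four_B hG hM hH hne h1 h3 h4)
    (fun q _ S h1 _ h3 h4 =>
      Cfsg.Agent.Lib.Helper21.BG13x.thirteen_four_C hG hM h1 h3 h4 hrH hRc hRM hrM)
    hsym

end Cfsg.Agent.Lib.Helper21.BG13y
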