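import Mathlib
import Cfsg.Agent.S1427
import Cfsg.Agent.S1428
import Cfsg.Agent.Lib.Helper18.SigPartH
import Cfsg.Agent.Lib.Helper28.BGtJ
import Cfsg.Agent.Lib.Helper11.RegD
import Cfsg.Agent.Lib.Helper1.BG12.TwelveFourPre

set_option autoImplicit false

/-! B & G section 14: the Hall `κ(M)`-subgroup `K` acts in a prime manner on `M_σ`
(under `Hκ : κ(M) ⊆ τ₁(M)`) (helper21). -/

namespace Cfsg.Agent.Lib.Helper21.BG14a

open Cfsg Cfsg.Agent.Lib.Helper18

variable {G : Type*} [Group G] [Finite G]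

omit [Finite G] in
theorem prime_tau1_of_dvd {M K : Subgroup G} (Hκ : ∀ p ∈ Cfsg.kappa M, p ∈ Cfsg.tau1 M)
    (hK : Cfsg.IsPiHallOf (Cfsg.kappa M) K M) {p : ℕ} (hp : p.Prime) (hd : p ∣ Nat.card K) :
    p ∈ Cfsg.tau1 M :=
  Hκ p (hK.2.1 p hp hd)

/-- `K ∩ M' = 1` -/
theorem kappa_hall_inf_derived {M K : Subgroup G} (Hκ : ∀ p ∈ Cfsg.kappa M, p ∈ Cfsg.tau1 M)
    (hK : Cfsg.IsPiHallOf (Cfsg.kappa M) K M) : K ⊓ ⁅M, M⁆ = ⊥ := by
  by_contra hne
  have hc : Nat.card ↥(K ⊓ ⁅M, M⁆) ≠ 1 := fun h => hne (Subgroup.card_eq_one.mp h)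
  obtain ⟨p, hp, hpd⟩ := Nat.exists_prime_and_dvd hc
  have h1 : p ∣ Nat.card K := hpd.trans (Subgroup.card_dvd_of_le inf_le_left)
  have h2 : p ∣ Nat.card ↥⁅M, M⁆ := hpd.trans (Subgroup.card_dvd_of_le inf_le_right)
  exact (prime_tau1_of_dvd Hκ hK hp h1).2.2.2.1 h2

/-- a Hall `κ(M)`-subgroup is cyclic -/
theorem kappa_hall_cyclic (hG : Cfsg.IsMinSimpleOddOrder G) {M K : Subgroup G}
    (Hκ : ∀ p ∈ Cfsg.kappa M, p ∈ Cfsg.tau1 M)
    (hK : Cfsg.IsPiHallOf (Cfsg.kappa M) K M) : IsCyclic K :=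
  SigPartH.cyclic_of_tau1 hG hK.1 (fun _ hr hrd => prime_tau1_of_dvd Hκ hK hr hrd)

theorem kappa_hall_comm (hG : Cfsg.IsMinSimpleOddOrder G) {M K : Subgroup G}
    (Hκ : ∀ p ∈ Cfsg.kappa M, p ∈ Cfsg.tau1 M)
    (hK : Cfsg.IsPiHallOf (Cfsg.kappa M) K M) : ∀ a ∈ K, ∀ b ∈ K, a * b = b * a := by
  haveI := kappa_hall_cyclic hG Hκ hK
  obtain ⟨g, hg⟩ := IsCyclic.exists_generator (α := K)
  intro a ha b hb
  obtain ⟨i, hi⟩ := Subgroup.mem_zpowers_iff.mp (hg ⟨a, ha⟩)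
  obtain ⟨j, hj⟩ := Subgroup.mem_zpowers_iff.mp (hg ⟨b, hb⟩)
  have h := (Commute.zpow_zpow_self g i j).eq
  rw [hi, hj] at h
  exact congrArg Subtype.val h

theorem kappa_hall_isMulCommutative (hG : Cfsg.IsMinSimpleOddOrder G) {M K : Subgroup G}
    (Hκ : ∀ p ∈ Cfsg.kappa M, p ∈ Cfsg.tau1 M)
    (hK : Cfsg.IsPiHallOf (Cfsg.kappa M) K M) : IsMulCommutative K :=
  ⟨⟨fun a b => Subtype.ext (kappa_hall_comm hG Hκ hK a a.2 b b.2)⟩⟩

/-- `K` lies in a complement of `M_σ` -/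
theorem kappa_hall_compl (hG : Cfsg.IsMinSimpleOddOrder G) {M K : Subgroup G} (hM : IsCoatom M)
    (hK : Cfsg.IsPiHallOf (Cfsg.kappa M) K M) :
    ∃ E : Subgroup G, Cfsg.IsComplIn E (Cfsg.sigmaCore M) M ∧ K ≤ E :=
  Cfsg.Agent.Lib.Helper28.BGt.exists_compl_ge hG hM hK.1
    (fun q hq hqd => (hK.2.1 q hq hqd).2.2.1)

/-- S1427 for an element of prime power order of a complement `E`, `p ∈ τ₁(M)` -/
theorem cent_primePow_elt (hG : Cfsg.IsMinSimpleOddOrder G) {M : Subgroup G} (hM : IsCoatom M)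
    {E : Subgroup G} (hE : Cfsg.IsComplIn E (Cfsg.sigmaCore M) M) {p : ℕ} [hp : Fact p.Prime]
    (hpτ : p ∈ Cfsg.tau1 M) {x : G} (hxE : x ∈ E) {a : ℕ} (hxo : orderOf x = p ^ (a + 1)) :
    Cfsg.sigmaCore M ⊓ Subgroup.centralizer ({x} : Set G) =
      Cfsg.sigmaCore M ⊓ Subgroup.centralizer ({x ^ p ^ a} : Set G) := by
  have hxo' : orderOf (⟨x, hxE⟩ : E) = p ^ (a + 1) := by
    rw [← hxo]; exact Subgroup.orderOf_mk x hxE
  have hxp : IsPGroup p (Subgroup.zpowers (⟨x, hxE⟩ : E)) := by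
    apply IsPGroup.of_card (n := a + 1)
    rw [Nat.card_zpowers, hxo']
  obtain ⟨S, hS⟩ := hxp.exists_le_sylow
  have hxS : (⟨x, hxE⟩ : E) ∈ (S : Subgroup E) := hS (Subgroup.mem_zpowers _)
  have hlt : p ^ a < p ^ (a + 1) := Nat.pow_lt_pow_right hp.out.one_lt (Nat.lt_succ_self a)
  have hx1 : x ≠ 1 := by
    intro h
    rw [h, orderOf_one] at hxo
    have : 1 < p ^ (a + 1) := Nat.one_lt_pow (Nat.succ_ne_zero a) hp.out.one_lt
    omega
  have hS1 : (S : Subgroup E) ≠ ⊥ := by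
    intro h
    rw [h, Subgroup.mem_bot] at hxS
    exact hx1 (congrArg Subtype.val hxS)
  have hSM : (S : Subgroup E).map E.subtype ≤ M := (Subgroup.map_subtype_le _).trans hE.1
  have hSp : IsPGroup p ((S : Subgroup E).map E.subtype) := S.isPGroup'.map _
  haveI hSc' : IsCyclic ((S : Subgroup E).map E.subtype) :=
    SigPartH.cyclic_of_tau1 hG hSM (by
      intro r hr hrd
      obtain ⟨n, hn⟩ := IsPGroup.iff_card.mp hSp
      rw [hn] at hrd
      have : r = p := (Nat.prime_dvd_prime_iff_eq hr hp.out).mp (hr.dvd_of_dvd_pow hrd)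
      rw [this]; exact hpτ)
  have hSc : IsCyclic (S : Subgroup E) := by
    let e := Subgroup.equivMapOfInjective (S : Subgroup E) E.subtype E.subtype_injective
    exact isCyclic_of_surjective e.symm e.symm.surjective
  have key := Cfsg.Agent.S1427.result hG M hM E hE p S hS1 hSc
  have hxm : x ∈ (S : Subgroup E).map E.subtype := ⟨⟨x, hxE⟩, hxS, rfl⟩
  have h1 := key x hxm hx1
  have h2 := key (x ^ p ^ a) (Subgroup.pow_mem _ hxm _)
    (pow_ne_one_of_lt_orderOf (pow_pos hp.out.pos a).ne' (by rw [hxo]; exact hlt))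
  exact h1.trans h2.symm

/-- S1428 for elements -/
theorem cent_prime_le (hG : Cfsg.IsMinSimpleOddOrder G) {M : Subgroup G} (hM : IsCoatom M)
    {E : Subgroup G} (hE : Cfsg.IsComplIn E (Cfsg.sigmaCore M) M) {p : ℕ}
    (hpτ : p ∈ Cfsg.tau1 M) {z w : G} (hzE : z ∈ E) (hwE : w ∈ E) (hzo : orderOf z = p)
    (hwo : (orderOf w).Prime) (hzw : z * w = w * z) :
    Cfsg.sigmaCore M ⊓ Subgroup.centralizer ({z} : Set G) ≤
      Cfsg.sigmaCore M ⊓ Subgroup.centralizer ({w} : Set G) := by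
  have hc : Subgroup.zpowers w ≤ Subgroup.centralizer ((Subgroup.zpowers z : Subgroup G) : Set G) := by
    rw [Cfsg.Agent.Lib.Helper11.RegD.centralizer_zpowers_eq, Subgroup.zpowers_le,
      Subgroup.mem_centralizer_singleton_iff]
    exact hzw.symm
  have h := Cfsg.Agent.S1428.result hG M hM E hE p hpτ (Subgroup.zpowers z)
    (by rw [Subgroup.zpowers_le]; exact hzE) (by rw [Nat.card_zpowers, hzo]) (Subgroup.zpowers w)
    (le_inf (by rw [Subgroup.zpowers_le]; exact hwE) hc) (by rw [Nat.card_zpowers]; exact hwo)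
  rwa [Cfsg.Agent.Lib.Helper11.RegD.centralizer_zpowers_eq,
    Cfsg.Agent.Lib.Helper11.RegD.centralizer_zpowers_eq] at h

omit [Finite G] in
theorem orderOf_pow_primePow {p a : ℕ} (hp : p.Prime) {x : G} (hxo : orderOf x = p ^ (a + 1)) :
    orderOf (x ^ p ^ a) = p := by
  rw [orderOf_pow_of_dvd (pow_pos hp.pos a).ne' (by rw [hxo]; exact pow_dvd_pow p (Nat.le_succ a)),
    hxo, pow_succ, Nat.mul_div_cancel_left _ (pow_pos hp.pos a)]

/-- elements of prime power order of `K` all have the same centralizer in `M_σ` -/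
theorem cent_eq_of_primePow (hG : Cfsg.IsMinSimpleOddOrder G) {M K : Subgroup G} (hM : IsCoatom M)
    (Hκ : ∀ p ∈ Cfsg.kappa M, p ∈ Cfsg.tau1 M) (hK : Cfsg.IsPiHallOf (Cfsg.kappa M) K M)
    {E : Subgroup G} (hE : Cfsg.IsComplIn E (Cfsg.sigmaCore M) M) (hKE : K ≤ E)
    {x x' : G} (hx : x ∈ K) (hx' : x' ∈ K) {p a q b : ℕ} [hp : Fact p.Prime] [hq : Fact q.Prime]
    (hxo : orderOf x = p ^ (a + 1)) (hxo' : orderOf x' = q ^ (b + 1)) :
    Cfsg.sigmaCore M ⊓ Subgroup.centralizer ({x} : Set G) =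
      Cfsg.sigmaCore M ⊓ Subgroup.centralizer ({x'} : Set G) := by
  have hdvd : ∀ {y : G} (hy : y ∈ K), orderOf y ∣ Nat.card K := by
    intro y hy
    have := orderOf_dvd_natCard (⟨y, hy⟩ : K)
    rwa [Subgroup.orderOf_mk] at this
  have hpτ : p ∈ Cfsg.tau1 M := prime_tau1_of_dvd Hκ hK hp.out
    ((dvd_pow_self p (Nat.succ_ne_zero a)).trans (hxo ▸ hdvd hx))
  have hqτ : q ∈ Cfsg.tau1 M := prime_tau1_of_dvd Hκ hK hq.out
    ((dvd_pow_self q (Nat.succ_ne_zero b)).trans (hxo' ▸ hdvd hx'))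
  have h1 := cent_primePow_elt hG hM hE hpτ (hKE hx) hxo
  have h2 := cent_primePow_elt hG hM hE hqτ (hKE hx') hxo'
  have hz := orderOf_pow_primePow hp.out hxo
  have hz' := orderOf_pow_primePow hq.out hxo'
  have hcomm := kappa_hall_comm hG Hκ hK
  have hzK : x ^ p ^ a ∈ K := K.pow_mem hx _
  have hzK' : x' ^ q ^ b ∈ K := K.pow_mem hx' _
  have h3 := cent_prime_le hG hM hE hpτ (hKE hzK) (hKE hzK') hz (by rw [hz']; exact hq.out)
    (hcomm _ hzK _ hzK')
  have h4 := cent_prime_le hG hM hE hqτ (hKE hzK') (hKE hzK) hz' (by rw [hz]; exact hp.out)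
    (hcomm _ hzK' _ hzK)
  rw [h1, h2]
  exact le_antisymm h3 h4

/-- **prime action of `K` on `M_σ`**: `C_{M_σ}(k) = C_{M_σ}(K)` for every `k ∈ K^#` -/
theorem kappa_prime_action (hG : Cfsg.IsMinSimpleOddOrder G) {M K : Subgroup G} (hM : IsCoatom M)
    (Hκ : ∀ p ∈ Cfsg.kappa M, p ∈ Cfsg.tau1 M) (hK : Cfsg.IsPiHallOf (Cfsg.kappa M) K M) :
    ∀ k ∈ K, k ≠ 1 → Cfsg.sigmaCore M ⊓ Subgroup.centralizer ({k} : Set G) =
      Cfsg.sigmaCore M ⊓ Subgroup.centralizer (K : Set G) := by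
  intro k hk hk1
  obtain ⟨E, hE, hKE⟩ := kappa_hall_compl hG hM hK
  apply le_antisymm
  · intro y hy
    refine ⟨hy.1, ?_⟩
    have hyk : y * k = k * y := Subgroup.mem_centralizer_singleton_iff.mp hy.2
    -- an element `z` of prime order `p` in `⟨k⟩`
    have hn1 : orderOf k ≠ 1 := fun h => hk1 (orderOf_eq_one_iff.mp h)
    obtain ⟨p, hp, hpd⟩ := Nat.exists_prime_and_dvd hn1
    haveI : Fact p.Prime := ⟨hp⟩
    obtain ⟨m, hm⟩ := hpd
    have hm0 : m ≠ 0 := by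
      rintro rfl
      rw [mul_zero] at hm
      exact (orderOf_pos k).ne' hm
    have hzo : orderOf (k ^ m) = p ^ (0 + 1) := by
      rw [orderOf_pow_of_dvd hm0 ⟨p, by rw [hm, mul_comm]⟩, hm, Nat.mul_div_cancel _ (Nat.pos_of_ne_zero hm0)]
      simp
    have hzK : k ^ m ∈ K := K.pow_mem hk _
    have hyz : y ∈ Cfsg.sigmaCore M ⊓ Subgroup.centralizer ({k ^ m} : Set G) := by
      refine ⟨hy.1, ?_⟩
      show y ∈ Subgroup.centralizer ({k ^ m} : Set G)
      rw [Subgroup.mem_centralizer_singleton_iff]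
      exact (Commute.pow_right (show Commute y k from hyk) m).eq
    -- induction on the order of `k'`
    have main : ∀ n : ℕ, ∀ k' ∈ K, orderOf k' = n → Commute k' y := by
      intro n
      induction n using Nat.recOnPosPrimePosCoprime with
      | prime_pow q b hq hb =>
        intro k' hk' ho
        haveI : Fact q.Prime := ⟨hq⟩
        obtain ⟨b', rfl⟩ : ∃ b', b = b' + 1 := ⟨b - 1, by omega⟩
        have := cent_eq_of_primePow hG hM Hκ hK hE hKE hzK hk' hzo ho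
        rw [this] at hyz
        exact ((Subgroup.mem_centralizer_singleton_iff (G := G)).mp hyz.2).symm
      | zero =>
        intro k' _ ho
        exact absurd ho (orderOf_pos k').ne'
      | one =>
        intro k' _ ho
        rw [orderOf_eq_one_iff.mp ho]
        exact Commute.one_left y
      | coprime a b ha hb hab iha ihb =>
        intro k' hk' ho
        have ha0 : a ≠ 0 := by omega
        have hb0 : b ≠ 0 := by omega
        have hA : Commute (k' ^ a) y := by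
          apply ihb _ (K.pow_mem hk' _)
          rw [orderOf_pow_of_dvd ha0 ⟨b, ho⟩, ho, Nat.mul_div_cancel_left _ (Nat.pos_of_ne_zero ha0)]
        have hB : Commute (k' ^ b) y := by
          apply iha _ (K.pow_mem hk' _)
          rw [orderOf_pow_of_dvd hb0 ⟨a, by rw [ho, mul_comm]⟩, ho,
            Nat.mul_div_cancel _ (Nat.pos_of_ne_zero hb0)]
        obtain ⟨u, v, huv⟩ := (Nat.isCoprime_iff_coprime.mpr hab : IsCoprime (a : ℤ) (b : ℤ))
        have hk'eq : k' = (k' ^ a) ^ u * (k' ^ b) ^ v := by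
          calc k' = k' ^ (1 : ℤ) := (zpow_one _).symm
            _ = k' ^ (u * a + v * b) := by rw [huv]
            _ = (k' ^ a) ^ u * (k' ^ b) ^ v := by
              rw [zpow_add, mul_comm u, mul_comm v, zpow_mul, zpow_mul, zpow_natCast, zpow_natCast]
        rw [hk'eq]
        exact (hA.zpow_left u).mul_left (hB.zpow_left v)
    show y ∈ Subgroup.centralizer (K : Set G)
    rw [Subgroup.mem_centralizer_iff]
    intro k' hk'
    exact (main _ k' hk' rfl).eq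
  · exact inf_le_inf_left _ (Subgroup.centralizer_le (by
      intro g hg
      rw [Set.mem_singleton_iff] at hg
      rw [hg]; exact hk))

/-- **first half of S1354** (under `Hκ`): `K* = C_{M_σ}(K) ≠ 1` -/
theorem kappa_star_ne_bot (hG : Cfsg.IsMinSimpleOddOrder G) {M K : Subgroup G} (hM : IsCoatom M)
    (Hκ : ∀ p ∈ Cfsg.kappa M, p ∈ Cfsg.tau1 M) (hK : Cfsg.IsPiHallOf (Cfsg.kappa M) K M) :
    Cfsg.sigmaCore M ⊓ Subgroup.centralizer (K : Set G) ≠ ⊥ := by
  by_cases hK1 : K = ⊥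
  · rw [hK1]
    have : Subgroup.centralizer (((⊥ : Subgroup G) : Subgroup G) : Set G) = ⊤ := by
      rw [Subgroup.coe_bot, Subgroup.centralizer_eq_top_iff_subset]
      intro g hg
      rw [Set.mem_singleton_iff] at hg
      rw [hg]; exact Subgroup.one_mem _
    rw [this, inf_top_eq]
    exact Cfsg.Agent.Lib.Helper1.BG12.sigmaCore_ne_bot hG M hM
  · have hc : Nat.card K ≠ 1 := fun h => hK1 (Subgroup.card_eq_one.mp h)
    obtain ⟨p, hp, hpd⟩ := Nat.exists_prime_and_dvd hc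
    haveI : Fact p.Prime := ⟨hp⟩
    have hpκ : p ∈ Cfsg.kappa M := hK.2.1 p hp hpd
    obtain ⟨P₀⟩ : Nonempty (Sylow p ↥K) := inferInstance
    have hPK : IsSylowIn p ((P₀ : Subgroup ↥K).map K.subtype) K := isSylowIn_of_sylow P₀
    obtain ⟨P, hPdef⟩ : ∃ P : Subgroup G, P = (P₀ : Subgroup ↥K).map K.subtype := ⟨_, rfl⟩
    rw [← hPdef] at hPK
    have hPM : IsSylowIn p P M := by
      refine ⟨hPK.le.trans hK.1, hPK.isPGroup, fun hd => ?_⟩
      rw [← Subgroup.relIndex_mul_relIndex P K M hPK.le hK.1] at hd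
      rcases (Nat.Prime.dvd_mul hp).mp hd with h | h
      · exact hPK.not_dvd h
      · exact hK.2.2 p hp hpκ h
    obtain ⟨S, hS⟩ := hPM.exists_sylow
    obtain ⟨x, hxS, hx1, y, hy, hy1, hxy⟩ := (hpκ.2.2.2 S).2
    rw [hS, Subgroup.mem_subgroupOf] at hxS
    have hxK : (x : G) ∈ K := hPK.le hxS
    have hx1' : (x : G) ≠ 1 := fun h => hx1 (Subtype.ext h)
    rw [← kappa_prime_action hG hM Hκ hK (x : G) hxK hx1']
    intro hbot
    apply hy1
    have : y ∈ Cfsg.sigmaCore M ⊓ Subgroup.centralizer ({(x : G)} : Set G) := by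
      refine ⟨hy, ?_⟩
      show y ∈ Subgroup.centralizer ({(x : G)} : Set G)
      rw [Subgroup.mem_centralizer_singleton_iff]
      exact hxy.symm
    rw [hbot, Subgroup.mem_bot] at this
    exact this

end Cfsg.Agent.Lib.Helper21.BG14a
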