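import Mathlib
import Cfsg.Agent.Lib.Helper21.BG14a

set_option autoImplicit false

/-! # Prime action of commutative `τ₁(M)`-subgroups of a complement (helper21) -/

namespace Cfsg.Agent.Lib.Helper21.BG13r

open Cfsg Cfsg.Agent.Lib.Helper18 Cfsg.Agent.Lib.Helper21.BG14a

variable {G : Type*} [Group G] [Finite G]

/-- elements of prime power order of `K` all have the same centralizer in `M_σ` -/
theorem cent_eq_of_primePow_gen (hG : Cfsg.IsMinSimpleOddOrder G) {M K : Subgroup G} (hM : IsCoatom M)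
    {E : Subgroup G} (hE : Cfsg.IsComplIn E (Cfsg.sigmaCore M) M) (hKE : K ≤ E)
    (hKτ : ∀ p : ℕ, p.Prime → p ∣ Nat.card K → p ∈ Cfsg.tau1 M)
    (hcomm : ∀ a ∈ K, ∀ b ∈ K, a * b = b * a)
    {x x' : G} (hx : x ∈ K) (hx' : x' ∈ K) {p a q b : ℕ} [hp : Fact p.Prime] [hq : Fact q.Prime]
    (hxo : orderOf x = p ^ (a + 1)) (hxo' : orderOf x' = q ^ (b + 1)) :
    Cfsg.sigmaCore M ⊓ Subgroup.centralizer ({x} : Set G) =
      Cfsg.sigmaCore M ⊓ Subgroup.centralizer ({x'} : Set G) := by
  have hdvd : ∀ {y : G} (hy : y ∈ K), orderOf y ∣ Nat.card K := by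
    intro y hy
    have := orderOf_dvd_natCard (⟨y, hy⟩ : K)
    rwa [Subgroup.orderOf_mk] at this
  have hpτ : p ∈ Cfsg.tau1 M := hKτ p hp.out
    ((dvd_pow_self p (Nat.succ_ne_zero a)).trans (hxo ▸ hdvd hx))
  have hqτ : q ∈ Cfsg.tau1 M := hKτ q hq.out
    ((dvd_pow_self q (Nat.succ_ne_zero b)).trans (hxo' ▸ hdvd hx'))
  have h1 := cent_primePow_elt hG hM hE hpτ (hKE hx) hxo
  have h2 := cent_primePow_elt hG hM hE hqτ (hKE hx') hxo'
  have hz := orderOf_pow_primePow hp.out hxo
  have hz' := orderOf_pow_primePow hq.out hxo'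
  have hzK : x ^ p ^ a ∈ K := K.pow_mem hx _
  have hzK' : x' ^ q ^ b ∈ K := K.pow_mem hx' _
  have h3 := cent_prime_le hG hM hE hpτ (hKE hzK) (hKE hzK') hz (by rw [hz']; exact hq.out)
    (hcomm _ hzK _ hzK')
  have h4 := cent_prime_le hG hM hE hqτ (hKE hzK') (hKE hzK) hz' (by rw [hz]; exact hp.out)
    (hcomm _ hzK' _ hzK)
  rw [h1, h2]
  exact le_antisymm h3 h4

/-- **prime action** (B & G 13.5): a commutative `τ₁(M)`-subgroup `K` of a complement `E` acts in a
prime manner on `M_σ`: `C_{M_σ}(k) = C_{M_σ}(K)` for every `k ∈ K^#` -/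
theorem tau1_prime_action (hG : Cfsg.IsMinSimpleOddOrder G) {M K : Subgroup G} (hM : IsCoatom M)
    {E : Subgroup G} (hE : Cfsg.IsComplIn E (Cfsg.sigmaCore M) M) (hKE : K ≤ E)
    (hKτ : ∀ p : ℕ, p.Prime → p ∣ Nat.card K → p ∈ Cfsg.tau1 M)
    (hcomm : ∀ a ∈ K, ∀ b ∈ K, a * b = b * a) :
    ∀ k ∈ K, k ≠ 1 → Cfsg.sigmaCore M ⊓ Subgroup.centralizer ({k} : Set G) =
      Cfsg.sigmaCore M ⊓ Subgroup.centralizer (K : Set G) := by
  intro k hk hk1
  apply le_antisymm
  · intro y hy
    refine ⟨hy.1, ?_⟩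
    have hyk : y * k = k * y := Subgroup.mem_centralizer_singleton_iff.mp hy.2
    -- an element `z` of prime order `p` in `⟨k⟩`
    have hn1 : orderOf k ≠ 1 := fun h => hk1 (orderOf_eq_one_iff.mp h)
    obtain ⟨p, hp, hpd⟩ := Nat.exists_prime_and_dvd hn1
    haveI : Fact p.Prime := ⟨hp⟩
    obtain ⟨m, hm⟩ := hpd
    have hm0 : m ≠ 0 := by
      rintro rfl
      rw [mul_zero] at hm
      exact (orderOf_pos k).ne' hm
    have hzo : orderOf (k ^ m) = p ^ (0 + 1) := by
      rw [orderOf_pow_of_dvd hm0 ⟨p, by rw [hm, mul_comm]⟩, hm, Nat.mul_div_cancel _ (Nat.pos_of_ne_zero hm0)]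
      simp
    have hzK : k ^ m ∈ K := K.pow_mem hk _
    have hyz : y ∈ Cfsg.sigmaCore M ⊓ Subgroup.centralizer ({k ^ m} : Set G) := by
      refine ⟨hy.1, ?_⟩
      show y ∈ Subgroup.centralizer ({k ^ m} : Set G)
      rw [Subgroup.mem_centralizer_singleton_iff]
      exact (Commute.pow_right (show Commute y k from hyk) m).eq
    -- induction on the order of `k'`
    have main : ∀ n : ℕ, ∀ k' ∈ K, orderOf k' = n → Commute k' y := by
      intro n
      induction n using Nat.recOnPosPrimePosCoprime with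
      | prime_pow q b hq hb =>
        intro k' hk' ho
        haveI : Fact q.Prime := ⟨hq⟩
        obtain ⟨b', rfl⟩ : ∃ b', b = b' + 1 := ⟨b - 1, by omega⟩
        have := cent_eq_of_primePow_gen hG hM hE hKE hKτ hcomm hzK hk' hzo ho
        rw [this] at hyz
        exact ((Subgroup.mem_centralizer_singleton_iff (G := G)).mp hyz.2).symm
      | zero =>
        intro k' _ ho
        exact absurd ho (orderOf_pos k').ne'
      | one =>
        intro k' _ ho
        rw [orderOf_eq_one_iff.mp ho]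
        exact Commute.one_left y
      | coprime a b ha hb hab iha ihb =>
        intro k' hk' ho
        have ha0 : a ≠ 0 := by omega
        have hb0 : b ≠ 0 := by omega
        have hA : Commute (k' ^ a) y := by
          apply ihb _ (K.pow_mem hk' _)
          rw [orderOf_pow_of_dvd ha0 ⟨b, ho⟩, ho, Nat.mul_div_cancel_left _ (Nat.pos_of_ne_zero ha0)]
        have hB : Commute (k' ^ b) y := by
          apply iha _ (K.pow_mem hk' _)
          rw [orderOf_pow_of_dvd hb0 ⟨a, by rw [ho, mul_comm]⟩, ho,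
            Nat.mul_div_cancel _ (Nat.pos_of_ne_zero hb0)]
        obtain ⟨u, v, huv⟩ := (Nat.isCoprime_iff_coprime.mpr hab : IsCoprime (a : ℤ) (b : ℤ))
        have hk'eq : k' = (k' ^ a) ^ u * (k' ^ b) ^ v := by
          calc k' = k' ^ (1 : ℤ) := (zpow_one _).symm
            _ = k' ^ (u * a + v * b) := by rw [huv]
            _ = (k' ^ a) ^ u * (k' ^ b) ^ v := by
              rw [zpow_add, mul_comm u, mul_comm v, zpow_mul, zpow_mul, zpow_natCast, zpow_natCast]
        rw [hk'eq]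
        exact (hA.zpow_left u).mul_left (hB.zpow_left v)
    show y ∈ Subgroup.centralizer (K : Set G)
    rw [Subgroup.mem_centralizer_iff]
    intro k' hk'
    exact (main _ k' hk' rfl).eq
  · exact inf_le_inf_left _ (Subgroup.centralizer_le (by
      intro g hg
      rw [Set.mem_singleton_iff] at hg
      rw [hg]; exact hk))


end Cfsg.Agent.Lib.Helper21.BG13r
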