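import Mathlib
import Cfsg.Agent.Lib.Helper11.OddGL2Der
import Cfsg.Agent.Lib.Helper11.ThirteenB
import Cfsg.Agent.Lib.Helper11.TransHyp
import Cfsg.Agent.Lib.Helper11.MaxSubD
import Cfsg.Agent.Lib.Helper1.Fusion
import Cfsg.Agent.Lib.Helper10.ThirteenTwo
import Cfsg.Agent.Lib.Helper11.JsubD
import Cfsg.Agent.Lib.Helper28.BGtJ
import Cfsg.Agent.Lib.Helper21.BG13x
import Cfsg.Agent.S1378
import Cfsg.Agent.S1409
import Cfsg.Agent.S1418
import Cfsg.Agent.S1424
import Cfsg.Agent.S1417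
import Cfsg.Agent.S1428
import Cfsg.Agent.Lib.Helper11.RegD

set_option autoImplicit false
open scoped commutatorElement

/-! Automizers of `E_{p²}`-subgroups when the Sylow `p`-subgroups of `G` are abelian (helper21). -/

namespace Cfsg.Agent.Lib.Helper21.BG13z

open Cfsg Cfsg.Agent.Lib.Helper18
open scoped Pointwise

variable {G : Type*} [Group G] [Finite G]

/-- if one Sylow `p`-subgroup is commutative, all are -/
theorem sylow_comm_of_exists {p : ℕ} [Fact p.Prime]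
    (h : ∃ S : Sylow p G, IsMulCommutative (S : Subgroup G)) :
    ∀ S : Sylow p G, ∀ a ∈ (S : Subgroup G), ∀ b ∈ (S : Subgroup G), a * b = b * a := by
  obtain ⟨S₀, hS₀⟩ := h
  intro S a ha b hb
  obtain ⟨g, hg⟩ := MulAction.exists_smul_eq G S₀ S
  rw [← hg] at ha hb
  have ha' := (Cfsg.Agent.Lib.Helper1.mem_sylow_smul_iff g a S₀).mp ha
  have hb' := (Cfsg.Agent.Lib.Helper1.mem_sylow_smul_iff g b S₀).mp hb
  have h1 := hS₀.is_comm.comm ⟨_, ha'⟩ ⟨_, hb'⟩
  have h2 : g⁻¹ * a * g * (g⁻¹ * b * g) = g⁻¹ * b * g * (g⁻¹ * a * g) := congrArg Subtype.val h1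
  have h3 : g⁻¹ * (a * b) * g = g⁻¹ * (b * a) * g := by
    calc g⁻¹ * (a * b) * g = g⁻¹ * a * g * (g⁻¹ * b * g) := by group
      _ = g⁻¹ * b * g * (g⁻¹ * a * g) := h2
      _ = g⁻¹ * (b * a) * g := by group
  exact mul_left_cancel (mul_right_cancel h3)

/-- with abelian Sylow `p`-subgroups, a `p`-element normalizing a `p`-subgroup centralizes it -/
theorem pelt_centralizes {p : ℕ} [hp : Fact p.Prime]
    (hS : ∀ S : Sylow p G, ∀ a ∈ (S : Subgroup G), ∀ b ∈ (S : Subgroup G), a * b = b * a)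
    {A : Subgroup G} (hA : IsPGroup p A) {a : G} (haN : a ∈ Subgroup.normalizer (A : Set G))
    {j : ℕ} (hap : a ^ p ^ j = 1) : ∀ x ∈ A, a * x = x * a := by
  have hle : Subgroup.zpowers a ≤ Subgroup.normalizer (A : Set G) := by
    rw [Subgroup.zpowers_le]; exact haN
  have hd := Cfsg.Agent.Lib.Helper11.ThirteenB.card_sup_dvd A (Subgroup.zpowers a) hle
  obtain ⟨n, hn⟩ := IsPGroup.iff_card.mp hA
  have ho : orderOf a ∣ p ^ j := orderOf_dvd_of_pow_eq_one hap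
  obtain ⟨i, -, hi⟩ := (Nat.dvd_prime_pow hp.out).mp ho
  rw [hn, Nat.card_zpowers, hi, ← pow_add] at hd
  obtain ⟨l, -, hl⟩ := (Nat.dvd_prime_pow hp.out).mp hd
  have hQ : IsPGroup p ↥(A ⊔ Subgroup.zpowers a) := IsPGroup.of_card hl
  obtain ⟨S, hS'⟩ := hQ.exists_le_sylow
  intro x hx
  exact hS S a (hS' (Subgroup.mem_sup_right (Subgroup.mem_zpowers a))) x
    (hS' (Subgroup.mem_sup_left hx))

/-- **abelian automizer**: if the Sylow `p`-subgroups of `G` are abelian, `A ≅ E_{p²}` and `k` is a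
`p'`-element of `N_G(A)`, then `N_G(A)` normalizes `C_A(k)` -/
theorem normalizer_le_of_abelian_sylow (hG : Cfsg.IsMinSimpleOddOrder G) {p : ℕ} [hp : Fact p.Prime]
    (hab : ∃ S : Sylow p G, IsMulCommutative (S : Subgroup G)) {A : Subgroup G}
    (hAe : Cfsg.IsElementaryAbelian p A) (hA2 : Nat.card A = p ^ 2) {k : G}
    (hkN : k ∈ Subgroup.normalizer (A : Set G)) {m : ℕ} (hkm : k ^ m = 1) (hpm : ¬ p ∣ m) :
    Subgroup.normalizer (A : Set G) ≤
      Subgroup.normalizer ((A ⊓ Subgroup.centralizer ({k} : Set G) : Subgroup G) : Set G) := by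
  haveI : IsSimpleGroup G := hG.2.1
  have hS := sylow_comm_of_exists hab
  have hAp : IsPGroup p A := IsPGroup.of_card hA2
  have hA1 : A ≠ ⊥ := by
    intro h
    rw [h, Subgroup.card_bot] at hA2
    have : 1 < p ^ 2 := Nat.one_lt_pow (by norm_num) hp.out.one_lt
    omega
  have hAtop : A ≠ ⊤ := Cfsg.Agent.Lib.Helper11.MaxSubD.pgroup_ne_top hG p A hAp
  obtain ⟨N, hNdef⟩ : ∃ N : Subgroup G, N = Subgroup.normalizer (A : Set G) := ⟨_, rfl⟩
  have hNtop : N ≠ ⊤ := by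
    rw [hNdef]; exact Cfsg.Agent.Lib.Helper11.normalizer_ne_top_of_simple hA1 hAtop
  haveI hsol : Group.IsSolvable ↥N := hG.2.2.2 N hNtop
  have hodd : Odd (Nat.card ↥N) := Odd.of_dvd_nat hG.1 (Subgroup.card_subgroup_dvd_card N)
  have hAN : A ≤ N := by rw [hNdef]; exact Subgroup.le_normalizer
  haveI hVn : (A.subgroupOf N).Normal := by
    rw [hNdef]; exact Subgroup.normal_in_normalizer
  let ψ : ↥N →* MulAut ↥(A.subgroupOf N) := MulAut.conjNormal
  have hVc : ∀ a b : ↥(A.subgroupOf N), a * b = b * a := by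
    intro a b
    apply Subtype.ext
    apply Subtype.ext
    have := hAe.1.is_comm.comm (⟨((a : ↥N) : G), Subgroup.mem_subgroupOf.mp a.2⟩ : ↥A)
      ⟨((b : ↥N) : G), Subgroup.mem_subgroupOf.mp b.2⟩
    have h : ((a : ↥N) : G) * ((b : ↥N) : G) = ((b : ↥N) : G) * ((a : ↥N) : G) :=
      congrArg Subtype.val this
    push_cast
    exact h
  have hVe : ∀ v : ↥(A.subgroupOf N), v ^ p = 1 := by
    intro v
    apply Subtype.ext
    apply Subtype.ext
    have := hAe.2 ((v : ↥N) : G) v.2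
    simpa using this
  have hVcard : Nat.card ↥(A.subgroupOf N) ≤ p ^ 2 := by
    rw [Cfsg.Agent.Lib.Helper5.card_subgroupOf_of_le hAN, hA2]
  -- triviality criterion for `ψ`
  have htriv : ∀ g : ↥N, (∀ x ∈ A, (g : G) * x = x * (g : G)) → ψ g = 1 := by
    intro g hg
    ext v
    have h1 : ((ψ g v : ↥(A.subgroupOf N)) : ↥N) = g * v * g⁻¹ := MulAut.conjNormal_apply g v
    have h2 : (g : G) * ((v : ↥N) : G) = ((v : ↥N) : G) * (g : G) := hg _ v.2
    rw [MulAut.one_apply]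
    have h3 : (((ψ g v : ↥(A.subgroupOf N)) : ↥N) : G) = ((v : ↥N) : G) := by
      rw [h1]
      push_cast
      rw [h2]; group
    exact h3
  have hconv : ∀ g : ↥N, ψ g = 1 → ∀ x ∈ A, (g : G) * x * (g : G)⁻¹ = x := by
    intro g hg x hx
    have h1 : ((ψ g ⟨⟨x, hAN hx⟩, hx⟩ : ↥(A.subgroupOf N)) : ↥N) =
        g * (⟨⟨x, hAN hx⟩, hx⟩ : ↥(A.subgroupOf N)) * g⁻¹ := MulAut.conjNormal_apply g _
    rw [hg, MulAut.one_apply] at h1
    have := congrArg Subtype.val h1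
    simpa using this.symm
  -- every element of the commutator subgroup acts trivially
  have key : ∀ g : ↥N, g ∈ commutator ↥N → ψ g = 1 := by
    intro g hg
    have ho : orderOf g ≠ 0 := (orderOf_pos g).ne'
    obtain ⟨j, m', hpm', hjm⟩ := Nat.exists_eq_pow_mul_and_not_dvd ho p hp.out.ne_one
    have h1 : ψ (g ^ p ^ j) = 1 :=
      Cfsg.Agent.Lib.Helper11.OddGL2Der.der_coprime_trivial_grp p
        (Cfsg.Agent.Lib.Helper11.BenderD.odd_prime_of_pgroup hG p A hA1 hAp) hVc hVe hVcard hodd ψ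
        (g ^ p ^ j) (Subgroup.pow_mem _ hg _) m'
        (by rw [← pow_mul, ← hjm, pow_orderOf_eq_one]) hpm'
    have h2 : ψ (g ^ m') = 1 := by
      apply htriv
      have hgN : ((g ^ m' : ↥N) : G) ∈ Subgroup.normalizer (A : Set G) := by
        rw [← hNdef]; exact (g ^ m').2
      have hgp : ((g ^ m' : ↥N) : G) ^ p ^ j = 1 := by
        have : (g ^ m') ^ p ^ j = 1 := by
          rw [← pow_mul, mul_comm, ← hjm, pow_orderOf_eq_one]
        have := congrArg Subtype.val this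
        simpa using this
      exact pelt_centralizes hS hAp hgN hgp
    have hcop : IsCoprime ((p ^ j : ℕ) : ℤ) (m' : ℤ) :=
      Nat.isCoprime_iff_coprime.mpr
        (Nat.Coprime.pow_left j ((Nat.Prime.coprime_iff_not_dvd hp.out).mpr hpm'))
    obtain ⟨u, v, huv⟩ := hcop
    have hg' : g = (g ^ p ^ j) ^ u * (g ^ m') ^ v := by
      calc g = g ^ (1 : ℤ) := (zpow_one _).symm
        _ = g ^ (u * ((p ^ j : ℕ) : ℤ) + v * (m' : ℤ)) := by rw [huv]
        _ = (g ^ p ^ j) ^ u * (g ^ m') ^ v := by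
          rw [zpow_add, mul_comm u, mul_comm v, zpow_mul, zpow_mul, zpow_natCast, zpow_natCast]
    rw [hg', map_mul, map_zpow, map_zpow, h1, h2, one_zpow, one_zpow, one_mul]
  -- conclusion
  rw [← hNdef]
  intro n hn
  apply mem_normalizer_of_conjSub_le
  rintro _ ⟨x, hx, rfl⟩
  have hxA : x ∈ A := hx.1
  have hxk : x * k = k * x := Subgroup.mem_centralizer_singleton_iff.mp hx.2
  have hnN : n ∈ Subgroup.normalizer (A : Set G) := by rw [← hNdef]; exact hn
  have hkN' : k ∈ N := by rw [hNdef]; exact hkN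
  simp only [MulEquiv.coe_toMonoidHom, MulAut.conj_apply]
  refine ⟨(Subgroup.mem_normalizer_iff.mp hnN x).mp hxA, ?_⟩
  show n * x * n⁻¹ ∈ Subgroup.centralizer ({k} : Set G)
  rw [Subgroup.mem_centralizer_singleton_iff]
  have hc := hconv ⁅(⟨n, hn⟩ : ↥N)⁻¹, ⟨k, hkN'⟩⁆
    (key _ (by
      rw [commutator_def]
      exact Subgroup.commutator_mem_commutator (Subgroup.mem_top _) (Subgroup.mem_top _))) x hxA
  have hc' : (n⁻¹ * k * n * k⁻¹) * x * (n⁻¹ * k * n * k⁻¹)⁻¹ = x := by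
    have e : ((⁅(⟨n, hn⟩ : ↥N)⁻¹, ⟨k, hkN'⟩⁆ : ↥N) : G) = n⁻¹ * k * n * k⁻¹ := by
      rw [commutatorElement_def]
      push_cast
      group
    rw [e] at hc
    exact hc
  -- `k⁻¹ x k = x`, so `n⁻¹ k n` centralizes `x`
  have h4 : (n⁻¹ * k * n) * x * (n⁻¹ * k * n)⁻¹ = x := by
    have h5 : k⁻¹ * x * k = x := by
      rw [mul_assoc, hxk, ← mul_assoc, inv_mul_cancel, one_mul]
    calc (n⁻¹ * k * n) * x * (n⁻¹ * k * n)⁻¹
        = (n⁻¹ * k * n * k⁻¹) * (k * x * k⁻¹) * (n⁻¹ * k * n * k⁻¹)⁻¹ := by group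
      _ = (n⁻¹ * k * n * k⁻¹) * x * (n⁻¹ * k * n * k⁻¹)⁻¹ := by
          have : k * x * k⁻¹ = x := by rw [← hxk, mul_assoc, mul_inv_cancel, mul_one]
          rw [this]
      _ = x := hc'
  calc n * x * n⁻¹ * k = n * (x * (n⁻¹ * k * n)) * n⁻¹ := by group
    _ = n * ((n⁻¹ * k * n) * x) * n⁻¹ := by
        have : x * (n⁻¹ * k * n) = (n⁻¹ * k * n) * x := by
          have := h4
          calc x * (n⁻¹ * k * n) = ((n⁻¹ * k * n) * x * (n⁻¹ * k * n)⁻¹) * (n⁻¹ * k * n) := by rw [h4]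
            _ = (n⁻¹ * k * n) * x := by group
        rw [this]
    _ = k * (n * x * n⁻¹) := by group

/-- primes of `σ(M)` are not in `σ(H)` for `H` not conjugate to `M` -/
theorem not_sigma_of_nonconj (hG : Cfsg.IsMinSimpleOddOrder G) {M H : Subgroup G} (hM : IsCoatom M)
    (hH : IsCoatom H) (hnc : ∀ g : G, H ≠ conjSub g M) {t : ℕ} (ht : t ∈ Cfsg.sigma M) :
    t ∉ Cfsg.sigma H := by
  intro htH
  obtain ⟨g, hg⟩ := (Cfsg.Agent.S1378.result hG).2 M H hM hH ⟨t, ht, htH⟩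
  exact hnc g hg

/-- the common tail: a nontrivial `t`-subgroup `T ≤ M_σ` cannot be centralized by an `E_{p²}`-group
when `p ∈ π(M) ∖ σ(M)` is not ideal and `M` has `p`-rank one -/
theorem rank_two_centralizer_false (hG : Cfsg.IsMinSimpleOddOrder G) {M : Subgroup G}
    (hM : IsCoatom M) {p : ℕ} [hp : Fact p.Prime] (hpσ : p ∉ Cfsg.sigma M)
    (hr1 : Cfsg.PRankLE p 1 ↥M) (hpM : p ∣ Nat.card M) (hpi : ¬ Cfsg.IsIdealPrime p G)
    {t : ℕ} [ht : Fact t.Prime] {T : Subgroup G} (hTt : IsPGroup t T) (hT1 : T ≠ ⊥)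
    (hTσ : T ≤ Cfsg.sigmaCore M) {A : Subgroup G} (hAe : Cfsg.IsElementaryAbelian p A)
    (hA2 : Nat.card A = p ^ 2) (hAT : A ≤ Subgroup.centralizer (T : Set G)) : False := by
  haveI : IsSimpleGroup G := hG.2.1
  have hTM : T ≤ M := hTσ.trans (Cfsg.Agent.Lib.Helper1.BG12.sigmaCore_le M)
  have hTtop : T ≠ ⊤ := Cfsg.Agent.Lib.Helper11.MaxSubD.pgroup_ne_top hG t T hTt
  have hne : Subgroup.normalizer (T : Set G) ≠ ⊤ :=
    Cfsg.Agent.Lib.Helper11.normalizer_ne_top_of_simple hT1 hTtop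
  obtain ⟨N, hN, hNT⟩ := Cfsg.Agent.Lib.Helper11.BenderE.exists_coatom_ge _ hne
  have hAN : A ≤ N := (hAT.trans (Subgroup.centralizer_le_normalizer _)).trans hNT
  have hpp : p < p ^ 2 := by
    have := hp.out.one_lt
    nlinarith
  have hNM : N ≠ M := by
    rintro rfl
    have := Cfsg.Agent.Lib.Helper1.BG10.pRankLE_card_le hr1 hAN hAe
    rw [hA2, pow_one] at this
    omega
  -- `t ∈ σ(M)`
  have htσ : t ∈ Cfsg.sigma M := by
    apply Cfsg.Agent.Lib.Helper28.BGt.prime_sigmaCore hG hM ht.out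
    have hc : Nat.card T ≠ 1 := fun h => hT1 (Subgroup.card_eq_one.mp h)
    obtain ⟨n, hn⟩ := IsPGroup.iff_card.mp hTt
    have hn0 : n ≠ 0 := by
      rintro rfl
      rw [pow_zero] at hn; exact hc hn
    exact (hn ▸ dvd_pow_self t hn0 : t ∣ Nat.card T).trans (Subgroup.card_dvd_of_le hTσ)
  -- a Sylow `t`-subgroup of `M ⊓ N` containing `T`
  have hTMN : T ≤ M ⊓ N := le_inf hTM (Subgroup.le_normalizer.trans hNT)
  have hTp' : IsPGroup t (T.subgroupOf (M ⊓ N)) := hTt.comap_subtype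
  obtain ⟨S, hS⟩ := hTp'.exists_le_sylow
  have hTS : T ≤ (S : Subgroup ↥(M ⊓ N)).map (M ⊓ N).subtype := by
    intro x hx
    exact ⟨⟨x, hTMN hx⟩, hS (Subgroup.mem_subgroupOf.mpr hx), rfl⟩
  obtain ⟨hnc', hNS, hnd⟩ :=
    Cfsg.Agent.S1424.result hG M hM t htσ T hTt hT1 hTM N hN hNM hNT S hTS
  obtain ⟨S₁, hS₁def⟩ : ∃ S₁ : Subgroup G,
      S₁ = (S : Subgroup ↥(M ⊓ N)).map (M ⊓ N).subtype := ⟨_, rfl⟩
  rw [← hS₁def] at hTS hNS hnd
  have hS₁MN : S₁ ≤ M ⊓ N := by rw [hS₁def]; exact Subgroup.map_subtype_le _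
  have hSyl : IsSylowIn t S₁ N := ⟨hS₁MN.trans inf_le_right, by
    rw [hS₁def]; exact S.isPGroup'.map _, hnd⟩
  have htN : t ∉ Cfsg.sigma N := not_sigma_of_nonconj hG hM hN hnc' htσ
  obtain ⟨N₀, hN₀N, hN₀n, hpN₀, hcov⟩ :=
    Cfsg.Agent.Lib.Helper11.JsubD.cover_of_not_sigma hG hM hN htσ htN hT1 hNT hTS
      (hS₁MN.trans inf_le_left) hSyl hNS hpM hpσ hpi
  have hrk : Cfsg.PRankLE p 1 ↥N :=
    Cfsg.Agent.Lib.Helper11.JsubA.pRankLE_one_of_factor hN₀N inf_le_right hN₀n hpN₀ hcov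
      (Cfsg.Agent.Lib.Helper21.BG13x.pRankLE_of_le inf_le_left hr1)
  have := Cfsg.Agent.Lib.Helper1.BG10.pRankLE_card_le hrk hAN hAe
  rw [hA2, pow_one] at this
  omega

/-- **STAR, abelian Sylow case**: `p ∉ σ(M)`, `M` of `p`-rank one, `|P| = p`, `N_G(P) ≤ H`,
`p ∈ τ₂(H)`, `C_{M_σ}(P) ≠ 1`, and the Sylow `p`-subgroups of `G` abelian: impossible -/
theorem star_abelian (hG : Cfsg.IsMinSimpleOddOrder G) {M H : Subgroup G} (hM : IsCoatom M)
    (hH : IsCoatom H) {p : ℕ} [hp : Fact p.Prime] (hpσ : p ∉ Cfsg.sigma M)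
    (hr1 : Cfsg.PRankLE p 1 ↥M) {P : Subgroup G} (hPc : Nat.card P = p) (hPM : P ≤ M)
    (hNP : Subgroup.normalizer (P : Set G) ≤ H) (hpH : p ∈ Cfsg.tau2 H)
    (hK : Cfsg.sigmaCore M ⊓ Subgroup.centralizer (P : Set G) ≠ ⊥)
    (hab : ∃ S : Sylow p G, IsMulCommutative (S : Subgroup G)) : False := by
  have hPp : IsPGroup p P := IsPGroup.of_card (n := 1) (by rw [hPc, pow_one])
  have hP1 : P ≠ ⊥ := by
    intro h
    rw [h, Subgroup.card_bot] at hPc
    exact hp.out.one_lt.ne hPc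
  obtain ⟨hnc, -⟩ := Cfsg.Agent.Lib.Helper10.ThirteenTwo.basic hG hM hH hpσ hr1 hPp hP1 hPM hNP
  obtain ⟨K, hKdef⟩ : ∃ K : Subgroup G,
      K = Cfsg.sigmaCore M ⊓ Subgroup.centralizer (P : Set G) := ⟨_, rfl⟩
  rw [← hKdef] at hK
  have hKσ : K ≤ Cfsg.sigmaCore M := by rw [hKdef]; exact inf_le_left
  have hKC : K ≤ Subgroup.centralizer (P : Set G) := by rw [hKdef]; exact inf_le_right
  have hKH : K ≤ H := (hKC.trans (Subgroup.centralizer_le_normalizer _)).trans hNP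
  have hPH : P ≤ H := Subgroup.le_normalizer.trans hNP
  have hKprime : ∀ t : ℕ, t.Prime → t ∣ Nat.card K → t ∈ Cfsg.sigma M := fun t ht hd =>
    Cfsg.Agent.Lib.Helper28.BGt.prime_sigmaCore hG hM ht (hd.trans (Subgroup.card_dvd_of_le hKσ))
  have hpK : ¬ p ∣ Nat.card K := fun hd => hpσ (hKprime p hp.out hd)
  have hpM : p ∣ Nat.card M := by rw [← hPc]; exact Subgroup.card_dvd_of_le hPM
  have hpi : ¬ Cfsg.IsIdealPrime p G := (Cfsg.Agent.S1409.result hG H hH p hpH.2.1 P hPc hNP).2.1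
  -- `P` centralizes `K`
  have hcomm : ∀ x ∈ P, ∀ y ∈ K, x * y = y * x := fun x hx y hy =>
    (Subgroup.mem_centralizer_iff.mp (hKC hy)) x hx
  have hPK : P ≤ Subgroup.normalizer (K : Set G) := by
    refine le_trans ?_ (Subgroup.centralizer_le_normalizer _)
    intro x hx
    rw [Subgroup.mem_centralizer_iff]
    intro y hy
    exact (hcomm x hx y hy).symm
  have hYcard := Cfsg.Agent.Lib.Helper11.ThirteenB.card_sup_dvd K P hPK
  have hY : ∀ q : ℕ, q.Prime → q ∣ Nat.card ↥(K ⊔ P) → q ∉ Cfsg.sigma H := by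
    intro q hq hqd
    rcases (Nat.Prime.dvd_mul hq).mp (hqd.trans hYcard) with h | h
    · exact not_sigma_of_nonconj hG hM hH hnc (hKprime q hq h)
    · rw [hPc] at h
      rw [(Nat.prime_dvd_prime_iff_eq hq hp.out).mp h]
      exact hpH.2.1
  obtain ⟨E, hE, hYE⟩ :=
    Cfsg.Agent.Lib.Helper28.BGt.exists_compl_ge hG hH (sup_le hKH hPH) hY
  obtain ⟨A, hAE, hAe, hA2⟩ := Cfsg.Agent.Lib.Helper28.BGt.exists_sq_le_compl hG hH hE hpH
  obtain ⟨⟨hEN, hall⟩, ⟨-, -, hnot⟩, -⟩ :=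
    Cfsg.Agent.S1418.result hG H hH E hE p hpH A ⟨hAE, hAe, hA2⟩
  have hPA : P ≤ A := hall P (le_sup_right.trans hYE) hPc
  have hKN : K ≤ Subgroup.normalizer (A : Set G) := (le_sup_left.trans hYE).trans hEN
  by_cases hcase : K ≤ Subgroup.centralizer (A : Set G)
  · -- `K` centralizes `A`
    have hc : Nat.card K ≠ 1 := fun h => hK (Subgroup.card_eq_one.mp h)
    obtain ⟨t, ht, htd⟩ := Nat.exists_prime_and_dvd hc
    haveI : Fact t.Prime := ⟨ht⟩
    obtain ⟨T₀⟩ : Nonempty (Sylow t ↥K) := inferInstance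
    have hT₀ : IsSylowIn t ((T₀ : Subgroup ↥K).map K.subtype) K := isSylowIn_of_sylow T₀
    obtain ⟨T, hTdef⟩ : ∃ T : Subgroup G, T = (T₀ : Subgroup ↥K).map K.subtype := ⟨_, rfl⟩
    rw [← hTdef] at hT₀
    have hT1 : T ≠ ⊥ := by
      intro h
      apply hT₀.not_dvd
      rw [h, Subgroup.relIndex_bot_left]
      exact htd
    refine rank_two_centralizer_false hG hM hpσ hr1 hpM hpi hT₀.isPGroup hT1 (hT₀.le.trans hKσ)
      hAe hA2 ?_
    intro a ha
    rw [Subgroup.mem_centralizer_iff]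
    intro y hy
    exact (Subgroup.mem_centralizer_iff.mp (hcase (hT₀.le hy))) a ha |>.symm
  · -- some `k ∈ K` does not centralize `A`
    obtain ⟨k, hk, hkA⟩ := SetLike.not_le_iff_exists.mp hcase
    have hkm : k ^ Nat.card K = 1 := by
      have h1 : (⟨k, hk⟩ : ↥K) ^ Nat.card ↥K = 1 := pow_card_eq_one'
      have h2 := congrArg Subtype.val h1
      rw [Subgroup.coe_pow, Subgroup.coe_one] at h2
      exact h2
    have hle := normalizer_le_of_abelian_sylow hG hab hAe hA2 (hKN hk) hkm hpK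
    have hPle : P ≤ A ⊓ Subgroup.centralizer ({k} : Set G) := by
      refine le_inf hPA ?_
      intro x hx
      rw [Subgroup.mem_centralizer_singleton_iff]
      exact hcomm x hx k hk
    have hlt : A ⊓ Subgroup.centralizer ({k} : Set G) ≠ A := by
      intro h
      apply hkA
      rw [Subgroup.mem_centralizer_iff]
      intro a ha
      have : a ∈ A ⊓ Subgroup.centralizer ({k} : Set G) := by rw [h]; exact ha
      exact Subgroup.mem_centralizer_singleton_iff.mp this.2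
    have hcard : Nat.card ↥(A ⊓ Subgroup.centralizer ({k} : Set G)) ≤ p := by
      have hd : Nat.card ↥(A ⊓ Subgroup.centralizer ({k} : Set G)) ∣ p ^ 2 := by
        rw [← hA2]; exact Subgroup.card_dvd_of_le inf_le_left
      obtain ⟨i, hi2, hi⟩ := (Nat.dvd_prime_pow hp.out).mp hd
      rcases Nat.lt_or_ge i 2 with h | h
      · rw [hi]
        calc p ^ i ≤ p ^ 1 := Nat.pow_le_pow_right hp.out.pos (by omega)
          _ = p := pow_one p
      · exfalso
        have hi' : i = 2 := le_antisymm hi2 h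
        apply hlt
        apply Subgroup.eq_of_le_of_card_ge inf_le_left
        rw [hi, hi', hA2]
    have hPeq : P = A ⊓ Subgroup.centralizer ({k} : Set G) :=
      Subgroup.eq_of_le_of_card_ge hPle (by rw [hPc]; exact hcard)
    rw [← hPeq] at hle
    exact hnot (hle.trans hNP)

/-- **Lemma L, abelian Sylow case**: `p ∈ τ₁(M)`, `P ≤ E` of order `p` with `C_{M_σ}(P) ≠ 1`,
`r ∈ τ₂(M)`, `A ≤ E` an `E_{r²}` with `C_A(P) ≠ 1`, and the Sylow `r`-subgroups of `G` abelian: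
impossible -/
theorem lemma_L_abelian (hG : Cfsg.IsMinSimpleOddOrder G) {M : Subgroup G} (hM : IsCoatom M)
    {E : Subgroup G} (hE : Cfsg.IsComplIn E (Cfsg.sigmaCore M) M) {p : ℕ} (hpτ : p ∈ Cfsg.tau1 M)
    {P : Subgroup G} (hPE : P ≤ E) (hPc : Nat.card P = p)
    (hK : Cfsg.sigmaCore M ⊓ Subgroup.centralizer (P : Set G) ≠ ⊥) {r : ℕ} [hr : Fact r.Prime]
    (hrτ : r ∈ Cfsg.tau2 M) {A : Subgroup G} (hAE : A ≤ E) (hAe : Cfsg.IsElementaryAbelian r A)
    (hA2 : Nat.card A = r ^ 2) (hR : A ⊓ Subgroup.centralizer (P : Set G) ≠ ⊥)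
    (hab : ∃ S : Sylow r G, IsMulCommutative (S : Subgroup G)) : False := by
  haveI : IsSimpleGroup G := hG.2.1
  have hpp : p.Prime := hpτ.1
  have hrp : r ≠ p := by
    rintro rfl
    exact hrτ.2.2.2 hpτ.2.2.2.2
  obtain ⟨⟨hEN, -⟩, ⟨-, -, hnot⟩, huniq⟩ :=
    Cfsg.Agent.S1418.result hG M hM E hE r hrτ A ⟨hAE, hAe, hA2⟩
  have hCA : Cfsg.sigmaCore M ⊓ Subgroup.centralizer (A : Set G) = ⊥ :=
    (Cfsg.Agent.S1417.result hG M hM r hrτ A ⟨hAE.trans hE.1, hAe, hA2⟩).2.2.2.1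
  obtain ⟨k, hko, hkP⟩ := Cfsg.Agent.Lib.Helper11.RegD.exists_generator_of_card_prime hpp hPc
  have hkE : k ∈ E := hPE (by rw [← hkP]; exact Subgroup.mem_zpowers k)
  have hkp : k ^ p = 1 := by rw [← hko]; exact pow_orderOf_eq_one k
  have hrnp : ¬ r ∣ p := fun h => hrp ((Nat.prime_dvd_prime_iff_eq hr.out hpp).mp h)
  have hle := normalizer_le_of_abelian_sylow hG hab hAe hA2 (hEN hkE) hkp hrnp
  have hcent : Subgroup.centralizer ({k} : Set G) = Subgroup.centralizer (P : Set G) := by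
    rw [← hkP]; exact (Cfsg.Agent.Lib.Helper11.RegD.centralizer_zpowers_eq k).symm
  rw [hcent] at hle
  obtain ⟨R, hRdef⟩ : ∃ R : Subgroup G, R = A ⊓ Subgroup.centralizer (P : Set G) := ⟨_, rfl⟩
  rw [← hRdef] at hle hR
  have hRA : R ≤ A := by rw [hRdef]; exact inf_le_left
  have hRC : R ≤ Subgroup.centralizer (P : Set G) := by rw [hRdef]; exact inf_le_right
  -- S1428 for cyclic subgroups of `A ⊓ C(P)`
  have h28 : ∀ a ∈ R, a ≠ 1 → Cfsg.sigmaCore M ⊓ Subgroup.centralizer (P : Set G) ≤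
      Subgroup.centralizer ({a} : Set G) := by
    intro a ha ha1
    have hao : orderOf a = r := by
      have h1 : orderOf a ∣ r := orderOf_dvd_of_pow_eq_one (hAe.2 a (hRA ha))
      rcases (Nat.dvd_prime hr.out).mp h1 with h | h
      · exact absurd (orderOf_eq_one_iff.mp h) ha1
      · exact h
    have h := Cfsg.Agent.S1428.result hG M hM E hE p hpτ P hPE hPc (Subgroup.zpowers a)
      (le_inf (by rw [Subgroup.zpowers_le]; exact hAE (hRA ha))
        (by rw [Subgroup.zpowers_le]; exact hRC ha))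
      (by rw [Nat.card_zpowers, hao]; exact hr.out)
    rw [Cfsg.Agent.Lib.Helper11.RegD.centralizer_zpowers_eq] at h
    exact h.trans inf_le_right
  -- `R ≠ A`
  have hRne : R ≠ A := by
    intro h
    apply hK
    rw [eq_bot_iff, ← hCA]
    intro y hy
    refine ⟨hy.1, ?_⟩
    show y ∈ Subgroup.centralizer (A : Set G)
    rw [Subgroup.mem_centralizer_iff]
    intro a ha
    by_cases ha1 : a = 1
    · rw [ha1, one_mul, mul_one]
    · have := h28 a (by rw [h]; exact ha) ha1 hy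
      exact (Subgroup.mem_centralizer_singleton_iff.mp this).symm
  -- `|R| = r`
  have hRc : Nat.card R = r := by
    have hd : Nat.card R ∣ r ^ 2 := by rw [← hA2]; exact Subgroup.card_dvd_of_le hRA
    obtain ⟨i, hi2, hi⟩ := (Nat.dvd_prime_pow hr.out).mp hd
    have hi0 : i ≠ 0 := by
      rintro rfl
      rw [pow_zero] at hi
      exact hR (Subgroup.card_eq_one.mp hi)
    have hi2' : i ≠ 2 := by
      rintro rfl
      exact hRne (Subgroup.eq_of_le_of_card_ge hRA (by rw [hi, hA2]))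
    have : i = 1 := by omega
    rw [hi, this, pow_one]
  -- `C_{M_σ}(R) ≠ 1`, so `M` is the unique maximal subgroup containing `C_G(R)`
  have hKR : Cfsg.sigmaCore M ⊓ Subgroup.centralizer (R : Set G) ≠ ⊥ := by
    intro h
    apply hK
    rw [eq_bot_iff, ← h]
    intro y hy
    refine ⟨hy.1, ?_⟩
    show y ∈ Subgroup.centralizer (R : Set G)
    rw [Subgroup.mem_centralizer_iff]
    intro a ha
    by_cases ha1 : a = 1
    · rw [ha1, one_mul, mul_one]
    · exact (Subgroup.mem_centralizer_singleton_iff.mp (h28 a ha ha1 hy)).symm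
  obtain ⟨-, hu⟩ := huniq R hRA hRc hKR
  have hR1 : R ≠ ⊥ := hR
  have hRtop : R ≠ ⊤ :=
    Cfsg.Agent.Lib.Helper11.MaxSubD.pgroup_ne_top hG r R (IsPGroup.of_card (n := 1) (by rw [hRc, pow_one]))
  obtain ⟨L, hL, hNL⟩ := Cfsg.Agent.Lib.Helper11.BenderE.exists_coatom_ge _
    (Cfsg.Agent.Lib.Helper11.normalizer_ne_top_of_simple hR1 hRtop)
  have hLM : L = M := hu L hL ((Subgroup.centralizer_le_normalizer _).trans hNL)
  exact hnot (hle.trans (hLM ▸ hNL))

end Cfsg.Agent.Lib.Helper21.BG13z
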