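import Mathlib
import Cfsg.Agent.Lib.Helper28.BGtS
import Cfsg.Agent.Lib.Helper10.ThirteenTwo

set_option autoImplicit false

/-! # `κ(M) ∩ τ₃(M) ≠ ∅ ⟹ τ₂(M) = ∅` (helper21, after helper10/helper28) -/

namespace Cfsg.Agent.Lib.Helper21.BG13s

open Cfsg Cfsg.Agent.Lib.Helper18 Cfsg.Agent.Lib.Helper28.BGt

variable {G : Type*} [Group G] [Finite G]

/-- a subgroup of prime order `t ∈ τ₃(M)` of a complement `E` of `M_σ` is normal in `E` -/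
theorem tau3_prime_normal (hG : Cfsg.IsMinSimpleOddOrder G) {M E : Subgroup G} (hM : IsCoatom M)
    (hE : Cfsg.IsComplIn E (Cfsg.sigmaCore M) M) {t : ℕ} [ht : Fact t.Prime]
    (ht3 : t ∈ Cfsg.tau3 M) {T₁ : Subgroup G} (hT₁E : T₁ ≤ E) (hT₁c : Nat.card T₁ = t) :
    E ≤ Subgroup.normalizer (T₁ : Set G) := by
  have htσ : t ∉ Cfsg.sigma M := ht3.2.1
  have htd : t ∣ Nat.card ↥⁅M, M⁆ := ht3.2.2.1
  have ht1 : Cfsg.PRankLE t 1 ↥M := ht3.2.2.2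
  have hT₁p : IsPGroup t T₁ := IsPGroup.of_card (n := 1) (by rw [hT₁c, pow_one])
  have htM : t ∣ Nat.card M := by
    rw [← hT₁c]; exact Subgroup.card_dvd_of_le (hT₁E.trans hE.1)
  obtain ⟨T, hT, hT₁T⟩ := exists_isSylowIn_ge hT₁E hT₁p
  have hET : E ≤ Subgroup.normalizer (T : Set G) := sylow_tau3_normal hG hM hE htσ htd ht1 hT
  have ht2' : t ≠ 2 := Cfsg.Agent.Lib.Helper1.BG10.prime_ne_two hG t M htM
  have hTcyc : IsCyclic T :=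
    Cfsg.Agent.Lib.Helper11.BenderQ.isCyclic_of_pRankLE_one t ht2' hT.isPGroup
      (Cfsg.Agent.Lib.Helper1.BG12.pRankLE_of_le (hT.le.trans hE.1) ht1)
  intro e he
  apply mem_normalizer_of_conjSub_le
  have h1 : conjSub e T₁ ≤ T := by
    have := conjSub_mono (g := e) hT₁T
    rwa [conjSub_eq_of_mem_normalizer (hET he)] at this
  have h2 := Cfsg.Agent.Lib.Helper10.SigmaJsubA.eq_of_card_eq_of_le_cyclic hTcyc h1 hT₁T
    (card_conjSub e T₁)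
  rw [h2]

/-- **`κ ∩ τ₃ ≠ ∅ ⟹ τ₂ = ∅`**: if a subgroup `T₁ ≤ E` of prime order `t ∈ τ₃(M)` centralizes a
non-identity element of `M_σ`, then `τ₂(M) = ∅` -/
theorem tau2_empty_of_tau3_kappa (hG : Cfsg.IsMinSimpleOddOrder G) {M E : Subgroup G}
    (hM : IsCoatom M) (hE : Cfsg.IsComplIn E (Cfsg.sigmaCore M) M) {t : ℕ} [ht : Fact t.Prime]
    (ht3 : t ∈ Cfsg.tau3 M) {T₁ : Subgroup G} (hT₁E : T₁ ≤ E) (hT₁c : Nat.card T₁ = t)
    (hne : Cfsg.sigmaCore M ⊓ Subgroup.centralizer (T₁ : Set G) ≠ ⊥) (p : ℕ) :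
    p ∉ Cfsg.tau2 M := by
  intro hpM
  haveI : IsSimpleGroup G := hG.2.1
  haveI hp : Fact p.Prime := ⟨hpM.1⟩
  have htσ : t ∉ Cfsg.sigma M := ht3.2.1
  have ht1 : Cfsg.PRankLE t 1 ↥M := ht3.2.2.2
  have hT₁p : IsPGroup t T₁ := IsPGroup.of_card (n := 1) (by rw [hT₁c, pow_one])
  have hT₁1 : T₁ ≠ ⊥ := by
    intro h
    rw [h, Subgroup.card_bot] at hT₁c
    exact ht.out.one_lt.ne hT₁c
  have hT₁M : T₁ ≤ M := hT₁E.trans hE.1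
  obtain ⟨A, hAE, hAe, hA2⟩ := exists_sq_le_compl hG hM hE hpM
  have hCA : Cfsg.sigmaCore M ⊓ Subgroup.centralizer (A : Set G) = ⊥ :=
    (Cfsg.Agent.S1417.result hG M hM p hpM A ⟨hAE.trans hE.1, hAe, hA2⟩).2.2.2.1
  have hET₁ := tau3_prime_normal hG hM hE ht3 hT₁E hT₁c
  have hT₁top : T₁ ≠ ⊤ := Cfsg.Agent.Lib.Helper11.MaxSubD.pgroup_ne_top hG t T₁ hT₁p
  have hNne : Subgroup.normalizer (T₁ : Set G) ≠ ⊤ :=
    Cfsg.Agent.Lib.Helper11.normalizer_ne_top_of_simple hT₁1 hT₁top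
  obtain ⟨H₂, hH₂, hNH₂⟩ := Cfsg.Agent.Lib.Helper11.BenderE.exists_coatom_ge _ hNne
  have hEH₂ : E ≤ H₂ := hET₁.trans hNH₂
  have hAH₂ : A ≤ H₂ := hAE.trans hEH₂
  have hpτ1 : p ∉ Cfsg.tau1 H₂ := by
    intro h
    have := Cfsg.Agent.Lib.Helper1.BG10.pRankLE_card_le h.2.2.2.2 hAH₂ hAe
    rw [hA2, pow_one] at this
    have h2 : p < p ^ 2 := by
      have := hp.out.one_lt
      nlinarith
    omega
  have hb := Cfsg.Agent.Lib.Helper10.ThirteenTwo.part_b hG hM hH₂ htσ ht1 hT₁p hT₁1 hT₁M hNH₂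
    hpM.2.1 hpτ1
  have hinf := Cfsg.Agent.Lib.Helper10.ThirteenTwo.inf_eq_cent hG hM hH₂ htσ ht1 hT₁p hT₁1 hT₁M
    hNH₂
  apply hne
  rw [eq_bot_iff, ← hCA]
  refine le_inf inf_le_left ?_
  intro d hd
  rw [Subgroup.mem_centralizer_iff]
  intro a ha
  have hd' : d ∈ Cfsg.sigmaCore M ⊓ H₂ := by rw [hinf]; exact hd
  exact hb a ⟨hAE.trans hE.1 ha, hAH₂ ha⟩ ⟨1, by rw [pow_one]; exact hAe.2 a ha⟩ d hd'

end Cfsg.Agent.Lib.Helper21.BG13s
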