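import Mathlib
import Cfsg.Prelude.Def_OddOrderLocal
import Cfsg.Agent.S1412
import Cfsg.Agent.S1453
import Cfsg.Agent.Lib.Helper9.RankComp3
import Cfsg.Agent.Lib.Helper18.BGTenD
import Cfsg.Agent.Lib.Helper18.BGTwelveD

set_option autoImplicit false
open scoped commutatorElement

/-! # B & G: the pure `r`-group fact (3b) for Lemma L

For a Sylow `r`-subgroup `S` of a minimal simple group of odd order and a maximal elementary
abelian subgroup `A ≤ S` of order `r ^ 2`, `A ∩ S' ≤ Z(S)`. -/

namespace Cfsg.Agent.Lib.Helper21.BG13w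

open Cfsg

section typelevel

variable {R : Type*} [Group R] [Finite R]

/-- rank at least three: `E ∩ R' ≤ Z(R)` for a maximal elementary abelian `E` of order `p ^ 2` -/
theorem rank_three_inf_commutator_le_center (p : ℕ) [hp : Fact p.Prime] (hp2 : p ≠ 2)
    (hR : IsPGroup p R) (hr : ¬ Cfsg.PRankLE p 2 R) (E : Subgroup R)
    (hE : Cfsg.IsElementaryAbelian p E) (hE2 : Nat.card E = p ^ 2)
    (hEmax : ∀ B : Subgroup R, Cfsg.IsElementaryAbelian p B → E ≤ B → B = E) :
    ∀ a ∈ E, a ∈ commutator R → a ∈ Subgroup.center R := by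
  obtain ⟨hET, hZcard, -, hTchar, hTidx⟩ := Cfsg.Agent.S1453.result p hp2 hR hr E hE hE2 hEmax
  obtain ⟨T, hT⟩ : ∃ T : Subgroup R, T = Subgroup.centralizer ((Subgroup.closure
      {x : R | x ∈ Subgroup.upperCentralSeries R 2 ∧ x ^ p = 1} : Subgroup R) : Set R) := ⟨_, rfl⟩
  obtain ⟨Z, hZ⟩ : ∃ Z : Subgroup R, Z = Subgroup.closure
      {x : R | x ∈ Subgroup.center R ∧ x ^ p = 1} := ⟨_, rfl⟩
  rw [← hT] at hET hTchar hTidx
  rw [← hZ] at hZcard
  have hTn : T.Normal := inferInstance
  -- `R' ≤ T`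
  have hRT : commutator R ≤ T := by
    have hcard : Nat.card (R ⧸ T) = p := by rw [← Subgroup.index_eq_card]; exact hTidx
    haveI : Fact (Nat.card (R ⧸ T)).Prime := ⟨by rw [hcard]; exact hp.out⟩
    have hcyc : IsCyclic (R ⧸ T) := isCyclic_of_prime_card hcard
    letI : CommGroup (R ⧸ T) := IsCyclic.commGroup
    have := Abelianization.commutator_subset_ker (QuotientGroup.mk' T)
    rwa [QuotientGroup.ker_mk'] at this
  -- `Z ≤ Z(R)`
  have hZcen : Z ≤ Subgroup.center R := by
    rw [hZ, Subgroup.closure_le]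
    intro x hx
    exact hx.1
  -- `Z` is elementary abelian
  have hZe : Cfsg.IsElementaryAbelian p Z := by
    rw [hZ]
    apply Cfsg.Agent.Lib.Helper5.elemAb_closure
    · intro x hx y _
      exact ((Subgroup.mem_center_iff.mp hx.1) y).symm
    · intro x hx
      exact hx.2
  -- `Z ≤ E`
  have hZE : Z ≤ E := by
    have hsup : Cfsg.IsElementaryAbelian p (E ⊔ Z) := by
      apply Cfsg.Agent.Lib.Helper9.rc_ea_sup hE hZe
      intro a _ b hb
      exact (Subgroup.mem_center_iff.mp (hZcen hb)) a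
    have := hEmax (E ⊔ Z) hsup le_sup_left
    rw [← this]
    exact le_sup_right
  -- `Z ≤ T`
  have hZT : Z ≤ T := by
    rw [hT]
    exact hZcen.trans (Subgroup.center_le_centralizer _)
  -- `E ⊓ T = Z`
  have hETZ : E ⊓ T = Z := by
    have hle : Z ≤ E ⊓ T := le_inf hZE hZT
    have hdvd : Nat.card ↥(E ⊓ T) ∣ p ^ 2 := by
      rw [← hE2]
      exact Subgroup.card_dvd_of_le inf_le_left
    obtain ⟨k, hk2, hk⟩ := (Nat.dvd_prime_pow hp.out).mp hdvd
    have hZdvd : Nat.card Z ∣ Nat.card ↥(E ⊓ T) := Subgroup.card_dvd_of_le hle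
    rw [hZcard, hk] at hZdvd
    have hk1 : k = 1 := by
      interval_cases k
      · rw [pow_zero] at hZdvd
        exact absurd (Nat.dvd_one.mp hZdvd) hp.out.one_lt.ne'
      · rfl
      · exfalso
        apply hET
        have : E ⊓ T = E := by
          apply Subgroup.eq_of_le_of_card_ge inf_le_left
          rw [hk, hE2]
        rw [← this]
        exact inf_le_right
    symm
    apply Subgroup.eq_of_le_of_card_ge hle
    rw [hk, hk1, pow_one, hZcard]
  intro a haE haC
  apply hZcen
  rw [← hETZ]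
  exact ⟨haE, hRT haC⟩

end typelevel

variable {G : Type*} [Group G] [Finite G]

/-- **(3b)**: for a Sylow `r`-subgroup `S` of a minimal simple group of odd order and a maximal
elementary abelian subgroup `A ≤ S` of order `r ^ 2`: `A ∩ S' ≤ Z(S)` -/
theorem max_sq_inf_commutator_le_center (hG : Cfsg.IsMinSimpleOddOrder G) (r : ℕ)
    [hr : Fact r.Prime] (S : Sylow r G) (A : Subgroup G) (hAS : A ≤ (S : Subgroup G))
    (hAe : Cfsg.IsElementaryAbelian r A) (hA2 : Nat.card A = r ^ 2)
    (hmax : ∀ B : Subgroup G, B ≤ (S : Subgroup G) → Cfsg.IsElementaryAbelian r B → A ≤ B →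
      B = A) :
    ∀ a ∈ A, a ∈ ⁅(S : Subgroup G), (S : Subgroup G)⁆ → ∀ s ∈ (S : Subgroup G),
      a * s = s * a := by
  -- `r` is odd
  have hr2 : r ≠ 2 := by
    rintro rfl
    have h2 : 2 ∣ Nat.card G := by
      have : Nat.card A ∣ Nat.card G := Subgroup.card_subgroup_dvd_card A
      rw [hA2] at this
      exact (dvd_pow_self 2 (by norm_num)).trans this
    exact (Nat.not_even_iff_odd.mpr hG.1) (even_iff_two_dvd.mpr h2)
  by_cases hrk : Cfsg.PRankLE r 2 (S : Subgroup G)
  · -- rank at most two: `S' ≤ Z(S)` by the structure theorem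
    rcases Cfsg.Agent.S1412.result hG r S hrk with hab | ⟨P₁, P₂, hsup, hcomm, hna, hcard, -, hcyc, -⟩
    · intro a _ haC s hs
      have : ⁅(S : Subgroup G), (S : Subgroup G)⁆ = ⊥ := by
        rw [Subgroup.commutator_eq_bot_iff_le_centralizer]
        intro x hx
        rw [Subgroup.mem_centralizer_iff]
        intro y hy
        have := hab.is_comm.comm ⟨y, hy⟩ ⟨x, hx⟩
        exact congrArg Subtype.val this
      rw [this, Subgroup.mem_bot] at haC
      rw [haC, one_mul, mul_one]
    · intro a _ haC s hs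
      have hab2 : ∀ b ∈ P₂, ∀ b' ∈ P₂, b * b' = b' * b := by
        intro b hb b' hb'
        haveI := hcyc
        letI : CommGroup ↥P₂ := IsCyclic.commGroup
        have := mul_comm (⟨b, hb⟩ : ↥P₂) ⟨b', hb'⟩
        exact congrArg Subtype.val this
      have h1 : ⁅(S : Subgroup G), (S : Subgroup G)⁆ ≤ P₁ ⊓ Subgroup.centralizer (P₁ : Set G) := by
        rw [← hsup, ← Cfsg.Agent.Lib.Helper18.BGTenD.commutator_eq_inf_centralizer r P₁ hcard hna]
        exact Cfsg.Agent.Lib.Helper18.BGTwelveD.commutator_sup_le hcomm hab2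
      obtain ⟨ha1, ha2⟩ := h1 haC
      have ha2 : a ∈ Subgroup.centralizer (P₁ : Set G) := ha2
      rw [← hsup] at hs
      obtain ⟨x, hx, y, hy, rfl⟩ := Cfsg.Agent.Lib.Helper18.BGTwelveD.mem_sup_of_commute hcomm hs
      have e1 : x * a = a * x := Subgroup.mem_centralizer_iff.mp ha2 x hx
      have e2 : a * y = y * a := hcomm a ha1 y hy
      rw [← mul_assoc, ← e1, mul_assoc, e2, mul_assoc]
  · -- rank at least three
    have hSp : IsPGroup r ↥(S : Subgroup G) := S.isPGroup'
    have key := rank_three_inf_commutator_le_center r hr2 hSp hrk (A.subgroupOf (S : Subgroup G))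
      ?_ ?_ ?_
    · intro a haA haC s hs
      have haS : a ∈ (S : Subgroup G) := hAS haA
      have h1 : (⟨a, haS⟩ : ↥(S : Subgroup G)) ∈ A.subgroupOf (S : Subgroup G) :=
        Subgroup.mem_subgroupOf.mpr haA
      have h2 : (⟨a, haS⟩ : ↥(S : Subgroup G)) ∈ commutator ↥(S : Subgroup G) := by
        rw [← Subgroup.map_subtype_commutator] at haC
        obtain ⟨y, hy, hya⟩ := haC
        have : y = ⟨a, haS⟩ := Subtype.ext hya
        rw [← this]
        exact hy
      have h3 := key _ h1 h2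
      have := (Subgroup.mem_center_iff.mp h3) ⟨s, hs⟩
      exact (congrArg Subtype.val this).symm
    · refine ⟨⟨⟨?_⟩⟩, ?_⟩
      · rintro ⟨a, ha⟩ ⟨b, hb⟩
        rw [Subgroup.mem_subgroupOf] at ha hb
        apply Subtype.ext
        apply Subtype.ext
        have := hAe.1.is_comm.comm ⟨a, ha⟩ ⟨b, hb⟩
        show (a : G) * b = b * a
        exact congrArg Subtype.val this
      · intro a ha
        rw [Subgroup.mem_subgroupOf] at ha
        apply Subtype.ext
        simpa using hAe.2 a ha
    · rw [Nat.card_congr (Subgroup.subgroupOfEquivOfLe hAS).toEquiv, hA2]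
    · intro B hBe hAB
      have hB' : B.map (S : Subgroup G).subtype = A := by
        apply hmax _ (Subgroup.map_subtype_le B)
        · refine ⟨⟨⟨?_⟩⟩, ?_⟩
          · rintro ⟨_, a, ha, rfl⟩ ⟨_, b, hb, rfl⟩
            apply Subtype.ext
            have := hBe.1.is_comm.comm ⟨a, ha⟩ ⟨b, hb⟩
            have h2 := congrArg Subtype.val this
            show ((a : ↥(S : Subgroup G)) : G) * b = b * a
            exact congrArg Subtype.val h2
          · rintro _ ⟨a, ha, rfl⟩
            have := hBe.2 a ha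
            have h2 := congrArg Subtype.val this
            simpa using h2
        · intro a ha
          exact ⟨⟨a, hAS ha⟩, hAB (Subgroup.mem_subgroupOf.mpr ha), rfl⟩
      ext b
      rw [Subgroup.mem_subgroupOf, ← hB']
      constructor
      · intro hb
        exact ⟨b, hb, rfl⟩
      · rintro ⟨b', hb', hbb'⟩
        have : b' = b := Subtype.ext hbb'
        rwa [this] at hb'

/-- subgroup form of **(3b)**: `A ⊓ ⁅S, S⁆ ≤ C_G(S)` -/
theorem max_sq_inf_commutator_le_centralizer (hG : Cfsg.IsMinSimpleOddOrder G) (r : ℕ)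
    [hr : Fact r.Prime] (S : Sylow r G) (A : Subgroup G) (hAS : A ≤ (S : Subgroup G))
    (hAe : Cfsg.IsElementaryAbelian r A) (hA2 : Nat.card A = r ^ 2)
    (hmax : ∀ B : Subgroup G, B ≤ (S : Subgroup G) → Cfsg.IsElementaryAbelian r B → A ≤ B →
      B = A) :
    A ⊓ ⁅(S : Subgroup G), (S : Subgroup G)⁆ ≤
      Subgroup.centralizer ((S : Subgroup G) : Set G) := by
  rintro a ⟨ha1, ha2⟩
  rw [Subgroup.mem_centralizer_iff]
  intro s hs
  exact (max_sq_inf_commutator_le_center hG r S A hAS hAe hA2 hmax a ha1 ha2 s hs).symm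

end Cfsg.Agent.Lib.Helper21.BG13w
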