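import Mathlib
import Cfsg.Agent.Lib.Helper28.BGtS
import Cfsg.Agent.Lib.Helper18.LemLFinal
import Cfsg.Agent.Lib.Helper10.ThirteenTwo
import Cfsg.Agent.Lib.Helper1.BG12.SigmaDisjoint

set_option autoImplicit false

/-! # STAR, unconditionally, and the "partner" corollary for `κ`-elements (helper21) -/

namespace Cfsg.Agent.Lib.Helper21.BG13t

open Cfsg

variable {G : Type*} [Group G] [Finite G]

/-- Lemma L in the universally quantified form `Helper28.BGt.LemmaL` -/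
theorem lemmaL (hG : Cfsg.IsMinSimpleOddOrder G) : Cfsg.Agent.Lib.Helper28.BGt.LemmaL G :=
  fun _ _ _ _ _ _ hM hE hp hr hPE hPc hK hRE hRc =>
    Cfsg.Agent.Lib.Helper18.LemLFinal.lemma_L hG hM hE hp hr hPE hPc hK hRE hRc

/-- **STAR**, unconditional: `p ∉ σ(M)`, `M` of `p`-rank at most one, `|P| = p`, `P ≤ M`,
`N_G(P) ≤ H`, `C_{M_σ}(P) ≠ 1` ⟹ `p ∉ τ₂(H)` -/
theorem star_final (hG : Cfsg.IsMinSimpleOddOrder G) {M H : Subgroup G} (hM : IsCoatom M)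
    (hH : IsCoatom H) {p : ℕ} [hp : Fact p.Prime] (hpσ : p ∉ Cfsg.sigma M)
    (hr1 : Cfsg.PRankLE p 1 ↥M) {P : Subgroup G} (hPc : Nat.card P = p) (hPM : P ≤ M)
    (hNP : Subgroup.normalizer (P : Set G) ≤ H)
    (hK : Cfsg.sigmaCore M ⊓ Subgroup.centralizer (P : Set G) ≠ ⊥) : p ∉ Cfsg.tau2 H :=
  fun hpH => Cfsg.Agent.Lib.Helper28.BGt.star hG (lemmaL hG) hM hH hpσ hr1 hPc hPM hNP hpH hK

/-- the partner corollary (last clause of B & G 14.2): in the STAR setting, `p ∈ σ(H)`, `H` is not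
conjugate to `M`, and `P ≤ H_σ` -/
theorem le_sigmaCore_of_normalizer_le (hG : Cfsg.IsMinSimpleOddOrder G) {M H : Subgroup G}
    (hM : IsCoatom M) (hH : IsCoatom H) {p : ℕ} [hp : Fact p.Prime] (hpσ : p ∉ Cfsg.sigma M)
    (hr1 : Cfsg.PRankLE p 1 ↥M) {P : Subgroup G} (hPc : Nat.card P = p) (hPM : P ≤ M)
    (hNP : Subgroup.normalizer (P : Set G) ≤ H)
    (hK : Cfsg.sigmaCore M ⊓ Subgroup.centralizer (P : Set G) ≠ ⊥) :
    (∀ g : G, H ≠ Cfsg.Agent.Lib.Helper18.conjSub g M) ∧ p ∈ Cfsg.sigma H ∧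
      P ≤ Cfsg.sigmaCore H := by
  have hPp : IsPGroup p P := IsPGroup.of_card (n := 1) (by rw [hPc, pow_one])
  have hP1 : P ≠ ⊥ := by
    intro h
    rw [h, Subgroup.card_bot] at hPc
    exact hp.out.one_lt.ne hPc
  obtain ⟨hnc, h2⟩ := Cfsg.Agent.Lib.Helper10.ThirteenTwo.basic hG hM hH hpσ hr1 hPp hP1 hPM hNP
  have hσ : p ∈ Cfsg.sigma H := by
    rcases h2 with h | h
    · exact h
    · exact absurd h (star_final hG hM hH hpσ hr1 hPc hPM hNP hK)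
  exact ⟨hnc, hσ, Cfsg.Agent.Lib.Helper1.BG12.pgroup_le_sigmaCore hG H hH p hσ P
    (Subgroup.le_normalizer.trans hNP) hPp⟩

end Cfsg.Agent.Lib.Helper21.BG13t
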