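import Mathlib
import Cfsg.Agent.Lib.Helper21.BG13t
import Cfsg.Agent.Lib.Helper21.BG13s
import Cfsg.Agent.Lib.Helper21.BG13r
import Cfsg.Agent.Lib.Helper28.BGtO
import Cfsg.Agent.Lib.Lead.Coprime
import Cfsg.Agent.Lib.Helper11.HallCommutator
import Cfsg.Agent.S1409
import Cfsg.Agent.S1405
import Cfsg.Agent.Lib.Helper11.RegD

set_option autoImplicit false

/-! # `τ₃`-primes of `κ(M)`: the moving `τ₁`-elements have fixed points (helper21) -/

namespace Cfsg.Agent.Lib.Helper21.BG13q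

open Cfsg Cfsg.Agent.Lib.Helper18 Cfsg.Agent.Lib.Helper28.BGt

variable {G : Type*} [Group G] [Finite G]

/-- if `τ₃(M) ≠ ∅` then `M_α ≠ 1` (otherwise `M'` is nilpotent, its cyclic Sylow `p`-subgroup is
normal in `M`, and `N_G(Ω₁) = M` contradicts S1409) -/
theorem alphaCore_ne_bot_of_tau3 (hG : Cfsg.IsMinSimpleOddOrder G) {M : Subgroup G}
    (hM : IsCoatom M) {p : ℕ} [hp : Fact p.Prime] (hp3 : p ∈ Cfsg.tau3 M) :
    Cfsg.alphaCore M ≠ ⊥ := by
  intro hα
  haveI : IsSimpleGroup G := hG.2.1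
  have hpσ : p ∉ Cfsg.sigma M := hp3.2.1
  have hpd : p ∣ Nat.card ↥⁅M, M⁆ := hp3.2.2.1
  have hr1 : Cfsg.PRankLE p 1 ↥M := hp3.2.2.2
  obtain ⟨hnil, -⟩ := Cfsg.Agent.Lib.Helper1.BG12.nilpotent_of_alphaCore_bot hG M hM hα
  obtain ⟨D, hD⟩ : ∃ D : Subgroup G, D = ⁅M, M⁆ := ⟨_, rfl⟩
  rw [← hD] at hnil hpd
  have hDM : D ≤ M := by
    rw [hD]
    exact Subgroup.commutator_le.mpr (fun a ha b hb => by
      rw [commutatorElement_def]
      exact M.mul_mem (M.mul_mem (M.mul_mem ha hb) (M.inv_mem ha)) (M.inv_mem hb))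
  have hMD : M ≤ Subgroup.normalizer (D : Set G) := by
    rw [hD]; exact Cfsg.Agent.Lib.Helper11.le_normalizer_commutator_left M M
  have hpM : p ∣ Nat.card M := hpd.trans (Subgroup.card_dvd_of_le hDM)
  have hp2 : p ≠ 2 := Cfsg.Agent.Lib.Helper1.BG10.prime_ne_two hG p M hpM
  obtain ⟨S⟩ : Nonempty (Sylow p ↥D) := inferInstance
  haveI := hnil
  have hSn : (S : Subgroup ↥D).Normal := inferInstance
  haveI := Sylow.characteristic_of_normal S hSn
  obtain ⟨T, hT⟩ : ∃ T : Subgroup G, T = (S : Subgroup ↥D).map D.subtype := ⟨_, rfl⟩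
  have hMT : M ≤ Subgroup.normalizer (T : Set G) := by
    rw [hT]
    exact Cfsg.Agent.Lib.Lead.le_normalizer_map_characteristic D M hMD (S : Subgroup ↥D)
  have hTS : IsSylowIn p T D := hT ▸ isSylowIn_of_sylow S
  have hTM : T ≤ M := hTS.le.trans hDM
  have hTp : IsPGroup p T := hTS.isPGroup
  have hTcyc : IsCyclic T :=
    Cfsg.Agent.Lib.Helper11.BenderQ.isCyclic_of_pRankLE_one p hp2 hTp
      (Cfsg.Agent.Lib.Helper1.BG12.pRankLE_of_le hTM hr1)
  -- `p ∣ |T|`
  have hpT : p ∣ Nat.card T := by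
    by_contra hnd
    have h1 : Nat.card D = Nat.card T * T.relIndex D := by
      rw [← Cfsg.Agent.Lib.Helper5.card_subgroupOf_of_le hTS.le]
      exact ((T.subgroupOf D).card_mul_index).symm
    rw [h1] at hpd
    rcases (Nat.Prime.dvd_mul hp.out).mp hpd with h | h
    · exact hnd h
    · exact hTS.not_dvd h
  obtain ⟨x, hx⟩ := exists_prime_orderOf_dvd_card' p hpT
  obtain ⟨P₀, hP₀⟩ : ∃ P₀ : Subgroup G, P₀ = Subgroup.zpowers (x : G) := ⟨_, rfl⟩
  have hP₀c : Nat.card P₀ = p := by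
    rw [hP₀, Nat.card_zpowers, Subgroup.orderOf_coe, hx]
  have hP₀T : P₀ ≤ T := by
    rw [hP₀, Subgroup.zpowers_le]; exact x.2
  have hMP₀ : M ≤ Subgroup.normalizer (P₀ : Set G) := by
    intro m hm
    apply mem_normalizer_of_conjSub_le
    have h1 : conjSub m P₀ ≤ T := by
      have := conjSub_mono (g := m) hP₀T
      rwa [conjSub_eq_of_mem_normalizer (hMT hm)] at this
    have h2 := Cfsg.Agent.Lib.Helper10.SigmaJsubA.eq_of_card_eq_of_le_cyclic hTcyc h1 hP₀T
      (card_conjSub m P₀)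
    rw [h2]
  have hP₀p : IsPGroup p P₀ := IsPGroup.of_card (n := 1) (by rw [hP₀c, pow_one])
  have hP₀1 : P₀ ≠ ⊥ := by
    intro h
    rw [h, Subgroup.card_bot] at hP₀c
    exact hp.out.one_lt.ne hP₀c
  have hP₀top : P₀ ≠ ⊤ := Cfsg.Agent.Lib.Helper11.MaxSubD.pgroup_ne_top hG p P₀ hP₀p
  have hNne : Subgroup.normalizer (P₀ : Set G) ≠ ⊤ :=
    Cfsg.Agent.Lib.Helper11.normalizer_ne_top_of_simple hP₀1 hP₀top
  have hNM : Subgroup.normalizer (P₀ : Set G) = M := by
    rcases eq_or_lt_of_le hMP₀ with h | h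
    · exact h.symm
    · exact absurd (hM.2 _ h) hNne
  exact (Cfsg.Agent.S1409.result hG M hM p hpσ P₀ hP₀c hNM.le).1.2 hr1

/-- **step (3)(ii)**: `p ∈ τ₃(M)`, `P ≤ E` of order `p` with `C_{M_σ}(P) ≠ 1`; an element `x ∈ E` of
prime order `r ∈ τ₁(M)` which does not centralize `P` has a non-trivial fixed point on `M_α`
(B & G 12.12(a) applied to `K := M`, `L ∈ 𝓜(N(P))`) -/
theorem tau1_moving_fixed (hG : Cfsg.IsMinSimpleOddOrder G) {M E : Subgroup G} (hM : IsCoatom M)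
    (hE : Cfsg.IsComplIn E (Cfsg.sigmaCore M) M) {p : ℕ} [hp : Fact p.Prime]
    (hp3 : p ∈ Cfsg.tau3 M) {P : Subgroup G} (hPE : P ≤ E) (hPc : Nat.card P = p)
    (hY : Cfsg.sigmaCore M ⊓ Subgroup.centralizer (P : Set G) ≠ ⊥)
    {r : ℕ} (hr1 : r ∈ Cfsg.tau1 M) {x : G} (hxE : x ∈ E) (hxo : orderOf x = r)
    (hxP : x ∉ Subgroup.centralizer (P : Set G)) :
    Cfsg.alphaCore M ⊓ Subgroup.centralizer ({x} : Set G) ≠ ⊥ := by
  haveI : IsSimpleGroup G := hG.2.1
  have hpσ : p ∉ Cfsg.sigma M := hp3.2.1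
  have hp1 : Cfsg.PRankLE p 1 ↥M := hp3.2.2.2
  have hPM : P ≤ M := hPE.trans hE.1
  have hPp : IsPGroup p P := IsPGroup.of_card (n := 1) (by rw [hPc, pow_one])
  have hP1 : P ≠ ⊥ := by
    intro h
    rw [h, Subgroup.card_bot] at hPc
    exact hp.out.one_lt.ne hPc
  have hEP := Cfsg.Agent.Lib.Helper21.BG13s.tau3_prime_normal hG hM hE hp3 hPE hPc
  have hPtop : P ≠ ⊤ := Cfsg.Agent.Lib.Helper11.MaxSubD.pgroup_ne_top hG p P hPp
  have hNne : Subgroup.normalizer (P : Set G) ≠ ⊤ :=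
    Cfsg.Agent.Lib.Helper11.normalizer_ne_top_of_simple hP1 hPtop
  obtain ⟨H, hH, hNH⟩ := Cfsg.Agent.Lib.Helper11.BenderE.exists_coatom_ge _ hNne
  obtain ⟨hnc, -, -⟩ := Cfsg.Agent.Lib.Helper21.BG13t.le_sigmaCore_of_normalizer_le hG hM hH hpσ hp1
    hPc hPM hNH hY
  have hHM : H ≠ M := fun h => hnc 1 (by rw [conjSub_one]; exact h)
  have hpα : p ∉ Cfsg.alpha M := by
    intro h
    apply h.2
    intro A hA hAp
    have := hp1 A hA hAp
    calc Nat.card A ≤ p ^ 1 := this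
      _ ≤ p ^ 2 := Nat.pow_le_pow_right hp.out.pos (by norm_num)
  obtain ⟨R, hR⟩ : ∃ R : Subgroup G, R = Subgroup.zpowers x := ⟨_, rfl⟩
  have hRc : Nat.card R = r := by rw [hR, Nat.card_zpowers, hxo]
  have hRE : R ≤ E := by rw [hR, Subgroup.zpowers_le]; exact hxE
  have hRM : R ≤ M := hRE.trans hE.1
  have hRN : R ≤ Subgroup.normalizer (P : Set G) := hRE.trans hEP
  have hreg : P ⊓ Subgroup.centralizer (R : Set G) = ⊥ := by
    by_contra hne
    have hle : P ⊓ Subgroup.centralizer (R : Set G) ≤ P := inf_le_left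
    have hd : Nat.card ↥(P ⊓ Subgroup.centralizer (R : Set G)) ∣ p := by
      rw [← hPc]; exact Subgroup.card_dvd_of_le hle
    rcases (Nat.dvd_prime hp.out).mp hd with h | h
    · exact hne (Subgroup.card_eq_one.mp h)
    · have heq : P ⊓ Subgroup.centralizer (R : Set G) = P :=
        Subgroup.eq_of_le_of_card_ge hle (by rw [h, hPc])
      apply hxP
      rw [Subgroup.mem_centralizer_iff]
      intro y hy
      have hy' : y ∈ Subgroup.centralizer (R : Set G) := by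
        have : y ∈ P ⊓ Subgroup.centralizer (R : Set G) := by rw [heq]; exact hy
        exact this.2
      rw [Subgroup.mem_centralizer_iff] at hy'
      exact (hy' x (by rw [hR]; exact Subgroup.mem_zpowers x)).symm
  have h12 := (Cfsg.Agent.Lib.Helper28.BGt.twelve_twelve_a hG hM hr1 hRM hRc hpα hPp hPM hRN hreg
    (alphaCore_ne_bot_of_tau3 hG hM hp3) hH hHM hNH).1
  rwa [hR, Cfsg.Agent.Lib.Helper11.RegD.centralizer_zpowers_eq] at h12

/-- the sigma-core version of `tau1_moving_fixed` -/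
theorem tau1_moving_has_fixed_points (hG : Cfsg.IsMinSimpleOddOrder G) {M E : Subgroup G}
    (hM : IsCoatom M) (hE : Cfsg.IsComplIn E (Cfsg.sigmaCore M) M) {p : ℕ} [hp : Fact p.Prime]
    (hp3 : p ∈ Cfsg.tau3 M) {P : Subgroup G} (hPE : P ≤ E) (hPc : Nat.card P = p)
    (hY : Cfsg.sigmaCore M ⊓ Subgroup.centralizer (P : Set G) ≠ ⊥)
    {r : ℕ} (hr1 : r ∈ Cfsg.tau1 M) {x : G} (hxE : x ∈ E) (hxo : orderOf x = r)
    (hxP : x ∉ Subgroup.centralizer (P : Set G)) :
    Cfsg.sigmaCore M ⊓ Subgroup.centralizer ({x} : Set G) ≠ ⊥ := by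
  have h1 := tau1_moving_fixed hG hM hE hp3 hPE hPc hY hr1 hxE hxo hxP
  have h2 : Cfsg.alphaCore M ≤ Cfsg.sigmaCore M := (Cfsg.Agent.S1405.result hG M hM).2.2.1
  intro h
  apply h1
  rw [eq_bot_iff, ← h]
  exact inf_le_inf_right _ h2

open scoped IsMulCommutative in
/-- the transfer into an abelian subgroup kills the central elements of the derived subgroup -/
theorem pow_index_eq_one_of_center_commutator {Γ : Type*} [Group Γ] [Finite Γ] (T : Subgroup Γ)
    [IsMulCommutative T] {z : Γ} (hzc : z ∈ Subgroup.center Γ) (hzd : z ∈ commutator Γ) :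
    z ^ T.index = 1 := by
  have key : ∀ (k : ℕ) (g₀ : Γ), g₀⁻¹ * z ^ k * g₀ ∈ T → g₀⁻¹ * z ^ k * g₀ = z ^ k := by
    intro k g₀ _
    have h1 : z ^ k ∈ Subgroup.center Γ := Subgroup.pow_mem _ hzc k
    rw [Subgroup.mem_center_iff] at h1
    rw [mul_assoc, ← h1 g₀, ← mul_assoc, inv_mul_cancel, one_mul]
  have h1 := MonoidHom.transfer_eq_pow (MonoidHom.id T) z key
  have h2 : MonoidHom.transfer (MonoidHom.id T) z = 1 :=
    MonoidHom.mem_ker.mp
      (Abelianization.commutator_subset_ker (MonoidHom.transfer (MonoidHom.id T)) hzd)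
  rw [h2] at h1
  have h3 := congrArg Subtype.val h1
  simpa using h3.symm

/-- a Sylow `p`-subgroup of `E`, `p ∈ τ₃(M)`, lies in `E'` -/
theorem sylow_tau3_le_der (hG : Cfsg.IsMinSimpleOddOrder G) {L E : Subgroup G} (hL : IsCoatom L)
    (hE : Cfsg.IsComplIn E (Cfsg.sigmaCore L) L) {q : ℕ} [hq : Fact q.Prime]
    (hqσ : q ∉ Cfsg.sigma L) (hqd : q ∣ Nat.card ↥⁅L, L⁆) (hr : Cfsg.PRankLE q 1 L)
    {T : Subgroup G} (hT : IsSylowIn q T E) : T.subgroupOf E ≤ commutator E := by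
  have hEL : E ≤ L := hE.1
  have hTE : T ≤ E := hT.le
  have hodd := Cfsg.Agent.Lib.Helper1.BG12.odd_card_subgroup hG E
  have hc : Nat.card (T.subgroupOf E) = Nat.card T :=
    Cfsg.Agent.Lib.Helper5.card_subgroupOf_of_le hTE
  haveI := Cfsg.Agent.Lib.Helper1.BG12.nilpotent_commutator_compl hG L hL E hE
  obtain ⟨n, hn⟩ := IsPGroup.iff_card.mp hT.isPGroup
  have hHall : (Nat.card (T.subgroupOf E)).Coprime (T.subgroupOf E).index := by
    rw [hc, hn]
    apply Nat.Coprime.pow_left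
    exact (Nat.Prime.coprime_iff_not_dvd hq.out).mpr hT.not_dvd
  obtain ⟨-, h2, -⟩ := Cfsg.Agent.Lib.Helper1.BG12.hall_tau3 hodd (T.subgroupOf E) hHall (by
    intro p' hp' hpd
    rw [hc, hn] at hpd
    have hpq : p' = q := (Nat.prime_dvd_prime_iff_eq hp' hq.out).mp (hp'.dvd_of_dvd_pow hpd)
    subst hpq
    refine ⟨?_, Cfsg.Agent.Lib.Helper1.BG12.pRankLE_of_le hEL hr⟩
    rw [Cfsg.Agent.Lib.Helper1.BG12.card_commutator_subgroup]
    exact Cfsg.Agent.Lib.Helper1.BG12.dvd_card_derived_compl hG L hL E hE p' hp' hqσ hqd)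
  exact h2

/-- **step (2)**: for `p ∈ τ₃(M)` and `P ≤ E` of order `p`, some element of `E` of prime power
order `r ^ (k+1)`, `r ≠ p`, does not centralize `P` (else `P ≤ Z(E) ∩ E'` and the transfer into the
cyclic Sylow `p`-subgroup of `E` kills `P`) -/
theorem exists_moving_elt (hG : Cfsg.IsMinSimpleOddOrder G) {M E : Subgroup G} (hM : IsCoatom M)
    (hE : Cfsg.IsComplIn E (Cfsg.sigmaCore M) M) {p : ℕ} [hp : Fact p.Prime]
    (hp3 : p ∈ Cfsg.tau3 M) {P : Subgroup G} (hPE : P ≤ E) (hPc : Nat.card P = p) :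
    ∃ (r k : ℕ) (x : G), r.Prime ∧ r ≠ p ∧ x ∈ E ∧ orderOf x = r ^ (k + 1) ∧
      x ∉ Subgroup.centralizer (P : Set G) := by
  classical
  by_contra hcon
  push Not at hcon
  have hpσ : p ∉ Cfsg.sigma M := hp3.2.1
  have hpd : p ∣ Nat.card ↥⁅M, M⁆ := hp3.2.2.1
  have hp1 : Cfsg.PRankLE p 1 ↥M := hp3.2.2.2
  have hPM : P ≤ M := hPE.trans hE.1
  have hPp : IsPGroup p P := IsPGroup.of_card (n := 1) (by rw [hPc, pow_one])
  have hP1 : P ≠ ⊥ := by
    intro h
    rw [h, Subgroup.card_bot] at hPc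
    exact hp.out.one_lt.ne hPc
  obtain ⟨T, hT, hPT⟩ := exists_isSylowIn_ge hPE hPp
  have hET : E ≤ Subgroup.normalizer (T : Set G) := sylow_tau3_normal hG hM hE hpσ hpd hp1 hT
  have hpM : p ∣ Nat.card M := by rw [← hPc]; exact Subgroup.card_dvd_of_le hPM
  have hp2 : p ≠ 2 := Cfsg.Agent.Lib.Helper1.BG10.prime_ne_two hG p M hpM
  have hTcyc : IsCyclic T :=
    Cfsg.Agent.Lib.Helper11.BenderQ.isCyclic_of_pRankLE_one p hp2 hT.isPGroup
      (Cfsg.Agent.Lib.Helper1.BG12.pRankLE_of_le (hT.le.trans hE.1) hp1)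
  have hTcomm : ∀ a ∈ T, ∀ b ∈ T, a * b = b * a := by
    intro a ha b hb
    letI := IsCyclic.commGroup (α := T)
    exact congrArg Subtype.val (mul_comm (⟨a, ha⟩ : T) ⟨b, hb⟩)
  -- all prime power elements of `E` centralize `P`
  have hpp : ∀ (r k : ℕ) (x : G), r.Prime → x ∈ E → orderOf x = r ^ (k + 1) →
      x ∈ Subgroup.centralizer (P : Set G) := by
    intro r k x hr hxE hxo
    by_cases hrp : r = p
    · subst hrp
      have hxp : IsPGroup r (Subgroup.zpowers x) :=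
        IsPGroup.of_card (n := k + 1) (by rw [Nat.card_zpowers, hxo])
      obtain ⟨e, he, hle⟩ := hT.exists_conj_le ((Subgroup.zpowers_le).mpr hxE) hxp
      have hxT : x ∈ T := by
        have h1 : Subgroup.zpowers x ≤ conjSub e⁻¹ T := conjSub_le_iff.mp hle
        rw [conjSub_eq_of_mem_normalizer (hET (E.inv_mem he))] at h1
        exact h1 (Subgroup.mem_zpowers x)
      rw [Subgroup.mem_centralizer_iff]
      intro y hy
      exact hTcomm y (hPT hy) x hxT
    · exact hcon r k x hr hrp hxE hxo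
  have hall : ∀ n : ℕ, ∀ x ∈ E, orderOf x = n → x ∈ Subgroup.centralizer (P : Set G) := by
    intro n
    induction n using Nat.recOnPosPrimePosCoprime with
    | prime_pow q b hq hb =>
      intro x hx ho
      obtain ⟨b', rfl⟩ : ∃ b', b = b' + 1 := ⟨b - 1, by omega⟩
      exact hpp q b' x hq hx ho
    | zero =>
      intro x _ ho
      exact absurd ho (orderOf_pos x).ne'
    | one =>
      intro x _ ho
      rw [orderOf_eq_one_iff.mp ho]
      exact Subgroup.one_mem _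
    | coprime a b ha hb hab iha ihb =>
      intro x hx ho
      have ha0 : a ≠ 0 := by omega
      have hb0 : b ≠ 0 := by omega
      have hA : x ^ a ∈ Subgroup.centralizer (P : Set G) := by
        apply ihb _ (E.pow_mem hx _)
        rw [orderOf_pow_of_dvd ha0 ⟨b, ho⟩, ho, Nat.mul_div_cancel_left _ (Nat.pos_of_ne_zero ha0)]
      have hB : x ^ b ∈ Subgroup.centralizer (P : Set G) := by
        apply iha _ (E.pow_mem hx _)
        rw [orderOf_pow_of_dvd hb0 ⟨a, by rw [ho, mul_comm]⟩, ho,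
          Nat.mul_div_cancel _ (Nat.pos_of_ne_zero hb0)]
      obtain ⟨u, v, huv⟩ := (Nat.isCoprime_iff_coprime.mpr hab : IsCoprime (a : ℤ) (b : ℤ))
      have hxeq : x = (x ^ a) ^ u * (x ^ b) ^ v := by
        calc x = x ^ (1 : ℤ) := (zpow_one _).symm
          _ = x ^ (u * a + v * b) := by rw [huv]
          _ = (x ^ a) ^ u * (x ^ b) ^ v := by
            rw [zpow_add, mul_comm u, mul_comm v, zpow_mul, zpow_mul, zpow_natCast, zpow_natCast]
      rw [hxeq]
      exact Subgroup.mul_mem _ (Subgroup.zpow_mem _ hA u) (Subgroup.zpow_mem _ hB v)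
  have hEC : E ≤ Subgroup.centralizer (P : Set G) := fun x hx => hall _ x hx rfl
  haveI : IsMulCommutative (T.subgroupOf E) := ⟨⟨fun a b => by
    apply Subtype.ext
    apply Subtype.ext
    exact hTcomm _ (Subgroup.mem_subgroupOf.mp a.2) _ (Subgroup.mem_subgroupOf.mp b.2)⟩⟩
  have hder := sylow_tau3_le_der hG hM hE hpσ hpd hp1 hT
  have hz1 : ∀ z ∈ P, z = 1 := by
    intro z hz
    have hzE : z ∈ E := hPE hz
    have hc : (⟨z, hzE⟩ : ↥E) ∈ Subgroup.center ↥E := by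
      rw [Subgroup.mem_center_iff]
      intro g
      apply Subtype.ext
      have := Subgroup.mem_centralizer_iff.mp (hEC g.2) z hz
      exact this.symm
    have hd : (⟨z, hzE⟩ : ↥E) ∈ commutator ↥E :=
      hder (Subgroup.mem_subgroupOf.mpr (hPT hz))
    have h1 := pow_index_eq_one_of_center_commutator (T.subgroupOf E) hc hd
    have h2 : z ^ (T.relIndex E) = 1 := by
      have := congrArg Subtype.val h1
      simpa [Subgroup.relIndex] using this
    have h3 : z ^ p = 1 := by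
      have h4 : (⟨z, hz⟩ : P) ^ Nat.card P = 1 := pow_card_eq_one'
      rw [hPc] at h4
      simpa using congrArg Subtype.val h4
    have hcop : Nat.Coprime (T.relIndex E) p :=
      ((Nat.Prime.coprime_iff_not_dvd hp.out).mpr hT.not_dvd).symm
    have h5 := Nat.dvd_gcd (orderOf_dvd_of_pow_eq_one h2) (orderOf_dvd_of_pow_eq_one h3)
    rw [hcop] at h5
    exact orderOf_eq_one_iff.mp (Nat.dvd_one.mp h5)
  exact hP1 ((Subgroup.eq_bot_iff_forall _).mpr hz1)

end Cfsg.Agent.Lib.Helper21.BG13q
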