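import Mathlib
import Cfsg.Agent.Lib.Helper21.BG13z
import Cfsg.Agent.Lib.Helper1.BG12b.Transfer
import Cfsg.Agent.Lib.Helper11.BenderQ
import Cfsg.Agent.Lib.Helper11.BenderN
import Cfsg.Agent.S1419
import Cfsg.Agent.S1446
import Cfsg.Agent.S1408

set_option autoImplicit false
open scoped commutatorElement

/-! # STAR from `κ ⊆ τ₁` and Lemma L (helper21) -/

namespace Cfsg.Agent.Lib.Helper21.BG13v

open Cfsg Cfsg.Agent.Lib.Helper18 Cfsg.Agent.Lib.Helper21.BG13z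
open scoped Pointwise

variable {G : Type*} [Group G] [Finite G]

/-- membership in `κ(H)` from one witness -/
theorem mem_kappa_of_witness (hG : Cfsg.IsMinSimpleOddOrder G) {H : Subgroup G} {q : ℕ}
    [hq : Fact q.Prime] (hqσ : q ∉ Cfsg.sigma H) (hr1 : Cfsg.PRankLE q 1 ↥H) {x y : G}
    (hxH : x ∈ H) (hxq : orderOf x = q) (hy : y ∈ Cfsg.sigmaCore H) (hy1 : y ≠ 1)
    (hxy : x * y = y * x) : q ∈ Cfsg.kappa H := by
  have hq2 : q ≠ 2 := by
    rintro rfl
    have h2 : 2 ∣ Nat.card G := by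
      rw [← hxq]; exact orderOf_dvd_natCard x
    exact (Nat.not_even_iff_odd.mpr hG.1) (even_iff_two_dvd.mpr h2)
  have hx1 : x ≠ 1 := by
    rintro rfl
    rw [orderOf_one] at hxq
    exact hq.out.one_lt.ne hxq
  refine ⟨hq.out, ?_, hqσ, ?_⟩
  · have h1 : orderOf (⟨x, hxH⟩ : ↥H) ∣ Nat.card ↥H := orderOf_dvd_natCard _
    rwa [Subgroup.orderOf_mk, hxq] at h1
  intro Pq
  refine ⟨?_, ?_⟩
  · exact Cfsg.Agent.Lib.Helper11.BenderQ.isCyclic_of_pRankLE_one q hq2 Pq.isPGroup'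
      (Cfsg.Agent.Lib.Helper11.RankTwoTower.prank_of_injective (Pq : Subgroup ↥H).subtype
        (Subgroup.subtype_injective _) hr1)
  · have hzp : IsPGroup q ↥(Subgroup.zpowers (⟨x, hxH⟩ : ↥H)) := by
      apply IsPGroup.of_card (n := 1)
      rw [Nat.card_zpowers, Subgroup.orderOf_mk, hxq, pow_one]
    obtain ⟨P₀, hP₀⟩ := hzp.exists_le_sylow
    obtain ⟨h, hh⟩ := MulAction.exists_smul_eq ↥H P₀ Pq
    refine ⟨h * ⟨x, hxH⟩ * h⁻¹, ?_, ?_, (h : G) * y * (h : G)⁻¹, ?_, ?_, ?_⟩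
    · rw [← hh]
      apply (Cfsg.Agent.Lib.Helper1.mem_sylow_smul_iff h _ P₀).mpr
      have : h⁻¹ * (h * ⟨x, hxH⟩ * h⁻¹) * h = ⟨x, hxH⟩ := by group
      rw [this]
      exact hP₀ (Subgroup.mem_zpowers _)
    · intro h1
      apply hx1
      have h2 : (⟨x, hxH⟩ : ↥H) = 1 := by
        calc (⟨x, hxH⟩ : ↥H) = h⁻¹ * (h * ⟨x, hxH⟩ * h⁻¹) * h := by group
          _ = 1 := by rw [h1]; group
      exact congrArg Subtype.val h2
    · exact (Subgroup.mem_normalizer_iff.mp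
        (Cfsg.Agent.Lib.Helper1.BG12.le_normalizer_sigmaCore H h.2) y).mp hy
    · intro h1
      apply hy1
      calc y = (h : G)⁻¹ * ((h : G) * y * (h : G)⁻¹) * (h : G) := by group
        _ = 1 := by rw [h1]; group
    · show (h : G) * x * (h : G)⁻¹ * ((h : G) * y * (h : G)⁻¹) =
        (h : G) * y * (h : G)⁻¹ * ((h : G) * x * (h : G)⁻¹)
      calc (h : G) * x * (h : G)⁻¹ * ((h : G) * y * (h : G)⁻¹)
          = (h : G) * (x * y) * (h : G)⁻¹ := by group
        _ = (h : G) * (y * x) * (h : G)⁻¹ := by rw [hxy]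
        _ = (h : G) * y * (h : G)⁻¹ * ((h : G) * x * (h : G)⁻¹) := by group

/-- **STAR** from `κ(H) ⊆ τ₁(H)` and Lemma L for `H`: `p ∉ σ(M)`, `M` of `p`-rank one, `|P| = p`,
`N_G(P) ≤ H`, `p ∈ τ₂(H)`, `C_{M_σ}(P) ≠ 1`: impossible -/
theorem star_of_lemma_L (hG : Cfsg.IsMinSimpleOddOrder G) {M H : Subgroup G} (hM : IsCoatom M)
    (hH : IsCoatom H) {p : ℕ} [hp : Fact p.Prime] (hpσ : p ∉ Cfsg.sigma M)
    (hr1 : Cfsg.PRankLE p 1 ↥M) {P : Subgroup G} (hPc : Nat.card P = p) (hPM : P ≤ M)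
    (hNP : Subgroup.normalizer (P : Set G) ≤ H) (hpH : p ∈ Cfsg.tau2 H)
    (hK : Cfsg.sigmaCore M ⊓ Subgroup.centralizer (P : Set G) ≠ ⊥)
    (hκ : ∀ q ∈ Cfsg.kappa H, q ∈ Cfsg.tau1 H)
    (hL : ∀ (E : Subgroup G) (q : ℕ) (Q R : Subgroup G),
      Cfsg.IsComplIn E (Cfsg.sigmaCore H) H → q ∈ Cfsg.tau1 H → Q ≤ E → Nat.card Q = q →
      Cfsg.sigmaCore H ⊓ Subgroup.centralizer (Q : Set G) ≠ ⊥ →
      R ≤ E ⊓ Subgroup.centralizer (Q : Set G) → Nat.card R = p → False) : False := by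
  by_cases hab : ∃ S : Sylow p G, IsMulCommutative (S : Subgroup G)
  · exact star_abelian hG hM hH hpσ hr1 hPc hPM hNP hpH hK hab
  push Not at hab
  have hPp : IsPGroup p P := IsPGroup.of_card (n := 1) (by rw [hPc, pow_one])
  have hP1 : P ≠ ⊥ := by
    intro h
    rw [h, Subgroup.card_bot] at hPc
    exact hp.out.one_lt.ne hPc
  obtain ⟨hnc, -⟩ := Cfsg.Agent.Lib.Helper10.ThirteenTwo.basic hG hM hH hpσ hr1 hPp hP1 hPM hNP
  obtain ⟨K, hKdef⟩ : ∃ K : Subgroup G,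
      K = Cfsg.sigmaCore M ⊓ Subgroup.centralizer (P : Set G) := ⟨_, rfl⟩
  rw [← hKdef] at hK
  have hKσ : K ≤ Cfsg.sigmaCore M := by rw [hKdef]; exact inf_le_left
  have hKC : K ≤ Subgroup.centralizer (P : Set G) := by rw [hKdef]; exact inf_le_right
  have hKH : K ≤ H := (hKC.trans (Subgroup.centralizer_le_normalizer _)).trans hNP
  have hPH : P ≤ H := Subgroup.le_normalizer.trans hNP
  have hKprime : ∀ t : ℕ, t.Prime → t ∣ Nat.card K → t ∈ Cfsg.sigma M := fun t ht hd =>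
    Cfsg.Agent.Lib.Helper28.BGt.prime_sigmaCore hG hM ht (hd.trans (Subgroup.card_dvd_of_le hKσ))
  have hpM : p ∣ Nat.card M := by rw [← hPc]; exact Subgroup.card_dvd_of_le hPM
  have hpi : ¬ Cfsg.IsIdealPrime p G := (Cfsg.Agent.S1409.result hG H hH p hpH.2.1 P hPc hNP).2.1
  have hcomm : ∀ x ∈ P, ∀ y ∈ K, x * y = y * x := fun x hx y hy =>
    (Subgroup.mem_centralizer_iff.mp (hKC hy)) x hx
  have hPK : P ≤ Subgroup.normalizer (K : Set G) := by
    refine le_trans ?_ (Subgroup.centralizer_le_normalizer _)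
    intro x hx
    rw [Subgroup.mem_centralizer_iff]
    intro y hy
    exact (hcomm x hx y hy).symm
  have hYcard := Cfsg.Agent.Lib.Helper11.ThirteenB.card_sup_dvd K P hPK
  have hY : ∀ q : ℕ, q.Prime → q ∣ Nat.card ↥(K ⊔ P) → q ∉ Cfsg.sigma H := by
    intro q hq hqd
    rcases (Nat.Prime.dvd_mul hq).mp (hqd.trans hYcard) with h | h
    · exact not_sigma_of_nonconj hG hM hH hnc (hKprime q hq h)
    · rw [hPc] at h
      rw [(Nat.prime_dvd_prime_iff_eq hq hp.out).mp h]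
      exact hpH.2.1
  obtain ⟨E, hE, hYE⟩ :=
    Cfsg.Agent.Lib.Helper28.BGt.exists_compl_ge hG hH (sup_le hKH hPH) hY
  obtain ⟨A, hAE, hAe, hA2⟩ := Cfsg.Agent.Lib.Helper28.BGt.exists_sq_le_compl hG hH hE hpH
  obtain ⟨⟨hEN, hall⟩, -, -⟩ :=
    Cfsg.Agent.S1418.result hG H hH E hE p hpH A ⟨hAE, hAe, hA2⟩
  have hPE : P ≤ E := le_sup_right.trans hYE
  have hKE : K ≤ E := le_sup_left.trans hYE
  have hPA : P ≤ A := hall P hPE hPc
  have hEH : E ≤ H := hE.1
  have hAH : A ≤ H := hAE.trans hEH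
  -- a subgroup `Q ≤ K` of prime order `q`
  have hc : Nat.card K ≠ 1 := fun h => hK (Subgroup.card_eq_one.mp h)
  obtain ⟨q, hq, hqd⟩ := Nat.exists_prime_and_dvd hc
  haveI hqF : Fact q.Prime := ⟨hq⟩
  obtain ⟨x, hx⟩ := exists_prime_orderOf_dvd_card' q hqd
  have hxo : orderOf (x : G) = q := by rw [Subgroup.orderOf_coe]; exact hx
  obtain ⟨Q, hQdef⟩ : ∃ Q : Subgroup G, Q = Subgroup.zpowers (x : G) := ⟨_, rfl⟩
  have hQc : Nat.card Q = q := by rw [hQdef, Nat.card_zpowers, hxo]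
  have hQK : Q ≤ K := by rw [hQdef, Subgroup.zpowers_le]; exact x.2
  have hxQ : (x : G) ∈ Q := by rw [hQdef]; exact Subgroup.mem_zpowers _
  have hQq : IsPGroup q Q := IsPGroup.of_card (n := 1) (by rw [hQc, pow_one])
  have hQ1 : Q ≠ ⊥ := by
    intro h
    rw [h, Subgroup.card_bot] at hQc
    exact hq.one_lt.ne hQc
  have hqσM : q ∈ Cfsg.sigma M := hKprime q hq hqd
  have hqσH : q ∉ Cfsg.sigma H := not_sigma_of_nonconj hG hM hH hnc hqσM
  have hqp : q ≠ p := by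
    rintro rfl
    exact hpσ hqσM
  have hQE : Q ≤ E := hQK.trans hKE
  have hQN : Q ≤ Subgroup.normalizer (A : Set G) := hQE.trans hEN
  -- every element of `Q` is a power of any non-identity element
  have hgen : ∀ r ∈ Q, r ≠ 1 → ∀ z ∈ Q, z ∈ Subgroup.zpowers r := by
    intro r hr hr1 z hz
    have h1 : (⟨r, hr⟩ : ↥Q) ≠ 1 := fun h => hr1 (congrArg Subtype.val h)
    have h2 : (⟨z, hz⟩ : ↥Q) ∈ Subgroup.zpowers (⟨r, hr⟩ : ↥Q) :=
      mem_zpowers_of_prime_card hQc h1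
    obtain ⟨n, hn⟩ := h2
    refine ⟨n, ?_⟩
    have := congrArg Subtype.val hn
    simpa using this
  -- `Q` does not centralize `A`
  have hQA : ¬ Q ≤ Subgroup.centralizer (A : Set G) := by
    intro hcase
    refine rank_two_centralizer_false hG hM hpσ hr1 hpM hpi hQq hQ1 (hQK.trans hKσ) hAe hA2 ?_
    intro a ha
    rw [Subgroup.mem_centralizer_iff]
    intro y hy
    exact (Subgroup.mem_centralizer_iff.mp (hcase hy) a ha).symm
  -- the structure of `H` in the nonabelian case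
  obtain ⟨hτ2, -, hX⟩ := Cfsg.Agent.S1419.result hG H hH E hE p hpH hab A ⟨hAE, hAe, hA2⟩
  have hPA0 : P = A ⊓ Subgroup.centralizer (Cfsg.sigmaCore H : Set G) := by
    by_contra hne
    exact (hX P hPE hPc hne).2 ((Subgroup.centralizer_le_normalizer _).trans hNP)
  -- a `Q`-invariant complement `Z` to `P` in `A`
  have hAc : ∀ a ∈ A, ∀ b ∈ A, a * b = b * a := by
    intro a ha b hb
    have := hAe.1.is_comm.comm ⟨a, ha⟩ ⟨b, hb⟩
    exact congrArg Subtype.val this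
  have hcop : (Nat.card Q).Coprime p := by
    rw [hQc]
    exact (Nat.coprime_primes hq hp.out).mpr hqp
  have hQP : Q ≤ Subgroup.normalizer (P : Set G) := by
    refine le_trans ?_ (Subgroup.centralizer_le_normalizer _)
    exact hQK.trans hKC
  obtain ⟨Z, hZA, hQZ, hPZ, hPZsup⟩ :=
    Cfsg.Agent.Lib.Helper1.BG12b.exists_inv_compl_sub hAc hAe.2 hQN hcop hPA hQP
  have hZE : Z ≤ E := hZA.trans hAE
  have hZcard : Nat.card Z = p := by
    have hZN : Z ≤ Subgroup.normalizer (P : Set G) := by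
      refine le_trans ?_ (Subgroup.centralizer_le_normalizer _)
      intro z hz
      rw [Subgroup.mem_centralizer_iff]
      intro y hy
      exact hAc y (hPA hy) z (hZA hz)
    have h1 := Cfsg.Agent.Lib.Helper11.ThirteenB.card_sup_dvd P Z hZN
    rw [hPZsup, hA2, hPc] at h1
    have h2 : p ∣ Nat.card Z := by
      have : p * p ∣ p * Nat.card Z := by rw [← sq]; exact h1
      exact (Nat.mul_dvd_mul_iff_left hp.out.pos).mp this
    have h3 : Nat.card Z ∣ p ^ 2 := by rw [← hA2]; exact Subgroup.card_dvd_of_le hZA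
    obtain ⟨i, hi2, hi⟩ := (Nat.dvd_prime_pow hp.out).mp h3
    have hi0 : i ≠ 0 := by
      rintro rfl
      rw [pow_zero] at hi
      rw [hi] at h2
      exact hp.out.one_lt.ne' (Nat.dvd_one.mp h2)
    have hi2' : i ≠ 2 := by
      rintro rfl
      have hZeq : Z = A := Subgroup.eq_of_le_of_card_ge hZA (by rw [hi, hA2])
      rw [hZeq, inf_eq_left.mpr hPA] at hPZ
      exact hP1 hPZ
    have : i = 1 := by omega
    rw [hi, this, pow_one]
  have hZ1 : Z ≠ ⊥ := by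
    intro h
    rw [h, Subgroup.card_bot] at hZcard
    exact hp.out.one_lt.ne hZcard
  have hZne : Z ≠ A ⊓ Subgroup.centralizer (Cfsg.sigmaCore H : Set G) := by
    rw [← hPA0]
    rintro rfl
    rw [inf_idem] at hPZ
    exact hZ1 hPZ
  have hCZ : Cfsg.sigmaCore H ⊓ Subgroup.centralizer (Z : Set G) = ⊥ := (hX Z hZE hZcard hZne).1
  -- `Q` acts fixed-point-freely on `Z`
  have hfrob : ∀ r ∈ Q, r ≠ 1 → Z ⊓ Subgroup.centralizer ({r} : Set G) = ⊥ := by
    intro r hr hr1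
    by_contra hne
    have hd : Nat.card ↥(Z ⊓ Subgroup.centralizer ({r} : Set G)) ∣ p := by
      rw [← hZcard]; exact Subgroup.card_dvd_of_le inf_le_left
    have hcard : Nat.card ↥(Z ⊓ Subgroup.centralizer ({r} : Set G)) = p := by
      rcases (Nat.dvd_prime hp.out).mp hd with h | h
      · exact absurd (Subgroup.card_eq_one.mp h) hne
      · exact h
    have hZeq : Z ⊓ Subgroup.centralizer ({r} : Set G) = Z :=
      Subgroup.eq_of_le_of_card_ge inf_le_left (by rw [hcard, hZcard])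
    -- `r` centralizes `A = P ⊔ Z`
    have hrA : ∀ a ∈ A, a * r = r * a := by
      intro a ha
      rw [← hPZsup] at ha
      have hcl : P ⊔ Z ≤ Subgroup.centralizer ({r} : Set G) := by
        apply sup_le
        · intro y hy
          rw [Subgroup.mem_centralizer_singleton_iff]
          exact hcomm y hy r (hQK hr)
        · rw [← hZeq]; exact inf_le_right
      exact Subgroup.mem_centralizer_singleton_iff.mp (hcl ha)
    apply hQA
    intro z hz
    obtain ⟨n, rfl⟩ := hgen r hr hr1 z hz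
    rw [Subgroup.mem_centralizer_iff]
    intro a ha
    have hc : Commute a r := hrA a ha
    exact (hc.zpow_right n).eq
  -- the Frobenius group `ZQ` acts on `H_σ`
  have hHσ1 : Cfsg.sigmaCore H ≠ ⊥ := Cfsg.Agent.Lib.Helper1.BG12.sigmaCore_ne_bot hG H hH
  have hHσn : Group.IsNilpotent ↥(Cfsg.sigmaCore H) :=
    (Cfsg.Agent.S1417.result hG H hH p hpH A ⟨hAH, hAe, hA2⟩).1
  have hZH : Z ≤ H := hZE.trans hEH
  have hQH : Q ≤ H := hQE.trans hEH
  have hZQH : Z ⊔ Q ≤ H := sup_le hZH hQH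
  have hsolv : Group.IsSolvable ↥(Z ⊔ Q) := by
    haveI := Cfsg.Agent.Lib.Helper11.MaxSubB.coatom_solvable hG H hH
    exact Group.isSolvable_of_isSolvable_injective (Subgroup.inclusion_injective hZQH)
  have hodd : Odd (Nat.card ↥(Z ⊔ Q)) :=
    Odd.of_dvd_nat hG.1 (Subgroup.card_subgroup_dvd_card _)
  have hZQ : Z ⊓ Q = ⊥ := by
    rw [eq_bot_iff]
    intro y hy
    rw [Subgroup.mem_bot]
    have h1 : orderOf y ∣ p := by
      rw [← hZcard]
      have := orderOf_dvd_natCard (⟨y, hy.1⟩ : ↥Z)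
      rwa [Subgroup.orderOf_mk] at this
    have h2 : orderOf y ∣ q := by
      rw [← hQc]
      have := orderOf_dvd_natCard (⟨y, hy.2⟩ : ↥Q)
      rwa [Subgroup.orderOf_mk] at this
    have h3 : orderOf y ∣ Nat.gcd p q := Nat.dvd_gcd h1 h2
    rw [(Nat.coprime_primes hp.out hq).mpr hqp.symm] at h3
    exact orderOf_eq_one_iff.mp (Nat.dvd_one.mp h3)
  have hcopσ : (Nat.card ↥(Z ⊔ Q)).Coprime (Nat.card ↥(Cfsg.sigmaCore H)) := by
    have hd := Cfsg.Agent.Lib.Helper11.ThirteenB.card_sup_dvd Z Q hQZ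
    rw [hZcard, hQc] at hd
    apply Nat.Coprime.coprime_dvd_left hd
    apply Nat.Coprime.mul_left
    · rw [Nat.Prime.coprime_iff_not_dvd hp.out]
      intro h
      exact hpH.2.1 (Cfsg.Agent.Lib.Helper28.BGt.prime_sigmaCore hG hH hp.out h)
    · rw [Nat.Prime.coprime_iff_not_dvd hq]
      intro h
      exact hqσH (Cfsg.Agent.Lib.Helper28.BGt.prime_sigmaCore hG hH hq h)
  have hpr : ∀ r ∈ Q, r ≠ 1 →
      Cfsg.sigmaCore H ⊓ Subgroup.centralizer ({r} : Set G) =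
        Cfsg.sigmaCore H ⊓ Subgroup.centralizer (Q : Set G) := by
    intro r hr hr1
    apply le_antisymm
    · rintro y ⟨hy1, hy2⟩
      refine ⟨hy1, ?_⟩
      have hy2 : y ∈ Subgroup.centralizer ({r} : Set G) := hy2
      rw [Subgroup.mem_centralizer_singleton_iff] at hy2
      show y ∈ Subgroup.centralizer (Q : Set G)
      rw [Subgroup.mem_centralizer_iff]
      intro z hz
      obtain ⟨n, rfl⟩ := hgen r hr hr1 z hz
      have hc : Commute y r := hy2
      exact (hc.zpow_right n).eq.symm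
    · rintro y ⟨hy1, hy2⟩
      refine ⟨hy1, ?_⟩
      have hy2 : y ∈ Subgroup.centralizer (Q : Set G) := hy2
      show y ∈ Subgroup.centralizer ({r} : Set G)
      rw [Subgroup.mem_centralizer_singleton_iff]
      exact (Subgroup.mem_centralizer_iff.mp hy2 r hr).symm
  obtain ⟨-, hcardσ, -⟩ := Cfsg.Agent.S1446.result Z Q (Cfsg.sigmaCore H) hZ1 hQ1 hZQ hQZ hfrob hsolv
    hodd hHσ1 hHσn (hZH.trans (Cfsg.Agent.Lib.Helper1.BG12.le_normalizer_sigmaCore H))
    (hQH.trans (Cfsg.Agent.Lib.Helper1.BG12.le_normalizer_sigmaCore H)) hcopσ hCZ hpr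
  have hD : Cfsg.sigmaCore H ⊓ Subgroup.centralizer (Q : Set G) ≠ ⊥ := by
    intro h
    rw [h, Subgroup.card_bot, one_pow] at hcardσ
    exact hHσ1 (Subgroup.card_eq_one.mp hcardσ)
  -- `q ∈ κ(H)`
  have hr1q : Cfsg.PRankLE q 1 ↥H := by
    by_contra h1
    by_cases h2 : Cfsg.PRankLE q 2 ↥H
    · have : q ∈ Cfsg.tau2 H := ⟨hq, hqσH, h2, h1⟩
      rw [hτ2] at this
      exact hqp this
    · exact hqσH (Cfsg.Agent.Lib.Helper11.BenderN.alpha_sub_sigma hG H hH q ⟨hq, h2⟩)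
  obtain ⟨y, hy1⟩ := (Subgroup.ne_bot_iff_exists_ne_one).mp hD
  have hyσ : (y : G) ∈ Cfsg.sigmaCore H := y.2.1
  have hyC : (y : G) ∈ Subgroup.centralizer (Q : Set G) := y.2.2
  have hy1' : (y : G) ≠ 1 := fun h => hy1 (Subtype.ext h)
  have hqκ : q ∈ Cfsg.kappa H :=
    mem_kappa_of_witness hG hqσH hr1q (hQH hxQ) hxo hyσ hy1'
      (Subgroup.mem_centralizer_iff.mp hyC (x : G) hxQ)
  have hqτ : q ∈ Cfsg.tau1 H := hκ q hqκ
  refine hL E q Q P hE hqτ hQE hQc hD (le_inf hPE ?_) hPc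
  intro z hz
  rw [Subgroup.mem_centralizer_iff]
  intro w hw
  exact (hcomm z hz w (hQK hw)).symm

end Cfsg.Agent.Lib.Helper21.BG13v
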