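import Mathlib
import Cfsg.Agent.Lib.Helper21.BG13q
import Cfsg.Agent.Lib.Helper21.BG13v
import Cfsg.Agent.Lib.Helper28.BGtM
import Cfsg.Agent.Lib.Helper11.LemLA
import Cfsg.Agent.S1426
import Cfsg.Agent.S1443
import Cfsg.Agent.S1415
import Cfsg.Agent.Lib.Helper1.BG12b.EThree

set_option autoImplicit false

/-! # From the prime action of all of `E` to the structure of B & G 13.10 (helper21) -/

namespace Cfsg.Agent.Lib.Helper21.BG13p

open Cfsg Cfsg.Agent.Lib.Helper18 Cfsg.Agent.Lib.Helper28.BGt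

/-- **Frobenius action**: if `C_T(R) ≤ C(Q)` then `Q` centralizes `T` (generalizes helper28's
`frob_centralizes_of_fpf`) -/
theorem frob_centralizes_of_cent_le {G : Type*} [Group G] [Finite G] {t q r : ℕ}
    [ht : Fact t.Prime] [hq : Fact q.Prime]
    (hr : r.Prime) (htq : t ≠ q) (htr : t ≠ r)
    (T Q R : Subgroup G) (hT : IsPGroup t T) (hQ : IsPGroup q Q) (hRc : Nat.card R = r)
    (hQT : Q ≤ Subgroup.normalizer (T : Set G)) (hRT : R ≤ Subgroup.normalizer (T : Set G))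
    (hRQ : R ≤ Subgroup.normalizer (Q : Set G))
    (hreg : Q ⊓ Subgroup.centralizer (R : Set G) = ⊥)
    (hle : T ⊓ Subgroup.centralizer (R : Set G) ≤ Subgroup.centralizer (Q : Set G)) :
    T ≤ Subgroup.centralizer (Q : Set G) := by
  by_contra hnc
  obtain ⟨W, hWT, hQW, hRW, hWnc, hWQ, -⟩ := exists_min_noncentral htq T Q R hT hQ hQT hRT hRQ hnc
  have hW1 : W ≠ ⊥ := by
    rintro rfl
    exact hWnc bot_le
  obtain ⟨hCQ, c, hcW, hcR, hcD⟩ := frob_section hr htq htr W Q R (hT.to_le hWT) hW1 hQ hRc hQW hRW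
    hRQ hreg hWQ
  exact hcD (hCQ ⟨hcW, hle ⟨hWT hcW, hcR⟩⟩)

variable {G : Type*} [Group G] [Finite G]

/-- under the prime action of all of `E` on `M_σ`: a subgroup `X ≤ E` of prime order normalizing a
subgroup `Q ≤ E` of another prime order centralizes it -/
theorem prime_centralizes_prime (hG : Cfsg.IsMinSimpleOddOrder G) {M E : Subgroup G}
    (hM : IsCoatom M) (hE : Cfsg.IsComplIn E (Cfsg.sigmaCore M) M)
    (hPA : ∀ e ∈ E, e ≠ 1 → Cfsg.sigmaCore M ⊓ Subgroup.centralizer ({e} : Set G) =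
      Cfsg.sigmaCore M ⊓ Subgroup.centralizer (E : Set G))
    {r s : ℕ} (hr : r.Prime) [hs : Fact s.Prime] (hrs : r ≠ s) {X Q : Subgroup G}
    (hXE : X ≤ E) (hQE : Q ≤ E) (hXc : Nat.card X = r) (hQc : Nat.card Q = s)
    (hXQ : X ≤ Subgroup.normalizer (Q : Set G)) :
    X ≤ Subgroup.centralizer (Q : Set G) := by
  classical
  by_contra hnc
  haveI : Fact r.Prime := ⟨hr⟩
  have hQp : IsPGroup s Q := IsPGroup.of_card (n := 1) (by rw [hQc, pow_one])
  have hrE : r ∣ Nat.card E := by rw [← hXc]; exact Subgroup.card_dvd_of_le hXE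
  have hsE : s ∣ Nat.card E := by rw [← hQc]; exact Subgroup.card_dvd_of_le hQE
  have hrσ : r ∉ Cfsg.sigma M := compl_prime_not_sigma hG hM hE hr hrE
  have hsσ : s ∉ Cfsg.sigma M := compl_prime_not_sigma hG hM hE hs.out hsE
  -- `Q ⊓ C(X) = ⊥`
  have hreg : Q ⊓ Subgroup.centralizer (X : Set G) = ⊥ := by
    by_contra hne
    have hle : Q ⊓ Subgroup.centralizer (X : Set G) ≤ Q := inf_le_left
    have hd : Nat.card ↥(Q ⊓ Subgroup.centralizer (X : Set G)) ∣ s := by
      rw [← hQc]; exact Subgroup.card_dvd_of_le hle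
    rcases (Nat.dvd_prime hs.out).mp hd with h | h
    · exact hne (Subgroup.card_eq_one.mp h)
    · have heq : Q ⊓ Subgroup.centralizer (X : Set G) = Q :=
        Subgroup.eq_of_le_of_card_ge hle (by rw [h, hQc])
      apply hnc
      intro x hx
      rw [Subgroup.mem_centralizer_iff]
      intro y hy
      have hy' : y ∈ Subgroup.centralizer (X : Set G) := by
        have : y ∈ Q ⊓ Subgroup.centralizer (X : Set G) := by rw [heq]; exact hy
        exact this.2
      rw [Subgroup.mem_centralizer_iff] at hy'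
      exact (hy' x hx).symm
  -- a non-identity element of `X` and of `Q`
  have hX1 : X ≠ ⊥ := by
    intro h
    rw [h, Subgroup.card_bot] at hXc
    exact hr.one_lt.ne hXc
  have hQ1 : Q ≠ ⊥ := by
    intro h
    rw [h, Subgroup.card_bot] at hQc
    exact hs.out.one_lt.ne hQc
  obtain ⟨x, hxX, hx1⟩ := (Subgroup.ne_bot_iff_exists_ne_one.mp hX1 |> fun ⟨⟨x, hx⟩, h⟩ =>
    (⟨x, hx, fun h' => h (Subtype.ext h')⟩ : ∃ x : G, x ∈ X ∧ x ≠ 1))
  obtain ⟨g, hgQ, hg1⟩ := (Subgroup.ne_bot_iff_exists_ne_one.mp hQ1 |> fun ⟨⟨x, hx⟩, h⟩ =>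
    (⟨x, hx, fun h' => h (Subtype.ext h')⟩ : ∃ x : G, x ∈ Q ∧ x ≠ 1))
  -- `M_σ ≰ C(Q)`
  have hσne := Cfsg.Agent.Lib.Helper1.BG12.sigmaCore_ne_bot hG M hM
  have hcomm : ⁅Cfsg.sigmaCore M, E⁆ = Cfsg.sigmaCore M := (Cfsg.Agent.S1426.result hG M hM E hE).2.1
  have hnot : ¬ Cfsg.sigmaCore M ≤ Subgroup.centralizer (Q : Set G) := by
    intro h
    have h1 : Cfsg.sigmaCore M ≤ Cfsg.sigmaCore M ⊓ Subgroup.centralizer ({g} : Set G) := by
      refine le_inf le_rfl (h.trans (Subgroup.centralizer_le ?_))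
      intro z hz
      rw [Set.mem_singleton_iff] at hz
      rw [hz]; exact hgQ
    rw [hPA g (hQE hgQ) hg1] at h1
    have h2 : Cfsg.sigmaCore M ≤ Subgroup.centralizer (E : Set G) := h1.trans inf_le_right
    have h3 : ⁅Cfsg.sigmaCore M, E⁆ = ⊥ := Subgroup.commutator_eq_bot_iff_le_centralizer.mpr h2
    rw [hcomm] at h3
    exact hσne h3
  -- a prime `t` with `t ∣ |M_σ : C_{M_σ}(Q)|`
  obtain ⟨C, hC⟩ : ∃ C : Subgroup G,
      C = Cfsg.sigmaCore M ⊓ Subgroup.centralizer (Q : Set G) := ⟨_, rfl⟩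
  have hCσ : C ≤ Cfsg.sigmaCore M := by rw [hC]; exact inf_le_left
  have hri : C.relIndex (Cfsg.sigmaCore M) ≠ 1 := by
    intro h
    apply hnot
    have := Subgroup.relIndex_eq_one.mp h
    exact (this.trans (by rw [hC]; exact inf_le_right))
  obtain ⟨t, ht, htd⟩ := Nat.exists_prime_and_dvd hri
  haveI : Fact t.Prime := ⟨ht⟩
  have htσ : t ∈ Cfsg.sigma M :=
    prime_sigmaCore hG hM ht (htd.trans (Subgroup.relIndex_dvd_card _ _))
  have hts : t ≠ s := by rintro rfl; exact hsσ htσ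
  have htr : t ≠ r := by rintro rfl; exact hrσ htσ
  -- an `E`-invariant Sylow `t`-subgroup of `M_σ`
  have hEs : Group.IsSolvable ↥E := Cfsg.Agent.Lib.Helper1.BG12b.compl_solvable hG hM hE.1
  have hcop : (Nat.card E).Coprime (Nat.card (Cfsg.sigmaCore M)) := by
    apply Nat.coprime_of_dvd
    intro q hq hqE hqs
    exact compl_prime_not_sigma hG hM hE hq hqE (prime_sigmaCore hG hM hq hqs)
  have hEn : E ≤ Subgroup.normalizer ((Cfsg.sigmaCore M : Subgroup G) : Set G) :=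
    hE.1.trans (Cfsg.Agent.Lib.Helper1.BG12.le_normalizer_sigmaCore M)
  obtain ⟨T, hT, hET, -⟩ := Cfsg.Agent.Lib.Helper11.BenderP.exists_inv_sylow_ge E
    (Cfsg.sigmaCore M) hEn hcop hEs t ⊥ bot_le IsPGroup.of_bot (by
      intro e _
      rw [Subgroup.mem_normalizer_iff]
      intro h
      simp [Subgroup.mem_bot])
  have hTnc : ¬ T ≤ Subgroup.centralizer (Q : Set G) := by
    intro h
    have hTC : T ≤ C := by rw [hC]; exact le_inf hT.le h
    have h1 := Subgroup.relIndex_mul_relIndex T C (Cfsg.sigmaCore M) hTC hCσ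
    apply hT.not_dvd
    rw [← h1]
    exact Dvd.dvd.mul_left htd _
  have hle : T ⊓ Subgroup.centralizer (X : Set G) ≤ Subgroup.centralizer (Q : Set G) := by
    intro y hy
    have h1 : y ∈ Cfsg.sigmaCore M ⊓ Subgroup.centralizer ({x} : Set G) := by
      refine ⟨hT.le hy.1, ?_⟩
      have h2 : Subgroup.centralizer (X : Set G) ≤ Subgroup.centralizer ({x} : Set G) :=
        Subgroup.centralizer_le (by
          intro z hz
          rw [Set.mem_singleton_iff] at hz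
          rw [hz]; exact hxX)
      exact h2 hy.2
    rw [hPA x (hXE hxX) hx1] at h1
    exact (Subgroup.centralizer_le (show (Q : Set G) ⊆ (E : Set G) from hQE)) h1.2
  exact hTnc (frob_centralizes_of_cent_le hr hts htr T Q X hT.isPGroup hQp hXc (hQE.trans hET)
    (hXE.trans hET) hXQ hreg hle)

/-- **clauses (1) and (3) of B & G 13.10 from clause (2)**: if all of `E` acts in a prime manner on
`M_σ` (`C_{M_σ}(e) = C_{M_σ}(E)` for all `e ∈ E#`) and some `P ≤ E` of order `p ∈ τ₃(M)` has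
`C_{M_σ}(P) ≠ 1`, then every prime divisor of `|E|` lies in `κ(M)` and every subgroup of prime order
of `E` is normal in `E` -/
theorem nonreg_of_prime_action (hG : Cfsg.IsMinSimpleOddOrder G) {M E : Subgroup G}
    (hM : IsCoatom M) (hE : Cfsg.IsComplIn E (Cfsg.sigmaCore M) M) {p : ℕ} [hp : Fact p.Prime]
    (hp3 : p ∈ Cfsg.tau3 M) {P : Subgroup G} (hPE : P ≤ E) (hPc : Nat.card P = p)
    (hY : Cfsg.sigmaCore M ⊓ Subgroup.centralizer (P : Set G) ≠ ⊥)
    (hPA : ∀ e ∈ E, e ≠ 1 → Cfsg.sigmaCore M ⊓ Subgroup.centralizer ({e} : Set G) =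
      Cfsg.sigmaCore M ⊓ Subgroup.centralizer (E : Set G)) :
    (∀ q : ℕ, q.Prime → q ∣ Nat.card E → q ∈ Cfsg.kappa M) ∧
      ∀ X : Subgroup G, X ≤ E → (Nat.card X).Prime → E ≤ Subgroup.normalizer (X : Set G) := by
  classical
  have hτ2 : ∀ q : ℕ, q ∉ Cfsg.tau2 M :=
    Cfsg.Agent.Lib.Helper21.BG13s.tau2_empty_of_tau3_kappa hG hM hE hp3 hPE hPc hY
  have hprime : ∀ q : ℕ, q.Prime → q ∣ Nat.card E →
      q ∉ Cfsg.sigma M ∧ Cfsg.PRankLE q 1 ↥M ∧ (q ∈ Cfsg.tau1 M ∨ q ∈ Cfsg.tau3 M) := by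
    intro q hq hqE
    have hqσ := compl_prime_not_sigma hG hM hE hq hqE
    have hqM : q ∣ Nat.card M := hqE.trans (Subgroup.card_dvd_of_le hE.1)
    rcases Cfsg.Agent.Lib.Helper11.LemLA.type_cases hG hM hq hqM hqσ with h | h | h
    · exact ⟨hqσ, h.2.2.2.2, Or.inl h⟩
    · exact absurd h (hτ2 q)
    · exact ⟨hqσ, h.2.2.2, Or.inr h⟩
  have hP1 : P ≠ ⊥ := by
    intro h
    rw [h, Subgroup.card_bot] at hPc
    exact hp.out.one_lt.ne hPc
  obtain ⟨g, hgP, hg1⟩ := (Subgroup.ne_bot_iff_exists_ne_one.mp hP1 |> fun ⟨⟨x, hx⟩, h⟩ =>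
    (⟨x, hx, fun h' => h (Subtype.ext h')⟩ : ∃ x : G, x ∈ P ∧ x ≠ 1))
  have hYE : Cfsg.sigmaCore M ⊓ Subgroup.centralizer (E : Set G) ≠ ⊥ := by
    intro h
    apply hY
    rw [eq_bot_iff, ← h, ← hPA g (hPE hgP) hg1]
    exact inf_le_inf_left _ (Subgroup.centralizer_le (by
      intro z hz
      rw [Set.mem_singleton_iff] at hz
      rw [hz]; exact hgP))
  obtain ⟨y, hy, hy1⟩ := (Subgroup.ne_bot_iff_exists_ne_one.mp hYE |> fun ⟨⟨x, hx⟩, h⟩ =>
    (⟨x, hx, fun h' => h (Subtype.ext h')⟩ :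
      ∃ x : G, x ∈ Cfsg.sigmaCore M ⊓ Subgroup.centralizer (E : Set G) ∧ x ≠ 1))
  haveI hEs : Group.IsSolvable ↥E := Cfsg.Agent.Lib.Helper1.BG12b.compl_solvable hG hM hE.1
  constructor
  · intro q hq hqE
    haveI : Fact q.Prime := ⟨hq⟩
    obtain ⟨hqσ, hq1, -⟩ := hprime q hq hqE
    obtain ⟨x, hx⟩ := exists_prime_orderOf_dvd_card' (G := ↥E) q hqE
    refine Cfsg.Agent.Lib.Helper21.BG13v.mem_kappa_of_witness hG hqσ hq1 (hE.1 x.2)
      (by rw [Subgroup.orderOf_coe]; exact hx) hy.1 hy1 ?_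
    exact Subgroup.mem_centralizer_iff.mp hy.2 x x.2
  · intro X hXE hXp
    obtain ⟨r, hrX⟩ : ∃ r : ℕ, Nat.card X = r := ⟨_, rfl⟩
    rw [hrX] at hXp
    have hr := hXp
    haveI : Fact r.Prime := ⟨hr⟩
    have hrE : r ∣ Nat.card E := by rw [← hrX]; exact Subgroup.card_dvd_of_le hXE
    obtain ⟨hrσ, hr1, hcase⟩ := hprime r hr hrE
    rcases hcase with hτ1 | hτ3
    swap
    · exact Cfsg.Agent.Lib.Helper21.BG13s.tau3_prime_normal hG hM hE hτ3 hXE hrX
    -- `r ∈ τ₁(M)`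
    obtain ⟨E₁, hE₁, hXE₁⟩ := Cfsg.Agent.Lib.Helper11.LemLA.exists_piHallOf_ge (Cfsg.tau1 M) E hXE
      (by
        intro q hq hqd
        rw [hrX] at hqd
        rw [(Nat.prime_dvd_prime_iff_eq hq hr).mp hqd]
        exact hτ1)
    have hE₁cyc : IsCyclic E₁ := (Cfsg.Agent.S1415.result hG M hM E hE).2.1 E₁ hE₁
    have hE₁N : E₁ ≤ Subgroup.normalizer (X : Set G) := by
      intro e he
      apply mem_normalizer_of_conjSub_le
      have h1 : conjSub e X ≤ E₁ := conjSub_le_of_mem hXE₁ he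
      have h2 := Cfsg.Agent.Lib.Helper10.SigmaJsubA.eq_of_card_eq_of_le_cyclic hE₁cyc h1 hXE₁
        (card_conjSub e X)
      rw [h2]
    -- the `τ₃`-Sylow subgroups of `E` centralize `X`
    have hS3 : ∀ s : ℕ, s ∈ Cfsg.tau3 M → ∀ S : Subgroup G, IsSylowIn s S E →
        S ≤ Subgroup.normalizer (X : Set G) := by
      intro s hs3 S hS
      haveI : Fact s.Prime := ⟨hs3.1⟩
      have hrs : r ≠ s := by
        rintro rfl
        exact hτ1.2.2.2.1 hs3.2.2.1
      have hES : E ≤ Subgroup.normalizer (S : Set G) :=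
        sylow_tau3_normal hG hM hE hs3.2.1 hs3.2.2.1 hs3.2.2.2 hS
      have hsE : s ∣ Nat.card M := hs3.2.2.1.trans (Subgroup.card_dvd_of_le
        (Cfsg.Agent.Lib.Helper1.BG12.derived_le M))
      have hs2 : s ≠ 2 := Cfsg.Agent.Lib.Helper1.BG10.prime_ne_two hG s M hsE
      have hXS : X ≤ Subgroup.centralizer (S : Set G) := by
        apply Cfsg.Agent.S1443.result s hs2 S ⊥ X hS.isPGroup bot_le
          ⟨⟨⟨fun a b => Subsingleton.elim _ _⟩⟩, fun a ha => by
            rw [Subgroup.mem_bot.mp ha, one_pow]⟩ (hXE.trans hES)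
          (by rw [hrX]; exact (Nat.coprime_primes hr hs3.1).mpr hrs)
        intro z hz hzo
        obtain ⟨Q, hQ⟩ : ∃ Q : Subgroup G, Q = Subgroup.zpowers z := ⟨_, rfl⟩
        have hQc : Nat.card Q = s := by rw [hQ, Nat.card_zpowers, hzo]
        have hQE : Q ≤ E := by
          rw [hQ, Subgroup.zpowers_le]; exact hS.le hz.1
        have hEQ := Cfsg.Agent.Lib.Helper21.BG13s.tau3_prime_normal hG hM hE hs3 hQE hQc
        have := prime_centralizes_prime hG hM hE hPA hr hrs hXE hQE hrX hQc (hXE.trans hEQ)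
        rwa [hQ, Cfsg.Agent.Lib.Helper11.RegD.centralizer_zpowers_eq] at this
      intro z hz
      apply (Subgroup.centralizer_le_normalizer (X : Set G))
      rw [Subgroup.mem_centralizer_iff]
      intro x hx
      exact (Subgroup.mem_centralizer_iff.mp (hXS hx) z hz).symm
    -- `N_E(X) = E`
    obtain ⟨N, hN⟩ : ∃ N : Subgroup G, N = E ⊓ Subgroup.normalizer (X : Set G) := ⟨_, rfl⟩
    have hNE : N ≤ E := by rw [hN]; exact inf_le_left
    have hri : N.relIndex E = 1 := by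
      by_contra hne
      obtain ⟨u, hu, hud⟩ := Nat.exists_prime_and_dvd hne
      have huE : u ∣ Nat.card E := hud.trans (Subgroup.relIndex_dvd_card _ _)
      obtain ⟨-, -, hcase⟩ := hprime u hu huE
      rcases hcase with h1 | h3
      · have hle : E₁ ≤ N := by rw [hN]; exact le_inf hE₁.1 hE₁N
        have h2 := Subgroup.relIndex_mul_relIndex E₁ N E hle hNE
        apply hE₁.2.2 u hu h1
        rw [← h2]
        exact Dvd.dvd.mul_left hud _
      · haveI : Fact u.Prime := ⟨hu⟩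
        obtain ⟨S, hS, -⟩ := exists_isSylowIn_ge (p := u) (bot_le : (⊥ : Subgroup G) ≤ E)
          IsPGroup.of_bot
        have hle : S ≤ N := by rw [hN]; exact le_inf hS.le (hS3 u h3 S hS)
        have h2 := Subgroup.relIndex_mul_relIndex S N E hle hNE
        apply hS.not_dvd
        rw [← h2]
        exact Dvd.dvd.mul_left hud _
    have := Subgroup.relIndex_eq_one.mp hri
    exact this.trans (by rw [hN]; exact inf_le_right)

end Cfsg.Agent.Lib.Helper21.BG13p
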