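import Mathlib
import Cfsg.Agent.Lib.Helper21.BG13p
import Cfsg.Agent.Lib.Helper28.BGtQ

set_option autoImplicit false

/-! # Prime action of `E = E₁E₃` on `M_σ` from one `τ₁`-element (helper21, for helper10) -/

namespace Cfsg.Agent.Lib.Helper21.BG13o

open Cfsg Cfsg.Agent.Lib.Helper18 Cfsg.Agent.Lib.Helper28.BGt

variable {G : Type*} [Group G] [Finite G]

/-- if `τ₂(M) = ∅` then `E = E₁E₃` -/
theorem compl_le_sup (hG : Cfsg.IsMinSimpleOddOrder G) {M E : Subgroup G} (hM : IsCoatom M)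
    (hE : Cfsg.IsComplIn E (Cfsg.sigmaCore M) M) (h2 : ∀ t : ℕ, t ∉ Cfsg.tau2 M)
    {E₁ E₃ : Subgroup G} (hE₁ : Cfsg.IsPiHallOf (Cfsg.tau1 M) E₁ E)
    (hE₃ : Cfsg.IsPiHallOf (Cfsg.tau3 M) E₃ E) : E ≤ E₁ ⊔ E₃ := by
  obtain ⟨N, hN⟩ : ∃ N : Subgroup G, N = E₁ ⊔ E₃ := ⟨_, rfl⟩
  have hNE : N ≤ E := by rw [hN]; exact sup_le hE₁.1 hE₃.1
  rw [← hN]
  apply Subgroup.relIndex_eq_one.mp
  by_contra hne
  obtain ⟨u, hu, hud⟩ := Nat.exists_prime_and_dvd hne
  have huE : u ∣ Nat.card E := hud.trans (Subgroup.relIndex_dvd_card _ _)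
  have huσ := compl_prime_not_sigma hG hM hE hu huE
  have huM : u ∣ Nat.card M := huE.trans (Subgroup.card_dvd_of_le hE.1)
  rcases Cfsg.Agent.Lib.Helper11.LemLA.type_cases hG hM hu huM huσ with h | h | h
  · have hle : E₁ ≤ N := by rw [hN]; exact le_sup_left
    have h3 := Subgroup.relIndex_mul_relIndex E₁ N E hle hNE
    apply hE₁.2.2 u hu h
    rw [← h3]
    exact Dvd.dvd.mul_left hud _
  · exact h2 u h
  · have hle : E₃ ≤ N := by rw [hN]; exact le_sup_right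
    have h3 := Subgroup.relIndex_mul_relIndex E₃ N E hle hNE
    apply hE₃.2.2 u hu h
    rw [← h3]
    exact Dvd.dvd.mul_left hud _

/-- **(PA1)** -/
theorem prime_action_pa1 (hG : Cfsg.IsMinSimpleOddOrder G) {M E : Subgroup G} (hM : IsCoatom M)
    (hE : Cfsg.IsComplIn E (Cfsg.sigmaCore M) M) (h2 : ∀ t : ℕ, t ∉ Cfsg.tau2 M)
    {p : ℕ} [hp : Fact p.Prime] (hp3 : p ∈ Cfsg.tau3 M) {P : Subgroup G} (hPE : P ≤ E)
    (hPc : Nat.card P = p) {r : ℕ} (hr1 : r ∈ Cfsg.tau1 M) {z : G} (hzE : z ∈ E)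
    (hzo : orderOf z = r) :
    Cfsg.sigmaCore M ⊓ Subgroup.centralizer (P : Set G) ⊓ Subgroup.centralizer ({z} : Set G) ≤
      Subgroup.centralizer (E : Set G) := by
  classical
  haveI hEs : Group.IsSolvable ↥E := Cfsg.Agent.Lib.Helper1.BG12b.compl_solvable hG hM hE.1
  have hP1 : P ≠ ⊥ := by
    intro h
    rw [h, Subgroup.card_bot] at hPc
    exact hp.out.one_lt.ne hPc
  obtain ⟨g, hgP, hg1⟩ := (Subgroup.ne_bot_iff_exists_ne_one.mp hP1 |> fun ⟨⟨x, hx⟩, h⟩ =>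
    (⟨x, hx, fun h' => h (Subtype.ext h')⟩ : ∃ x : G, x ∈ P ∧ x ≠ 1))
  have hz1 : z ≠ 1 := by
    rintro rfl
    rw [orderOf_one] at hzo
    exact hr1.1.one_lt.ne hzo
  obtain ⟨E₃, hE₃, hPE₃⟩ := Cfsg.Agent.Lib.Helper11.LemLA.exists_piHallOf_ge (Cfsg.tau3 M) E hPE
    (by
      intro q hq hqd
      rw [hPc] at hqd
      rw [(Nat.prime_dvd_prime_iff_eq hq hp.out).mp hqd]
      exact hp3)
  obtain ⟨E₁, hE₁, hzE₁⟩ := Cfsg.Agent.Lib.Helper11.LemLA.exists_piHallOf_ge (Cfsg.tau1 M) E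
    (Subgroup.zpowers_le.mpr hzE)
    (by
      intro q hq hqd
      rw [Nat.card_zpowers, hzo] at hqd
      rw [(Nat.prime_dvd_prime_iff_eq hq hr1.1).mp hqd]
      exact hr1)
  have hzE₁' : z ∈ E₁ := hzE₁ (Subgroup.mem_zpowers z)
  have h133 := thirteen_three_b hG hM hE hE₃ (hPE₃ hgP) hg1
  have hE₁cyc : IsCyclic E₁ := (Cfsg.Agent.S1415.result hG M hM E hE).2.1 E₁ hE₁
  have hcomm : ∀ a ∈ E₁, ∀ b ∈ E₁, a * b = b * a := by
    intro a ha b hb
    letI := IsCyclic.commGroup (α := E₁)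
    exact congrArg Subtype.val (mul_comm (⟨a, ha⟩ : E₁) ⟨b, hb⟩)
  have hPA := Cfsg.Agent.Lib.Helper21.BG13r.tau1_prime_action hG hM hE hE₁.1 hE₁.2.1 hcomm z hzE₁'
    hz1
  intro y hy
  obtain ⟨⟨hyσ, hyP⟩, hyz⟩ := hy
  have hy3 : y ∈ Subgroup.centralizer (E₃ : Set G) := by
    apply h133
    refine ⟨hyσ, ?_⟩
    exact (Subgroup.centralizer_le (by
      intro w hw
      rw [Set.mem_singleton_iff] at hw
      rw [hw]; exact hgP)) hyP
  have hy1 : y ∈ Subgroup.centralizer (E₁ : Set G) := by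
    have : y ∈ Cfsg.sigmaCore M ⊓ Subgroup.centralizer ({z} : Set G) := ⟨hyσ, hyz⟩
    rw [hPA] at this
    exact this.2
  have hsup : E₁ ⊔ E₃ ≤ Subgroup.centralizer ({y} : Set G) := by
    apply sup_le
    · intro e he
      rw [Subgroup.mem_centralizer_singleton_iff]
      exact Subgroup.mem_centralizer_iff.mp hy1 e he
    · intro e he
      rw [Subgroup.mem_centralizer_singleton_iff]
      exact Subgroup.mem_centralizer_iff.mp hy3 e he
  rw [Subgroup.mem_centralizer_iff]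
  intro e he
  exact Subgroup.mem_centralizer_singleton_iff.mp
    (hsup (compl_le_sup hG hM hE h2 hE₁ hE₃ he))

/-- **(PA2)** -/
theorem prime_action_pa2 (hG : Cfsg.IsMinSimpleOddOrder G) {M E : Subgroup G} (hM : IsCoatom M)
    (hE : Cfsg.IsComplIn E (Cfsg.sigmaCore M) M) (h2 : ∀ t : ℕ, t ∉ Cfsg.tau2 M)
    {p : ℕ} [hp : Fact p.Prime] (hp3 : p ∈ Cfsg.tau3 M) {P : Subgroup G} (hPE : P ≤ E)
    (hPc : Nat.card P = p) {r : ℕ} (hr1 : r ∈ Cfsg.tau1 M) {z : G} (hzE : z ∈ E)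
    (hzo : orderOf z = r)
    (hzP : Cfsg.sigmaCore M ⊓ Subgroup.centralizer ({z} : Set G) =
      Cfsg.sigmaCore M ⊓ Subgroup.centralizer (P : Set G)) :
    ∀ e ∈ E, e ≠ 1 → Cfsg.sigmaCore M ⊓ Subgroup.centralizer ({e} : Set G) =
      Cfsg.sigmaCore M ⊓ Subgroup.centralizer (E : Set G) := by
  classical
  haveI hEs : Group.IsSolvable ↥E := Cfsg.Agent.Lib.Helper1.BG12b.compl_solvable hG hM hE.1
  have hpa1 := prime_action_pa1 hG hM hE h2 hp3 hPE hPc hr1 hzE hzo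
  have hYE : Cfsg.sigmaCore M ⊓ Subgroup.centralizer (P : Set G) ≤
      Subgroup.centralizer (E : Set G) := by
    intro y hy
    apply hpa1
    refine ⟨hy, ?_⟩
    have : y ∈ Cfsg.sigmaCore M ⊓ Subgroup.centralizer ({z} : Set G) := by rw [hzP]; exact hy
    exact this.2
  have hYeq : Cfsg.sigmaCore M ⊓ Subgroup.centralizer (P : Set G) =
      Cfsg.sigmaCore M ⊓ Subgroup.centralizer (E : Set G) :=
    le_antisymm (le_inf inf_le_left hYE)
      (inf_le_inf_left _ (Subgroup.centralizer_le (show (P : Set G) ⊆ (E : Set G) from hPE)))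
  have hz1 : z ≠ 1 := by
    rintro rfl
    rw [orderOf_one] at hzo
    exact hr1.1.one_lt.ne hzo
  obtain ⟨E₃, hE₃, hPE₃⟩ := Cfsg.Agent.Lib.Helper11.LemLA.exists_piHallOf_ge (Cfsg.tau3 M) E hPE
    (by
      intro q hq hqd
      rw [hPc] at hqd
      rw [(Nat.prime_dvd_prime_iff_eq hq hp.out).mp hqd]
      exact hp3)
  obtain ⟨E₁, hE₁, hzE₁⟩ := Cfsg.Agent.Lib.Helper11.LemLA.exists_piHallOf_ge (Cfsg.tau1 M) E
    (Subgroup.zpowers_le.mpr hzE)
    (by
      intro q hq hqd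
      rw [Nat.card_zpowers, hzo] at hqd
      rw [(Nat.prime_dvd_prime_iff_eq hq hr1.1).mp hqd]
      exact hr1)
  have hzE₁' : z ∈ E₁ := hzE₁ (Subgroup.mem_zpowers z)
  have hE₃n : E ≤ Subgroup.normalizer (E₃ : Set G) :=
    ((Cfsg.Agent.S1415.result hG M hM E hE).2.2 E₃ hE₃).2.2
  have hE₁cyc : IsCyclic E₁ := (Cfsg.Agent.S1415.result hG M hM E hE).2.1 E₁ hE₁
  have hcomm : ∀ a ∈ E₁, ∀ b ∈ E₁, a * b = b * a := by
    intro a ha b hb
    letI := IsCyclic.commGroup (α := E₁)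
    exact congrArg Subtype.val (mul_comm (⟨a, ha⟩ : E₁) ⟨b, hb⟩)
  have hPA := Cfsg.Agent.Lib.Helper21.BG13r.tau1_prime_action hG hM hE hE₁.1 hE₁.2.1 hcomm
  have hPAz := hPA z hzE₁' hz1
  intro e he he1
  apply le_antisymm
  swap
  · exact inf_le_inf_left _ (Subgroup.centralizer_le (by
      intro w hw
      rw [Set.mem_singleton_iff] at hw
      rw [hw]; exact he))
  -- a power of `e` of prime order
  have hn1 : orderOf e ≠ 1 := fun h => he1 (orderOf_eq_one_iff.mp h)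
  obtain ⟨u, hu, hud⟩ := Nat.exists_prime_and_dvd hn1
  haveI : Fact u.Prime := ⟨hu⟩
  obtain ⟨m, hm⟩ := hud
  have hm0 : m ≠ 0 := by
    rintro rfl
    rw [mul_zero] at hm
    exact (orderOf_pos e).ne' hm
  obtain ⟨e', he'⟩ : ∃ e' : G, e' = e ^ m := ⟨_, rfl⟩
  have he'o : orderOf e' = u := by
    rw [he', orderOf_pow_of_dvd hm0 ⟨u, by rw [hm, mul_comm]⟩, hm,
      Nat.mul_div_cancel _ (Nat.pos_of_ne_zero hm0)]
  have he'E : e' ∈ E := by rw [he']; exact E.pow_mem he _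
  have he'1 : e' ≠ 1 := by
    intro h
    rw [h, orderOf_one] at he'o
    exact hu.one_lt.ne he'o
  have hstep : Cfsg.sigmaCore M ⊓ Subgroup.centralizer ({e} : Set G) ≤
      Cfsg.sigmaCore M ⊓ Subgroup.centralizer ({e'} : Set G) := by
    intro y hy
    refine ⟨hy.1, ?_⟩
    have hye : y * e = e * y := Subgroup.mem_centralizer_singleton_iff.mp hy.2
    show y ∈ Subgroup.centralizer ({e'} : Set G)
    rw [Subgroup.mem_centralizer_singleton_iff, he']
    exact (Commute.pow_right (show Commute y e from hye) m).eq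
  refine hstep.trans ?_
  have huE : u ∣ Nat.card E := by
    rw [← he'o]
    have := orderOf_dvd_natCard (⟨e', he'E⟩ : ↥E)
    rwa [Subgroup.orderOf_mk] at this
  have huσ := compl_prime_not_sigma hG hM hE hu huE
  have huM : u ∣ Nat.card M := huE.trans (Subgroup.card_dvd_of_le hE.1)
  rcases Cfsg.Agent.Lib.Helper11.LemLA.type_cases hG hM hu huM huσ with h | h | h
  · -- `u ∈ τ₁(M)`: conjugate `e'` into `E₁`
    obtain ⟨U, hU, -⟩ := exists_isSylowIn_ge (p := u) (bot_le : (⊥ : Subgroup G) ≤ E₁)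
      IsPGroup.of_bot
    have hUE : IsSylowIn u U E := by
      refine ⟨hU.le.trans hE₁.1, hU.isPGroup, ?_⟩
      rw [← Subgroup.relIndex_mul_relIndex U E₁ E hU.le hE₁.1]
      intro hd
      rcases (Nat.Prime.dvd_mul hu).mp hd with h' | h'
      · exact hU.not_dvd h'
      · exact hE₁.2.2 u hu h h'
    have he'p : IsPGroup u (Subgroup.zpowers e') :=
      IsPGroup.of_card (n := 1) (by rw [Nat.card_zpowers, he'o, pow_one])
    obtain ⟨c, hc, hle⟩ := hUE.exists_conj_le (Subgroup.zpowers_le.mpr he'E) he'p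
    obtain ⟨d, hd⟩ : ∃ d : G, d = c * e' * c⁻¹ := ⟨_, rfl⟩
    have hdE₁ : d ∈ E₁ := by
      apply hU.le
      apply hle
      rw [mem_conjSub, hd]
      have : c⁻¹ * (c * e' * c⁻¹) * c = e' := by group
      rw [this]
      exact Subgroup.mem_zpowers e'
    have hd1 : d ≠ 1 := by
      intro h'
      apply he'1
      have : e' = c⁻¹ * d * c := by rw [hd]; group
      rw [this, h']; group
    have hPAd := hPA d hdE₁ hd1
    have hcM : c ∈ M := hE.1 hc
    have hcn := Cfsg.Agent.Lib.Helper1.BG12.le_normalizer_sigmaCore M hcM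
    intro w hw
    have hwe : w * e' = e' * w := Subgroup.mem_centralizer_singleton_iff.mp hw.2
    have hw' : c * w * c⁻¹ ∈ Cfsg.sigmaCore M ⊓ Subgroup.centralizer ({d} : Set G) := by
      refine ⟨(Subgroup.mem_normalizer_iff.mp hcn w).mp hw.1, ?_⟩
      show c * w * c⁻¹ ∈ Subgroup.centralizer ({d} : Set G)
      rw [Subgroup.mem_centralizer_singleton_iff, hd]
      calc c * w * c⁻¹ * (c * e' * c⁻¹) = c * (w * e') * c⁻¹ := by group
        _ = c * (e' * w) * c⁻¹ := by rw [hwe]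
        _ = c * e' * c⁻¹ * (c * w * c⁻¹) := by group
    rw [hPAd, ← hPAz, hzP, hYeq] at hw'
    have hcw : c * (c * w * c⁻¹) = (c * w * c⁻¹) * c :=
      Subgroup.mem_centralizer_iff.mp hw'.2 c hc
    have hweq : c * w * c⁻¹ = w := by
      have h1 : c * (c * w * c⁻¹) * c⁻¹ = c * w * c⁻¹ := by rw [hcw]; group
      have h2 : c * (c * w * c⁻¹) * c⁻¹ = c * (c * w * c⁻¹ * c⁻¹) := by group
      have h3 : c * w * c⁻¹ = c * (c * w * c⁻¹ * c⁻¹) := h1.symm.trans h2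
      have h4 : w * c⁻¹ = c * w * c⁻¹ * c⁻¹ := by
        have := mul_left_cancel (a := c) (by rw [← mul_assoc, ← mul_assoc] at h3 ⊢; simpa [mul_assoc] using h3 : c * (w * c⁻¹) = c * (c * w * c⁻¹ * c⁻¹))
        exact this
      exact (mul_right_cancel h4).symm
    rw [hweq] at hw'
    exact hw'
  · exact absurd h (h2 u)
  · -- `u ∈ τ₃(M)`
    have he'E₃ : e' ∈ E₃ := by
      apply Cfsg.Agent.Lib.Helper1.BG12b.mem_of_piHall_normal hE₃ hE₃n he'E
      intro q hq hqd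
      rw [he'o] at hqd
      rw [(Nat.prime_dvd_prime_iff_eq hq hu).mp hqd]
      exact h
    have h133 := thirteen_three_b hG hM hE hE₃ he'E₃ he'1
    rw [← hYeq]
    intro w hw
    refine ⟨hw.1, ?_⟩
    exact (Subgroup.centralizer_le (show (P : Set G) ⊆ (E₃ : Set G) from hPE₃)) (h133 hw)

end Cfsg.Agent.Lib.Helper21.BG13o
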