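import Mathlib
import Cfsg.Agent.Lib.helper7.Br.Defs

set_option autoImplicit false
set_option linter.unusedSectionVars false
set_option linter.unusedVariables false

/-! Project Brandt (S4607), piece AC: the residue field of the local ring of algebraic integers at a
maximal ideal is algebraically closed. -/

namespace Cfsg.Agent.Lib.Helper21.Br

open Cfsg.Agent.Lib.helper7 Cfsg.Agent.Lib.helper7.Br
open scoped ComplexConjugate
open Polynomial

/-- an element of `ℂ` integral over `AlgInt` is integral over `ℤ` -/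
theorem isIntegral_int_of_algInt {w : ℂ} (hw : IsIntegral Cfsg.AlgInt w) : IsIntegral ℤ w :=
  isIntegral_trans (R := ℤ) (A := Cfsg.AlgInt) w hw

/-- the local ring is integrally closed in `ℂ` -/
theorem memLocalRing_of_root {M : Ideal Cfsg.AlgInt} (hM : M.IsPrime)
    (P : (h7_locSubring M hM)[X]) (hP : P.Monic) (z : ℂ)
    (hz : eval₂ (h7_locSubring M hM).subtype z P = 0) : Cfsg.MemLocalRing M z := by
  classical
  set n := P.natDegree with hn
  -- denominators of the coefficients
  have hco : ∀ i : ℕ, ∃ a b : Cfsg.AlgInt, b ∉ M ∧ (a : ℂ) / (b : ℂ) = ((P.coeff i : h7_locSubring M hM) : ℂ) :=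
    fun i => (P.coeff i).2
  choose a b hb hab using hco
  set bb : Cfsg.AlgInt := ∏ i ∈ Finset.range n, b i with hbb
  have hbbM : bb ∉ M := by
    intro h
    obtain ⟨i, _, hi⟩ := (Ideal.IsPrime.prod_mem_iff (hp := hM)).1 h
    exact hb i hi
  have hbb0 : (bb : ℂ) ≠ 0 := by
    intro h
    apply hbbM
    have : bb = 0 := Subtype.ext h
    rw [this]
    exact M.zero_mem
  -- each coefficient times bb is an algebraic integer
  have hcoef : ∀ i ∈ Finset.range n, ∃ c : Cfsg.AlgInt,
      (c : ℂ) = ((P.coeff i : h7_locSubring M hM) : ℂ) * (bb : ℂ) := by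
    intro i hi
    refine ⟨a i * ∏ j ∈ (Finset.range n).erase i, b j, ?_⟩
    have hbi0 : ((b i : Cfsg.AlgInt) : ℂ) ≠ 0 := by
      intro h
      apply hb i
      have : b i = 0 := Subtype.ext h
      rw [this]
      exact M.zero_mem
    rw [← hab i, hbb, ← Finset.mul_prod_erase _ _ hi]
    push_cast
    field_simp
  -- the polynomial over ℂ
  set Pc : ℂ[X] := P.map (h7_locSubring M hM).subtype with hPc
  have hPcm : Pc.Monic := hP.map _
  have hPcd : Pc.natDegree = n := hP.natDegree_map _
  have hPcz : eval₂ (RingHom.id ℂ) z Pc = 0 := by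
    rw [hPc, eval₂_map, RingHom.id_comp]
    exact hz
  set S : ℂ[X] := scaleRoots Pc (bb : ℂ) with hS
  have hSm : S.Monic := (monic_scaleRoots_iff _).2 hPcm
  have hSz : eval₂ (RingHom.id ℂ) ((bb : ℂ) * z) S = 0 := by
    have := scaleRoots_eval₂_eq_zero (RingHom.id ℂ) (s := (bb : ℂ)) hPcz
    simpa using this
  -- S has algebraic-integer coefficients
  have hSl : S ∈ lifts (algebraMap Cfsg.AlgInt ℂ) := by
    rw [lifts_iff_coeff_lifts]
    intro i
    rw [hS, coeff_scaleRoots, hPcd]
    rcases lt_trichotomy i n with hlt | heq | hgt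
    · obtain ⟨c, hc⟩ := hcoef i (Finset.mem_range.2 hlt)
      refine ⟨c * bb ^ (n - i - 1), ?_⟩
      have h1 : n - i = (n - i - 1) + 1 := by omega
      rw [hPc, coeff_map, h1, pow_succ]
      show ((c * bb ^ (n - i - 1) : Cfsg.AlgInt) : ℂ) = _
      push_cast
      rw [hc]
      simp only [Subring.coe_subtype]
      ring
    · subst heq
      refine ⟨1, ?_⟩
      rw [Nat.sub_self, pow_zero, mul_one, ← hPcd]
      rw [show Pc.coeff Pc.natDegree = 1 from hPcm]
      exact map_one _
    · refine ⟨0, ?_⟩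
      rw [coeff_eq_zero_of_natDegree_lt (by rw [hPcd]; exact hgt), zero_mul]
      exact map_zero _
  obtain ⟨Q, hQmap, -, hQm⟩ := lifts_and_natDegree_eq_and_monic hSl hSm
  have hw : IsIntegral Cfsg.AlgInt ((bb : ℂ) * z) := by
    refine ⟨Q, hQm, ?_⟩
    rw [← eval_map, hQmap]
    exact hSz
  have hwZ : IsIntegral ℤ ((bb : ℂ) * z) := isIntegral_int_of_algInt hw
  refine ⟨⟨(bb : ℂ) * z, hwZ⟩, bb, hbbM, ?_⟩
  show (bb : ℂ) * z / (bb : ℂ) = z
  field_simp

/-- AC : the residue field is algebraically closed. -/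
theorem resRing_isAlgClosed {M : Ideal Cfsg.AlgInt} {p : ℕ} [Fact p.Prime]
    (hM : Cfsg.IsPModular p M) :
    IsAlgClosed (h7_resRing M hM.2.1.isPrime) := by
  have hMp : M.IsPrime := hM.2.1.isPrime
  apply IsAlgClosed.of_exists_root
  intro q hqm hqi
  have hl : q ∈ lifts (Ideal.Quotient.mk (h7_locIdeal M hMp)) :=
    mem_lifts_of_surjective Ideal.Quotient.mk_surjective q
  obtain ⟨P, hPmap, hPdeg, hPm⟩ := lifts_and_degree_eq_and_monic hl hqm
  have hdeg : (P.map (h7_locSubring M hMp).subtype).degree ≠ 0 := by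
    rw [hPm.degree_map, hPdeg]
    exact (degree_pos_of_irreducible hqi).ne'
  obtain ⟨z, hz⟩ := IsAlgClosed.exists_root _ hdeg
  have hz2 : eval₂ (h7_locSubring M hMp).subtype z P = 0 := by
    rw [IsRoot.def, eval_map] at hz
    exact hz
  have hzR : Cfsg.MemLocalRing M z := memLocalRing_of_root hMp P hPm z hz2
  set zr : h7_locSubring M hMp := ⟨z, hzR⟩ with hzr
  have h0 : P.eval zr = 0 := by
    apply Subtype.ext
    have h := eval₂_at_apply (p := P) (h7_locSubring M hMp).subtype zr
    show ((P.eval zr : h7_locSubring M hMp) : ℂ) = 0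
    exact h.symm.trans hz2
  refine ⟨Ideal.Quotient.mk (h7_locIdeal M hMp) zr, ?_⟩
  rw [← hPmap, eval_map, eval₂_at_apply, h0, map_zero]

end Cfsg.Agent.Lib.Helper21.Br
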