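import Mathlib
import Cfsg.Agent.Lib.helper15.PSL.Defs
import Cfsg.Agent.Lib.Helper25.CharOrth
import Cfsg.Agent.Lib.helper7.CharCentral

/-!
# Project PSL (S4504) : piece FOUR (`center_fourier`)
-/

set_option autoImplicit false
set_option linter.unusedVariables false
set_option linter.unusedSectionVars false
open scoped ComplexConjugate
open Classical

namespace Cfsg.Agent.Lib.helper15.PSL

open Cfsg.Agent.Lib.helper7 Cfsg.Agent.Lib.helper7.BR Cfsg.Agent.Lib.helper2 Cfsg.Agent.Lib.Helper25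
  Cfsg.Agent.Lib.Helper29 Cfsg.Agent.Lib.helper15.BH

universe u

variable {G : Type u} [Group G] [Fintype G] {p : ℕ} [Fact p.Prime]

/-- the central character: `ξ (ζ * x) = (ξ ζ / ξ 1) * ξ x` for central `ζ` -/
theorem pslfour_shift (ξ : Cfsg.IrrCharacter G) (ζ : G) (hζ : ζ ∈ Subgroup.center G) (x : G) :
    (ξ : G → ℂ) (ζ * x) = ((ξ : G → ℂ) ζ / (ξ : G → ℂ) 1) * (ξ : G → ℂ) x := by
  obtain ⟨c, hc⟩ := h7_central_char ξ.2 ζ hζ
  have h1 := hc 1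
  rw [mul_one] at h1
  have hne := irr_one_ne_zero ξ
  have hc' : c = (ξ : G → ℂ) ζ / (ξ : G → ℂ) 1 := by
    rw [h1]; field_simp
  rw [← hc']; exact hc x

theorem pslfour_shift' (ξ : Cfsg.IrrCharacter G) (ζ : G) (hζ : ζ ∈ Subgroup.center G) (x : G) :
    (ξ : G → ℂ) (x * ζ) = ((ξ : G → ℂ) ζ / (ξ : G → ℂ) 1) * (ξ : G → ℂ) x := by
  rw [← pslfour_shift ξ ζ hζ x, Subgroup.mem_center_iff.mp hζ x]

/-- the central character is multiplicative -/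
theorem pslfour_om_mul (ξ : Cfsg.IrrCharacter G) (ζ ζ' : G) (hζ : ζ ∈ Subgroup.center G)
    (hζ' : ζ' ∈ Subgroup.center G) :
    (ξ : G → ℂ) (ζ * ζ') / (ξ : G → ℂ) 1 =
      ((ξ : G → ℂ) ζ / (ξ : G → ℂ) 1) * ((ξ : G → ℂ) ζ' / (ξ : G → ℂ) 1) := by
  rw [pslfour_shift ξ ζ hζ ζ']
  ring

theorem pslfour_om_pow (ξ : Cfsg.IrrCharacter G) (ζ : G) (hζ : ζ ∈ Subgroup.center G) (n : ℕ) :
    (ξ : G → ℂ) (ζ ^ n) / (ξ : G → ℂ) 1 = ((ξ : G → ℂ) ζ / (ξ : G → ℂ) 1) ^ n := by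
  induction n with
  | zero =>
    rw [pow_zero, pow_zero]
    exact div_self (irr_one_ne_zero ξ)
  | succ n ih =>
    rw [pow_succ, pow_succ, pslfour_om_mul ξ _ _ (Subgroup.pow_mem _ hζ n) hζ, ih]

/-- the central character has absolute value `1` -/
theorem pslfour_om_norm (ξ : Cfsg.IrrCharacter G) (ζ : G) (hζ : ζ ∈ Subgroup.center G) :
    ‖(ξ : G → ℂ) ζ / (ξ : G → ℂ) 1‖ = 1 := by
  have h := pslfour_om_pow ξ ζ hζ (orderOf ζ)
  rw [pow_orderOf_eq_one, div_self (irr_one_ne_zero ξ)] at h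
  have hn : ‖(ξ : G → ℂ) ζ / (ξ : G → ℂ) 1‖ ^ orderOf ζ = 1 := by
    rw [← norm_pow, ← h, norm_one]
  have hpos : orderOf ζ ≠ 0 := (orderOf_pos ζ).ne'
  exact (pow_eq_one_iff_of_nonneg (norm_nonneg _) hpos).mp hn

theorem pslfour_om_conj (ξ : Cfsg.IrrCharacter G) (ζ : G) (hζ : ζ ∈ Subgroup.center G) :
    ((ξ : G → ℂ) ζ / (ξ : G → ℂ) 1) * conj ((ξ : G → ℂ) ζ / (ξ : G → ℂ) 1) = 1 := by
  rw [Complex.mul_conj, Complex.normSq_eq_norm_sq, pslfour_om_norm ξ ζ hζ]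
  norm_num

theorem pslfour_sameCC_iff (χ₀ ξ : Cfsg.IrrCharacter G) :
    SameCC χ₀ ξ ↔ ∀ ζ ∈ Subgroup.center G,
      (χ₀ : G → ℂ) ζ / (χ₀ : G → ℂ) 1 = (ξ : G → ℂ) ζ / (ξ : G → ℂ) 1 := by
  have h0 := irr_one_ne_zero χ₀
  have h1 := irr_one_ne_zero ξ
  constructor
  · intro h ζ hζ
    have := h ζ hζ
    rw [div_eq_div_iff h0 h1]
    rw [this]
  · intro h ζ hζ
    have := h ζ hζ
    rw [div_eq_div_iff h0 h1] at this
    rw [this]

/-- the sum of a non-trivial multiplicative function over a finite group vanishes -/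
theorem pslfour_sum_zero {Z : Type*} [Group Z] [Fintype Z] (μ : Z → ℂ)
    (hmul : ∀ x y : Z, μ (x * y) = μ x * μ y) (z₀ : Z) (h0 : μ z₀ ≠ 1) :
    ∑ z : Z, μ z = 0 := by
  have h : ∑ z : Z, μ z = μ z₀ * ∑ z : Z, μ z := by
    rw [Finset.mul_sum, ← Equiv.sum_comp (Equiv.mulLeft z₀)]
    apply Finset.sum_congr rfl
    intro z _
    rw [Equiv.coe_mulLeft, hmul]
  have h2 : (1 - μ z₀) * ∑ z : Z, μ z = 0 := by
    rw [sub_mul, one_mul, ← h, sub_self]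
  rcases mul_eq_zero.mp h2 with h3 | h3
  · exact absurd (sub_eq_zero.mp h3).symm h0
  · exact h3

/-- FOUR : Fourier inversion on the centre -/
theorem center_fourier (χ₀ ξ : Cfsg.IrrCharacter G) (g : G) :
    ∑ ζ : ↥(Subgroup.center G),
        ((χ₀ : G → ℂ) (ζ : G) / (χ₀ : G → ℂ) 1) * conj ((ξ : G → ℂ) (g * (ζ : G))) =
      if SameCC χ₀ ξ then (Nat.card ↥(Subgroup.center G) : ℂ) * conj ((ξ : G → ℂ) g) else 0 := by
  have hrew : ∀ ζ : ↥(Subgroup.center G),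
      ((χ₀ : G → ℂ) (ζ : G) / (χ₀ : G → ℂ) 1) * conj ((ξ : G → ℂ) (g * (ζ : G))) =
      (((χ₀ : G → ℂ) (ζ : G) / (χ₀ : G → ℂ) 1) *
        conj ((ξ : G → ℂ) (ζ : G) / (ξ : G → ℂ) 1)) * conj ((ξ : G → ℂ) g) := by
    intro ζ
    rw [pslfour_shift' ξ ζ ζ.2 g, map_mul]
    ring
  rw [Finset.sum_congr rfl (fun ζ _ => hrew ζ), ← Finset.sum_mul]
  split_ifs with hS
  · rw [pslfour_sameCC_iff] at hS
    have : ∀ ζ : ↥(Subgroup.center G),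
        ((χ₀ : G → ℂ) (ζ : G) / (χ₀ : G → ℂ) 1) *
          conj ((ξ : G → ℂ) (ζ : G) / (ξ : G → ℂ) 1) = 1 := by
      intro ζ
      rw [hS ζ ζ.2]
      exact pslfour_om_conj ξ ζ ζ.2
    rw [Finset.sum_congr rfl (fun ζ _ => this ζ), Finset.sum_const, Finset.card_univ,
      Nat.card_eq_fintype_card, nsmul_eq_mul, mul_one]
  · rw [pslfour_sameCC_iff] at hS
    push Not at hS
    obtain ⟨ζ₀, hζ₀, hne⟩ := hS
    have hz := pslfour_sum_zero (Z := ↥(Subgroup.center G))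
      (fun ζ => ((χ₀ : G → ℂ) (ζ : G) / (χ₀ : G → ℂ) 1) *
          conj ((ξ : G → ℂ) (ζ : G) / (ξ : G → ℂ) 1)) ?_ ⟨ζ₀, hζ₀⟩ ?_
    · rw [hz, zero_mul]
    · intro x y
      show ((χ₀ : G → ℂ) ((x : G) * (y : G)) / (χ₀ : G → ℂ) 1) *
          conj ((ξ : G → ℂ) ((x : G) * (y : G)) / (ξ : G → ℂ) 1) = _
      rw [pslfour_om_mul χ₀ _ _ x.2 y.2, pslfour_om_mul ξ _ _ x.2 y.2, map_mul]
      ring
    · show ((χ₀ : G → ℂ) ζ₀ / (χ₀ : G → ℂ) 1) * conj ((ξ : G → ℂ) ζ₀ / (ξ : G → ℂ) 1) ≠ 1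
      intro h
      apply hne
      have h2 := pslfour_om_conj ξ ζ₀ hζ₀
      have hc : conj ((ξ : G → ℂ) ζ₀ / (ξ : G → ℂ) 1) ≠ 0 := by
        intro h0
        rw [h0, mul_zero] at h2
        exact zero_ne_one h2
      exact mul_right_cancel₀ hc (h.trans h2.symm)
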