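import Mathlib
import Cfsg.Agent.Lib.helper15.PSL.Defs
import Cfsg.Agent.S0840
import Cfsg.Agent.Lib.Helper25.CharOrth

/-!
# Project PSL (S4504) : piece POS0 (`pos_zero`)
-/

set_option autoImplicit false
set_option linter.unusedVariables false
set_option linter.unusedSectionVars false
open scoped ComplexConjugate
open Classical

namespace Cfsg.Agent.Lib.helper15.PSL

open Cfsg.Agent.Lib.helper7 Cfsg.Agent.Lib.helper7.BR Cfsg.Agent.Lib.helper2 Cfsg.Agent.Lib.Helper25
  Cfsg.Agent.Lib.Helper29 Cfsg.Agent.Lib.helper15.BH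

universe u

variable {G : Type u} [Group G] [Fintype G] {p : ℕ} [Fact p.Prime]

/-- POS0 : the class multiplication constants are non-negative (S0840) -/
theorem pos_zero [Fintype (Cfsg.IrrCharacter G)] (a b c : G) :
    ∃ r : ℝ, 0 ≤ r ∧ ∑ ξ : Cfsg.IrrCharacter G, term a b c ξ = (r : ℂ) := by
  have h := Cfsg.Agent.S0840.result a b c
  rw [finsum_eq_sum_of_fintype] at h
  have hA : (0 : ℝ) < (Nat.card {x : G // IsConj a x} : ℝ) := by
    have : 0 < Nat.card {x : G // IsConj a x} := by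
      have : Nonempty {x : G // IsConj a x} := ⟨⟨a, IsConj.refl a⟩⟩
      exact Nat.card_pos
    exact_mod_cast this
  have hB : (0 : ℝ) < (Nat.card {x : G // IsConj b x} : ℝ) := by
    have : 0 < Nat.card {x : G // IsConj b x} := by
      have : Nonempty {x : G // IsConj b x} := ⟨⟨b, IsConj.refl b⟩⟩
      exact Nat.card_pos
    exact_mod_cast this
  have hG : (0 : ℝ) < (Nat.card G : ℝ) := by
    have : 0 < Nat.card G := Nat.card_pos
    exact_mod_cast this
  refine ⟨(Nat.card {q : G × G // IsConj a q.1 ∧ IsConj b q.2 ∧ q.1 * q.2 = c} : ℝ) *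
    (Nat.card G : ℝ) / ((Nat.card {x : G // IsConj a x} : ℝ) * (Nat.card {x : G // IsConj b x} : ℝ)),
    by positivity, ?_⟩
  have hA' : (Nat.card {x : G // IsConj a x} : ℂ) ≠ 0 := by exact_mod_cast hA.ne'
  have hB' : (Nat.card {x : G // IsConj b x} : ℂ) ≠ 0 := by exact_mod_cast hB.ne'
  have hG' : (Nat.card G : ℂ) ≠ 0 := by exact_mod_cast hG.ne'
  have hterm : ∑ ξ : Cfsg.IrrCharacter G, term a b c ξ =
      ∑ χ : Cfsg.IrrCharacter G, (χ : G → ℂ) a * (χ : G → ℂ) b * conj ((χ : G → ℂ) c) /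
        (χ : G → ℂ) 1 := rfl
  rw [hterm]
  push_cast
  rw [h]
  field_simp
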