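import Mathlib
import Cfsg.Agent.Lib.helper15.PSL.Defs
import Cfsg.Agent.Lib.Helper21.PSLPOS0
import Cfsg.Agent.Lib.Helper21.PSLFOUR

/-!
# Project PSL (S4504) : piece POS (`pos_main`)
-/

set_option autoImplicit false
set_option linter.unusedVariables false
set_option linter.unusedSectionVars false
open scoped ComplexConjugate
open Classical

namespace Cfsg.Agent.Lib.helper15.PSL

open Cfsg.Agent.Lib.helper7 Cfsg.Agent.Lib.helper7.BR Cfsg.Agent.Lib.helper2 Cfsg.Agent.Lib.Helper25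
  Cfsg.Agent.Lib.Helper29 Cfsg.Agent.Lib.helper15.BH

universe u

variable {G : Type u} [Group G] [Fintype G] {p : ℕ} [Fact p.Prime]

/-- the twisted sum of the class multiplication constants over the centre -/
theorem pslpos_twist [Fintype (Cfsg.IrrCharacter G)] (χ₀ : Cfsg.IrrCharacter G) (a b z : G) :
    ∑ ζ : ↥(Subgroup.center G), ((χ₀ : G → ℂ) (ζ : G) / (χ₀ : G → ℂ) 1) *
        ∑ ξ : Cfsg.IrrCharacter G, term a b (z * (ζ : G)) ξ =
      (Nat.card ↥(Subgroup.center G) : ℂ) *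
        ∑ ξ ∈ Finset.univ.filter (SameCC χ₀), term a b z ξ := by
  have h1 : ∀ ζ : ↥(Subgroup.center G), ((χ₀ : G → ℂ) (ζ : G) / (χ₀ : G → ℂ) 1) *
        ∑ ξ : Cfsg.IrrCharacter G, term a b (z * (ζ : G)) ξ =
      ∑ ξ : Cfsg.IrrCharacter G, ((ξ : G → ℂ) a * (ξ : G → ℂ) b / (ξ : G → ℂ) 1) *
        (((χ₀ : G → ℂ) (ζ : G) / (χ₀ : G → ℂ) 1) * conj ((ξ : G → ℂ) (z * (ζ : G)))) := by
    intro ζ
    rw [Finset.mul_sum]
    apply Finset.sum_congr rfl
    intro ξ _
    unfold term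
    ring
  rw [Finset.sum_congr rfl (fun ζ _ => h1 ζ), Finset.sum_comm]
  have h2 : ∀ ξ : Cfsg.IrrCharacter G,
      ∑ ζ : ↥(Subgroup.center G), ((ξ : G → ℂ) a * (ξ : G → ℂ) b / (ξ : G → ℂ) 1) *
        (((χ₀ : G → ℂ) (ζ : G) / (χ₀ : G → ℂ) 1) * conj ((ξ : G → ℂ) (z * (ζ : G)))) =
      if SameCC χ₀ ξ then (Nat.card ↥(Subgroup.center G) : ℂ) * term a b z ξ else 0 := by
    intro ξ
    rw [← Finset.mul_sum, center_fourier χ₀ ξ z]
    split_ifs
    · unfold term; ring
    · rw [mul_zero]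
  rw [Finset.sum_congr rfl (fun ξ _ => h2 ξ), Finset.mul_sum, Finset.sum_filter]

/-- POS : the sum over the characters with central character `ν` (that of `χ₀`) is dominated by the sum over
the characters which are trivial on the centre, which is real -/
theorem pos_main [Fintype (Cfsg.IrrCharacter G)] (χ₀ : Cfsg.IrrCharacter G) (a b z : G) :
    ∃ r : ℝ, ∑ ξ ∈ Finset.univ.filter (SameCC (trivIrr G)), term a b z ξ = (r : ℂ) ∧
      ‖∑ ξ ∈ Finset.univ.filter (SameCC χ₀), term a b z ξ‖ ≤ r := by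
  choose R hR0 hR using fun ζ : ↥(Subgroup.center G) => pos_zero a b (z * (ζ : G))
  have hv : (0 : ℝ) < (Nat.card ↥(Subgroup.center G) : ℝ) := by
    have : 0 < Nat.card ↥(Subgroup.center G) := Nat.card_pos
    exact_mod_cast this
  have hv' : (Nat.card ↥(Subgroup.center G) : ℂ) ≠ 0 := by exact_mod_cast hv.ne'
  refine ⟨(∑ ζ : ↥(Subgroup.center G), R ζ) / (Nat.card ↥(Subgroup.center G) : ℝ), ?_, ?_⟩
  · have h := pslpos_twist (trivIrr G) a b z
    have h3 : ∑ ζ : ↥(Subgroup.center G),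
        ((trivIrr G : G → ℂ) (ζ : G) / (trivIrr G : G → ℂ) 1) *
          ∑ ξ : Cfsg.IrrCharacter G, term a b (z * (ζ : G)) ξ =
        ((∑ ζ : ↥(Subgroup.center G), R ζ : ℝ) : ℂ) := by
      push_cast
      apply Finset.sum_congr rfl
      intro ζ _
      rw [hR ζ, trivIrr_apply, trivIrr_apply, div_one, one_mul]
    rw [h3] at h
    push_cast
    rw [eq_div_iff hv', mul_comm]
    push_cast at h
    exact h.symm
  · have h := pslpos_twist χ₀ a b z
    have hn : ‖(Nat.card ↥(Subgroup.center G) : ℂ) *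
        ∑ ξ ∈ Finset.univ.filter (SameCC χ₀), term a b z ξ‖ ≤
        ∑ ζ : ↥(Subgroup.center G), R ζ := by
      rw [← h]
      refine (norm_sum_le _ _).trans ?_
      apply Finset.sum_le_sum
      intro ζ _
      rw [norm_mul, pslfour_om_norm χ₀ ζ ζ.2, one_mul, hR ζ, Complex.norm_real,
        Real.norm_of_nonneg (hR0 ζ)]
    rw [norm_mul, Complex.norm_natCast] at hn
    rw [le_div_iff₀ hv, mul_comm]
    exact hn
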