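import Mathlib
import Cfsg.Agent.Lib.helper15.PSL.Defs

/-!
# Project PSL (S4504) : piece CHISUM, core (`pslchisum_core` = `chi_sum` with the extra hypothesis
`leoOm h θ₂ ≠ 1`)
-/

set_option autoImplicit false
set_option linter.unusedVariables false
set_option linter.unusedSectionVars false
open scoped ComplexConjugate
open Classical

namespace Cfsg.Agent.Lib.helper15.PSL

open Cfsg.Agent.Lib.helper7 Cfsg.Agent.Lib.helper7.BR Cfsg.Agent.Lib.helper2 Cfsg.Agent.Lib.Helper25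
  Cfsg.Agent.Lib.Helper29 Cfsg.Agent.Lib.helper15.BH

universe u

section abstract

variable {G : Type u} [Group G] [Fintype G]
variable {p : ℕ} {C N P : Subgroup G} {hPC : P ≤ C} {π : ↥C →* ↥P}

/-- an element of `N` which fixes the central character `ω_θ ≠ 1` lies in `C` -/
theorem pslchisum_stab (h : LeoSetup p C N P hPC π) (θ : Cfsg.IrrCharacter ↥C)
    (hθ : leoOm h θ ≠ 1) (n : ↥N) (hfix : leoOm h (leoCjI h n θ) = leoOm h θ) : (n : G) ∈ C := by
  by_contra hnC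
  apply hθ
  have hninv : (n : G)⁻¹ ∉ C := fun hc => hnC (by simpa using C.inv_mem hc)
  refine afd_semiregular (leo_comm h) (afCj P (n : G)⁻¹ (Subgroup.inv_mem _ (h.hNP n.2))) ?_
    (leoOm h θ) ?_
  · intro w hw
    have h1 : (n : G)⁻¹ * (w : G) * ((n : G)⁻¹)⁻¹ = (w : G) := congrArg Subtype.val hw
    have := h.semi (n : G)⁻¹ (N.inv_mem n.2) hninv (w : G) w.2 h1
    exact Subtype.ext this
  · intro w
    have := leoOm_cj h n θ
    rw [hfix] at this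
    have h2 := DFunLike.congr_fun this w
    rw [MonoidHom.comp_apply] at h2
    exact h2.symm

/-- `ϑ ↦ ω_ϑ` is injective on an orbit with non-trivial central characters -/
theorem pslchisum_inj (h : LeoSetup p C N P hPC π) (θ : Cfsg.IrrCharacter ↥C)
    (hθ : leoOm h θ ≠ 1) :
    Set.InjOn (leoOm h) ((leoOrb h θ : Finset (Cfsg.IrrCharacter ↥C)) : Set _) := by
  intro ϑ₁ h1 ϑ₂ h2 heq
  rw [Finset.mem_coe] at h1 h2
  obtain ⟨n₁, hn₁⟩ := (mem_leoOrb h θ ϑ₁).mp h1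
  obtain ⟨n₂, hn₂⟩ := (mem_leoOrb h θ ϑ₂).mp h2
  have hne : leoOm h ϑ₁ ≠ 1 := leoOm_ne_one_of_mem_orb h hθ h1
  have h3 : leoCjI h (n₂ * n₁⁻¹) ϑ₁ = ϑ₂ := by
    rw [← hn₁, leoCjI_mul, mul_assoc, inv_mul_cancel, mul_one, hn₂]
  have h4 : ((n₂ * n₁⁻¹ : ↥N) : G) ∈ C := by
    apply pslchisum_stab h ϑ₁ hne
    rw [h3, heq]
  have h5 := leo_stab_of_mem h ϑ₁ (n₂ * n₁⁻¹) h4
  rw [h3] at h5
  exact h5.symm

theorem pslchisum_deg (h : LeoSetup p C N P hPC π) (θ ϑ : Cfsg.IrrCharacter ↥C)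
    (hm : ϑ ∈ leoOrb h θ) : leoDeg ϑ = leoDeg θ := by
  obtain ⟨n, hn⟩ := (mem_leoOrb h θ ϑ).mp hm
  rw [← hn, leoDeg_cj]

/-- the value of an orbit sum of linear characters at an element of `P` -/
theorem pslchisum_val (h : LeoSetup p C N P hPC π) (θ : Cfsg.IrrCharacter ↥C)
    (hθ : leoOm h θ ≠ 1) (hdeg : leoDeg θ = 1) (x : ↥P) :
    ∑ ϑ ∈ leoOrb h θ, (ϑ : ↥C → ℂ) (Subgroup.inclusion hPC x) =
      ∑ ω ∈ (leoOrb h θ).image (leoOm h), ((ω x : ℂˣ) : ℂ) := by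
  rw [Finset.sum_image (pslchisum_inj h θ hθ)]
  apply Finset.sum_congr rfl
  intro ϑ hϑ
  rw [leoOm_apply_one h ϑ x, leoDeg_spec, pslchisum_deg h θ ϑ hϑ, hdeg]
  push_cast
  ring

/-- CHISUM (core) : the values of `χ + χ'` on `P ∖ 1`, and `χ` has no `P`-fixed points -/
theorem pslchisum_core (h : LeoSetup p C N P hPC π) {f : ℕ} (hpf : Nat.card ↥P = 2 * f + 1)
    {χ χ' : Cfsg.IrrCharacter G} {θ₁ θ₂ : Cfsg.IrrCharacter ↥C} (hM : M1Out h f χ χ' θ₁ θ₂)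
    (hθ₂ : leoOm h θ₂ ≠ 1) :
    (∀ x ∈ P, x ≠ 1 → (χ : G → ℂ) x + (χ' : G → ℂ) x = -1) ∧
      ∑ x : ↥P, (χ : G → ℂ) (x : G) = 0 := by
  have hθ₁ := hM.hθ₁
  have hf1 : 1 ≤ f := by
    rw [← hM.hcard]
    exact Finset.card_pos.mpr ⟨θ₁, self_mem_leoOrb h θ₁⟩
  -- `p ≠ 1`
  have hp1 : p ≠ 1 := by
    intro hp
    have htriv : ∀ x : ↥P, x = 1 := by
      intro x
      obtain ⟨k, hk⟩ := h.pgroup x
      rw [hp, one_pow, pow_one] at hk
      exact hk
    have : Nat.card ↥P = 1 := by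
      have : Subsingleton ↥P := ⟨fun a b => by rw [htriv a, htriv b]⟩
      exact Nat.card_unique
    omega
  have hreg1 : ¬ p ∣ orderOf (1 : G) := by
    rw [orderOf_one, Nat.dvd_one]
    exact hp1
  -- the degree of `θ₂`
  have hdeg₂ : leoDeg θ₂ = 1 := by
    have h1 := hM.hreg 1 hreg1
    have h2 := hM.hres 1
    have h3 := hM.hres' 1
    rw [Subgroup.coe_one] at h2 h3
    rw [h2, h3] at h1
    have h4 : ∑ ϑ ∈ leoOrb h θ₁, (ϑ : ↥C → ℂ) 1 = (f : ℂ) := by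
      have : ∀ ϑ ∈ leoOrb h θ₁, (ϑ : ↥C → ℂ) 1 = 1 := by
        intro ϑ hϑ
        rw [leoDeg_spec, pslchisum_deg h θ₁ ϑ hϑ, hM.hlin]
        push_cast
        rfl
      rw [Finset.sum_congr rfl this, Finset.sum_const, hM.hcard, nsmul_eq_mul, mul_one]
    have h5 : ∑ ϑ ∈ leoOrb h θ₂, (ϑ : ↥C → ℂ) 1 = (f : ℂ) * (leoDeg θ₂ : ℂ) := by
      have : ∀ ϑ ∈ leoOrb h θ₂, (ϑ : ↥C → ℂ) 1 = (leoDeg θ₂ : ℂ) := by
        intro ϑ hϑ
        rw [leoDeg_spec, pslchisum_deg h θ₂ ϑ hϑ]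
      rw [Finset.sum_congr rfl this, Finset.sum_const, hM.hcard', nsmul_eq_mul]
    rw [h4, h5] at h1
    have h6 : f * leoDeg θ₂ = f := by exact_mod_cast h1
    have h7 : f * leoDeg θ₂ = f * 1 := by rw [h6, mul_one]
    exact Nat.eq_of_mul_eq_mul_left (by omega) h7
  constructor
  · -- the dual group of `P`
    have : Finite (↥P →* ℂˣ) := Nat.finite_of_card_ne_zero (by
      rw [afd_card_dual (leo_comm h)]
      exact Nat.card_pos.ne')
    have : Fintype (↥P →* ℂˣ) := Fintype.ofFinite _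
    set A := (leoOrb h θ₁).image (leoOm h) with hA
    set B := (leoOrb h θ₂).image (leoOm h) with hB
    have hAc : A.card = f := by
      rw [hA, Finset.card_image_of_injOn (pslchisum_inj h θ₁ hθ₁), hM.hcard]
    have hBc : B.card = f := by
      rw [hB, Finset.card_image_of_injOn (pslchisum_inj h θ₂ hθ₂), hM.hcard']
    have hdisj : Disjoint A B := by
      rw [Finset.disjoint_left]
      intro ω ha hb
      obtain ⟨ϑ, hϑ, h1⟩ := Finset.mem_image.mp ha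
      obtain ⟨ϑ', hϑ', h2⟩ := Finset.mem_image.mp hb
      exact hM.hdis ϑ hϑ ϑ' hϑ' (h1.trans h2.symm)
    have h1A : (1 : ↥P →* ℂˣ) ∉ A ∪ B := by
      intro hm
      rcases Finset.mem_union.mp hm with hm | hm
      · obtain ⟨ϑ, hϑ, h1⟩ := Finset.mem_image.mp hm
        exact leoOm_ne_one_of_mem_orb h hθ₁ hϑ h1
      · obtain ⟨ϑ, hϑ, h1⟩ := Finset.mem_image.mp hm
        exact leoOm_ne_one_of_mem_orb h hθ₂ hϑ h1
    have hT : insert (1 : ↥P →* ℂˣ) (A ∪ B) = Finset.univ := by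
      apply Finset.eq_univ_of_card
      rw [Finset.card_insert_of_notMem h1A, Finset.card_union_of_disjoint hdisj, hAc, hBc,
        ← Nat.card_eq_fintype_card, afd_card_dual (leo_comm h), hpf]
      ring
    intro x hx hx1
    have hsum := afd_sum_chars (leo_comm h) (⟨x, hx⟩ : ↥P)
    rw [if_neg (by
      intro h0
      apply hx1
      exact congrArg Subtype.val h0)] at hsum
    rw [← hT, Finset.sum_insert h1A, Finset.sum_union hdisj] at hsum
    have hχ : (χ : G → ℂ) x = ∑ ω ∈ A, ((ω (⟨x, hx⟩ : ↥P) : ℂˣ) : ℂ) := by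
      have := hM.hres (Subgroup.inclusion hPC ⟨x, hx⟩)
      rw [Subgroup.coe_inclusion] at this
      rw [this, pslchisum_val h θ₁ hθ₁ hM.hlin]
    have hχ' : (χ' : G → ℂ) x = ∑ ω ∈ B, ((ω (⟨x, hx⟩ : ↥P) : ℂˣ) : ℂ) := by
      have := hM.hres' (Subgroup.inclusion hPC ⟨x, hx⟩)
      rw [Subgroup.coe_inclusion] at this
      rw [this, pslchisum_val h θ₂ hθ₂ hdeg₂]
    rw [hχ, hχ']
    rw [MonoidHom.one_apply, Units.val_one] at hsum
    linear_combination hsum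
  · have h1 : ∀ x : ↥P, (χ : G → ℂ) (x : G) =
        ∑ ϑ ∈ leoOrb h θ₁, (ϑ : ↥C → ℂ) (Subgroup.inclusion hPC x) := by
      intro x
      have := hM.hres (Subgroup.inclusion hPC x)
      rw [Subgroup.coe_inclusion] at this
      exact this
    rw [Finset.sum_congr rfl (fun x _ => h1 x), Finset.sum_comm]
    apply Finset.sum_eq_zero
    intro ϑ hϑ
    rw [leo_sum_P h ϑ, if_neg (leoOm_ne_one_of_mem_orb h hθ₁ hϑ)]

end abstract

end Cfsg.Agent.Lib.helper15.PSL
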