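import Mathlib
import Cfsg.Agent.Lib.helper15.PSL.Defs
import Cfsg.Agent.Lib.Helper21.PSLCHISUMcore

/-!
# Project PSL (S4504) : piece CHISUM (`chi_sum`)
-/

set_option autoImplicit false
set_option linter.unusedVariables false
set_option linter.unusedSectionVars false
open scoped ComplexConjugate
open Classical

namespace Cfsg.Agent.Lib.helper15.PSL

open Cfsg.Agent.Lib.helper7 Cfsg.Agent.Lib.helper7.BR Cfsg.Agent.Lib.helper2 Cfsg.Agent.Lib.Helper25
  Cfsg.Agent.Lib.Helper29 Cfsg.Agent.Lib.helper15.BH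

universe u

section abstract

variable {G : Type u} [Group G] [Fintype G]
variable {p : ℕ} {C N P : Subgroup G} {hPC : P ≤ C} {π : ↥C →* ↥P}

/-- CHISUM : the values of `χ + χ'` on `P ∖ 1`, and `χ` has no `P`-fixed points -/
theorem chi_sum (h : LeoSetup p C N P hPC π) {f : ℕ} (hpf : Nat.card ↥P = 2 * f + 1)
    {χ χ' : Cfsg.IrrCharacter G} {θ₁ θ₂ : Cfsg.IrrCharacter ↥C} (hM : M1Out h f χ χ' θ₁ θ₂) :
    (∀ x ∈ P, x ≠ 1 → (χ : G → ℂ) x + (χ' : G → ℂ) x = -1) ∧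
      ∑ x : ↥P, (χ : G → ℂ) (x : G) = 0 :=
  pslchisum_core h hpf hM hM.hθ₂

end abstract

end Cfsg.Agent.Lib.helper15.PSL
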