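import Mathlib
import Cfsg.Agent.Lib.helper15.PSL.Defs
import Cfsg.Agent.Lib.Helper21.PSLFOUR
import Cfsg.Agent.Lib.Helper25.CharBound

/-!
# Project PSL (S4504) : piece CKER (`cker_main`)
-/

set_option autoImplicit false
set_option linter.unusedVariables false
set_option linter.unusedSectionVars false
open scoped ComplexConjugate
open Classical

namespace Cfsg.Agent.Lib.helper15.PSL

open Cfsg.Agent.Lib.helper7 Cfsg.Agent.Lib.helper7.BR Cfsg.Agent.Lib.helper2 Cfsg.Agent.Lib.Helper25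
  Cfsg.Agent.Lib.Helper29 Cfsg.Agent.Lib.helper15.BH

universe u

/-- complex numbers `f i` of norm at most `d i` with `∑ f i = ∑ d i` are equal to the `d i` -/
theorem pslcker_all_eq {ι : Type*} (s : Finset ι) (f : ι → ℂ) (d : ι → ℝ)
    (hle : ∀ i ∈ s, ‖f i‖ ≤ d i)
    (hsum : ∑ i ∈ s, f i = ∑ i ∈ s, (d i : ℂ)) : ∀ i ∈ s, f i = (d i : ℂ) := by
  have hre : ∀ i ∈ s, (f i).re ≤ d i := fun i hi => (Complex.re_le_norm (f i)).trans (hle i hi)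
  have h1 : ∑ i ∈ s, (d i - (f i).re) = 0 := by
    rw [Finset.sum_sub_distrib]
    have h2 : (∑ i ∈ s, f i).re = ∑ i ∈ s, d i := by
      rw [hsum, Complex.re_sum]
      simp
    rw [Complex.re_sum] at h2
    rw [h2, sub_self]
  have h3 := (Finset.sum_eq_zero_iff_of_nonneg (fun i hi => sub_nonneg.mpr (hre i hi))).mp h1
  intro i hi
  have hrei : (f i).re = d i := by linarith [h3 i hi]
  have him : (f i).im = 0 := by
    have h4 := hle i hi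
    have h5 : ‖f i‖ ^ 2 = (f i).re ^ 2 + (f i).im ^ 2 := by
      rw [Complex.sq_norm, Complex.normSq_apply]
      ring
    have h6 : ‖f i‖ ^ 2 ≤ d i ^ 2 := pow_le_pow_left₀ (norm_nonneg _) h4 2
    rw [h5, hrei] at h6
    have h7 : (f i).im ^ 2 ≤ 0 := by linarith
    have h8 : (f i).im ^ 2 = 0 := le_antisymm h7 (sq_nonneg _)
    exact pow_eq_zero_iff (two_ne_zero) |>.mp h8
  apply Complex.ext
  · rw [hrei, Complex.ofReal_re]
  · rw [him, Complex.ofReal_im]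

section abstract

variable {G : Type u} [Group G] [Fintype G]
variable {p : ℕ} {C N P : Subgroup G} {hPC : P ≤ C} {π : ↥C →* ↥P}

theorem pslcker_norm_le (ξ : Cfsg.IrrCharacter G) (g : G) :
    ‖(ξ : G → ℂ) g‖ ≤ (leoDeg ξ : ℝ) := by
  have h1 := irr_norm_le ξ g
  rw [leoDeg_spec, Complex.norm_natCast] at h1
  exact h1

/-- a central element at which `ξ` takes the value `ξ 1` is in the kernel -/
theorem pslcker_shift (ξ : Cfsg.IrrCharacter G) (ζ : G) (hζ : ζ ∈ Subgroup.center G)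
    (hval : (ξ : G → ℂ) ζ = (ξ : G → ℂ) 1) (g : G) : (ξ : G → ℂ) (g * ζ) = (ξ : G → ℂ) g := by
  rw [pslfour_shift' ξ ζ hζ g, hval, div_self (irr_one_ne_zero ξ), one_mul]

/-- CKER : the centre is in the kernel of the members of `X ∪ Y` -/
theorem cker_main (h : LeoSetup p C N P hPC π) {f : ℕ}
    {X Y : Finset (Cfsg.IrrCharacter G)} {a : Cfsg.IrrCharacter G → ℤ} {ε : ℤ}
    (hB0 : PB0 p f P X Y a ε)
    (hZV : ∀ ζ ∈ Subgroup.center G, ζ ∈ kerG π)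
    (hregZ : ∀ ζ ∈ Subgroup.center G, ¬ p ∣ orderOf ζ)
    (hminus : ∀ ξ ∈ X, a ξ = -1 →
      ∑ y : ↥(kerG π), (ξ : G → ℂ) (y : G) = (leoDeg ξ : ℂ) * (Nat.card ↥(kerG π) : ℂ))
    (χ : Cfsg.IrrCharacter G) (S : Finset (Cfsg.IrrCharacter G)) (hS : Xp X a ⊆ S)
    (hW : ∀ g : G, (χ : G → ℂ) g * conj ((χ : G → ℂ) g) = ∑ ξ ∈ S, (ξ : G → ℂ) g) :
    ∀ ξ ∈ X ∪ Y, ∀ ζ ∈ Subgroup.center G, ∀ g : G, (ξ : G → ℂ) (g * ζ) = (ξ : G → ℂ) g := by
  -- members of `X` with sign `-1`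
  have hm : ∀ ξ ∈ X, a ξ = -1 → ∀ ζ ∈ Subgroup.center G, (ξ : G → ℂ) ζ = (ξ : G → ℂ) 1 := by
    intro ξ hξ ha ζ hζ
    have hall := pslcker_all_eq (Finset.univ : Finset ↥(kerG π))
      (fun y => (ξ : G → ℂ) (y : G)) (fun _ => ((leoDeg ξ : ℕ) : ℝ))
      (fun y _ => pslcker_norm_le ξ (y : G)) (by
        rw [hminus ξ hξ ha, Finset.sum_const, Finset.card_univ, Nat.card_eq_fintype_card,
          nsmul_eq_mul]
        push_cast
        ring)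
    have h9 : (ξ : G → ℂ) ζ = (((leoDeg ξ : ℕ) : ℝ) : ℂ) :=
      hall ⟨ζ, hZV ζ hζ⟩ (Finset.mem_univ _)
    rw [h9, leoDeg_spec]
    push_cast
    rfl
  -- members of `S`
  have hs : ∀ ξ ∈ S, ∀ ζ ∈ Subgroup.center G, (ξ : G → ℂ) ζ = (ξ : G → ℂ) 1 := by
    intro ξ hξ ζ hζ
    have h1 : ∑ ξ ∈ S, (ξ : G → ℂ) ζ = ∑ ξ ∈ S, (((leoDeg ξ : ℕ) : ℝ) : ℂ) := by
      rw [← hW ζ]
      have h2 : ∑ ξ ∈ S, (((leoDeg ξ : ℕ) : ℝ) : ℂ) = ∑ ξ ∈ S, (ξ : G → ℂ) 1 := by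
        apply Finset.sum_congr rfl
        intro ξ _
        rw [leoDeg_spec]
        push_cast
        rfl
      rw [h2, ← hW 1]
      have h3 := pslfour_shift' χ ζ hζ 1
      rw [one_mul] at h3
      rw [h3, map_mul]
      have h4 := pslfour_om_conj χ ζ hζ
      have h5 : conj ((χ : G → ℂ) 1) = (χ : G → ℂ) 1 := by
        rw [leoDeg_spec]
        exact Complex.conj_natCast _
      rw [h5]
      calc (χ : G → ℂ) ζ / (χ : G → ℂ) 1 * (χ : G → ℂ) 1 *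
            (conj ((χ : G → ℂ) ζ / (χ : G → ℂ) 1) * (χ : G → ℂ) 1)
          = ((χ : G → ℂ) ζ / (χ : G → ℂ) 1 * conj ((χ : G → ℂ) ζ / (χ : G → ℂ) 1)) *
            ((χ : G → ℂ) 1 * (χ : G → ℂ) 1) := by ring
        _ = (χ : G → ℂ) 1 * (χ : G → ℂ) 1 := by rw [h4, one_mul]
    have hall := pslcker_all_eq S (fun ξ => (ξ : G → ℂ) ζ) (fun ξ => ((leoDeg ξ : ℕ) : ℝ))
      (fun ξ _ => pslcker_norm_le ξ ζ) h1
    have h9 : (ξ : G → ℂ) ζ = (((leoDeg ξ : ℕ) : ℝ) : ℂ) := hall ξ hξ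
    rw [h9, leoDeg_spec]
    push_cast
    rfl
  -- members of `X`
  have hx : ∀ ξ ∈ X, ∀ ζ ∈ Subgroup.center G, (ξ : G → ℂ) ζ = (ξ : G → ℂ) 1 := by
    intro ξ hξ ζ hζ
    rcases hB0.a_pm ξ hξ with ha | ha
    · apply hs ξ (hS ?_) ζ hζ
      unfold Xp
      rw [Finset.mem_filter]
      exact ⟨hξ, ha⟩
    · exact hm ξ hξ ha ζ hζ
  -- members of `Y`
  have hy : ∀ η ∈ Y, ∀ ζ ∈ Subgroup.center G, (η : G → ℂ) ζ = (η : G → ℂ) 1 := by
    intro η hη ζ hζ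
    have h1 := hB0.rel η hη ζ (hregZ ζ hζ)
    have h2 := hB0.rel η hη 1 (hregZ 1 (Subgroup.one_mem _))
    have h3 : ∑ ξ ∈ X, (a ξ : ℂ) * (ξ : G → ℂ) ζ = ∑ ξ ∈ X, (a ξ : ℂ) * (ξ : G → ℂ) 1 := by
      apply Finset.sum_congr rfl
      intro ξ hξ
      rw [hx ξ hξ ζ hζ]
    rw [h3, ← h2] at h1
    have hε : (ε : ℂ) ≠ 0 := by
      rcases hB0.eps_pm with he | he <;> rw [he] <;> norm_num
    exact mul_left_cancel₀ hε h1
  intro ξ hξ ζ hζ g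
  rcases Finset.mem_union.mp hξ with hX | hY
  · exact pslcker_shift ξ ζ hζ (hx ξ hX ζ hζ) g
  · exact pslcker_shift ξ ζ hζ (hy ξ hY ζ hζ) g

end abstract

end Cfsg.Agent.Lib.helper15.PSL
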