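import Mathlib
import Cfsg.Agent.Lib.helper15.PSL.Defs
import Cfsg.Agent.Lib.helper23.PSLZCHI
import Cfsg.Agent.Lib.Helper25.CharBound

/-!
# Project PSL (S4504) : piece VZ (`le_center_of_sum`)
-/

set_option autoImplicit false
set_option linter.unusedVariables false
set_option linter.unusedSectionVars false
open scoped ComplexConjugate
open Classical

namespace Cfsg.Agent.Lib.helper15.PSL

open Cfsg.Agent.Lib.helper7 Cfsg.Agent.Lib.helper7.BR Cfsg.Agent.Lib.helper2 Cfsg.Agent.Lib.Helper25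
  Cfsg.Agent.Lib.Helper29 Cfsg.Agent.Lib.helper15.BH

universe u

section abstract

variable {G : Type u} [Group G] [Fintype G]
variable {p : ℕ} {C N P : Subgroup G} {hPC : P ≤ C} {π : ↥C →* ↥P}

/-- VZ : a subgroup on which `|χ|²` has average `χ(1)²` is central (`χ` faithful irreducible) -/
theorem le_center_of_sum (χ : Cfsg.IrrCharacter G)
    (hfaith : ∀ g : G, (χ : G → ℂ) g = (χ : G → ℂ) 1 → g = 1) (K : Subgroup G) (d : ℕ)
    (hd : (χ : G → ℂ) 1 = (d : ℂ))
    (hsum : ∑ y : ↥K, Complex.normSq ((χ : G → ℂ) (y : G)) = (d : ℝ) ^ 2 * (Nat.card ↥K : ℝ)) :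
    K ≤ Subgroup.center G := by
  have hle : ∀ y ∈ (Finset.univ : Finset ↥K),
      Complex.normSq ((χ : G → ℂ) (y : G)) ≤ (d : ℝ) ^ 2 := by
    intro y _
    have h1 := irr_norm_le χ (y : G)
    rw [hd, Complex.norm_natCast] at h1
    rw [Complex.normSq_eq_norm_sq]
    exact pow_le_pow_left₀ (norm_nonneg _) h1 2
  have hsum' : ∑ y : ↥K, Complex.normSq ((χ : G → ℂ) (y : G)) = ∑ _y : ↥K, (d : ℝ) ^ 2 := by
    rw [hsum, Finset.sum_const, Finset.card_univ, Nat.card_eq_fintype_card, nsmul_eq_mul, mul_comm]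
  have heq := (Finset.sum_eq_sum_iff_of_le hle).mp hsum'
  intro y hy
  apply center_of_norm_eq χ hfaith y
  have h2 := heq ⟨y, hy⟩ (Finset.mem_univ _)
  rw [Complex.mul_conj, hd]
  have : (Complex.normSq ((χ : G → ℂ) y) : ℂ) = (((d : ℝ) ^ 2 : ℝ) : ℂ) := by
    exact_mod_cast congrArg (fun t : ℝ => (t : ℂ)) h2
  rw [this]
  push_cast
  ring

end abstract

end Cfsg.Agent.Lib.helper15.PSL
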