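import Mathlib

set_option autoImplicit false

namespace Cfsg.Agent.Lib.Helper21.CycNT


/-- p | k^(p^m) - 1 → p | k - 1 -/
theorem fermat_dvd (p : ℕ) [hp : Fact p.Prime] (m : ℕ) (k : ℤ)
    (h : (p : ℤ) ∣ k ^ (p ^ m) - 1) : (p : ℤ) ∣ k - 1 := by
  have h3 : ((k ^ (p ^ m) - 1 : ℤ) : ZMod p) = 0 := (ZMod.intCast_zmod_eq_zero_iff_dvd _ _).mpr h
  have h4 : ((k - 1 : ℤ) : ZMod p) = 0 := by
    push_cast at h3 ⊢
    rwa [ZMod.pow_card_pow] at h3
  exact (ZMod.intCast_zmod_eq_zero_iff_dvd _ _).mp h4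

theorem lte_odd (p : ℕ) [hp : Fact p.Prime] (hp2 : p ≠ 2) (n : ℕ) (hn : 1 ≤ n) (k : ℤ)
    (h : (p : ℤ) ^ n ∣ k ^ p - 1) : (p : ℤ) ^ (n - 1) ∣ k - 1 := by
  have hpp : p.Prime := hp.out
  have hodd : Odd p := hpp.odd_of_ne_two hp2
  have h1 : (p : ℤ) ∣ k - 1 := by
    have h2 : (p : ℤ) ∣ k ^ p - 1 := dvd_trans (dvd_pow_self _ (by omega)) h
    have := fermat_dvd p 1 k (by simpa using h2)
    exact this
  have hk : ¬ (p : ℤ) ∣ k := by
    intro hk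
    have : (p : ℤ) ∣ 1 := by
      have := dvd_sub hk h1
      simpa using this
    have := Int.eq_one_of_dvd_one (by positivity) this
    have := hpp.one_lt
    omega
  have key := Int.emultiplicity_pow_sub_pow hpp hodd (x := k) (y := 1) (by simpa using h1) hk p
  rw [one_pow] at key
  have h5 : (n : ℕ∞) ≤ emultiplicity (p : ℤ) (k ^ p - 1) := le_emultiplicity_of_pow_dvd h
  rw [key] at h5
  have h6 : emultiplicity p p = 1 := Nat.Prime.emultiplicity_self hpp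
  rw [h6] at h5
  apply pow_dvd_of_le_emultiplicity
  have hn' : ((n - 1 : ℕ) : ℕ∞) + 1 = n := by
    have : n - 1 + 1 = n := by omega
    exact_mod_cast this
  rw [← hn'] at h5
  exact (ENat.add_le_add_iff_right (by simp)).mp h5

/-- N3 -/
theorem not_four_dvd_sq_add_one (m : ℤ) : ¬ (4 : ℤ) ∣ m ^ 2 + 1 := by
  intro h
  rcases Int.even_or_odd' m with ⟨j, hj | hj⟩
  · rw [hj] at h
    have : (2 * j) ^ 2 + 1 = 4 * (j * j) + 1 := by ring
    rw [this] at h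
    omega
  · rw [hj] at h
    have : (2 * j + 1) ^ 2 + 1 = 4 * (j * j + j) + 2 := by ring
    rw [this] at h
    omega

/-- N2 -/
theorem two_pow_dvd_sq_sub_one (n : ℕ) (hn : 2 ≤ n) (k : ℤ) (h : (2 : ℤ) ^ n ∣ k ^ 2 - 1) :
    (2 : ℤ) ^ (n - 1) ∣ k - 1 ∨ (2 : ℤ) ^ (n - 1) ∣ k + 1 := by
  have hodd : ¬ (2 : ℤ) ∣ k := by
    intro hk
    have h2 : (2 : ℤ) ∣ k ^ 2 - 1 := dvd_trans (dvd_pow_self _ (by omega)) h
    have h3 : (2 : ℤ) ∣ k ^ 2 := dvd_pow hk (by norm_num)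
    have := dvd_sub h3 h2
    simp at this
  obtain ⟨j, hj⟩ : ∃ j, k = 2 * j + 1 := by
    rcases Int.even_or_odd' k with ⟨j, hj | hj⟩
    · exact absurd ⟨j, hj⟩ hodd
    · exact ⟨j, hj⟩
  have h2 : Prime (2 : ℤ) := Int.prime_two
  have e : k ^ 2 - 1 = 2 ^ 2 * (j * (j + 1)) := by rw [hj]; ring
  have hn2 : n = (n - 2) + 2 := by omega
  rw [e, hn2, pow_add] at h
  have h' : (2 : ℤ) ^ (n - 2) ∣ j * (j + 1) := by
    rw [mul_comm] at h
    exact (mul_dvd_mul_iff_left (by norm_num)).mp h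
  have hn1 : n - 1 = (n - 2) + 1 := by omega
  by_cases hj2 : (2 : ℤ) ∣ j
  · left
    have : ¬ (2 : ℤ) ∣ j + 1 := by omega
    have h3 := h2.pow_dvd_of_dvd_mul_right (n - 2) this h'
    rw [hn1, pow_succ, hj]
    have : 2 * j + 1 - 1 = j * 2 := by ring
    rw [this]
    exact mul_dvd_mul_right h3 2
  · right
    have h3 := h2.pow_dvd_of_dvd_mul_left (n - 2) hj2 h'
    rw [hn1, pow_succ, hj]
    have : 2 * j + 1 + 1 = (j + 1) * 2 := by ring
    rw [this]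
    exact mul_dvd_mul_right h3 2

end Cfsg.Agent.Lib.Helper21.CycNT
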