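import Mathlib
import Cfsg.Agent.Lib.Helper21.CycNT

set_option autoImplicit false

namespace Cfsg.Agent.Lib.Helper21.CycAct

open Cfsg.Agent.Lib.Helper21.CycNT

variable {G : Type*} [Group G]

/-- `g` acts on `u` by conjugation as the exponent `k`. -/
def Acts (u g : G) (k : ℤ) : Prop := g * u * g⁻¹ = u ^ k

theorem acts_zpow {u g : G} {k : ℤ} (h : Acts u g k) (i : ℤ) :
    g * u ^ i * g⁻¹ = u ^ (k * i) := by
  rw [zpow_mul, ← h, conj_zpow]

theorem acts_mul {u g h : G} {k l : ℤ} (hg : Acts u g k) (hh : Acts u h l) :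
    Acts u (g * h) (k * l) := by
  unfold Acts
  have : g * h * u * (g * h)⁻¹ = g * (h * u * h⁻¹) * g⁻¹ := by group
  rw [this, hh, acts_zpow hg]

theorem acts_one (u : G) : Acts u 1 1 := by simp [Acts]

theorem acts_pow {u g : G} {k : ℤ} (hg : Acts u g k) (j : ℕ) : Acts u (g ^ j) (k ^ j) := by
  induction j with
  | zero => simpa using acts_one u
  | succ j ih => rw [pow_succ, pow_succ]; exact acts_mul ih hg

theorem acts_of_commute {u g : G} (h : g * u = u * g) : Acts u g 1 := by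
  unfold Acts
  rw [h, zpow_one]; group

theorem acts_of_mem {u g : G} (h : g ∈ Subgroup.zpowers u) : Acts u g 1 := by
  obtain ⟨i, rfl⟩ := Subgroup.mem_zpowers_iff.mp h
  apply acts_of_commute
  exact ((Commute.refl u).zpow_left i).eq

theorem zpow_eq_iff {u : G} {N : ℕ} (hord : orderOf u = N) (a b : ℤ) :
    u ^ a = u ^ b ↔ (N : ℤ) ∣ a - b := by
  rw [zpow_eq_zpow_iff_modEq, hord, Int.modEq_iff_dvd]
  constructor
  · intro h; have := dvd_neg.mpr h; simpa using this
  · intro h; have := dvd_neg.mpr h; simpa using this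

theorem zpow_eq_one_iff' {u : G} {N : ℕ} (hord : orderOf u = N) (a : ℤ) :
    u ^ a = 1 ↔ (N : ℤ) ∣ a := by
  have := zpow_eq_iff hord a 0
  simpa using this

theorem acts_commute_iff {u g : G} {k : ℤ} {N : ℕ} (hord : orderOf u = N) (hg : Acts u g k) :
    g * u = u * g ↔ (N : ℤ) ∣ k - 1 := by
  rw [← zpow_eq_iff hord k 1, zpow_one, ← hg]
  constructor
  · intro h; rw [h]; group
  · intro h
    calc g * u = g * u * g⁻¹ * g := by group
      _ = u * g := by rw [h]

theorem acts_mem_iff {u g : G} {k : ℤ} {N : ℕ} (hord : orderOf u = N)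
    (hcent : ∀ g : G, g * u = u * g → g ∈ Subgroup.zpowers u) (hg : Acts u g k) :
    g ∈ Subgroup.zpowers u ↔ (N : ℤ) ∣ k - 1 := by
  rw [← acts_commute_iff hord hg]
  constructor
  · intro h
    obtain ⟨i, rfl⟩ := Subgroup.mem_zpowers_iff.mp h
    exact ((Commute.refl u).zpow_left i).eq
  · exact hcent g

/-- commuting with `u ^ i` in terms of the acting exponent -/
theorem acts_commute_zpow_iff {u g : G} {k : ℤ} {N : ℕ} (hord : orderOf u = N) (hg : Acts u g k)
    (i : ℤ) : g * u ^ i = u ^ i * g ↔ (N : ℤ) ∣ (k - 1) * i := by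
  have e : (k - 1) * i = k * i - i := by ring
  rw [e, ← zpow_eq_iff hord (k * i) i, ← acts_zpow hg]
  constructor
  · intro h; rw [h]; group
  · intro h
    calc g * u ^ i = g * u ^ i * g⁻¹ * g := by group
      _ = u ^ i * g := by rw [h]

theorem pow_dvd_mul_iff (p : ℕ) (hp : 0 < p) (n : ℕ) (hn : 1 ≤ n) (a : ℤ) :
    ((p ^ n : ℕ) : ℤ) ∣ a * p ↔ (p : ℤ) ^ (n - 1) ∣ a := by
  have e : ((p ^ n : ℕ) : ℤ) = (p : ℤ) ^ (n - 1) * p := by
    push_cast
    rw [← pow_succ]; congr 1; omega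
  rw [e]
  exact mul_dvd_mul_iff_right (by positivity)

end Cfsg.Agent.Lib.Helper21.CycAct
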