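import Mathlib
import Cfsg.Agent.Lib.Helper21.CycNT
import Cfsg.Agent.Lib.Helper21.CycAct
import Cfsg.Agent.Lib.Helper21.OmegaCent

set_option autoImplicit false

namespace Cfsg.Agent.Lib.Helper21.CycAct

open Cfsg.Agent.Lib.Helper21.CycNT

variable {G : Type*} [Group G]

structure Setup (p n : ℕ) (u : G) : Prop where
  hord : orderOf u = p ^ n
  hact : ∀ g : G, ∃ k : ℤ, Acts u g k
  hcent : ∀ g : G, g * u = u * g → g ∈ Subgroup.zpowers u
  hpg : IsPGroup p G

variable {p n : ℕ} [hp : Fact p.Prime] {u : G}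

theorem Setup.dvd_sub_one (S : Setup p n u) (hn : 1 ≤ n) {g : G} {k : ℤ} (hg : Acts u g k) :
    (p : ℤ) ∣ k - 1 := by
  obtain ⟨m, hm⟩ := S.hpg g
  have h1 := acts_pow hg (p ^ m)
  rw [hm] at h1
  have h2 : ((p ^ n : ℕ) : ℤ) ∣ k ^ (p ^ m) - 1 := (acts_commute_iff S.hord h1).mp (by simp)
  apply fermat_dvd p m k
  refine dvd_trans ?_ h2
  push_cast
  exact dvd_pow_self _ (by omega)

theorem Setup.mem_iff (S : Setup p n u) {g : G} {k : ℤ} (hg : Acts u g k) :
    g ∈ Subgroup.zpowers u ↔ (p : ℤ) ^ n ∣ k - 1 := by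
  have := acts_mem_iff S.hord S.hcent hg
  rw [this]; push_cast; rfl

theorem Setup.commute_pow_iff (S : Setup p n u) (hn : 1 ≤ n) {g : G} {k : ℤ} (hg : Acts u g k) :
    g * u ^ p = u ^ p * g ↔ (p : ℤ) ^ (n - 1) ∣ k - 1 := by
  rw [← zpow_natCast, acts_commute_zpow_iff S.hord hg, pow_dvd_mul_iff p hp.out.pos n hn]

theorem Setup.normal (S : Setup p n u) : (Subgroup.zpowers u).Normal := by
  constructor
  intro y hy g
  obtain ⟨i, rfl⟩ := Subgroup.mem_zpowers_iff.mp hy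
  obtain ⟨k, hk⟩ := S.hact g
  rw [acts_zpow hk]
  exact Subgroup.zpow_mem_zpowers _ _

theorem Setup.two_le (S : Setup p n u) (hna : ∃ g, g ∉ Subgroup.zpowers u) : 2 ≤ n := by
  obtain ⟨g, hg⟩ := hna
  obtain ⟨k, hk⟩ := S.hact g
  by_contra hlt
  apply hg
  rw [S.mem_iff hk]
  have hlt' : n < 2 := by omega
  interval_cases n
  · simp
  · simpa using S.dvd_sub_one le_rfl hk

theorem Setup.exists_pow_mem (S : Setup p n u) (hna : ∃ g, g ∉ Subgroup.zpowers u) :
    ∃ t, t ∉ Subgroup.zpowers u ∧ t ^ p ∈ Subgroup.zpowers u := by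
  obtain ⟨g, hg⟩ := hna
  obtain ⟨m, hm⟩ := S.hpg g
  have key : ∀ j : ℕ, ∀ g : G, g ∉ Subgroup.zpowers u → g ^ (p ^ j) ∈ Subgroup.zpowers u →
      ∃ t, t ∉ Subgroup.zpowers u ∧ t ^ p ∈ Subgroup.zpowers u := by
    intro j
    induction j with
    | zero => intro g hg h; simp at h; exact absurd h hg
    | succ j ih =>
      intro g hg h
      by_cases hgp : g ^ p ∈ Subgroup.zpowers u
      · exact ⟨g, hg, hgp⟩
      · apply ih (g ^ p) hgp
        rw [← pow_mul, ← pow_succ']; exact h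
  exact key m g hg (by rw [hm]; exact one_mem _)

theorem Setup.exists_M_not_U (S : Setup p n u) (hp2 : p ≠ 2) (hn : 1 ≤ n)
    (hna : ∃ g, g ∉ Subgroup.zpowers u) :
    ∃ t, t ∉ Subgroup.zpowers u ∧ t * u ^ p = u ^ p * t := by
  obtain ⟨t, ht, htp⟩ := S.exists_pow_mem hna
  obtain ⟨k, hk⟩ := S.hact t
  refine ⟨t, ht, ?_⟩
  rw [S.commute_pow_iff hn hk]
  apply lte_odd p hp2 n hn k
  exact (S.mem_iff (acts_pow hk p)).mp htp

theorem Setup.pow_formula (S : Setup p n u) (hn : 2 ≤ n) (hc : p ≠ 2 ∨ 3 ≤ n) {g : G} {k : ℤ}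
    (hg : Acts u g k) (hM : (p : ℤ) ^ (n - 1) ∣ k - 1) :
    ∃ s : ℤ, (p : ℤ) ∣ s - 1 ∧ ∀ i : ℤ, (u ^ i * g) ^ p = u ^ (i * p * s) * g ^ p := by
  have h1 : ∀ i : ℤ, g * u ^ i = u ^ (k * i) * g := by
    intro i
    have := acts_zpow hg i
    calc g * u ^ i = g * u ^ i * g⁻¹ * g := by group
      _ = u ^ (k * i) * g := by rw [this]
  by_cases hp2 : p = 2
  · subst hp2
    have hn3 : 3 ≤ n := by
      rcases hc with h | h
      · exact absurd rfl h
      · exact h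
    obtain ⟨a, ha⟩ := hM
    refine ⟨1 + 2 ^ (n - 2) * a, ?_, ?_⟩
    · have : (1 + 2 ^ (n - 2) * a : ℤ) - 1 = 2 * (2 ^ (n - 3) * a) := by
        have : n - 2 = (n - 3) + 1 := by omega
        rw [this, pow_succ]; ring
      rw [this]; exact dvd_mul_right _ _
    · intro i
      calc (u ^ i * g) ^ 2 = u ^ i * (g * u ^ i) * g := by rw [pow_two]; group
        _ = u ^ i * (u ^ (k * i) * g) * g := by rw [h1]
        _ = u ^ (i + k * i) * g ^ 2 := by rw [zpow_add, pow_two]; group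
        _ = u ^ (i * (2 : ℕ) * (1 + 2 ^ (n - 2) * a)) * g ^ 2 := by
          congr 2
          have hk : k = 1 + 2 ^ (n - 1) * a := by push_cast at ha; linarith
          have : (2 : ℤ) ^ (n - 1) = 2 * 2 ^ (n - 2) := by
            rw [← pow_succ']; congr 1; omega
          rw [hk, this]; push_cast; ring
  · refine ⟨1, by simp, ?_⟩
    intro i
    have hpp : p.Prime := hp.out
    obtain ⟨a, ha⟩ := hM
    have hNdvd : ∀ j : ℤ, ((p ^ n : ℕ) : ℤ) ∣ (k - 1) * j * p := by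
      intro j
      rw [pow_dvd_mul_iff p hpp.pos n (by omega)]
      exact Dvd.dvd.mul_right ⟨a, ha⟩ j
    have hcg : Commute (u ^ ((k - 1) * i)) g := by
      have : g * u ^ ((k - 1) * i) = u ^ ((k - 1) * i) * g := by
        rw [acts_commute_zpow_iff S.hord hg]
        have h2 : ((p ^ n : ℕ) : ℤ) ∣ (k - 1) * (i * ((p : ℤ) ^ (n - 2) * a)) * p := hNdvd _
        have e : (k - 1) * ((k - 1) * i) = (k - 1) * (i * ((p : ℤ) ^ (n - 2) * a)) * p := by
          have : (p : ℤ) ^ (n - 1) = p ^ (n - 2) * p := by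
            rw [← pow_succ]; congr 1; omega
          rw [ha, this]; ring
        rw [e]; exact h2
      exact this.symm
    have hcu : Commute (u ^ ((k - 1) * i)) (u ^ i) := by
      exact ((Commute.refl u).zpow_left _).zpow_right _
    have h : g * u ^ i = u ^ i * g * u ^ ((k - 1) * i) := by
      rw [h1 i, mul_assoc, ← hcg.eq, ← mul_assoc, ← zpow_add]
      congr 2; ring
    have key := Cfsg.Agent.Lib.Helper21.OmegaCent.mul_pow_class2 hcu hcg h p
    rw [key]
    have hcp : (u ^ ((k - 1) * i)) ^ p = 1 := by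
      rw [← zpow_natCast, ← zpow_mul, zpow_eq_one_iff' S.hord]
      exact hNdvd i
    have h2 : 2 < p := lt_of_le_of_ne hpp.two_le (Ne.symm hp2)
    obtain ⟨m, hm⟩ := hpp.dvd_choose_self (by norm_num : (2 : ℕ) ≠ 0) h2
    rw [hm, pow_mul, hcp, one_pow, mul_one, ← zpow_natCast (u ^ i) p, ← zpow_mul]
    congr 2; ring

end Cfsg.Agent.Lib.Helper21.CycAct
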