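import Mathlib
import Cfsg.Agent.Lib.Helper21.CycSetup
import Cfsg.Agent.Lib.Helper20.Breadth

set_option autoImplicit false

namespace Cfsg.Agent.Lib.Helper21.CycAct

open Cfsg.Agent.Lib.Helper21.CycNT
open scoped Pointwise

variable {G : Type*} [Group G]
variable {p n : ℕ} [hp : Fact p.Prime] {u : G}

theorem isCoprime_of_dvd_sub_one {s : ℤ} (h : (p : ℤ) ∣ s - 1) (m : ℕ) :
    IsCoprime s ((p : ℤ) ^ m) := by
  apply IsCoprime.pow_right
  obtain ⟨c, hc⟩ := h
  exact ⟨1, -c, by linarith⟩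

theorem Setup.exists_order_p (S : Setup p n u) (hn : 2 ≤ n) (hc : p ≠ 2 ∨ 3 ≤ n) {t : G}
    (ht : t ∉ Subgroup.zpowers u) (htM : t * u ^ p = u ^ p * t)
    (htp : t ^ p ∈ Subgroup.zpowers u) :
    ∃ t', t' ∉ Subgroup.zpowers u ∧ t' * u ^ p = u ^ p * t' ∧ t' ^ p = 1 := by
  have hpp : p.Prime := hp.out
  have hpZ : Prime (p : ℤ) := Nat.prime_iff_prime_int.mp hpp
  obtain ⟨k, hk⟩ := S.hact t
  have hM := (S.commute_pow_iff (by omega) hk).mp htM
  obtain ⟨s, hs1, hs⟩ := S.pow_formula hn hc hk hM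
  obtain ⟨r, hr⟩ := Subgroup.mem_zpowers_iff.mp htp
  have hpr : (p : ℤ) ∣ r := by
    by_contra hnr
    apply ht
    rw [S.mem_iff hk]
    have h1 : ((p ^ n : ℕ) : ℤ) ∣ (k - 1) * r := by
      rw [← acts_commute_zpow_iff S.hord hk, hr]
      exact ((Commute.refl t).pow_right p).eq
    push_cast at h1
    exact hpZ.pow_dvd_of_dvd_mul_right n hnr h1
  obtain ⟨r', hr'⟩ := hpr
  obtain ⟨x, y, hxy⟩ := isCoprime_of_dvd_sub_one hs1 (n - 1)
  refine ⟨u ^ (-r' * x) * t, ?_, ?_, ?_⟩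
  · intro h
    apply ht
    have h2 : (u ^ (-r' * x))⁻¹ * (u ^ (-r' * x) * t) ∈ Subgroup.zpowers u :=
      mul_mem (inv_mem (Subgroup.zpow_mem_zpowers _ _)) h
    simpa using h2
  · have h3 : Commute (u ^ (-r' * x)) (u ^ p) :=
      ((Commute.refl u).zpow_left _).pow_right _
    rw [mul_assoc, htM, ← mul_assoc, h3.eq, mul_assoc]
  · rw [hs, ← hr, ← zpow_add, zpow_eq_one_iff' S.hord]
    have e : -r' * x * (p : ℤ) * s + r = r' * y * ((p : ℤ) ^ (n - 1) * p) := by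
      have : x * s = 1 - y * (p : ℤ) ^ (n - 1) := by linarith
      rw [hr']
      calc -r' * x * (p : ℤ) * s + p * r' = -r' * p * (x * s) + p * r' := by ring
        _ = r' * y * ((p : ℤ) ^ (n - 1) * p) := by rw [this]; ring
    rw [e, ← pow_succ]
    have : n - 1 + 1 = n := by omega
    rw [this]; push_cast
    exact dvd_mul_left _ _

theorem Setup.omega_mem (S : Setup p n u) (hn : 2 ≤ n) (hc : p ≠ 2 ∨ 3 ≤ n) {t' : G}
    (ht'p : t' ^ p = 1) (ht'M : t' * u ^ p = u ^ p * t')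
    {x : G} (hx : x ∈ Subgroup.zpowers u ⊔ Subgroup.zpowers t') (hxp : x ^ p = 1) :
    x ∈ Subgroup.zpowers (u ^ (p ^ (n - 1))) ⊔ Subgroup.zpowers t' := by
  have hpp : p.Prime := hp.out
  have := S.normal
  rw [← SetLike.mem_coe, Subgroup.normal_mul, Set.mem_mul] at hx
  obtain ⟨y, hy, w, hw, rfl⟩ := hx
  obtain ⟨i, rfl⟩ := Subgroup.mem_zpowers_iff.mp hy
  obtain ⟨j, rfl⟩ := Subgroup.mem_zpowers_iff.mp hw
  obtain ⟨k, hk⟩ := S.hact (t' ^ j)
  have hwM : t' ^ j * u ^ p = u ^ p * t' ^ j := by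
    have : Commute t' (u ^ p) := ht'M
    exact (this.zpow_left j).eq
  have hM := (S.commute_pow_iff (by omega) hk).mp hwM
  obtain ⟨s, hs1, hs⟩ := S.pow_formula hn hc hk hM
  have hwp : (t' ^ j) ^ p = 1 := by
    rw [← zpow_natCast, ← zpow_mul, mul_comm, zpow_mul, zpow_natCast, ht'p, one_zpow]
  rw [hs, hwp, mul_one, zpow_eq_one_iff' S.hord] at hxp
  have h1 : (p : ℤ) ^ (n - 1) ∣ i * s := by
    have e : i * (p : ℤ) * s = (i * s) * p := by ring
    rw [e, pow_dvd_mul_iff p hpp.pos n (by omega)] at hxp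
    exact hxp
  have h2 : (p : ℤ) ^ (n - 1) ∣ i :=
    (isCoprime_of_dvd_sub_one hs1 (n - 1)).symm.dvd_of_dvd_mul_right h1
  obtain ⟨i', hi'⟩ := h2
  apply Subgroup.mul_mem_sup _ (Subgroup.zpow_mem_zpowers _ _)
  rw [hi', zpow_mul]
  have : u ^ ((p : ℤ) ^ (n - 1)) = u ^ (p ^ (n - 1)) := by
    rw [← zpow_natCast]; push_cast; rfl
  rw [this]
  exact Subgroup.zpow_mem_zpowers _ _

theorem relIndex_le_of_fiber {α : Type*} [Finite α] (U M : Subgroup G) (f : ↥M → α)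
    (hf : ∀ g h : ↥M, f g = f h → (g : G)⁻¹ * h ∈ U) : U.relIndex M ≤ Nat.card α := by
  rw [Subgroup.relIndex, Subgroup.index]
  apply Nat.card_le_card_of_injective (fun q : ↥M ⧸ U.subgroupOf M => f q.out)
  intro a b hab
  have h1 := hf _ _ hab
  rw [← QuotientGroup.out_eq' a, ← QuotientGroup.out_eq' b]
  exact QuotientGroup.eq.mpr (by rw [Subgroup.mem_subgroupOf]; simpa using h1)


theorem Setup.conj_mem_M (S : Setup p n u) (hn : 1 ≤ n) {x : G} (hx : x * u ^ p = u ^ p * x)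
    (g : G) : (g * x * g⁻¹) * u ^ p = u ^ p * (g * x * g⁻¹) := by
  obtain ⟨kx, hkx⟩ := S.hact x
  obtain ⟨kg, hkg⟩ := S.hact g
  obtain ⟨kg', hkg'⟩ := S.hact g⁻¹
  have h1 := acts_mul (acts_mul hkg hkx) hkg'
  have h2 := acts_mul hkg hkg'
  rw [mul_inv_cancel] at h2
  have h3 : (p : ℤ) ^ n ∣ kg * kg' - 1 := (S.mem_iff h2).mp (one_mem _)
  have h4 := (S.commute_pow_iff hn hkx).mp hx
  rw [S.commute_pow_iff hn h1]
  have e : kg * kx * kg' - 1 = kg * kg' * (kx - 1) + (kg * kg' - 1) := by ring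
  rw [e]
  apply dvd_add (Dvd.dvd.mul_left h4 _)
  exact dvd_trans (pow_dvd_pow _ (by omega)) h3

theorem Setup.caseA [Finite G] (S : Setup p n u) (hn : 2 ≤ n) (hc : p ≠ 2 ∨ 3 ≤ n)
    (M : Subgroup G) (hM : ∀ x, x ∈ M ↔ x * u ^ p = u ^ p * x) {t : G} (htM : t ∈ M)
    (ht : t ∉ Subgroup.zpowers u) :
    (Subgroup.zpowers u).relIndex M = p ∧ ∃ E : Subgroup G,
      (∀ x, x ∈ E ↔ x ∈ M ∧ x ^ p = 1) ∧ (∀ a ∈ E, ∀ b ∈ E, a * b = b * a) ∧
      Nat.card E = p ^ 2 ∧ E.Characteristic := by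
  have hpp : p.Prime := hp.out
  have hUM : Subgroup.zpowers u ≤ M := by
    intro x hx
    rw [hM]
    obtain ⟨i, rfl⟩ := Subgroup.mem_zpowers_iff.mp hx
    exact (((Commute.refl u).zpow_left i).pow_right p).eq
  have hzord : orderOf (u ^ (p ^ (n - 1))) = p := by
    rw [orderOf_pow_of_dvd (pow_ne_zero _ hpp.ne_zero)
      (by rw [S.hord]; exact pow_dvd_pow p (by omega)), S.hord, Nat.pow_div (by omega) hpp.pos]
    have : n - (n - 1) = 1 := by omega
    rw [this, pow_one]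
  have hle : (Subgroup.zpowers u).relIndex M ≤ p := by
    have hmem : ∀ g : ↥M, (g : G) * u * (g : G)⁻¹ * u⁻¹ ∈
        Subgroup.zpowers (u ^ (p ^ (n - 1))) := by
      intro g
      obtain ⟨k, hk⟩ := S.hact g
      obtain ⟨a, ha⟩ := (S.commute_pow_iff (by omega) hk).mp ((hM _).mp g.2)
      have e : (g : G) * u * (g : G)⁻¹ * u⁻¹ = (u ^ (p ^ (n - 1))) ^ a := by
        rw [show (g : G) * u * (g : G)⁻¹ = u ^ k from hk, ← zpow_natCast, ← zpow_mul,
          ← zpow_neg_one, ← zpow_add]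
        congr 1
      rw [e]
      exact Subgroup.zpow_mem_zpowers _ _
    have := relIndex_le_of_fiber (Subgroup.zpowers u) M
      (fun g => (⟨_, hmem g⟩ : ↥(Subgroup.zpowers (u ^ (p ^ (n - 1)))))) ?_
    · rwa [Nat.card_zpowers, hzord] at this
    · intro g h hgh
      have h1 : (g : G) * u * (g : G)⁻¹ * u⁻¹ = (h : G) * u * (h : G)⁻¹ * u⁻¹ :=
        congrArg Subtype.val hgh
      apply S.hcent
      have h2 : (g : G) * u * (g : G)⁻¹ = (h : G) * u * (h : G)⁻¹ := mul_right_cancel h1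
      calc (g : G)⁻¹ * h * u = (g : G)⁻¹ * ((h : G) * u * (h : G)⁻¹) * h := by group
        _ = (g : G)⁻¹ * ((g : G) * u * (g : G)⁻¹) * h := by rw [h2]
        _ = u * ((g : G)⁻¹ * h) := by group
  have hlt : Subgroup.zpowers u < M := lt_of_le_of_ne hUM (fun e => ht (e ▸ htM))
  have hcardM : Nat.card (Subgroup.zpowers u) * (Subgroup.zpowers u).relIndex M = Nat.card M := by
    have := Subgroup.relIndex_mul_relIndex ⊥ (Subgroup.zpowers u) M bot_le hUM
    rwa [Subgroup.relIndex_bot_left, Subgroup.relIndex_bot_left] at this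
  have hge := Cfsg.Agent.Lib.Helper20.card_mul_le_of_lt S.hpg hlt
  have hrel : (Subgroup.zpowers u).relIndex M = p := by
    have hUpos : 0 < Nat.card (Subgroup.zpowers u) := Nat.card_pos
    apply le_antisymm hle
    rw [← hcardM] at hge
    exact Nat.le_of_mul_le_mul_left hge hUpos
  refine ⟨hrel, ?_⟩
  have htp : t ^ p ∈ Subgroup.zpowers u := by
    have hUn := S.normal
    have : ((Subgroup.zpowers u).subgroupOf M).Normal := Subgroup.normal_subgroupOf
    have h1 := Subgroup.pow_index_mem ((Subgroup.zpowers u).subgroupOf M) (⟨t, htM⟩ : ↥M)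
    rw [show ((Subgroup.zpowers u).subgroupOf M).index = p from hrel,
      Subgroup.mem_subgroupOf] at h1
    simpa using h1
  obtain ⟨t', ht'U, ht'M, ht'p⟩ := S.exists_order_p hn hc ht ((hM t).mp htM) htp
  have hsup : Subgroup.zpowers u ⊔ Subgroup.zpowers t' = M := by
    have hle' : Subgroup.zpowers u ⊔ Subgroup.zpowers t' ≤ M :=
      sup_le hUM (by rw [Subgroup.zpowers_le]; exact (hM t').mpr ht'M)
    have hlt' : Subgroup.zpowers u < Subgroup.zpowers u ⊔ Subgroup.zpowers t' := by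
      apply lt_of_le_of_ne le_sup_left
      intro e
      apply ht'U
      rw [e]
      exact (le_sup_right : Subgroup.zpowers t' ≤ _) (Subgroup.mem_zpowers t')
    have h1 := Cfsg.Agent.Lib.Helper20.card_mul_le_of_lt S.hpg hlt'
    apply Subgroup.eq_of_le_of_card_ge hle'
    rw [← hcardM, hrel]; exact h1
  have hzU : u ^ (p ^ (n - 1)) ∈ Subgroup.zpowers u :=
    Subgroup.pow_mem _ (Subgroup.mem_zpowers u) _
  have hzM : u ^ (p ^ (n - 1)) ∈ M := hUM hzU
  have hzp : (u ^ (p ^ (n - 1))) ^ p = 1 := by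
    have := pow_orderOf_eq_one (u ^ (p ^ (n - 1)))
    rwa [hzord] at this
  have ht'z : ∀ b ∈ Subgroup.zpowers (u ^ (p ^ (n - 1))), t' * b = b * t' := by
    intro b hb
    obtain ⟨i, rfl⟩ := Subgroup.mem_zpowers_iff.mp hb
    have e : u ^ (p ^ (n - 1)) = (u ^ p) ^ (p ^ (n - 2)) := by
      rw [← pow_mul, ← pow_succ']; congr 2; omega
    rw [e]
    have : Commute t' (u ^ p) := ht'M
    exact ((this.pow_right _).zpow_right i).eq
  have ht'nz : t' ∉ Subgroup.zpowers (u ^ (p ^ (n - 1))) :=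
    fun h => ht'U ((Subgroup.zpowers_le.mpr hzU) h)
  obtain ⟨hEcard, hEcomm, hEexp⟩ := Cfsg.Agent.Lib.Helper21.OmegaCent.sup_zpowers_facts (p := p)
    (Subgroup.zpowers (u ^ (p ^ (n - 1)))) t' ht'p ht'nz ht'z
    (by
      intro a ha b hb
      obtain ⟨i, rfl⟩ := Subgroup.mem_zpowers_iff.mp ha
      obtain ⟨j, rfl⟩ := Subgroup.mem_zpowers_iff.mp hb
      exact (((Commute.refl _).zpow_left i).zpow_right j).eq)
    (by
      intro b hb
      obtain ⟨i, rfl⟩ := Subgroup.mem_zpowers_iff.mp hb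
      rw [← zpow_natCast, ← zpow_mul, mul_comm, zpow_mul, zpow_natCast, hzp, one_zpow])
  have hEM : Subgroup.zpowers (u ^ (p ^ (n - 1))) ⊔ Subgroup.zpowers t' ≤ M :=
    sup_le (Subgroup.zpowers_le.mpr hzM) (Subgroup.zpowers_le.mpr ((hM t').mpr ht'M))
  have hEiff : ∀ x, x ∈ Subgroup.zpowers (u ^ (p ^ (n - 1))) ⊔ Subgroup.zpowers t' ↔
      x ∈ M ∧ x ^ p = 1 := by
    intro x
    constructor
    · intro hx; exact ⟨hEM hx, hEexp x hx⟩
    · rintro ⟨hxM, hxp⟩
      exact S.omega_mem hn hc ht'p ht'M (hsup ▸ hxM) hxp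
  refine ⟨_, hEiff, hEcomm, ?_, ?_⟩
  · rw [hEcard, Nat.card_zpowers, hzord]; ring
  · have hUQ : ∀ A : Subgroup G, A.Normal → (∀ a ∈ A, a ^ p = 1) →
        A ≤ Subgroup.zpowers (u ^ (p ^ (n - 1))) ⊔ Subgroup.zpowers t' := by
      intro A hA hAe a ha
      rw [hEiff]
      refine ⟨?_, hAe a ha⟩
      obtain ⟨k, hk⟩ := S.hact a
      rw [hM, S.commute_pow_iff (by omega) hk]
      have hcA : u ^ (k - 1) ∈ A := by
        have : u ^ (k - 1) = a * (u * a⁻¹ * u⁻¹) := by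
          rw [zpow_sub, zpow_one, ← hk]; group
        rw [this]
        exact A.mul_mem ha (hA.conj_mem _ (A.inv_mem ha) u)
      have := hAe _ hcA
      rw [← zpow_natCast, ← zpow_mul, zpow_eq_one_iff' S.hord,
        pow_dvd_mul_iff p hpp.pos n (by omega)] at this
      exact this
    have hEn : (Subgroup.zpowers (u ^ (p ^ (n - 1))) ⊔ Subgroup.zpowers t').Normal := by
      constructor
      intro x hx g
      rw [hEiff] at hx ⊢
      refine ⟨?_, ?_⟩
      · rw [hM]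
        exact S.conj_mem_M (by omega) ((hM x).mp hx.1) g
      · rw [conj_pow, hx.2]; group
    rw [Subgroup.characteristic_iff_map_le]
    intro φ
    apply hUQ
    · exact hEn.map φ.toMonoidHom φ.surjective
    · rintro _ ⟨x, hx, rfl⟩
      show (φ x) ^ p = 1
      rw [← map_pow, hEexp x hx, map_one]

end Cfsg.Agent.Lib.Helper21.CycAct
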