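import Mathlib
import Cfsg.Agent.Lib.Helper1.Nilp
import Cfsg.Agent.Lib.Helper20.Breadth
import Cfsg.Agent.Lib.Helper21.CycCaseA

set_option autoImplicit false

namespace Cfsg.Agent.Lib.Helper21.Symp

open Cfsg.Agent.Lib.Helper21.CycAct

variable {G : Type*} [Group G]

/-- a central step above a normal subgroup of a `p`-group, inside a bigger normal subgroup -/
theorem exists_central_step [Finite G] {p : ℕ} [hp : Fact p.Prime] (hG : IsPGroup p G)
    (U N : Subgroup G) [U.Normal] [N.Normal] (hne : ¬ N ≤ U) :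
    ∃ x ∈ N, x ∉ U ∧ x ^ p ∈ U ∧ ∀ g : G, x * g * x⁻¹ * g⁻¹ ∈ U := by
  classical
  have hpp : p.Prime := hp.out
  have hQ : IsPGroup p (G ⧸ U) := hG.to_quotient U
  haveI : Group.IsNilpotent (G ⧸ U) := hQ.isNilpotent
  haveI hNmap : (N.map (QuotientGroup.mk' U)).Normal :=
    Subgroup.Normal.map inferInstance _ (QuotientGroup.mk'_surjective U)
  have hne' : N.map (QuotientGroup.mk' U) ≠ ⊥ := by
    intro h
    apply hne
    intro x hx
    have : (QuotientGroup.mk' U) x ∈ N.map (QuotientGroup.mk' U) := Subgroup.mem_map_of_mem _ hx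
    rw [h, Subgroup.mem_bot] at this
    exact (QuotientGroup.eq_one_iff x).mp this
  have h1 := Cfsg.Agent.Lib.Helper1.normal_inf_center_ne_bot (N.map (QuotientGroup.mk' U)) hne'
  obtain ⟨⟨q, hq⟩, hq1⟩ := (Subgroup.ne_bot_iff_exists_ne_one).mp h1
  have hq1' : q ≠ 1 := fun h => hq1 (Subtype.ext h)
  obtain ⟨k, hk⟩ := (IsPGroup.iff_orderOf.mp hQ) q
  have hk0 : k ≠ 0 := by
    intro h0
    rw [h0, pow_zero, orderOf_eq_one_iff] at hk
    exact hq1' hk
  obtain ⟨k', rfl⟩ := Nat.exists_eq_succ_of_ne_zero hk0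
  have hw : q ^ (p ^ k') ∈ N.map (QuotientGroup.mk' U) ⊓ Subgroup.center (G ⧸ U) :=
    Subgroup.pow_mem _ hq _
  have hword : orderOf (q ^ (p ^ k')) = p := by
    rw [orderOf_pow_of_dvd (pow_ne_zero _ hpp.ne_zero) (by rw [hk]; exact pow_dvd_pow p (by omega)),
      hk, Nat.pow_div (by omega) hpp.pos]
    have : k'.succ - k' = 1 := by omega
    rw [this, pow_one]
  obtain ⟨x, hxN, hxw⟩ := Subgroup.mem_map.mp hw.1
  have hcen := Subgroup.mem_center_iff.mp hw.2
  refine ⟨x, hxN, ?_, ?_, ?_⟩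
  · intro hxU
    have : (QuotientGroup.mk' U) x = 1 := (QuotientGroup.eq_one_iff x).mpr hxU
    rw [hxw] at this
    rw [this, orderOf_one] at hword
    exact hpp.one_lt.ne hword
  · rw [← QuotientGroup.eq_one_iff]
    have : ((x ^ p : G) : G ⧸ U) = ((QuotientGroup.mk' U) x) ^ p := map_pow (QuotientGroup.mk' U) x p
    rw [this, hxw]
    have h6 := pow_orderOf_eq_one (q ^ (p ^ k'))
    rwa [hword] at h6
  · intro g
    rw [← QuotientGroup.eq_one_iff]
    have : ((x * g * x⁻¹ * g⁻¹ : G) : G ⧸ U) =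
        (QuotientGroup.mk' U) x * (g : G ⧸ U) * ((QuotientGroup.mk' U) x)⁻¹ * (g : G ⧸ U)⁻¹ := rfl
    have h5 := hcen (g : G ⧸ U)
    rw [this, hxw, ← h5]
    group

/-- centralizer index bound in a class-2 situation with commutators in a group of order `p` -/
theorem card_centralizer_bound [Finite G] {p : ℕ} [hp : Fact p.Prime] (hG : IsPGroup p G)
    (W U : Subgroup G) (z : G) (hz : Nat.card (Subgroup.zpowers z) = p)
    (hUc : ∀ a ∈ U, ∀ w ∈ W, a * w = w * a)
    (hcomm : ∀ x ∈ W, ∀ y ∈ W, x * y * x⁻¹ * y⁻¹ ∈ Subgroup.zpowers z) :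
    ∀ H : Subgroup G, U ≤ H → H ≤ W → Nat.card W * Nat.card U ≤
      Nat.card H * Nat.card (W ⊓ Subgroup.centralizer (H : Set G) : Subgroup G) := by
  classical
  intro H
  induction' hn : Nat.card H using Nat.strong_induction_on with n ih generalizing H
  intro hUH hHW
  by_cases hHU : H = U
  · have : W ⊓ Subgroup.centralizer (H : Set G) = W := by
      apply inf_eq_left.mpr
      intro w hw
      rw [Subgroup.mem_centralizer_iff]
      intro a ha
      rw [hHU] at ha
      exact hUc a ha w hw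
    rw [this, ← hn, hHU]
    exact le_of_eq (mul_comm _ _)
  · have hfin : {K : Subgroup G | U ≤ K ∧ K < H}.Finite := Set.toFinite _
    have hnon : {K : Subgroup G | U ≤ K ∧ K < H}.Nonempty :=
      ⟨U, le_refl U, lt_of_le_of_ne hUH (Ne.symm hHU)⟩
    obtain ⟨H₁, hH₁max⟩ := hfin.exists_maximal hnon
    obtain ⟨⟨hUH₁, hH₁H⟩, hmax⟩ := hH₁max
    obtain ⟨h, hhH, hhH₁⟩ := SetLike.exists_of_lt hH₁H
    have hsup : H₁ ⊔ Subgroup.zpowers h = H := by
      by_contra hne
      have hle : H₁ ⊔ Subgroup.zpowers h ≤ H :=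
        sup_le hH₁H.le (by rw [Subgroup.zpowers_le]; exact hhH)
      have hlt : H₁ ⊔ Subgroup.zpowers h < H := lt_of_le_of_ne hle hne
      have := hmax (y := H₁ ⊔ Subgroup.zpowers h) ⟨le_trans hUH₁ le_sup_left, hlt⟩ le_sup_left
      exact hhH₁ (this ((le_sup_right : Subgroup.zpowers h ≤ _) (Subgroup.mem_zpowers h)))
    have hcard1 := Cfsg.Agent.Lib.Helper20.card_mul_le_of_lt hG hH₁H
    have hlt' : Nat.card H₁ < n := by
      rw [← hn]; exact Cfsg.Agent.Lib.Lead.card_lt_card_of_lt hH₁H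
    have ih1 := ih (Nat.card H₁) hlt' H₁ rfl hUH₁ (le_trans hH₁H.le hHW)
    have hDle : W ⊓ Subgroup.centralizer (H : Set G) ≤ W ⊓ Subgroup.centralizer (H₁ : Set G) :=
      inf_le_inf_left _ (Subgroup.centralizer_le hH₁H.le)
    have hrel : (W ⊓ Subgroup.centralizer (H : Set G)).relIndex
        (W ⊓ Subgroup.centralizer (H₁ : Set G)) ≤ p := by
      have hmem : ∀ d : ↥(W ⊓ Subgroup.centralizer (H₁ : Set G)),
          (d : G) * h * (d : G)⁻¹ * h⁻¹ ∈ Subgroup.zpowers z :=
        fun d => hcomm _ d.2.1 _ (hHW hhH)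
      have := relIndex_le_of_fiber (W ⊓ Subgroup.centralizer (H : Set G))
        (W ⊓ Subgroup.centralizer (H₁ : Set G))
        (fun d => (⟨_, hmem d⟩ : ↥(Subgroup.zpowers z))) ?_
      · rwa [hz] at this
      · intro d d' hdd
        have h1 : (d : G) * h * (d : G)⁻¹ * h⁻¹ = (d' : G) * h * (d' : G)⁻¹ * h⁻¹ :=
          congrArg Subtype.val hdd
        have h2 : (d : G) * h * (d : G)⁻¹ = (d' : G) * h * (d' : G)⁻¹ := mul_right_cancel h1
        have h3 : h * ((d : G)⁻¹ * d') = (d : G)⁻¹ * d' * h := by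
          calc h * ((d : G)⁻¹ * d') = (d : G)⁻¹ * ((d : G) * h * (d : G)⁻¹) * d' := by group
            _ = (d : G)⁻¹ * ((d' : G) * h * (d' : G)⁻¹) * d' := by rw [h2]
            _ = (d : G)⁻¹ * d' * h := by group
        refine Subgroup.mem_inf.mpr ⟨W.mul_mem (W.inv_mem d.2.1) d'.2.1, ?_⟩
        have hdc : (d : G)⁻¹ * d' ∈ Subgroup.centralizer (H₁ : Set G) :=
          mul_mem (inv_mem d.2.2) d'.2.2
        rw [← hsup]
        have : H₁ ⊔ Subgroup.zpowers h ≤ Subgroup.centralizer {(d : G)⁻¹ * (d' : G)} := by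
          apply sup_le
          · intro a ha
            rw [Subgroup.mem_centralizer_iff]
            intro b hb
            rw [Set.mem_singleton_iff] at hb
            rw [hb]
            exact ((Subgroup.mem_centralizer_iff.mp hdc) a ha).symm
          · rw [Subgroup.zpowers_le, Subgroup.mem_centralizer_iff]
            intro b hb
            rw [Set.mem_singleton_iff] at hb
            rw [hb]; exact h3.symm
        rw [Subgroup.mem_centralizer_iff]
        intro a ha
        have := Subgroup.mem_centralizer_iff.mp (this ha) _ (Set.mem_singleton _)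
        exact this.symm
    have hcardD : Nat.card (W ⊓ Subgroup.centralizer (H₁ : Set G) : Subgroup G) =
        Nat.card (W ⊓ Subgroup.centralizer (H : Set G) : Subgroup G) *
        (W ⊓ Subgroup.centralizer (H : Set G)).relIndex (W ⊓ Subgroup.centralizer (H₁ : Set G)) := by
      have := Subgroup.relIndex_mul_relIndex ⊥ _ _ bot_le hDle
      rw [Subgroup.relIndex_bot_left, Subgroup.relIndex_bot_left] at this
      exact this.symm
    rw [← hn]
    calc Nat.card W * Nat.card U ≤ Nat.card H₁ *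
          Nat.card (W ⊓ Subgroup.centralizer (H₁ : Set G) : Subgroup G) := ih1
      _ ≤ Nat.card H₁ * (Nat.card (W ⊓ Subgroup.centralizer (H : Set G) : Subgroup G) * p) := by
          rw [hcardD]; exact Nat.mul_le_mul_left _ (Nat.mul_le_mul_left _ hrel)
      _ = (Nat.card H₁ * p) * Nat.card (W ⊓ Subgroup.centralizer (H : Set G) : Subgroup G) := by
          ring
      _ ≤ Nat.card H * Nat.card (W ⊓ Subgroup.centralizer (H : Set G) : Subgroup G) :=
          Nat.mul_le_mul_right _ hcard1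

end Cfsg.Agent.Lib.Helper21.Symp
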