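import Mathlib
import Cfsg.Agent.Lib.Helper21.SympA
import Cfsg.Agent.Lib.Helper21.OmegaCent

set_option autoImplicit false

namespace Cfsg.Agent.Lib.Helper21.Symp

open Cfsg.Agent.Lib.Helper21.CycAct Cfsg.Agent.Lib.Helper21.OmegaCent

variable {G : Type*} [Group G]

theorem char_map_mem (H : Subgroup G) [hH : H.Characteristic] (φ : G ≃* G) {x : G} (hx : x ∈ H) :
    φ x ∈ H :=
  (Subgroup.characteristic_iff_map_le.mp hH φ) (Subgroup.mem_map_of_mem φ.toMonoidHom hx)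

/-- the critical-type subgroup over a normal cyclic subgroup `⟨u⟩` -/
def Wsub (p : ℕ) (u : G) (hU : (Subgroup.zpowers u).Normal) : Subgroup G where
  carrier := {x | x ∈ Subgroup.centralizer (Subgroup.zpowers u : Set G) ∧
    x ^ p ∈ Subgroup.zpowers u ∧ ∀ g : G, x * g * x⁻¹ * g⁻¹ ∈ Subgroup.zpowers u}
  one_mem' := by
    refine ⟨one_mem _, by simp, fun g => by simp⟩
  mul_mem' := by
    rintro x y ⟨hx1, hx2, hx3⟩ ⟨hy1, hy2, hy3⟩
    refine ⟨mul_mem hx1 hy1, ?_, ?_⟩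
    · have hd : x * y * x⁻¹ * y⁻¹ ∈ Subgroup.zpowers u := hx3 y
      have hdx : Commute (x * y * x⁻¹ * y⁻¹)⁻¹ x :=
        ((Subgroup.mem_centralizer_iff.mp hx1) _ (inv_mem hd))
      have hdy : Commute (x * y * x⁻¹ * y⁻¹)⁻¹ y :=
        ((Subgroup.mem_centralizer_iff.mp hy1) _ (inv_mem hd))
      have h : y * x = x * y * (x * y * x⁻¹ * y⁻¹)⁻¹ := by
        rw [mul_assoc x y, ← hdy.eq, ← mul_assoc, ← hdx.eq]; group
      rw [mul_pow_class2 hdx hdy h p]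
      exact mul_mem (mul_mem hx2 hy2) (Subgroup.pow_mem _ (inv_mem hd) _)
    · intro g
      have e : x * y * g * (x * y)⁻¹ * g⁻¹ = x * (y * g * y⁻¹ * g⁻¹) * x⁻¹ * (x * g * x⁻¹ * g⁻¹) := by
        group
      rw [e]
      exact mul_mem (hU.conj_mem _ (hy3 g) x) (hx3 g)
  inv_mem' := by
    rintro x ⟨hx1, hx2, hx3⟩
    refine ⟨inv_mem hx1, ?_, ?_⟩
    · rw [inv_pow]; exact inv_mem hx2
    · intro g
      have e : x⁻¹ * g * x⁻¹⁻¹ * g⁻¹ = x⁻¹ * (x * g * x⁻¹ * g⁻¹)⁻¹ * x⁻¹⁻¹ := by group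
      rw [e]
      exact hU.conj_mem _ (inv_mem (hx3 g)) x⁻¹

theorem mem_Wsub {p : ℕ} {u : G} {hU : (Subgroup.zpowers u).Normal} {x : G} :
    x ∈ Wsub p u hU ↔ x ∈ Subgroup.centralizer (Subgroup.zpowers u : Set G) ∧
      x ^ p ∈ Subgroup.zpowers u ∧ ∀ g : G, x * g * x⁻¹ * g⁻¹ ∈ Subgroup.zpowers u := Iff.rfl

theorem zpowers_le_Wsub (p : ℕ) (u : G) (hU : (Subgroup.zpowers u).Normal) :
    Subgroup.zpowers u ≤ Wsub p u hU := by
  intro x hx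
  refine ⟨?_, Subgroup.pow_mem _ hx _, fun g => ?_⟩
  · rw [Subgroup.mem_centralizer_iff]
    intro h hh
    obtain ⟨i, rfl⟩ := Subgroup.mem_zpowers_iff.mp hx
    obtain ⟨j, rfl⟩ := Subgroup.mem_zpowers_iff.mp hh
    exact (((Commute.refl u).zpow_left j).zpow_right i).eq
  · have e : x * g * x⁻¹ * g⁻¹ = x * (g * x⁻¹ * g⁻¹) := by group
    rw [e]
    exact mul_mem hx (hU.conj_mem _ (inv_mem hx) g)

theorem Wsub_le_centralizer (p : ℕ) (u : G) (hU : (Subgroup.zpowers u).Normal) :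
    Wsub p u hU ≤ Subgroup.centralizer (Subgroup.zpowers u : Set G) := fun _ hx => hx.1

theorem Wsub_characteristic (p : ℕ) (u : G) [hc : (Subgroup.zpowers u).Characteristic] :
    (Wsub p u inferInstance).Characteristic := by
  rw [Subgroup.characteristic_iff_map_le]
  intro φ
  rintro _ ⟨x, ⟨hx1, hx2, hx3⟩, rfl⟩
  refine ⟨char_map_mem _ φ hx1, ?_, fun g => ?_⟩
  · show (φ x) ^ p ∈ _
    rw [← map_pow]
    exact char_map_mem _ φ hx2
  · show φ x * g * (φ x)⁻¹ * g⁻¹ ∈ _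
    have e : φ x * g * (φ x)⁻¹ * g⁻¹ = φ (x * φ.symm g * x⁻¹ * (φ.symm g)⁻¹) := by
      simp
    rw [e]
    exact char_map_mem _ φ (hx3 _)

/-- `Ω₁` of the cyclic group `⟨u⟩` of order `p ^ n` -/
theorem omega_zpowers {p n : ℕ} [hp : Fact p.Prime] {u : G} (hord : orderOf u = p ^ n) (hn : 1 ≤ n)
    {y : G} (hy : y ∈ Subgroup.zpowers u) (hyp : y ^ p = 1) :
    y ∈ Subgroup.zpowers (u ^ (p ^ (n - 1))) := by
  obtain ⟨i, rfl⟩ := Subgroup.mem_zpowers_iff.mp hy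
  rw [← zpow_natCast, ← zpow_mul, zpow_eq_one_iff' hord, pow_dvd_mul_iff p hp.out.pos n hn] at hyp
  obtain ⟨i', hi'⟩ := hyp
  rw [hi', zpow_mul]
  have : u ^ ((p : ℤ) ^ (n - 1)) = u ^ (p ^ (n - 1)) := by
    rw [← zpow_natCast]; push_cast; rfl
  rw [this]
  exact Subgroup.zpow_mem_zpowers _ _

theorem Wsub_comm_mem {p n : ℕ} [hp : Fact p.Prime] {u : G} (hU : (Subgroup.zpowers u).Normal)
    (hord : orderOf u = p ^ n) (hn : 1 ≤ n) {x y : G} (hx : x ∈ Wsub p u hU) (hy : y ∈ Wsub p u hU) :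
    x * y * x⁻¹ * y⁻¹ ∈ Subgroup.zpowers (u ^ (p ^ (n - 1))) := by
  have hd : x * y * x⁻¹ * y⁻¹ ∈ Subgroup.zpowers u := hx.2.2 y
  apply omega_zpowers hord hn hd
  have hdx : Commute (x * y * x⁻¹ * y⁻¹) x := (Subgroup.mem_centralizer_iff.mp hx.1) _ hd
  have hdy : Commute (x * y * x⁻¹ * y⁻¹) y := (Subgroup.mem_centralizer_iff.mp hy.1) _ hd
  have h : x * y = y * x * (x * y * x⁻¹ * y⁻¹) := by
    rw [mul_assoc y x, ← hdx.eq, ← mul_assoc, ← hdy.eq]; group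
  have h1 := pow_mul_class2 hdx h p
  have h2 : x ^ p * y = y * x ^ p := ((Subgroup.mem_centralizer_iff.mp hy.1) _ hx.2.1)
  rw [h2] at h1
  have h3 : y * x ^ p * 1 = y * x ^ p * (x * y * x⁻¹ * y⁻¹) ^ p := by rw [mul_one]; exact h1
  exact (mul_left_cancel h3).symm

end Cfsg.Agent.Lib.Helper21.Symp
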