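import Mathlib
import Cfsg.Agent.Lib.Helper21.SympB

set_option autoImplicit false

namespace Cfsg.Agent.Lib.Helper21.Symp

open Cfsg.Agent.Lib.Helper21.CycAct Cfsg.Agent.Lib.Helper21.OmegaCent

variable {G : Type*} [Group G]

structure Ctx (p n : ℕ) (u : G) : Prop where
  hpg : IsPGroup p G
  hord : orderOf u = p ^ n
  hn : 1 ≤ n
  hchar : (Subgroup.zpowers u).Characteristic
  hmax : ∀ A : Subgroup G, A.Characteristic → (∀ a ∈ A, ∀ b ∈ A, a * b = b * a) →
    Nat.card A ≤ p ^ n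

variable {p n : ℕ} [hp : Fact p.Prime] {u : G}

theorem Ctx.normal (c : Ctx p n u) : (Subgroup.zpowers u).Normal :=
  @Subgroup.normal_of_characteristic _ _ _ c.hchar

/-- the critical subgroup -/
def Ctx.W (c : Ctx p n u) : Subgroup G := Wsub p u c.normal

theorem Ctx.W_char (c : Ctx p n u) : c.W.Characteristic := by
  haveI := c.hchar
  exact Wsub_characteristic p u

theorem Ctx.U_le_W (c : Ctx p n u) : Subgroup.zpowers u ≤ c.W := zpowers_le_Wsub p u c.normal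

theorem Ctx.W_le_cent (c : Ctx p n u) :
    c.W ≤ Subgroup.centralizer (Subgroup.zpowers u : Set G) := Wsub_le_centralizer p u c.normal

theorem Ctx.comm_U_W (c : Ctx p n u) {a w : G} (ha : a ∈ Subgroup.zpowers u) (hw : w ∈ c.W) :
    a * w = w * a := (Subgroup.mem_centralizer_iff.mp (c.W_le_cent hw)) a ha

theorem Ctx.card_U (c : Ctx p n u) : Nat.card (Subgroup.zpowers u) = p ^ n := by
  rw [Nat.card_zpowers, c.hord]

theorem Ctx.z_mem (c : Ctx p n u) : u ^ (p ^ (n - 1)) ∈ Subgroup.zpowers u :=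
  Subgroup.pow_mem _ (Subgroup.mem_zpowers u) _

theorem Ctx.orderOf_z (c : Ctx p n u) : orderOf (u ^ (p ^ (n - 1))) = p := by
  have hpp : p.Prime := hp.out
  have hn := c.hn
  rw [orderOf_pow_of_dvd (pow_ne_zero _ hpp.ne_zero)
    (by rw [c.hord]; exact pow_dvd_pow p (by omega)), c.hord, Nat.pow_div (by omega) hpp.pos]
  have : n - (n - 1) = 1 := by omega
  rw [this, pow_one]

theorem Ctx.comm_mem (c : Ctx p n u) {x y : G} (hx : x ∈ c.W) (hy : y ∈ c.W) :
    x * y * x⁻¹ * y⁻¹ ∈ Subgroup.zpowers (u ^ (p ^ (n - 1))) :=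
  Wsub_comm_mem c.normal c.hord c.hn hx hy

theorem Ctx.Z0_le_U (c : Ctx p n u) :
    Subgroup.zpowers (u ^ (p ^ (n - 1))) ≤ Subgroup.zpowers u :=
  Subgroup.zpowers_le.mpr c.z_mem

/-- class-2 data for two elements of `W` -/
theorem Ctx.class2 (c : Ctx p n u) {a b : G} (ha : a ∈ c.W) (hb : b ∈ c.W) :
    ∃ d ∈ Subgroup.zpowers (u ^ (p ^ (n - 1))), Commute d a ∧ Commute d b ∧
      b * a = a * b * d := by
  refine ⟨b⁻¹ * a⁻¹ * b⁻¹⁻¹ * a⁻¹⁻¹, c.comm_mem (inv_mem hb) (inv_mem ha), ?_, ?_, by group⟩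
  · exact c.comm_U_W (c.Z0_le_U (c.comm_mem (inv_mem hb) (inv_mem ha))) ha
  · exact c.comm_U_W (c.Z0_le_U (c.comm_mem (inv_mem hb) (inv_mem ha))) hb

/-- `Z(W) = U` -/
theorem Ctx.W_inf_centralizer [Finite G] (c : Ctx p n u) :
    c.W ⊓ Subgroup.centralizer (c.W : Set G) = Subgroup.zpowers u := by
  haveI := c.hchar
  haveI := c.W_char
  have hle : Subgroup.zpowers u ≤ c.W ⊓ Subgroup.centralizer (c.W : Set G) := by
    refine le_inf c.U_le_W ?_
    intro a ha
    rw [Subgroup.mem_centralizer_iff]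
    intro w hw
    exact (c.comm_U_W ha hw).symm
  have hcard := c.hmax (c.W ⊓ Subgroup.centralizer (c.W : Set G)) inferInstance (by
    intro a ha b hb
    exact ((Subgroup.mem_centralizer_iff.mp hb.2) a ha.1))
  rw [← c.card_U] at hcard
  exact (Subgroup.eq_of_le_of_card_ge hle hcard).symm

/-- `C_G(W) = U` -/
theorem Ctx.centralizer_W [Finite G] (c : Ctx p n u) :
    Subgroup.centralizer (c.W : Set G) = Subgroup.zpowers u := by
  haveI := c.hchar
  haveI := c.W_char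
  haveI := c.normal
  apply le_antisymm
  · by_contra hne
    obtain ⟨x, hxN, hxU, hxp, hxg⟩ := exists_central_step c.hpg (Subgroup.zpowers u)
      (Subgroup.centralizer (c.W : Set G)) hne
    apply hxU
    rw [← c.W_inf_centralizer]
    refine ⟨⟨?_, hxp, hxg⟩, hxN⟩
    exact Subgroup.centralizer_le c.U_le_W hxN
  · rw [← c.W_inf_centralizer]; exact inf_le_right


/-- `⟨u ^ m⟩` is characteristic when `⟨u⟩` is -/
theorem zpowers_pow_characteristic (u : G) [hc : (Subgroup.zpowers u).Characteristic] (m : ℕ) :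
    (Subgroup.zpowers (u ^ m)).Characteristic := by
  rw [Subgroup.characteristic_iff_map_le]
  intro φ
  rintro _ ⟨x, hx, rfl⟩
  obtain ⟨i, rfl⟩ := Subgroup.mem_zpowers_iff.mp hx
  have h1 : φ u ∈ Subgroup.zpowers u := char_map_mem _ φ (Subgroup.mem_zpowers u)
  obtain ⟨k, hk⟩ := Subgroup.mem_zpowers_iff.mp h1
  show φ ((u ^ m) ^ i) ∈ _
  rw [map_zpow, map_pow, ← hk, Subgroup.mem_zpowers_iff]
  refine ⟨k * i, ?_⟩
  rw [← zpow_natCast, ← zpow_natCast, ← zpow_mul, ← zpow_mul, ← zpow_mul]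
  congr 1; ring

theorem Ctx.Z0_le_Up (c : Ctx p n u) (h2 : 2 ≤ n) :
    Subgroup.zpowers (u ^ (p ^ (n - 1))) ≤ Subgroup.zpowers (u ^ p) := by
  rw [Subgroup.zpowers_le]
  have e : u ^ (p ^ (n - 1)) = (u ^ p) ^ (p ^ (n - 2)) := by
    rw [← pow_mul, ← pow_succ']; congr 2; omega
  rw [e]
  exact Subgroup.pow_mem _ (Subgroup.mem_zpowers _) _

/-- the subgroup of `W` of elements whose `p`-th power is a `p`-th power in `U` -/
def Ctx.W0 (c : Ctx p n u) (h2 : 2 ≤ n) : Subgroup G where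
  carrier := {x | x ∈ c.W ∧ x ^ p ∈ Subgroup.zpowers (u ^ p)}
  one_mem' := ⟨one_mem _, by simp⟩
  mul_mem' := by
    rintro x y ⟨hx1, hx2⟩ ⟨hy1, hy2⟩
    refine ⟨mul_mem hx1 hy1, ?_⟩
    obtain ⟨d, hd, hdx, hdy, h⟩ := c.class2 hx1 hy1
    rw [mul_pow_class2 hdx hdy h p]
    exact mul_mem (mul_mem hx2 hy2) (Subgroup.pow_mem _ (c.Z0_le_Up h2 hd) _)
  inv_mem' := by
    rintro x ⟨hx1, hx2⟩
    refine ⟨inv_mem hx1, ?_⟩
    rw [inv_pow]; exact inv_mem hx2

theorem Ctx.W0_char (c : Ctx p n u) (h2 : 2 ≤ n) : (c.W0 h2).Characteristic := by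
  haveI := c.hchar
  haveI := c.W_char
  haveI := zpowers_pow_characteristic u p
  rw [Subgroup.characteristic_iff_map_le]
  intro φ
  rintro _ ⟨x, ⟨hx1, hx2⟩, rfl⟩
  refine ⟨char_map_mem _ φ hx1, ?_⟩
  show (φ x) ^ p ∈ _
  rw [← map_pow]
  exact char_map_mem _ φ hx2

theorem Ctx.U_le_W0 (c : Ctx p n u) (h2 : 2 ≤ n) : Subgroup.zpowers u ≤ c.W0 h2 := by
  intro x hx
  refine ⟨c.U_le_W hx, ?_⟩
  obtain ⟨i, rfl⟩ := Subgroup.mem_zpowers_iff.mp hx
  rw [Subgroup.mem_zpowers_iff]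
  refine ⟨i, ?_⟩
  rw [← zpow_natCast, ← zpow_natCast, ← zpow_mul, ← zpow_mul, mul_comm]

theorem Ctx.W0_le_W (c : Ctx p n u) (h2 : 2 ≤ n) : c.W0 h2 ≤ c.W := fun _ hx => hx.1

/-- purity: `p`-th powers of elements of `W` are `p`-th powers in `U` -/
theorem Ctx.purity [Finite G] (c : Ctx p n u) (h2 : 2 ≤ n) :
    ∀ x ∈ c.W, x ^ p ∈ Subgroup.zpowers (u ^ p) := by
  have hpp : p.Prime := hp.out
  have hpZ : Prime (p : ℤ) := Nat.prime_iff_prime_int.mp hpp
  by_contra hex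
  have hex' : ∃ y₀ ∈ c.W, y₀ ^ p ∉ Subgroup.zpowers (u ^ p) := by
    by_contra hno
    apply hex
    intro x hx
    by_contra hxp
    exact hno ⟨x, hx, hxp⟩
  obtain ⟨y₀, hy₀W, hy₀⟩ := hex'
  haveI := c.hchar
  haveI := c.W_char
  haveI := c.W0_char h2
  have hlt : c.W0 h2 < c.W := by
    apply lt_of_le_of_ne (c.W0_le_W h2)
    intro e
    apply hy₀
    have : y₀ ∈ c.W0 h2 := by rw [e]; exact hy₀W
    exact this.2
  -- Y = C_W(W0) lies in W0
  have hYW0 : c.W ⊓ Subgroup.centralizer (c.W0 h2 : Set G) ≤ c.W0 h2 := by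
    intro y hy
    by_contra hyW0
    have hyW : y ∈ c.W := hy.1
    have hyp : y ^ p ∉ Subgroup.zpowers (u ^ p) := fun h => hyW0 ⟨hyW, h⟩
    -- y is central in W
    have hycent : y ∈ c.W ⊓ Subgroup.centralizer (c.W : Set G) := by
      refine Subgroup.mem_inf.mpr ⟨hyW, ?_⟩
      rw [Subgroup.mem_centralizer_iff]
      intro w hw
      obtain ⟨a, ha⟩ := Subgroup.mem_zpowers_iff.mp hw.2.1
      obtain ⟨b, hb⟩ := Subgroup.mem_zpowers_iff.mp hyW.2.1
      have hpb : ¬ (p : ℤ) ∣ b := by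
        rintro ⟨m, hm⟩
        apply hyp
        rw [← hb, hm, Subgroup.mem_zpowers_iff]
        refine ⟨m, ?_⟩
        rw [← zpow_natCast, ← zpow_mul]
      have hcop : IsCoprime b (p : ℤ) := by
        rw [isCoprime_comm]
        exact (Prime.coprime_iff_not_dvd hpZ).mpr hpb
      obtain ⟨s, t, hst⟩ := hcop
      -- j = a * s
      have hwy : w * y ^ (-(a * s)) ∈ c.W0 h2 := by
        have hyj : y ^ (-(a * s)) ∈ c.W := Subgroup.zpow_mem _ hyW _
        refine ⟨mul_mem hw hyj, ?_⟩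
        obtain ⟨d, hd, hdx, hdy, h⟩ := c.class2 hw hyj
        rw [mul_pow_class2 hdx hdy h p]
        refine mul_mem ?_ (Subgroup.pow_mem _ (c.Z0_le_Up h2 hd) _)
        have e1 : (y ^ (-(a * s))) ^ p = u ^ (-(a * s) * b) := by
          rw [← zpow_natCast, ← zpow_mul, mul_comm, zpow_mul, zpow_natCast, ← hb, ← zpow_mul,
            mul_comm]
        rw [← ha, e1, ← zpow_add, Subgroup.mem_zpowers_iff]
        refine ⟨a * t, ?_⟩
        rw [← zpow_natCast, ← zpow_mul]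
        congr 1
        have : s * b = 1 - t * p := by linarith
        calc (p : ℤ) * (a * t) = a * (1 - (1 - t * p)) := by ring
          _ = a + -(a * s) * b := by rw [← this]; ring
      have h1 := (Subgroup.mem_centralizer_iff.mp hy.2) _ hwy
      -- y commutes with w * y^j hence with w
      have h3 : Commute y (y ^ (-(a * s))) := (Commute.refl y).zpow_right _
      have h4 : w * y ^ (-(a * s)) * y = w * y * y ^ (-(a * s)) := by
        rw [mul_assoc, ← h3.eq, ← mul_assoc]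
      rw [h4, ← mul_assoc] at h1
      exact mul_right_cancel h1
    rw [c.W_inf_centralizer] at hycent
    exact hyW0 (c.U_le_W0 h2 hycent)
  have hcardY := c.hmax (c.W ⊓ Subgroup.centralizer (c.W0 h2 : Set G)) inferInstance (by
    intro a ha b hb
    exact ((Subgroup.mem_centralizer_iff.mp hb.2) a (hYW0 ha)))
  have hz : Nat.card (Subgroup.zpowers (u ^ (p ^ (n - 1)))) = p := by
    rw [Nat.card_zpowers, c.orderOf_z]
  have hCL := card_centralizer_bound c.hpg c.W (Subgroup.zpowers u) (u ^ (p ^ (n - 1))) hz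
    (fun a ha w hw => c.comm_U_W ha hw) (fun x hx y hy => c.comm_mem hx hy)
    (c.W0 h2) (c.U_le_W0 h2) (c.W0_le_W h2)
  rw [c.card_U] at hCL
  have h5 : Nat.card c.W * p ^ n ≤ Nat.card (c.W0 h2) * p ^ n :=
    le_trans hCL (Nat.mul_le_mul_left _ hcardY)
  have h6 : Nat.card c.W ≤ Nat.card (c.W0 h2) :=
    Nat.le_of_mul_le_mul_right h5 (pow_pos hpp.pos n)
  exact absurd (Cfsg.Agent.Lib.Lead.card_lt_card_of_lt hlt) (not_lt.mpr h6)

end Cfsg.Agent.Lib.Helper21.Symp
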