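import Mathlib
import Cfsg.Agent.Lib.Helper21.SympC

set_option autoImplicit false

namespace Cfsg.Agent.Lib.Helper21.Symp

open Cfsg.Agent.Lib.Helper21.CycAct Cfsg.Agent.Lib.Helper21.OmegaCent

variable {G : Type*} [Group G]

theorem conj_zpow_mem (B : Subgroup G) (x : G)
    (hn : ∀ b ∈ B, x * b * x⁻¹ ∈ B) (hn' : ∀ b ∈ B, x⁻¹ * b * x ∈ B) :
    ∀ j : ℤ, ∀ b ∈ B, x ^ j * b * x ^ (-j) ∈ B := by
  intro j
  induction j using Int.induction_on with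
  | zero => intro b hb; simpa using hb
  | succ j ih =>
    intro b hb
    have e : x ^ ((j : ℤ) + 1) * b * x ^ (-((j : ℤ) + 1)) =
        x * (x ^ (j : ℤ) * b * x ^ (-(j : ℤ))) * x⁻¹ := by
      rw [zpow_add, zpow_one, neg_add, zpow_add, zpow_neg_one]
      have : Commute (x ^ (j : ℤ)) x := (Commute.refl x).zpow_left _
      have h2 : Commute (x ^ (-(j : ℤ))) x⁻¹ := ((Commute.refl x).zpow_left _).inv_right
      rw [this.eq, h2.eq]; group
    rw [e]; exact hn _ (ih b hb)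
  | pred j ih =>
    intro b hb
    have e : x ^ (-(j : ℤ) - 1) * b * x ^ (-(-(j : ℤ) - 1)) =
        x⁻¹ * (x ^ (-(j : ℤ)) * b * x ^ (-(-(j : ℤ)))) * x := by
      rw [sub_eq_add_neg, zpow_add, zpow_neg_one, neg_add, neg_neg, neg_neg, zpow_add, zpow_one]
      have : Commute (x ^ (-(j : ℤ))) x⁻¹ := ((Commute.refl x).zpow_left _).inv_right
      rw [this.eq]; group
    rw [e]; exact hn' _ (ih b hb)

theorem exists_mul_zpow_of_mem_sup (B : Subgroup G) (x : G)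
    (hn : ∀ b ∈ B, x * b * x⁻¹ ∈ B) (hn' : ∀ b ∈ B, x⁻¹ * b * x ∈ B) :
    ∀ y ∈ B ⊔ Subgroup.zpowers x, ∃ b ∈ B, ∃ j : ℤ, y = b * x ^ j := by
  have hc := conj_zpow_mem B x hn hn'
  let S : Subgroup G :=
    { carrier := {y | ∃ b ∈ B, ∃ j : ℤ, y = b * x ^ j}
      one_mem' := ⟨1, one_mem _, 0, by simp⟩
      mul_mem' := by
        rintro _ _ ⟨b, hb, j, rfl⟩ ⟨b', hb', j', rfl⟩
        refine ⟨b * (x ^ j * b' * x ^ (-j)), mul_mem hb (hc j b' hb'), j + j', ?_⟩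
        rw [zpow_add, zpow_neg]; group
      inv_mem' := by
        rintro _ ⟨b, hb, j, rfl⟩
        refine ⟨x ^ (-j) * b⁻¹ * x ^ (-(-j)), hc (-j) _ (inv_mem hb), -j, ?_⟩
        rw [neg_neg, zpow_neg]; group }
  have hle : B ⊔ Subgroup.zpowers x ≤ S := by
    apply sup_le
    · intro b hb; exact ⟨b, hb, 0, by simp⟩
    · rw [Subgroup.zpowers_le]; exact ⟨1, one_mem _, 1, by simp⟩
  intro y hy
  exact hle hy

variable {p n : ℕ} [hp : Fact p.Prime] {u : G}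

theorem Ctx.z_pow (c : Ctx p n u) : (u ^ (p ^ (n - 1))) ^ p = 1 := by
  have := pow_orderOf_eq_one (u ^ (p ^ (n - 1)))
  rwa [c.orderOf_z] at this

theorem Ctx.Z0_pow (c : Ctx p n u) {d : G} (hd : d ∈ Subgroup.zpowers (u ^ (p ^ (n - 1)))) :
    d ^ p = 1 := by
  obtain ⟨i, rfl⟩ := Subgroup.mem_zpowers_iff.mp hd
  rw [← zpow_natCast, ← zpow_mul, mul_comm, zpow_mul, zpow_natCast, c.z_pow, one_zpow]

theorem Ctx.exists_supplement [Finite G] (c : Ctx p n u) :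
    ∃ E₁ : Subgroup G, Subgroup.zpowers (u ^ (p ^ (n - 1))) ≤ E₁ ∧ E₁ ≤ c.W ∧
      E₁ ⊓ Subgroup.zpowers u ≤ Subgroup.zpowers (u ^ (p ^ (n - 1))) ∧
      c.W ≤ E₁ ⊔ Subgroup.zpowers u ∧ (p ≠ 2 → 2 ≤ n → ∀ x ∈ E₁, x ^ p = 1) := by
  classical
  have hpp : p.Prime := hp.out
  have hpZ : Prime (p : ℤ) := Nat.prime_iff_prime_int.mp hpp
  by_cases h2 : 2 ≤ n
  swap
  · have hn1 : n = 1 := by have := c.hn; omega
    refine ⟨c.W, ?_, le_refl _, ?_, le_sup_left, fun _ h => absurd h h2⟩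
    · exact le_trans c.Z0_le_U c.U_le_W
    · have : u ^ (p ^ (n - 1)) = u := by rw [hn1]; simp
      rw [this]; exact inf_le_right
  have hfin : {K : Subgroup G | Subgroup.zpowers (u ^ (p ^ (n - 1))) ≤ K ∧ K ≤ c.W ∧
      K ⊓ Subgroup.zpowers u ≤ Subgroup.zpowers (u ^ (p ^ (n - 1))) ∧
      (p ≠ 2 → ∀ x ∈ K, x ^ p = 1)}.Finite := Set.toFinite _
  have hnon : {K : Subgroup G | Subgroup.zpowers (u ^ (p ^ (n - 1))) ≤ K ∧ K ≤ c.W ∧
      K ⊓ Subgroup.zpowers u ≤ Subgroup.zpowers (u ^ (p ^ (n - 1))) ∧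
      (p ≠ 2 → ∀ x ∈ K, x ^ p = 1)}.Nonempty :=
    ⟨Subgroup.zpowers (u ^ (p ^ (n - 1))), le_refl _, le_trans c.Z0_le_U c.U_le_W, inf_le_left,
      fun _ x hx => c.Z0_pow hx⟩
  obtain ⟨E₁, ⟨hZE, hEW, hEU, hEexp⟩, hmax⟩ := hfin.exists_maximal hnon
  refine ⟨E₁, hZE, hEW, hEU, ?_, fun hp2 _ => hEexp hp2⟩
  by_contra hnot
  obtain ⟨x, hxW, hxEU⟩ := SetLike.not_le_iff_exists.mp hnot
  obtain ⟨m, hm⟩ := Subgroup.mem_zpowers_iff.mp (c.purity h2 x hxW)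
  have humW : u ^ (-m) ∈ c.W := c.U_le_W (Subgroup.zpow_mem_zpowers _ _)
  have hx'W : x * u ^ (-m) ∈ c.W := mul_mem hxW humW
  have hx'p : (x * u ^ (-m)) ^ p = 1 := by
    have hcomm : Commute x (u ^ (-m)) := (c.comm_U_W (Subgroup.zpow_mem_zpowers _ _) hxW).symm
    rw [hcomm.mul_pow, ← hm, ← zpow_natCast (u ^ (-m)), ← zpow_mul, ← zpow_natCast u p, ← zpow_mul,
      ← zpow_add]
    have : (p : ℤ) * m + -m * p = 0 := by ring
    rw [this, zpow_zero]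
  have hx'EU : x * u ^ (-m) ∉ E₁ ⊔ Subgroup.zpowers u := by
    intro h
    apply hxEU
    have h3 : x * u ^ (-m) * u ^ m ∈ E₁ ⊔ Subgroup.zpowers u :=
      mul_mem h ((le_sup_right : Subgroup.zpowers u ≤ _) (Subgroup.zpow_mem_zpowers _ _))
    rw [mul_assoc, ← zpow_add] at h3
    simpa using h3
  set x' := x * u ^ (-m) with hx'
  have hnorm : ∀ w ∈ c.W, ∀ b ∈ E₁, w * b * w⁻¹ ∈ E₁ := by
    intro w hw b hb
    have e : w * b * w⁻¹ = (w * b * w⁻¹ * b⁻¹) * b := by group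
    rw [e]
    exact mul_mem (hZE (c.comm_mem hw (hEW hb))) hb
  have hn1 : ∀ b ∈ E₁, x' * b * x'⁻¹ ∈ E₁ := hnorm x' hx'W
  have hn2 : ∀ b ∈ E₁, x'⁻¹ * b * x' ∈ E₁ := by
    intro b hb
    have := hnorm x'⁻¹ (inv_mem hx'W) b hb
    rwa [inv_inv] at this
  have hform := exists_mul_zpow_of_mem_sup E₁ x' hn1 hn2
  have hxjp : ∀ j : ℤ, (x' ^ j) ^ p = 1 := by
    intro j
    rw [← zpow_natCast, ← zpow_mul, mul_comm, zpow_mul, zpow_natCast, hx'p, one_zpow]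
  have hK : E₁ ⊔ Subgroup.zpowers x' ∈ {K : Subgroup G |
      Subgroup.zpowers (u ^ (p ^ (n - 1))) ≤ K ∧ K ≤ c.W ∧
      K ⊓ Subgroup.zpowers u ≤ Subgroup.zpowers (u ^ (p ^ (n - 1))) ∧
      (p ≠ 2 → ∀ x ∈ K, x ^ p = 1)} := by
    refine ⟨le_trans hZE le_sup_left, sup_le hEW (Subgroup.zpowers_le.mpr hx'W), ?_, ?_⟩
    · rintro y ⟨hyK, hyU⟩
      obtain ⟨b, hb, j, rfl⟩ := hform y hyK
      by_cases hpj : (p : ℤ) ∣ j
      · obtain ⟨j', rfl⟩ := hpj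
        have : x' ^ ((p : ℤ) * j') = 1 := by
          rw [zpow_mul, zpow_natCast, hx'p, one_zpow]
        rw [this, mul_one] at hyU ⊢
        exact hEU ⟨hb, hyU⟩
      · exfalso
        have hcop : IsCoprime j (p : ℤ) := by
          rw [isCoprime_comm]
          exact (Prime.coprime_iff_not_dvd hpZ).mpr hpj
        obtain ⟨s, t, hst⟩ := hcop
        have hxj : x' ^ j ∈ E₁ ⊔ Subgroup.zpowers u := by
          have : x' ^ j = b⁻¹ * (b * x' ^ j) := by group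
          rw [this]
          exact mul_mem ((le_sup_left : E₁ ≤ _) (inv_mem hb))
            ((le_sup_right : Subgroup.zpowers u ≤ _) hyU)
        apply hx'EU
        have e : x' = (x' ^ j) ^ s := by
          have h1 : x' ^ (s * j + t * (p : ℤ)) = x' := by rw [hst, zpow_one]
          rw [zpow_add, mul_comm t, zpow_mul x' (p : ℤ) t, zpow_natCast, hx'p, one_zpow, mul_one,
            mul_comm s, zpow_mul] at h1
          exact h1.symm
        rw [e]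
        exact Subgroup.zpow_mem _ hxj _
    · intro hp2 y hyK
      obtain ⟨b, hb, j, rfl⟩ := hform y hyK
      obtain ⟨d, hd, hda, hdb, h⟩ := c.class2 (hEW hb) (Subgroup.zpow_mem _ hx'W j)
      exact mul_pow_prime_class2 hpp hp2 hda hdb h (hEexp hp2 b hb) (hxjp j) (c.Z0_pow hd)
  have := hmax hK le_sup_left
  exact hx'EU ((le_sup_left : E₁ ≤ E₁ ⊔ Subgroup.zpowers u)
    (this ((le_sup_right : Subgroup.zpowers x' ≤ _) (Subgroup.mem_zpowers x'))))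

end Cfsg.Agent.Lib.Helper21.Symp
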