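import Mathlib
import Cfsg.Prelude.Def_Transfer
import Cfsg.Agent.Lib.Helper21.SympD
import Cfsg.Agent.Lib.Helper1.Frat
import Cfsg.Agent.Lib.helper17.Frattini

set_option autoImplicit false

namespace Cfsg.Agent.Lib.Helper21.Symp

open Cfsg.Agent.Lib.Helper21.CycAct Cfsg.Agent.Lib.Helper21.OmegaCent Cfsg.Agent.Lib.Helper21.CycNT
open scoped commutatorElement

variable {G : Type*} [Group G]

/-- extraspecial from element-level data -/
theorem isExtraspecial_of_elements {Γ : Type*} [Group Γ] [Finite Γ] {p : ℕ} [hp : Fact p.Prime]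
    (hΓ : IsPGroup p Γ) (z : Γ) (hz : orderOf z = p) (hzc : ∀ g : Γ, g * z = z * g)
    (hcenter : ∀ x : Γ, (∀ y : Γ, x * y = y * x) → x ∈ Subgroup.zpowers z)
    (hcomm : ∀ x y : Γ, x * y * x⁻¹ * y⁻¹ ∈ Subgroup.zpowers z)
    (hpow : ∀ x : Γ, x ^ p ∈ Subgroup.zpowers z) (hnonab : ∃ x y : Γ, x * y ≠ y * x) :
    Cfsg.IsExtraspecial p Γ := by
  have hpp : p.Prime := hp.out
  have hcardz : Nat.card (Subgroup.zpowers z) = p := by rw [Nat.card_zpowers, hz]
  have hcen : Subgroup.center Γ = Subgroup.zpowers z := by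
    apply le_antisymm
    · intro x hx
      apply hcenter
      intro y
      exact ((Subgroup.mem_center_iff.mp hx) y).symm
    · rw [Subgroup.zpowers_le, Subgroup.mem_center_iff]
      exact hzc
  have hder : commutator Γ = Subgroup.zpowers z := by
    have hle : commutator Γ ≤ Subgroup.zpowers z := by
      rw [commutator_def, Subgroup.commutator_le]
      intro a _ b _
      exact hcomm a b
    apply Subgroup.eq_of_le_of_card_ge hle
    have hdvd : Nat.card (commutator Γ) ∣ p := by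
      rw [← hcardz]; exact Subgroup.card_dvd_of_le hle
    rcases (Nat.dvd_prime hpp).mp hdvd with h1 | h1
    · exfalso
      obtain ⟨x, y, hxy⟩ := hnonab
      have hbot : commutator Γ = ⊥ := Subgroup.card_eq_one.mp h1
      have hmem : ⁅x, y⁆ ∈ commutator Γ := by
        rw [commutator_def]
        exact Subgroup.commutator_mem_commutator (Subgroup.mem_top x) (Subgroup.mem_top y)
      rw [hbot, Subgroup.mem_bot, commutatorElement_eq_one_iff_mul_comm] at hmem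
      exact hxy hmem
    · rw [hcardz, h1]
  refine ⟨⟨hΓ, ?_, ?_⟩, ?_⟩
  · apply le_antisymm
    · apply Cfsg.Agent.Lib.helper17.frattini_le_of_comm_pow_mem (p := p) (Subgroup.center Γ)
      · intro a b
        rw [hcen]; exact hcomm a b
      · intro a
        rw [hcen]; exact hpow a
    · rw [hcen, ← hder]
      exact Cfsg.Agent.Lib.Helper1.pgroup_commutator_le_frattini hΓ
  · rw [hcen, hder]
  · rw [hcen, hcardz]

variable {p : ℕ} [hp : Fact p.Prime]

/-- a hom `E → ⟨z⟩` trivial on `⟨z⟩` is a commutator map (`E` of extraspecial type) -/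
theorem exists_inner_of_hom [Finite G] (hG : IsPGroup p G) (E : Subgroup G) (z : G)
    (hz : orderOf z = p) (hzE : z ∈ E) (hzc : ∀ x ∈ E, z * x = x * z)
    (hcomm : ∀ x ∈ E, ∀ y ∈ E, x * y * x⁻¹ * y⁻¹ ∈ Subgroup.zpowers z)
    (hcent : ∀ x ∈ E, (∀ y ∈ E, x * y = y * x) → x ∈ Subgroup.zpowers z)
    (f : G → G) (hf : ∀ x ∈ E, f x ∈ Subgroup.zpowers z)
    (hmul : ∀ x ∈ E, ∀ y ∈ E, f (x * y) = f x * f y)
    (hfZ : ∀ a ∈ Subgroup.zpowers z, f a = 1) :
    ∃ e ∈ E, ∀ x ∈ E, f x = e * x * e⁻¹ * x⁻¹ := by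
  classical
  have hpp : p.Prime := hp.out
  have hcardz : Nat.card (Subgroup.zpowers z) = p := by rw [Nat.card_zpowers, hz]
  have hZE : Subgroup.zpowers z ≤ E := Subgroup.zpowers_le.mpr hzE
  have hZc : ∀ a ∈ Subgroup.zpowers z, ∀ x ∈ E, a * x = x * a := by
    intro a ha x hx
    obtain ⟨i, rfl⟩ := Subgroup.mem_zpowers_iff.mp ha
    have : Commute z x := hzc x hx
    exact (this.zpow_left i).eq
  by_cases htriv : ∀ x ∈ E, f x = 1
  · exact ⟨1, one_mem _, fun x hx => by rw [htriv x hx]; group⟩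
  have hf1 : f 1 = 1 := hfZ 1 (one_mem _)
  have hfinv : ∀ x ∈ E, f x⁻¹ = (f x)⁻¹ := by
    intro x hx
    have := hmul x hx x⁻¹ (inv_mem hx)
    rw [mul_inv_cancel, hf1] at this
    exact (inv_eq_of_mul_eq_one_right this.symm).symm
  let K : Subgroup G :=
    { carrier := {x | x ∈ E ∧ f x = 1}
      one_mem' := ⟨one_mem _, hf1⟩
      mul_mem' := by
        rintro x y ⟨hx, hfx⟩ ⟨hy, hfy⟩
        exact ⟨mul_mem hx hy, by rw [hmul x hx y hy, hfx, hfy, one_mul]⟩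
      inv_mem' := by
        rintro x ⟨hx, hfx⟩
        exact ⟨inv_mem hx, by rw [hfinv x hx, hfx, inv_one]⟩ }
  have hKE : K ≤ E := fun x hx => hx.1
  have hZK : Subgroup.zpowers z ≤ K := fun a ha => ⟨hZE ha, hfZ a ha⟩
  have hKlt : K < E := by
    apply lt_of_le_of_ne hKE
    intro e
    apply htriv
    intro x hx
    have : x ∈ K := by rw [e]; exact hx
    exact this.2
  have hrel : K.relIndex E ≤ p := by
    have := relIndex_le_of_fiber K E
      (fun x : ↥E => (⟨f x, hf x x.2⟩ : ↥(Subgroup.zpowers z))) ?_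
    · rwa [hcardz] at this
    · intro x y hxy
      have h1 : f x = f y := congrArg Subtype.val hxy
      refine ⟨mul_mem (inv_mem x.2) y.2, ?_⟩
      rw [hmul _ (inv_mem x.2) _ y.2, hfinv _ x.2, h1, inv_mul_cancel]
  have hcardE : Nat.card E = Nat.card K * K.relIndex E := by
    have := Subgroup.relIndex_mul_relIndex ⊥ K E bot_le hKE
    rw [Subgroup.relIndex_bot_left, Subgroup.relIndex_bot_left] at this
    exact this.symm
  have hcardE' : Nat.card E ≤ Nat.card K * p := by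
    rw [hcardE]; exact Nat.mul_le_mul_left _ hrel
  have hCL := card_centralizer_bound hG E (Subgroup.zpowers z) z hcardz hZc hcomm K hZK hKE
  rw [hcardz] at hCL
  -- D = C_E(K) is bigger than Z₀
  have hD : ∃ y ∈ E ⊓ Subgroup.centralizer (K : Set G), y ∉ Subgroup.zpowers z := by
    by_contra hno
    have hDle : E ⊓ Subgroup.centralizer (K : Set G) ≤ Subgroup.zpowers z := by
      intro y hy
      by_contra hyz
      exact hno ⟨y, hy, hyz⟩
    have h1 : Nat.card (E ⊓ Subgroup.centralizer (K : Set G) : Subgroup G) ≤ p := by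
      rw [← hcardz]; exact Subgroup.card_le_of_le hDle
    have h2 : Nat.card K < Nat.card E := Cfsg.Agent.Lib.Lead.card_lt_card_of_lt hKlt
    have h3 : Nat.card E * p ≤ Nat.card K * p := le_trans hCL (Nat.mul_le_mul_left _ h1)
    have h4 := Nat.le_of_mul_le_mul_right h3 hpp.pos
    omega
  obtain ⟨y, hyD, hyz⟩ := hD
  have hyE : y ∈ E := hyD.1
  have hyK : ∀ k ∈ K, k * y = y * k := fun k hk => (Subgroup.mem_centralizer_iff.mp hyD.2) k hk
  have hex : ∃ x₁ ∈ E, y * x₁ ≠ x₁ * y := by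
    by_contra hno
    apply hyz
    apply hcent y hyE
    intro x hx
    by_contra hne
    exact hno ⟨x, hx, hne⟩
  obtain ⟨x₁, hx₁E, hx₁⟩ := hex
  have hx₁K : x₁ ∉ K := fun h => hx₁ (hyK x₁ h).symm
  have hfx₁ : f x₁ ≠ 1 := fun h => hx₁K ⟨hx₁E, h⟩
  have hcZ : y * x₁ * y⁻¹ * x₁⁻¹ ∈ Subgroup.zpowers z := hcomm y hyE x₁ hx₁E
  have hc1 : y * x₁ * y⁻¹ * x₁⁻¹ ≠ 1 := by
    intro h
    apply hx₁
    calc y * x₁ = (y * x₁ * y⁻¹ * x₁⁻¹) * (x₁ * y) := by group
      _ = x₁ * y := by rw [h, one_mul]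
  -- zpowers c = zpowers z
  have hzc' : Subgroup.zpowers (y * x₁ * y⁻¹ * x₁⁻¹) = Subgroup.zpowers z := by
    have hle : Subgroup.zpowers (y * x₁ * y⁻¹ * x₁⁻¹) ≤ Subgroup.zpowers z :=
      Subgroup.zpowers_le.mpr hcZ
    apply Subgroup.eq_of_le_of_card_ge hle
    have hdvd : Nat.card (Subgroup.zpowers (y * x₁ * y⁻¹ * x₁⁻¹)) ∣ p := by
      rw [← hcardz]; exact Subgroup.card_dvd_of_le hle
    rcases (Nat.dvd_prime hpp).mp hdvd with h1 | h1
    · exfalso
      rw [Nat.card_zpowers, orderOf_eq_one_iff] at h1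
      exact hc1 h1
    · rw [hcardz, h1]
  have hfx₁c : f x₁ ∈ Subgroup.zpowers (y * x₁ * y⁻¹ * x₁⁻¹) := by
    rw [hzc']; exact hf x₁ hx₁E
  obtain ⟨j, hj⟩ := (mem_powers_iff_mem_zpowers.mpr hfx₁c)
  -- e = y ^ j
  have heE : y ^ j ∈ E := Subgroup.pow_mem _ hyE _
  have hccen : ∀ x ∈ E, Commute (y * x₁ * y⁻¹ * x₁⁻¹) x := fun x hx => hZc _ hcZ x hx
  have hφmul : ∀ x ∈ E, ∀ x' ∈ E, y ^ j * (x * x') * (y ^ j)⁻¹ * (x * x')⁻¹ =
      (y ^ j * x * (y ^ j)⁻¹ * x⁻¹) * (y ^ j * x' * (y ^ j)⁻¹ * x'⁻¹) := by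
    intro x hx x' hx'
    have h1 : Commute (y ^ j * x' * (y ^ j)⁻¹ * x'⁻¹) x := hZc _ (hcomm _ heE _ hx') x hx
    calc y ^ j * (x * x') * (y ^ j)⁻¹ * (x * x')⁻¹
        = (y ^ j * x * (y ^ j)⁻¹ * x⁻¹) * (x * (y ^ j * x' * (y ^ j)⁻¹ * x'⁻¹)) * x⁻¹ := by group
      _ = (y ^ j * x * (y ^ j)⁻¹ * x⁻¹) * ((y ^ j * x' * (y ^ j)⁻¹ * x'⁻¹) * x) * x⁻¹ := by
          rw [h1.eq]
      _ = _ := by group
  let D' : Subgroup G :=
    { carrier := {x | x ∈ E ∧ f x = y ^ j * x * (y ^ j)⁻¹ * x⁻¹}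
      one_mem' := ⟨one_mem _, by rw [hf1]; group⟩
      mul_mem' := by
        rintro x x' ⟨hx, hfx⟩ ⟨hx', hfx'⟩
        exact ⟨mul_mem hx hx', by rw [hmul x hx x' hx', hfx, hfx', hφmul x hx x' hx']⟩
      inv_mem' := by
        rintro x ⟨hx, hfx⟩
        refine ⟨inv_mem hx, ?_⟩
        have h1 := hφmul x hx x⁻¹ (inv_mem hx)
        rw [mul_inv_cancel] at h1
        have h2 : y ^ j * 1 * (y ^ j)⁻¹ * (1 : G)⁻¹ = 1 := by group
        rw [h2] at h1
        rw [hfinv x hx, hfx]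
        exact (inv_eq_of_mul_eq_one_right h1.symm) }
  have hKD : K ≤ D' := by
    intro k hk
    refine ⟨hk.1, ?_⟩
    rw [hk.2]
    have : Commute (y ^ j) k := ((show Commute y k from (hyK k hk).symm).pow_left j)
    rw [this.eq]; group
  have hx₁D : x₁ ∈ D' := by
    refine ⟨hx₁E, ?_⟩
    rw [← hj]
    have h : y * x₁ = x₁ * y * (y * x₁ * y⁻¹ * x₁⁻¹) := by
      rw [mul_assoc x₁ y, ← (hccen y hyE).eq, ← mul_assoc, ← (hccen x₁ hx₁E).eq]; group
    have h1 := pow_mul_class2 (hccen y hyE) h j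
    have h2 : Commute ((y * x₁ * y⁻¹ * x₁⁻¹) ^ j) x₁ := (hccen x₁ hx₁E).pow_left j
    have h3 : Commute ((y * x₁ * y⁻¹ * x₁⁻¹) ^ j) (y ^ j) := ((hccen y hyE).pow_left j).pow_right j
    rw [h1]
    calc (y * x₁ * y⁻¹ * x₁⁻¹) ^ j
        = (y * x₁ * y⁻¹ * x₁⁻¹) ^ j * (x₁ * y ^ j) * (y ^ j)⁻¹ * x₁⁻¹ := by group
      _ = x₁ * y ^ j * (y * x₁ * y⁻¹ * x₁⁻¹) ^ j * (y ^ j)⁻¹ * x₁⁻¹ := by
          rw [← mul_assoc, h2.eq, mul_assoc x₁, h3.eq, ← mul_assoc]
  have hDE : D' ≤ E := fun x hx => hx.1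
  have hKD' : K < D' := lt_of_le_of_ne hKD (fun e => hx₁K (e ▸ hx₁D))
  have hDtop : D' = E := by
    apply Subgroup.eq_of_le_of_card_ge hDE
    exact le_trans hcardE' (Cfsg.Agent.Lib.Helper20.card_mul_le_of_lt hG hKD')
  refine ⟨y ^ j, heE, fun x hx => ?_⟩
  have : x ∈ D' := by rw [hDtop]; exact hx
  exact this.2

end Cfsg.Agent.Lib.Helper21.Symp
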