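import Mathlib
import Cfsg.Agent.Lib.Helper21.SympE

set_option autoImplicit false

namespace Cfsg.Agent.Lib.Helper21.Symp

open Cfsg.Agent.Lib.Helper21.CycAct Cfsg.Agent.Lib.Helper21.OmegaCent Cfsg.Agent.Lib.Helper21.CycNT

variable {G : Type*} [Group G]
variable {p n : ℕ} [hp : Fact p.Prime] {u : G}

theorem mem_zpowers_coe {E : Subgroup G} (z x : ↥E) :
    x ∈ Subgroup.zpowers z ↔ (x : G) ∈ Subgroup.zpowers (z : G) := by
  rw [Subgroup.mem_zpowers_iff, Subgroup.mem_zpowers_iff]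
  constructor
  · rintro ⟨i, hi⟩
    exact ⟨i, by rw [← hi]; simp⟩
  · rintro ⟨i, hi⟩
    exact ⟨i, Subtype.ext (by rw [← hi]; simp)⟩

theorem isExtraspecial_subgroup [Finite G] (hG : IsPGroup p G) (E : Subgroup G) (z : G)
    (hzE : z ∈ E) (hz : orderOf z = p) (hzc : ∀ x ∈ E, x * z = z * x)
    (hcenter : ∀ x ∈ E, (∀ y ∈ E, x * y = y * x) → x ∈ Subgroup.zpowers z)
    (hcomm : ∀ x ∈ E, ∀ y ∈ E, x * y * x⁻¹ * y⁻¹ ∈ Subgroup.zpowers z)
    (hpow : ∀ x ∈ E, x ^ p ∈ Subgroup.zpowers z)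
    (hnonab : ∃ x ∈ E, ∃ y ∈ E, x * y ≠ y * x) : Cfsg.IsExtraspecial p ↥E := by
  apply isExtraspecial_of_elements (hG.to_subgroup E) (⟨z, hzE⟩ : ↥E)
  · rw [← hz]; exact Subgroup.orderOf_mk z hzE
  · intro g
    exact Subtype.ext (hzc g g.2)
  · intro x hx
    rw [mem_zpowers_coe]
    apply hcenter x x.2
    intro y hy
    exact congrArg Subtype.val (hx ⟨y, hy⟩)
  · intro x y
    rw [mem_zpowers_coe]
    exact hcomm x x.2 y y.2
  · intro x
    rw [mem_zpowers_coe]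
    exact hpow x x.2
  · obtain ⟨x, hx, y, hy, hxy⟩ := hnonab
    exact ⟨⟨x, hx⟩, ⟨y, hy⟩, fun h => hxy (congrArg Subtype.val h)⟩

theorem Ctx.z_central [Finite G] (c : Ctx p n u) (g : G) :
    g * u ^ (p ^ (n - 1)) = u ^ (p ^ (n - 1)) * g := by
  haveI := c.hchar
  haveI := zpowers_pow_characteristic u (p ^ (n - 1))
  have hN : (Subgroup.zpowers (u ^ (p ^ (n - 1)))).Normal := inferInstance
  have h1 := hN.conj_mem _ (Subgroup.mem_zpowers (u ^ (p ^ (n - 1)))) g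
  obtain ⟨k, hk⟩ := Subgroup.mem_zpowers_iff.mp h1
  have hk' : Acts (u ^ (p ^ (n - 1))) g k := hk.symm
  obtain ⟨m, hm⟩ := c.hpg g
  have h2 := acts_pow hk' (p ^ m)
  rw [hm] at h2
  have h3 : ((p : ℕ) : ℤ) ∣ k ^ (p ^ m) - 1 := (acts_commute_iff c.orderOf_z h2).mp (by simp)
  exact (acts_commute_iff c.orderOf_z hk').mpr (fermat_dvd p m k h3)

theorem Ctx.Z0_central [Finite G] (c : Ctx p n u) {a : G}
    (ha : a ∈ Subgroup.zpowers (u ^ (p ^ (n - 1)))) (g : G) : g * a = a * g := by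
  obtain ⟨i, rfl⟩ := Subgroup.mem_zpowers_iff.mp ha
  have : Commute g (u ^ (p ^ (n - 1))) := c.z_central g
  exact (this.zpow_right i).eq

section supp

variable [Finite G] (c : Ctx p n u) (E₁ : Subgroup G)
  (hZE : Subgroup.zpowers (u ^ (p ^ (n - 1))) ≤ E₁) (hEW : E₁ ≤ c.W)
  (hEU : E₁ ⊓ Subgroup.zpowers u ≤ Subgroup.zpowers (u ^ (p ^ (n - 1))))
  (hWE : c.W ≤ E₁ ⊔ Subgroup.zpowers u)

include hEW hEU hWE in
theorem Ctx.supp_center : ∀ x ∈ E₁, (∀ y ∈ E₁, x * y = y * x) →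
    x ∈ Subgroup.zpowers (u ^ (p ^ (n - 1))) := by
  intro x hx hxc
  apply hEU
  refine ⟨hx, ?_⟩
  rw [← c.W_inf_centralizer]
  refine Subgroup.mem_inf.mpr ⟨hEW hx, ?_⟩
  have hle : E₁ ⊔ Subgroup.zpowers u ≤ Subgroup.centralizer {x} := by
    apply sup_le
    · intro y hy
      rw [Subgroup.mem_centralizer_iff]
      intro b hb
      rw [Set.mem_singleton_iff] at hb
      rw [hb]; exact hxc y hy
    · intro a ha
      rw [Subgroup.mem_centralizer_iff]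
      intro b hb
      rw [Set.mem_singleton_iff] at hb
      rw [hb]; exact (c.comm_U_W ha (hEW hx)).symm
  rw [Subgroup.mem_centralizer_iff]
  intro w hw
  have := Subgroup.mem_centralizer_iff.mp (hle (hWE hw)) x (Set.mem_singleton x)
  exact this.symm

include hEW hEU in
theorem Ctx.supp_pow : ∀ x ∈ E₁, x ^ p ∈ Subgroup.zpowers (u ^ (p ^ (n - 1))) := by
  intro x hx
  exact hEU ⟨Subgroup.pow_mem _ hx _, (hEW hx).2.1⟩

include hZE hEW hEU hWE in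
theorem Ctx.supp_prod : ∀ g : G, ∃ e ∈ E₁, ∃ r ∈ Subgroup.centralizer (E₁ : Set G), g = e * r := by
  intro g
  have hzE : u ^ (p ^ (n - 1)) ∈ E₁ := hZE (Subgroup.mem_zpowers _)
  have hfU : ∀ x ∈ E₁, g * x * g⁻¹ * x⁻¹ ∈ Subgroup.zpowers u := by
    intro x hx
    have := (hEW hx).2.2 g
    have e : g * x * g⁻¹ * x⁻¹ = (x * g * x⁻¹ * g⁻¹)⁻¹ := by group
    rw [e]; exact inv_mem this
  have hfZ : ∀ x ∈ E₁, g * x * g⁻¹ * x⁻¹ ∈ Subgroup.zpowers (u ^ (p ^ (n - 1))) := by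
    intro x hx
    apply omega_zpowers c.hord c.hn (hfU x hx)
    have hcomm : Commute (g * x * g⁻¹ * x⁻¹) x := c.comm_U_W (hfU x hx) (hEW hx)
    have h1 : (g * x * g⁻¹) ^ p = (g * x * g⁻¹ * x⁻¹) ^ p * x ^ p := by
      rw [← hcomm.mul_pow]; congr 1; group
    have h2 : (g * x * g⁻¹) ^ p = x ^ p := by
      rw [conj_pow]
      have := c.Z0_central (c.supp_pow E₁ hEW hEU x hx) g
      rw [this]; group
    rw [h2] at h1
    have h3 : 1 * x ^ p = (g * x * g⁻¹ * x⁻¹) ^ p * x ^ p := by rw [one_mul]; exact h1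
    exact (mul_right_cancel h3).symm
  obtain ⟨e, heE, he⟩ := exists_inner_of_hom c.hpg E₁ (u ^ (p ^ (n - 1))) c.orderOf_z hzE
    (fun x _ => (c.z_central x).symm)
    (fun x hx y hy => c.comm_mem (hEW hx) (hEW hy))
    (c.supp_center E₁ hEW hEU hWE)
    (fun x => g * x * g⁻¹ * x⁻¹) hfZ
    (by
      intro x hx y hy
      have h1 : Commute (g * y * g⁻¹ * y⁻¹) x := (c.Z0_central (hfZ y hy) x).symm
      show g * (x * y) * g⁻¹ * (x * y)⁻¹ = (g * x * g⁻¹ * x⁻¹) * (g * y * g⁻¹ * y⁻¹)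
      calc g * (x * y) * g⁻¹ * (x * y)⁻¹
          = (g * x * g⁻¹ * x⁻¹) * (x * (g * y * g⁻¹ * y⁻¹)) * x⁻¹ := by group
        _ = (g * x * g⁻¹ * x⁻¹) * ((g * y * g⁻¹ * y⁻¹) * x) * x⁻¹ := by rw [h1.eq]
        _ = _ := by group)
    (by
      intro a ha
      show g * a * g⁻¹ * a⁻¹ = 1
      rw [c.Z0_central ha g]; group)
  refine ⟨e, heE, e⁻¹ * g, ?_, by group⟩
  rw [Subgroup.mem_centralizer_iff]
  intro x hx
  have h1 : g * x * g⁻¹ * x⁻¹ = e * x * e⁻¹ * x⁻¹ := he x hx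
  have h2 : g * x * g⁻¹ = e * x * e⁻¹ := mul_right_cancel h1
  calc x * (e⁻¹ * g) = e⁻¹ * (e * x * e⁻¹) * g := by group
    _ = e⁻¹ * (g * x * g⁻¹) * g := by rw [h2]
    _ = e⁻¹ * g * x := by group

include hZE hEW hEU hWE in
theorem Ctx.supp_extraspecial (hWU : c.W ≠ Subgroup.zpowers u) : Cfsg.IsExtraspecial p ↥E₁ := by
  have hzE : u ^ (p ^ (n - 1)) ∈ E₁ := hZE (Subgroup.mem_zpowers _)
  apply isExtraspecial_subgroup c.hpg E₁ (u ^ (p ^ (n - 1))) hzE c.orderOf_z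
    (fun x _ => c.z_central x) (c.supp_center E₁ hEW hEU hWE)
    (fun x hx y hy => c.comm_mem (hEW hx) (hEW hy)) (c.supp_pow E₁ hEW hEU)
  by_contra hno
  apply hWU
  apply le_antisymm _ c.U_le_W
  refine le_trans hWE (sup_le ?_ (le_refl _))
  intro x hx
  apply c.Z0_le_U
  apply c.supp_center E₁ hEW hEU hWE x hx
  intro y hy
  by_contra hne
  exact hno ⟨x, hx, y, hy, hne⟩

end supp

theorem Ctx.exists_E [Finite G] (c : Ctx p n u) : ∃ E : Subgroup G,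
    (∀ g : G, ∃ e ∈ E, ∃ r ∈ Subgroup.centralizer (E : Set G), g = e * r) ∧
    E ≤ c.W ∧ c.W ≤ E ⊔ Subgroup.zpowers u ∧
    (∀ x ∈ E, x ^ p ∈ Subgroup.zpowers (u ^ (p ^ (n - 1)))) ∧
    (p ≠ 2 → 2 ≤ n → ∀ x ∈ E, x ^ p = 1) ∧
    (E = ⊥ ∨ Cfsg.IsExtraspecial p ↥E) := by
  by_cases hWU : c.W = Subgroup.zpowers u
  · refine ⟨⊥, ?_, bot_le, ?_, ?_, ?_, Or.inl rfl⟩
    · intro g
      refine ⟨1, one_mem _, g, ?_, by simp⟩
      rw [Subgroup.mem_centralizer_iff]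
      intro h hh
      rw [SetLike.mem_coe, Subgroup.mem_bot] at hh
      rw [hh]; simp
    · rw [hWU]; exact le_sup_right
    · intro x hx
      rw [Subgroup.mem_bot] at hx
      rw [hx, one_pow]; exact one_mem _
    · intro _ _ x hx
      rw [Subgroup.mem_bot] at hx
      rw [hx, one_pow]
  · obtain ⟨E₁, hZE, hEW, hEU, hWE, hexp⟩ := c.exists_supplement
    exact ⟨E₁, c.supp_prod E₁ hZE hEW hEU hWE, hEW, hWE, c.supp_pow E₁ hEW hEU, hexp,
      Or.inr (c.supp_extraspecial E₁ hZE hEW hEU hWE hWU)⟩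

end Cfsg.Agent.Lib.Helper21.Symp
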