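import Mathlib
import Cfsg.Agent.Lib.Helper21.SympF

set_option autoImplicit false

universe u

namespace Cfsg.Agent.Lib.Helper21.DihType

open Cfsg.Agent.Lib.Helper21.Symp

/-- dihedral-type data on a group: a cyclic subgroup `⟨c⟩` covering the group together with the
coset of an involution `b` inverting `c` -/
structure DT (X : Type*) [Group X] where
  c : X
  b : X
  hb : b ∉ Subgroup.zpowers c
  hcov : ∀ x : X, x ∈ Subgroup.zpowers c ∨ x * b ∈ Subgroup.zpowers c
  hbb : b * b = 1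
  hbc : b * c * b⁻¹ = c⁻¹

namespace DT

variable {X : Type*} [Group X] (D : DT X)

theorem binv : D.b⁻¹ = D.b := inv_eq_of_mul_eq_one_left D.hbb

/-- `b` inverts every power of `c` -/
theorem b_conj {x : X} (hx : x ∈ Subgroup.zpowers D.c) : D.b * x * D.b⁻¹ = x⁻¹ := by
  obtain ⟨i, rfl⟩ := Subgroup.mem_zpowers_iff.mp hx
  rw [← conj_zpow, D.hbc, inv_zpow]

/-- an element outside `⟨c⟩` is `ρ * b` with `ρ ∈ ⟨c⟩` -/
theorem eq_mul_b {y : X} (hy : y ∉ Subgroup.zpowers D.c) :
    ∃ ρ ∈ Subgroup.zpowers D.c, y = ρ * D.b := by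
  rcases D.hcov y with h | h
  · exact absurd h hy
  · refine ⟨y * D.b, h, ?_⟩
    rw [mul_assoc, D.hbb, mul_one]

/-- every element outside `⟨c⟩` is an involution inverting `⟨c⟩` -/
theorem outside_sq {y : X} (hy : y ∉ Subgroup.zpowers D.c) : y * y = 1 := by
  obtain ⟨ρ, hρ, rfl⟩ := D.eq_mul_b hy
  have h := D.b_conj hρ
  have e : ρ * D.b * (ρ * D.b) = ρ * (D.b * ρ * D.b⁻¹) * (D.b * D.b) := by group
  rw [e, h, D.hbb, mul_inv_cancel, one_mul]

theorem outside_conj {y : X} (hy : y ∉ Subgroup.zpowers D.c) {x : X}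
    (hx : x ∈ Subgroup.zpowers D.c) : y * x * y⁻¹ = x⁻¹ := by
  obtain ⟨ρ, hρ, rfl⟩ := D.eq_mul_b hy
  have h := D.b_conj hx
  have e : ρ * D.b * x * (ρ * D.b)⁻¹ = ρ * (D.b * x * D.b⁻¹) * ρ⁻¹ := by group
  rw [e, h]
  obtain ⟨i, rfl⟩ := Subgroup.mem_zpowers_iff.mp hρ
  obtain ⟨j, rfl⟩ := Subgroup.mem_zpowers_iff.mp hx
  rw [← zpow_neg, ← zpow_neg, ← zpow_add, ← zpow_add]
  congr 1; ring

/-- transport along an isomorphism -/
def ofEquiv {Y : Type*} [Group Y] (e : X ≃* Y) : DT Y where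
  c := e D.c
  b := e D.b
  hb := by
    intro h
    apply D.hb
    obtain ⟨i, hi⟩ := Subgroup.mem_zpowers_iff.mp h
    rw [← map_zpow] at hi
    rw [← e.injective hi]
    exact zpow_mem (Subgroup.mem_zpowers _) i
  hcov := by
    intro y
    obtain ⟨x, rfl⟩ := e.surjective y
    rcases D.hcov x with h | h
    · left
      obtain ⟨i, rfl⟩ := Subgroup.mem_zpowers_iff.mp h
      rw [map_zpow]; exact zpow_mem (Subgroup.mem_zpowers _) i
    · right
      obtain ⟨i, hi⟩ := Subgroup.mem_zpowers_iff.mp h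
      rw [← map_mul, ← hi, map_zpow]; exact zpow_mem (Subgroup.mem_zpowers _) i
  hbb := by rw [← map_mul, D.hbb, map_one]
  hbc := by rw [← map_inv, ← map_mul, ← map_mul, D.hbc, map_inv]

/-- the index of `⟨c⟩` is two -/
theorem index_two : (Subgroup.zpowers D.c).index = 2 := by
  rw [Subgroup.index_eq_two_iff]
  refine ⟨D.b, fun x => ?_⟩
  rcases D.hcov x with h | h
  · right
    refine ⟨h, fun h' => D.hb ?_⟩
    have := mul_mem (inv_mem h) h'
    simpa using this
  · left
    refine ⟨h, fun h' => D.hb ?_⟩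
    have := mul_mem (inv_mem h') h
    simpa using this

theorem card_eq [Finite X] : Nat.card X = 2 * orderOf D.c := by
  rw [← (Subgroup.zpowers D.c).card_mul_index, D.index_two, Nat.card_zpowers, mul_comm]

end DT

/-- the standard data on a dihedral group -/
def dihedral (m : ℕ) : DT (DihedralGroup m) where
  c := DihedralGroup.r 1
  b := DihedralGroup.sr 0
  hb := by
    intro h
    obtain ⟨i, hi⟩ := Subgroup.mem_zpowers_iff.mp h
    rw [DihedralGroup.r_one_zpow] at hi
    exact absurd hi (by simp)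
  hcov := by
    intro x
    rcases x with i | i
    · left
      rw [Subgroup.mem_zpowers_iff]
      refine ⟨(ZMod.cast i : ℤ), ?_⟩
      rw [DihedralGroup.r_one_zpow, ZMod.intCast_cast, ZMod.cast_id', id]
    · right
      rw [DihedralGroup.sr_mul_sr, Subgroup.mem_zpowers_iff]
      refine ⟨(ZMod.cast (0 - i) : ℤ), ?_⟩
      rw [DihedralGroup.r_one_zpow, ZMod.intCast_cast, ZMod.cast_id', id]
  hbb := DihedralGroup.sr_mul_self 0
  hbc := by
    rw [DihedralGroup.inv_sr, DihedralGroup.sr_mul_r, DihedralGroup.sr_mul_sr,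
      DihedralGroup.inv_r]
    congr 1; ring

/-- a subgroup of a group with dihedral-type data is cyclic or has such data -/
theorem subgroup {X : Type*} [Group X] (D : DT X) (Q : Subgroup X) :
    IsCyclic Q ∨ Nonempty (DT Q) := by
  by_cases hQ : Q ≤ Subgroup.zpowers D.c
  · left
    exact Subgroup.isCyclic_of_le hQ
  · right
    obtain ⟨y, hyQ, hy⟩ := SetLike.not_le_iff_exists.mp hQ
    -- generator of Q ⊓ ⟨c⟩
    haveI : IsCyclic ↥(Q ⊓ Subgroup.zpowers D.c) := Subgroup.isCyclic_of_le inf_le_right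
    obtain ⟨c', hc'⟩ := (Subgroup.isCyclic_iff_exists_zpowers_eq_top _).mp
      (inferInstance : IsCyclic ↥(Q ⊓ Subgroup.zpowers D.c))
    have hc'mem : c' ∈ Q ⊓ Subgroup.zpowers D.c := by
      rw [← hc']; exact Subgroup.mem_zpowers c'
    have hc'Q : c' ∈ Q := (Subgroup.mem_inf.mp hc'mem).1
    have hc'c : c' ∈ Subgroup.zpowers D.c := (Subgroup.mem_inf.mp hc'mem).2
    have hle : Subgroup.zpowers c' ≤ Subgroup.zpowers D.c := Subgroup.zpowers_le.mpr hc'c
    refine ⟨⟨⟨c', hc'Q⟩, ⟨y, hyQ⟩, ?_, ?_, ?_, ?_⟩⟩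
    · intro h
      rw [mem_zpowers_coe] at h
      exact hy (hle h)
    · rintro ⟨x, hx⟩
      rw [mem_zpowers_coe, mem_zpowers_coe]
      by_cases hxc : x ∈ Subgroup.zpowers D.c
      · left
        show x ∈ Subgroup.zpowers c'
        rw [hc']; exact Subgroup.mem_inf.mpr ⟨hx, hxc⟩
      · right
        show x * y ∈ Subgroup.zpowers c'
        rw [hc']
        refine Subgroup.mem_inf.mpr ⟨mul_mem hx hyQ, ?_⟩
        obtain ⟨ρ, hρ, rfl⟩ := D.eq_mul_b hxc
        obtain ⟨σ, hσ, rfl⟩ := D.eq_mul_b hy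
        have h := D.b_conj hσ
        have e : ρ * D.b * (σ * D.b) = ρ * (D.b * σ * D.b⁻¹) * (D.b * D.b) := by group
        rw [e, h, D.hbb, mul_one]
        exact mul_mem hρ (inv_mem hσ)
    · apply Subtype.ext
      exact D.outside_sq hy
    · apply Subtype.ext
      exact D.outside_conj hy hc'c

end Cfsg.Agent.Lib.Helper21.DihType
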