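import Mathlib
import Cfsg.Agent.Lib.Helper21.DihType
import Cfsg.Agent.Lib.Helper21.SympD
import Cfsg.Agent.Lib.Helper24.TwoInvol

set_option autoImplicit false

universe u

namespace Cfsg.Agent.Lib.Helper21.PByCyc

open Cfsg.Agent.Lib.Helper21.DihType

/-- a normal `p`-subgroup with cyclic quotient makes the group `p`-by-cyclic -/
theorem pbc_of_normal {Y : Type*} [Group Y] [Finite Y] {p : ℕ} [Fact p.Prime] (N : Subgroup Y)
    [hNn : N.Normal] (hN : IsPGroup p N) (hc : IsCyclic (Y ⧸ N)) :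
    (∀ S : Sylow p Y, (S : Subgroup Y).Normal) ∧
    (∀ (S : Sylow p Y) [(S : Subgroup Y).Normal], IsCyclic (Y ⧸ (S : Subgroup Y))) := by
  have hle : ∀ S : Sylow p Y, N ≤ S := fun S => hN.le_sylow_of_normal S
  obtain ⟨g₀, hg₀⟩ := hc.exists_generator
  have hcomm : ∀ a b : Y, a * b * a⁻¹ * b⁻¹ ∈ N := by
    intro a b
    rw [← QuotientGroup.eq_one_iff]
    obtain ⟨i, hi⟩ := Subgroup.mem_zpowers_iff.mp (hg₀ (a : Y ⧸ N))
    obtain ⟨j, hj⟩ := Subgroup.mem_zpowers_iff.mp (hg₀ (b : Y ⧸ N))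
    rw [QuotientGroup.mk_mul, QuotientGroup.mk_mul, QuotientGroup.mk_mul, QuotientGroup.mk_inv,
      QuotientGroup.mk_inv, ← hi, ← hj, ← zpow_neg, ← zpow_neg, ← zpow_add, ← zpow_add, ← zpow_add]
    have : i + j + -i + -j = 0 := by ring
    rw [this, zpow_zero]
  refine ⟨fun S => ⟨fun s hs g => ?_⟩, fun S _ => ?_⟩
  · have h1 := hle S (hcomm g s)
    have : g * s * g⁻¹ = (g * s * g⁻¹ * s⁻¹) * s := by group
    rw [this]
    exact mul_mem h1 hs
  · let f : Y ⧸ N →* Y ⧸ (S : Subgroup Y) :=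
      QuotientGroup.map N (S : Subgroup Y) (MonoidHom.id Y) (fun x hx => hle S hx)
    have hf : Function.Surjective f := by
      intro q
      obtain ⟨y, rfl⟩ := QuotientGroup.mk_surjective q
      exact ⟨(y : Y ⧸ N), rfl⟩
    exact isCyclic_of_surjective f hf

/-- `B ⊔ ⟨x⟩` is `p`-by-cyclic when `x` normalizes the `p`-subgroup `B` -/
theorem pbc_sup_zpowers {G : Type*} [Group G] [Finite G] {p : ℕ} [Fact p.Prime] (B : Subgroup G)
    (hB : IsPGroup p B) (x : G) (hx : x ∈ Subgroup.normalizer (B : Set G)) :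
    (∀ S : Sylow p ↥(B ⊔ Subgroup.zpowers x), (S : Subgroup ↥(B ⊔ Subgroup.zpowers x)).Normal) ∧
    (∀ (S : Sylow p ↥(B ⊔ Subgroup.zpowers x)) [(S : Subgroup ↥(B ⊔ Subgroup.zpowers x)).Normal],
      IsCyclic (↥(B ⊔ Subgroup.zpowers x) ⧸ (S : Subgroup ↥(B ⊔ Subgroup.zpowers x)))) := by
  set H := B ⊔ Subgroup.zpowers x with hH
  have hBH : B ≤ H := le_sup_left
  have hHN : H ≤ Subgroup.normalizer (B : Set G) := by
    refine sup_le Subgroup.le_normalizer ?_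
    rw [Subgroup.zpowers_le]; exact hx
  haveI hn : (B.subgroupOf H).Normal := (Subgroup.normal_subgroupOf_iff_le_normalizer hBH).mpr hHN
  have hp' : IsPGroup p (B.subgroupOf H) := hB.comap_subtype
  have hxH : x ∈ H := by
    rw [hH]; exact Subgroup.mem_sup_right (Subgroup.mem_zpowers x)
  have hn1 : ∀ b ∈ B, x * b * x⁻¹ ∈ B := by
    intro b hb
    exact (Subgroup.mem_normalizer_iff.mp hx b).mp hb
  have hn2 : ∀ b ∈ B, x⁻¹ * b * x ∈ B := by
    intro b hb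
    have := (Subgroup.mem_normalizer_iff.mp (inv_mem hx) b).mp hb
    rwa [inv_inv] at this
  have hcyc : IsCyclic (↥H ⧸ B.subgroupOf H) := by
    refine ⟨⟨((⟨x, hxH⟩ : ↥H) : ↥H ⧸ B.subgroupOf H), fun q => ?_⟩⟩
    obtain ⟨y, rfl⟩ := QuotientGroup.mk_surjective q
    obtain ⟨b, hb, j, hy⟩ := Cfsg.Agent.Lib.Helper21.Symp.exists_mul_zpow_of_mem_sup B x hn1 hn2 y y.2
    refine ⟨j, ?_⟩
    show ((⟨x, hxH⟩ : ↥H) : ↥H ⧸ B.subgroupOf H) ^ j = _
    rw [← QuotientGroup.mk_zpow]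
    rw [QuotientGroup.eq]
    rw [Subgroup.mem_subgroupOf]
    have : ((((⟨x, hxH⟩ : ↥H) ^ j)⁻¹ * y : ↥H) : G) = (x ^ j)⁻¹ * (b * x ^ j) := by
      rw [← hy]; simp
    rw [this]
    have h3 := Cfsg.Agent.Lib.Helper21.Symp.conj_zpow_mem B x hn1 hn2 (-j) b hb
    have e : (x ^ j)⁻¹ * (b * x ^ j) = x ^ (-j) * b * x ^ (-(-j)) := by
      rw [neg_neg, zpow_neg, mul_assoc]
    rw [e]; exact h3
  exact pbc_of_normal (B.subgroupOf H) hp' hcyc


/-- square roots of `1` modulo an odd prime power -/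
theorem int_sq_lemma {p : ℕ} (hp : p.Prime) (hp2 : p ≠ 2) (k : ℕ) (m : ℤ)
    (h : ((p ^ k : ℕ) : ℤ) ∣ m * m - 1) :
    ((p ^ k : ℕ) : ℤ) ∣ m - 1 ∨ ((p ^ k : ℕ) : ℤ) ∣ m + 1 := by
  have e : m * m - 1 = (m - 1) * (m + 1) := by ring
  rw [e] at h
  have hpZ : Prime (p : ℤ) := Nat.prime_iff_prime_int.mp hp
  push_cast at h ⊢
  by_cases h1 : (p : ℤ) ∣ m - 1
  · left
    have h2 : ¬ (p : ℤ) ∣ m + 1 := by
      intro h2
      have h3 : (p : ℤ) ∣ (m + 1) - (m - 1) := dvd_sub h2 h1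
      have e2 : (m + 1) - (m - 1) = ((2 : ℕ) : ℤ) := by push_cast; ring
      rw [e2, Int.natCast_dvd_natCast] at h3
      exact hp2 ((Nat.prime_dvd_prime_iff_eq hp Nat.prime_two).mp h3)
    have hc : IsCoprime ((p : ℤ) ^ k) (m + 1) :=
      IsCoprime.pow_left ((Prime.coprime_iff_not_dvd hpZ).mpr h2)
    exact hc.dvd_of_dvd_mul_right h
  · right
    have hc : IsCoprime ((p : ℤ) ^ k) (m - 1) :=
      IsCoprime.pow_left ((Prime.coprime_iff_not_dvd hpZ).mpr h1)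
    exact hc.dvd_of_dvd_mul_left h

/-- a cyclic complement to a normal Sylow `p`-subgroup with cyclic quotient -/
theorem exists_cyclic_complement_p {Y : Type*} [Group Y] [Finite Y] {p : ℕ} [hp : Fact p.Prime]
    (S : Subgroup Y) [S.Normal]
    (hSp : IsPGroup p S) (hidx : ¬ p ∣ S.index) (hQ : IsCyclic (Y ⧸ S)) :
    ∃ c₀ : Y, (orderOf c₀).Coprime p ∧ S ⊓ Subgroup.zpowers c₀ = ⊥ ∧
      S ⊔ Subgroup.zpowers c₀ = ⊤ ∧ Nat.card S * orderOf c₀ = Nat.card Y := by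
  obtain ⟨k, hk⟩ := hSp.exists_card_eq
  have hcop0 : Nat.Coprime p S.index := (Nat.Prime.coprime_iff_not_dvd hp.out).mpr hidx
  have hcop : Nat.Coprime (Nat.card S) S.index := by
    rw [hk]; exact Nat.Coprime.pow_left _ hcop0
  obtain ⟨C, hC⟩ := Subgroup.exists_right_complement'_of_coprime hcop
  have e : Y ⧸ S ≃* C := hC.symm.QuotientMulEquiv
  haveI : IsCyclic C := isCyclic_of_surjective e e.surjective
  obtain ⟨c₀, hCz⟩ := (Subgroup.isCyclic_iff_exists_zpowers_eq_top C).mp inferInstance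
  have hcard : orderOf c₀ = Nat.card C := by rw [← Nat.card_zpowers, hCz]
  have hmul := hC.card_mul_card
  have hidx' : S.index = Nat.card C := by
    have := S.card_mul_index
    rw [← hmul] at this
    exact Nat.eq_of_mul_eq_mul_left Nat.card_pos this
  refine ⟨c₀, ?_, ?_, ?_, ?_⟩
  · rw [hcard, ← hidx']; exact hcop0.symm
  · rw [hCz]; exact hC.disjoint.eq_bot
  · rw [hCz]; exact hC.sup_eq_top
  · rw [hcard]; exact hmul

/-- commuting generators of coprime orders: the group is cyclic -/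
theorem cyclic_of_commute {Y : Type*} [Group Y] [Finite Y] (s₀ c₀ : Y)
    (hcomm : Commute s₀ c₀) (hcop : (orderOf s₀).Coprime (orderOf c₀))
    (hcard : orderOf s₀ * orderOf c₀ = Nat.card Y) : IsCyclic Y := by
  have := hcomm.orderOf_mul_eq_mul_orderOf_of_coprime hcop
  rw [hcard] at this
  exact isCyclic_of_orderOf_eq_card _ this

/-- an involution inverting a generator of the complement: the group is dihedral -/
theorem dihedral_of_invert {Y : Type*} [Group Y] [Finite Y] (s₀ c₀ : Y)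
    (hc2 : orderOf c₀ = 2) (hinv : c₀ * s₀ * c₀⁻¹ = s₀⁻¹)
    (hmeet : Subgroup.zpowers s₀ ⊓ Subgroup.zpowers c₀ = ⊥)
    (hgen : Subgroup.zpowers s₀ ⊔ Subgroup.zpowers c₀ = ⊤) :
    Nonempty (Y ≃* DihedralGroup (orderOf s₀)) := by
  have hcc : c₀ * c₀ = 1 := Cfsg.Agent.Lib.Helper24.ti_sq_of_order hc2
  have hci : c₀⁻¹ = c₀ := Cfsg.Agent.Lib.Helper24.ti_inv_of_sq hcc
  have hc1 : c₀ ≠ 1 := by
    intro h; rw [h, orderOf_one] at hc2; omega
  have hy2 : (c₀ * s₀) * (c₀ * s₀) = 1 := by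
    have : (c₀ * s₀) * (c₀ * s₀) = (c₀ * s₀ * c₀⁻¹) * (c₀ * c₀) * s₀ := by group
    rw [this, hinv, hcc, mul_one, inv_mul_cancel]
  have hy1 : c₀ * s₀ ≠ 1 := by
    intro h
    have h1 : s₀ = c₀⁻¹ := eq_inv_of_mul_eq_one_right h
    have h2 : c₀ ∈ Subgroup.zpowers s₀ ⊓ Subgroup.zpowers c₀ := by
      refine Subgroup.mem_inf.mpr ⟨?_, Subgroup.mem_zpowers c₀⟩
      rw [h1, hci]; exact Subgroup.mem_zpowers c₀
    rw [hmeet, Subgroup.mem_bot] at h2
    exact hc1 h2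
  have hy : orderOf (c₀ * s₀) = 2 := by
    refine orderOf_eq_prime ?_ hy1
    rw [pow_two]; exact hy2
  have e := Cfsg.Agent.Lib.Helper24.tiEquiv hc2 hy
  have hxy : c₀ * (c₀ * s₀) = s₀ := by rw [← mul_assoc, hcc, one_mul]
  rw [hxy] at e
  have htop : Subgroup.closure ({c₀, c₀ * s₀} : Set Y) = ⊤ := by
    rw [eq_top_iff, ← hgen]
    refine sup_le ?_ ?_
    · rw [Subgroup.zpowers_le]
      have h := mul_mem (Subgroup.subset_closure (show c₀ ∈ ({c₀, c₀ * s₀} : Set Y) by simp))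
        (Subgroup.subset_closure (show c₀ * s₀ ∈ ({c₀, c₀ * s₀} : Set Y) by simp))
      rwa [hxy] at h
    · rw [Subgroup.zpowers_le]
      exact Subgroup.subset_closure (by simp)
  exact ⟨(Subgroup.topEquiv.symm.trans (MulEquiv.subgroupCongr htop.symm)).trans e⟩

end Cfsg.Agent.Lib.Helper21.PByCyc
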