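import Mathlib
import Cfsg.Prelude.Def_Characters
import Cfsg.Prelude.Def_Blocks
import Cfsg.Agent.Lib.Helper25.CharLinear
import Cfsg.Agent.Lib.Helper29.LeoOrbit
import Cfsg.Agent.Lib.helper7.BR.Defs
import Cfsg.Agent.Lib.Helper13.BT.Defs
import Cfsg.Agent.Lib.Helper25.Codegree

set_option autoImplicit false
set_option linter.unusedVariables false
set_option linter.unusedSectionVars false

namespace Cfsg.Agent.Lib.Helper13.BT

open Classical
open scoped ComplexConjugate
open Cfsg.Agent.Lib.Helper25 Cfsg.Agent.Lib.Helper29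
open Cfsg.Agent.Lib.helper7.BR

universe u

variable {G : Type u} [Group G] [Fintype G] {p : ℕ} [Fact p.Prime]

/-- FAITH : a non-principal irreducible character of a simple group is faithful -/
theorem faithful_of_simple [IsSimpleGroup G] (χ : Cfsg.IrrCharacter G) (hχ : χ ≠ trivIrr G) (g : G)
    (hg : (χ : G → ℂ) g = (χ : G → ℂ) 1) : g = 1 := by
  have hcard := Cfsg.Agent.Lib.Helper25.ker_card_one_of_simple (G := G) inferInstance χ hχ
  haveI : Subsingleton {g : G // (χ : G → ℂ) g = (χ : G → ℂ) 1} :=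
    (Nat.card_eq_one_iff_unique.mp hcard).1
  have := Subsingleton.elim (⟨g, hg⟩ : {g : G // (χ : G → ℂ) g = (χ : G → ℂ) 1}) ⟨1, rfl⟩
  exact congrArg Subtype.val this

end Cfsg.Agent.Lib.Helper13.BT
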