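import Mathlib
import Cfsg.Agent.Lib.Helper13.OTS.Defs
import Cfsg.Agent.Lib.Helper16.OStd
import Cfsg.Agent.Lib.Helper16.OPlane

/-!
# Project OTS, row ISOSTD (helper21): two non-degenerate quadratic spaces of the same even dimension and the
same type are isometric (all characteristics).
-/

set_option autoImplicit false
set_option linter.unusedVariables false

namespace Cfsg.Agent.Lib.Helper13.OTS

open Polynomial Module Cfsg.Agent.Lib.Helper13.S5955 Cfsg.Agent.Lib.helper15.S5972
open Cfsg.Agent.Lib.Helper16.OSemi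

/-- ISOSTD [L]: two non-degenerate quadratic spaces of the same even dimension and the same type are isometric. -/
theorem q_iso_std {F : Type*} [Field F] [Fintype F] {ι : Type} [Fintype ι] [DecidableEq ι]
    (Qs : QuadraticForm F (ι → F)) (d : ℕ) (ε : ℤ) (hs : QStd Qs d ε)
    {V' : Type*} [AddCommGroup V'] [Module F V'] [FiniteDimensional F V'] (Q' : QuadraticForm F V')
    (hnd : ∀ u, (∀ v, QuadraticMap.polar Q' u v = 0) → u = 0) (hV : finrank F V' = 2 * d)
    (hty : QTy Q' ⊤ ε) :
    ∃ ψ : (ι → F) ≃ₗ[F] V', ∀ v, Q' (ψ v) = Qs v := by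
  classical
  rcases Nat.eq_zero_or_pos d with h0 | hpos
  · -- both spaces are zero
    subst h0
    have hι : finrank F (ι → F) = 0 := by
      rw [Module.finrank_fintype_fun_eq_card, hs.card]
    have hfr : finrank F (ι → F) = finrank F V' := by rw [hι, hV]
    have hsub : Subsingleton (ι → F) := Module.finrank_zero_iff.mp hι
    refine ⟨LinearEquiv.ofFinrankEq _ _ hfr, ?_⟩
    intro v
    have hv : v = 0 := Subsingleton.elim _ _
    rw [hv, map_zero, map_zero, map_zero]
  · -- coordinates on `V'`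
    have hQ'nd : (QuadraticMap.polarBilin Q').Nondegenerate :=
      ⟨fun u hu => hnd u hu, fun u hu => hnd u (fun v => by
        rw [QuadraticMap.polar_comm]; exact hu v)⟩
    let b' : Basis (Fin (2 * d)) F V' := Module.finBasisOfFinrankEq F V' hV
    let e' : V' ≃ₗ[F] (Fin (2 * d) → F) := b'.equivFun
    let Q'' : QuadraticForm F (Fin (2 * d) → F) := Q'.comp e'.symm.toLinearMap
    have hQ'' : ∀ v, Q'' v = Q' (e'.symm v) := fun v => rfl
    have hQ''nd : (QuadraticMap.polarBilin Q'').Nondegenerate :=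
      nondeg_of_equiv Q' Q'' e'.symm (fun v => rfl) hQ'nd
    have hcard'' : Fintype.card (Fin (2 * d)) = 2 * d := Fintype.card_fin _
    have hty'' : IsType (⇑Q'') d ε := by
      unfold QTy at hty
      rw [finrank_top, hV, show 2 * d / 2 = d by omega] at hty
      exact (isType_congr (F := F)
        (e'.symm.trans (Submodule.topEquiv (R := F) (M := V')).symm).toEquiv
        (fun w : ↥(⊤ : Submodule F V') => Q' (w : V')) (⇑Q'') (fun v => rfl) d ε).mp hty
    rcases hs.eps with rfl | rfl
    · obtain ⟨Φs, hΦs⟩ := to_std_plus Qs hs.nd d hpos hs.card hs.ty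
      obtain ⟨Φ'', hΦ''⟩ := to_std_plus Q'' hQ''nd d hpos hcard'' hty''
      refine ⟨(Φs.symm.trans Φ'').trans e'.symm, ?_⟩
      intro v
      show Q' (e'.symm (Φ'' (Φs.symm v))) = Qs v
      rw [← hQ'', hΦ'', ← hΦs, LinearEquiv.apply_symm_apply]
    · -- an anisotropic binary form from `classify Qs`
      rcases classify hpos hs.card Qs hs.nd with ⟨Φ, hΦ⟩ | ⟨ζ, hζ, _, _⟩
      · exfalso
        have h1 := isType_plus (F := F) d
        have h2 := (isType_of_equiv (⇑Qs) _ Φ hΦ d 1).mpr h1
        exact isType_unique _ d h2 hs.ty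
      · obtain ⟨Φs, hΦs⟩ := to_std_minus Qs hs.nd d hpos hs.card hs.ty 1 ζ (aniso_of_irred ζ hζ)
        obtain ⟨Φ'', hΦ''⟩ := to_std_minus Q'' hQ''nd d hpos hcard'' hty'' 1 ζ (aniso_of_irred ζ hζ)
        refine ⟨(Φs.symm.trans Φ'').trans e'.symm, ?_⟩
        intro v
        show Q' (e'.symm (Φ'' (Φs.symm v))) = Qs v
        rw [← hQ'', hΦ'', ← hΦs, LinearEquiv.apply_symm_apply]

end Cfsg.Agent.Lib.Helper13.OTS
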