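import Mathlib
import Cfsg.Agent.Lib.Helper13.OTS.Defs
import Cfsg.Agent.Lib.Helper16.OStd
import Cfsg.Agent.Lib.helper6.PlusCoords
import Cfsg.Agent.Lib.helper17.OTSQOCTX

/-!
# Project OTS, row TYCLASS (helper21): the dichotomy hyperbolic / elliptic for a non-degenerate even-dimensional
subspace of a quadratic space (all characteristics), with the Witt index in the elliptic case.
Port of helper18's `ty_class` (Helper18/ONETYCLASS.lean) to `Q_W := Q.comp W.subtype`.
-/

set_option autoImplicit false
set_option linter.unusedVariables false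

namespace Cfsg.Agent.Lib.Helper13.OTS

open Polynomial Module Cfsg.Agent.Lib.Helper13.S5955 Cfsg.Agent.Lib.helper15.S5972
open Cfsg.Agent.Lib.Helper16.OSemi

/-- the restriction of `Q` to `W` -/
noncomputable def otstyclass_Q {F : Type*} [Field F] {V : Type*} [AddCommGroup V] [Module F V]
    (Q : QuadraticForm F V) (W : Submodule F V) : QuadraticForm F ↥W :=
  Q.comp W.subtype

theorem otstyclass_Q_apply {F : Type*} [Field F] {V : Type*} [AddCommGroup V] [Module F V]
    (Q : QuadraticForm F V) (W : Submodule F V) (w : ↥W) : otstyclass_Q Q W w = Q (w : V) := rfl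

theorem otstyclass_polar {F : Type*} [Field F] {V : Type*} [AddCommGroup V] [Module F V]
    (Q : QuadraticForm F V) (W : Submodule F V) (u v : ↥W) :
    QuadraticMap.polar (otstyclass_Q Q W) u v = QuadraticMap.polar Q (u : V) (v : V) := by
  unfold QuadraticMap.polar
  rw [otstyclass_Q_apply, otstyclass_Q_apply, otstyclass_Q_apply, Submodule.coe_add]

theorem otstyclass_nd {F : Type*} [Field F] {V : Type*} [AddCommGroup V] [Module F V]
    (Q : QuadraticForm F V) (W : Submodule F V) (hW : SND (qB Q) W) :
    (QuadraticMap.polarBilin (otstyclass_Q Q W)).Nondegenerate := by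
  have hleft : ∀ u : ↥W, (∀ v, QuadraticMap.polarBilin (otstyclass_Q Q W) u v = 0) → u = 0 := by
    intro u hu
    apply Subtype.ext
    apply hW _ u.2
    intro v hv
    have := hu ⟨v, hv⟩
    rw [QuadraticMap.polarBilin_apply_apply, otstyclass_polar] at this
    exact this
  constructor
  · exact hleft
  · intro v hv
    apply hleft
    intro u
    have := hv u
    rw [QuadraticMap.polarBilin_apply_apply] at this ⊢
    rw [QuadraticMap.polar_comm]
    exact this

/-- the image in `V` of a subspace of the coordinate space, with its dimension -/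
theorem otstyclass_image {F : Type*} [Field F] {V : Type*} [AddCommGroup V] [Module F V]
    [FiniteDimensional F V] (W : Submodule F V) {κ : Type*} [Fintype κ]
    (T : (κ → F) ≃ₗ[F] ↥W) (U₀ : Submodule F (κ → F)) :
    ∃ U : Submodule F V, U ≤ W ∧ finrank F U = finrank F U₀ ∧
      ∀ u ∈ U, ∃ v ∈ U₀, ((T v : ↥W) : V) = u := by
  refine ⟨(U₀.map T.toLinearMap).map W.subtype, ?_, ?_, ?_⟩
  · rintro _ ⟨w, _, rfl⟩
    exact w.2
  · rw [Submodule.finrank_map_subtype_eq W _]
    exact LinearEquiv.finrank_map_eq T U₀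
  · rintro _ ⟨_, ⟨v, hv, rfl⟩, rfl⟩
    exact ⟨v, hv, rfl⟩

/-- the `inl`-coordinate subspace of `F^h ⊕ F^h` has dimension `h` -/
theorem otstyclass_dim_plus {F : Type*} [Field F] (h : ℕ) :
    finrank F ↥(LinearMap.ker (LinearMap.funLeft F F (Sum.inr : Fin h → Fin h ⊕ Fin h))) = h := by
  have h1 := LinearMap.finrank_range_add_finrank_ker
    (LinearMap.funLeft F F (Sum.inr : Fin h → Fin h ⊕ Fin h))
  have h2' : LinearMap.range (LinearMap.funLeft F F (Sum.inr : Fin h → Fin h ⊕ Fin h)) = ⊤ :=
    LinearMap.range_eq_top.mpr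
      (LinearMap.funLeft_surjective_of_injective F F _ Sum.inr_injective)
  rw [h2', finrank_top, Module.finrank_fintype_fun_eq_card, Module.finrank_fintype_fun_eq_card,
    Fintype.card_sum, Fintype.card_fin] at h1
  omega

/-- in the minus space the subspace `{v | v (inl (inr ·)) = 0 ∧ v (inr ·) = 0}` has dimension `k` -/
theorem otstyclass_dim_minus {F : Type*} [Field F] (k : ℕ) :
    finrank F ↥(LinearMap.ker (LinearMap.funLeft F F
      (Sum.elim (fun i : Fin k => Sum.inl (Sum.inr i)) (fun t : Fin 2 => Sum.inr t) :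
        Fin k ⊕ Fin 2 → (Fin k ⊕ Fin k) ⊕ Fin 2))) = k := by
  have hinj : Function.Injective (Sum.elim (fun i : Fin k => Sum.inl (Sum.inr i))
      (fun t : Fin 2 => Sum.inr t) : Fin k ⊕ Fin 2 → (Fin k ⊕ Fin k) ⊕ Fin 2) := by
    rintro (a | a) (b | b) hab <;> simp_all
  have h1 := LinearMap.finrank_range_add_finrank_ker
    (LinearMap.funLeft F F (Sum.elim (fun i : Fin k => Sum.inl (Sum.inr i))
      (fun t : Fin 2 => Sum.inr t) : Fin k ⊕ Fin 2 → (Fin k ⊕ Fin k) ⊕ Fin 2))
  have h2' : LinearMap.range (LinearMap.funLeft F F (Sum.elim (fun i : Fin k => Sum.inl (Sum.inr i))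
      (fun t : Fin 2 => Sum.inr t) : Fin k ⊕ Fin 2 → (Fin k ⊕ Fin k) ⊕ Fin 2)) = ⊤ :=
    LinearMap.range_eq_top.mpr (LinearMap.funLeft_surjective_of_injective F F _ hinj)
  rw [h2', finrank_top, Module.finrank_fintype_fun_eq_card, Module.finrank_fintype_fun_eq_card,
    Fintype.card_sum, Fintype.card_sum, Fintype.card_sum, Fintype.card_fin, Fintype.card_fin] at h1
  omega

/-- TYCLASS [L]: the dichotomy, plus the Witt index in the elliptic case. -/
theorem q_ty_class {F : Type*} [Field F] [Fintype F] {V : Type*} [AddCommGroup V] [Module F V]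
    [FiniteDimensional F V] (Q : QuadraticForm F V) (W : Submodule F V) (hW : SND (qB Q) W)
    (hev : Even (finrank F W)) :
    ((∃ U : Submodule F V, U ≤ W ∧ QTS Q U ∧ 2 * finrank F U = finrank F W) ∧ QTy Q W 1) ∨
      ((¬ ∃ U : Submodule F V, U ≤ W ∧ QTS Q U ∧ 2 * finrank F U = finrank F W) ∧ QTy Q W (-1) ∧
        ∃ U : Submodule F V, U ≤ W ∧ QTS Q U ∧ 2 * finrank F U + 2 = finrank F W) := by
  classical
  obtain ⟨h, hh⟩ := hev
  have hdim : finrank F W = 2 * h := by omega
  have hdiv : finrank F W / 2 = h := by omega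
  rcases Nat.eq_zero_or_pos h with h0 | hpos
  · -- W = ⊥
    have hbot : W = ⊥ := Submodule.finrank_eq_zero.mp (by omega)
    left
    subst hbot
    refine ⟨⟨⊥, le_rfl, ?_, by simp⟩, (q_ty_bot Q 1).mpr rfl⟩
    intro u hu
    rw [(Submodule.mem_bot F).mp hu, map_zero]
  · have hnd := otstyclass_nd Q W hW
    by_cases hS : ∃ U : Submodule F V, U ≤ W ∧ QTS Q U ∧ 2 * finrank F U = finrank F W
    · left
      refine ⟨hS, ?_⟩
      obtain ⟨U, hUW, hUts, hUdim⟩ := hS
      let U' : Submodule F ↥W := U.comap W.subtype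
      have hU'dim : finrank F U' = h := by
        have h1 : finrank F U' = finrank F U :=
          (Submodule.comapSubtypeEquivOfLe hUW).finrank_eq
        rw [h1]
        omega
      have hU's : ∀ u ∈ U', otstyclass_Q Q W u = 0 := by
        intro u hu
        rw [otstyclass_Q_apply]
        exact hUts _ hu
      obtain ⟨T, hT⟩ := Cfsg.Agent.Lib.helper6.Plus.exists_hyp_coords (otstyclass_Q Q W) hnd U'
        hU's h hU'dim hdim
      unfold QTy
      rw [hdiv]
      exact (isType_congr (F := F) T.toEquiv (Cfsg.quadFormPlus h F)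
        (fun w : ↥W => Q (w : V)) (fun w => hT w) h 1).mp (isType_plus h)
    · right
      refine ⟨hS, ?_⟩
      -- coordinates
      let b : Basis (Fin (2 * h)) F W := Module.finBasisOfFinrankEq F W hdim
      let e : ↥W ≃ₗ[F] (Fin (2 * h) → F) := b.equivFun
      let Q' : QuadraticForm F (Fin (2 * h) → F) := (otstyclass_Q Q W).comp e.symm.toLinearMap
      have hQ' : ∀ v, Q' v = Q ((e.symm v : ↥W) : V) := fun v => rfl
      have hQ'nd : (QuadraticMap.polarBilin Q').Nondegenerate :=
        nondeg_of_equiv (otstyclass_Q Q W) Q' e.symm (fun v => rfl) hnd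
      rcases classify hpos (Fintype.card_fin _) Q' hQ'nd with ⟨Φ, hΦ⟩ | ⟨ζ, hζ, Φ, hΦ⟩
      · exfalso
        apply hS
        obtain ⟨U, hUW, hUd, hUm⟩ := otstyclass_image W (Φ.trans e.symm)
          (LinearMap.ker (LinearMap.funLeft F F (Sum.inr : Fin h → Fin h ⊕ Fin h)))
        refine ⟨U, hUW, ?_, ?_⟩
        · intro u hu
          obtain ⟨v, hv, rfl⟩ := hUm u hu
          have hv' : ∀ j, v (Sum.inr j) = 0 := by
            intro j
            have := congrFun (LinearMap.mem_ker.mp hv) j
            simpa [LinearMap.funLeft_apply] using this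
          have h1 : Q (((Φ.trans e.symm) v : ↥W) : V) = Cfsg.quadFormPlus h F v := by
            rw [← hΦ v, hQ']; rfl
          rw [h1]
          unfold Cfsg.quadFormPlus
          apply Finset.sum_eq_zero
          intro j _
          rw [hv' j, mul_zero]
        · rw [hUd, otstyclass_dim_plus, hdim]
      · have h1 := isType_minus (F := F) (h - 1) 1 ζ (aniso_of_irred ζ hζ)
        rw [show h - 1 + 1 = h by omega] at h1
        refine ⟨?_, ?_⟩
        · unfold QTy
          rw [hdiv]
          exact (isType_congr (F := F) (Φ.trans e.symm).toEquiv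
            (fun w : ↥W => Q (w : V)) (Cfsg.quadFormMinus (h - 1) F 1 ζ)
            (fun v => by rw [← hΦ v, hQ']; rfl) h (-1)).mpr h1
        · obtain ⟨U, hUW, hUd, hUm⟩ := otstyclass_image W (Φ.trans e.symm)
            (LinearMap.ker (LinearMap.funLeft F F
              (Sum.elim (fun i : Fin (h - 1) => Sum.inl (Sum.inr i)) (fun t : Fin 2 => Sum.inr t) :
                Fin (h - 1) ⊕ Fin 2 → (Fin (h - 1) ⊕ Fin (h - 1)) ⊕ Fin 2)))
          refine ⟨U, hUW, ?_, ?_⟩
          · intro u hu
            obtain ⟨v, hv, rfl⟩ := hUm u hu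
            have hv1 : ∀ j, v (Sum.inl (Sum.inr j)) = 0 := by
              intro j
              have := congrFun (LinearMap.mem_ker.mp hv) (Sum.inl j)
              simpa [LinearMap.funLeft_apply] using this
            have hv2 : ∀ t, v (Sum.inr t) = 0 := by
              intro t
              have := congrFun (LinearMap.mem_ker.mp hv) (Sum.inr t)
              simpa [LinearMap.funLeft_apply] using this
            have h2 : Q (((Φ.trans e.symm) v : ↥W) : V) = Cfsg.quadFormMinus (h - 1) F 1 ζ v := by
              rw [← hΦ v, hQ']; rfl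
            rw [h2]
            unfold Cfsg.quadFormMinus
            rw [hv2 0, hv2 1]
            have : ∑ i : Fin (h - 1), v (Sum.inl (Sum.inl i)) * v (Sum.inl (Sum.inr i)) = 0 := by
              apply Finset.sum_eq_zero
              intro j _
              rw [hv1 j, mul_zero]
            rw [this]
            ring
          · rw [hUd, otstyclass_dim_minus, hdim]
            omega

end Cfsg.Agent.Lib.Helper13.OTS
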