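import Mathlib
import Cfsg.Agent.Lib.Helper13.OTS.Defs
import Cfsg.Agent.Lib.Helper24.S5972SPLIT
import Cfsg.Agent.Lib.Helper16.OCnt2
import Cfsg.Agent.Lib.helper17.OTSQOCTX
import Cfsg.Agent.Lib.Helper21.OTSTYCLASS

/-!
# Project OTS, row TYFPF (helper21): the type of a fixed-point-free isometry of prime order `r ≠ p`
on a non-degenerate even-dimensional subspace (all characteristics).  Port of helper18's `ty_fpf`.
-/

set_option autoImplicit false
set_option linter.unusedVariables false

namespace Cfsg.Agent.Lib.Helper13.OTS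

open Polynomial Module Cfsg.Agent.Lib.Helper13.S5955 Cfsg.Agent.Lib.helper15.S5972
open Cfsg.Agent.Lib.Helper16.OSemi

theorem otstyfpf_pres_pow {F : Type*} [Field F] {V : Type*} [AddCommGroup V] [Module F V] {r : ℕ}
    {Q : QuadraticForm F V} {x : Module.End F V} (h : QCtx r Q x) (j : ℕ) (v : V) :
    Q ((x ^ j) v) = Q v := by
  induction j with
  | zero => rw [pow_zero, Module.End.one_apply]
  | succ j ih => rw [pow_succ', Module.End.mul_apply, h.pres, ih]

/-- a fixed-point-free isometry of prime order `r` on `M`: `r` divides the number of `w ∈ M` with `Q w = 1` -/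
theorem otstyfpf_dvd {F : Type*} [Field F] [Fintype F] {p : ℕ} [Fact p.Prime] [CharP F p]
    {V : Type*} [AddCommGroup V] [Module F V] [FiniteDimensional F V]
    {r : ℕ} [Fact r.Prime] (hrp : r ≠ p) {Q : QuadraticForm F V} {x : Module.End F V}
    (h : QCtx r Q x) (M : Submodule F V) (hM : SInv x M) (hMc : M ≤ cycS r x) :
    r ∣ Nat.card {w : ↥M // Q (w : V) = 1} := by
  classical
  have hr : r.Prime := Fact.out
  obtain ⟨t, ht⟩ : ∃ t, r = t + 1 := ⟨r - 1, by have := hr.pos; omega⟩
  have h1 : x ^ t * x = 1 := by rw [← pow_succ, ← ht, h.pow]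
  have h2 : x * x ^ t = 1 := by rw [← pow_succ', ← ht, h.pow]
  have hMpow : ∀ (j : ℕ) (w : V), w ∈ M → (x ^ j) w ∈ M := by
    intro j
    induction j with
    | zero => intro w hw; rw [pow_zero, Module.End.one_apply]; exact hw
    | succ j ih =>
      intro w hw
      rw [pow_succ, Module.End.mul_apply]
      exact ih _ (hM w hw)
  obtain ⟨_, hcompl, _, _⟩ := o_split (p := p) hrp (q_octx h)
  have hfpf : ∀ w : V, w ∈ M → x w = w → w = 0 := by
    intro w hw hxw
    have hfix : w ∈ fixS x := by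
      unfold fixS
      rw [LinearMap.mem_ker, map_sub, aeval_X, map_one, LinearMap.sub_apply, Module.End.one_apply,
        hxw, sub_self]
    have : w ∈ fixS x ⊓ cycS r x := Submodule.mem_inf.mpr ⟨hfix, hMc hw⟩
    rw [hcompl.inf_eq_bot] at this
    exact (Submodule.mem_bot F).mp this
  let S := {w : ↥M // Q (w : V) = 1}
  have : Finite V := Module.finite_of_finite F
  have : Fintype S := Fintype.ofFinite S
  let σ : Equiv.Perm S :=
    ⟨fun w => ⟨⟨x w.1.1, hM _ w.1.2⟩, by
        show Q (x w.1.1) = 1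
        rw [h.pres]; exact w.2⟩,
     fun w => ⟨⟨(x ^ t) w.1.1, hMpow t _ w.1.2⟩, by
        show Q ((x ^ t) w.1.1) = 1
        rw [otstyfpf_pres_pow h]; exact w.2⟩,
     fun w => by
        apply Subtype.ext; apply Subtype.ext
        show (x ^ t) (x w.1.1) = w.1.1
        rw [← Module.End.mul_apply, h1, Module.End.one_apply],
     fun w => by
        apply Subtype.ext; apply Subtype.ext
        show x ((x ^ t) w.1.1) = w.1.1
        rw [← Module.End.mul_apply, h2, Module.End.one_apply]⟩
  have hσpow : ∀ (j : ℕ) (w : S), (((σ ^ j) w).1 : V) = (x ^ j) w.1.1 := by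
    intro j
    induction j with
    | zero => intro w; rw [pow_zero, pow_zero, Module.End.one_apply]; rfl
    | succ j ih =>
      intro w
      rw [pow_succ, Equiv.Perm.mul_apply, ih, pow_succ, Module.End.mul_apply]
      rfl
  have hσr : σ ^ r ^ 1 = 1 := by
    rw [pow_one]
    ext w : 1
    apply Subtype.ext; apply Subtype.ext
    rw [hσpow, h.pow, Module.End.one_apply]
    rfl
  rw [Nat.card_eq_fintype_card]
  by_contra hnd
  obtain ⟨w, hw⟩ := Equiv.Perm.exists_fixed_point_of_prime hnd hσr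
  have h3 : x w.1.1 = w.1.1 := congrArg (fun z : S => (z.1 : V)) hw
  have h4 := hfpf w.1.1 w.1.2 h3
  have h5 := w.2
  rw [h4] at h5
  simp at h5

/-- TYFPF [L]. -/
theorem q_ty_fpf {F : Type*} [Field F] [Fintype F] {p : ℕ} [Fact p.Prime] [CharP F p]
    {V : Type*} [AddCommGroup V] [Module F V] [FiniteDimensional F V]
    {r : ℕ} [Fact r.Prime] (hrp : r ≠ p) {Q : QuadraticForm F V} {x : Module.End F V}
    (h : QCtx r Q x) (M : Submodule F V) (hM : SInv x M) (hMnd : SND (qB Q) M) (hMc : M ≤ cycS r x)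
    (hM0 : M ≠ ⊥) (hev : Even (finrank F M)) (s : ℤ) (hs : QTy Q M s) :
    ((Fintype.card F : ℕ) : ZMod r) ^ (finrank F M / 2) = (s : ZMod r) := by
  classical
  have hr : r.Prime := Fact.out
  obtain ⟨m, hm⟩ := hev
  have hm2 : finrank F M = 2 * m := by omega
  have hm1 : 1 ≤ m := by
    rcases Nat.eq_zero_or_pos m with h0 | h0
    · exfalso
      apply hM0
      apply Submodule.finrank_eq_zero.mp
      omega
    · exact h0
  have hdiv : finrank F M / 2 = m := by omega
  -- coordinates
  let b : Basis (Fin (2 * m)) F M := Module.finBasisOfFinrankEq F M hm2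
  let e : ↥M ≃ₗ[F] (Fin (2 * m) → F) := b.equivFun
  let Q' : QuadraticForm F (Fin (2 * m) → F) := (otstyclass_Q Q M).comp e.symm.toLinearMap
  have hQ' : ∀ v, Q' v = Q ((e.symm v : ↥M) : V) := fun v => rfl
  have hQ'nd : (QuadraticMap.polarBilin Q').Nondegenerate :=
    nondeg_of_equiv (otstyclass_Q Q M) Q' e.symm (fun v => rfl) (otstyclass_nd Q M hMnd)
  -- the type in coordinates
  have hsQ : IsType (⇑Q') m s := by
    have := (isType_congr (F := F) e.symm.toEquiv (fun w : ↥M => Q (w : V)) (⇑Q')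
      (fun v => (hQ' v).symm) m s).mp
    apply this
    unfold QTy at hs
    rw [hdiv] at hs
    exact hs
  have hcard : Fintype.card (Fin (2 * m)) = 2 * m := Fintype.card_fin _
  have hN := isType_N1 Q' hQ'nd m hm1 hcard s hsQ
  -- the divisibility
  have hdvd : r ∣ cnt (⇑Q') 1 := by
    have h1 := otstyfpf_dvd (p := p) hrp h M hM hMc
    have h2 : cnt (⇑Q') 1 = Nat.card {w : ↥M // Q (w : V) = 1} := by
      have := cnt_congr (F := F) e.symm.toEquiv (fun w : ↥M => Q (w : V)) (⇑Q')
        (fun v => (hQ' v).symm) 1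
      rw [this]
      rfl
    rw [h2]
    exact h1
  have hrq : ¬ r ∣ Fintype.card F := by
    obtain ⟨k, hk⟩ := FiniteField.card F p
    rw [hk.2]
    intro hd
    have := hr.dvd_of_dvd_pow hd
    exact hrp ((Nat.prime_dvd_prime_iff_eq hr (Fact.out : p.Prime)).mp this)
  rw [hdiv]
  have h3 := congrArg (fun z : ℤ => (z : ZMod r)) hN
  simp only [Int.cast_mul, Int.cast_natCast, Int.cast_sub, Int.cast_pow] at h3
  have h4 : ((cnt (⇑Q') 1 : ℕ) : ZMod r) = 0 := (ZMod.natCast_eq_zero_iff _ _).mpr hdvd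
  rw [h4, mul_zero] at h3
  have hx : ((Fintype.card F : ℕ) : ZMod r) ≠ 0 := by
    intro h0
    exact hrq ((ZMod.natCast_eq_zero_iff _ _).mp h0)
  have h5 : ((Fintype.card F : ℕ) : ZMod r) ^ m * (((Fintype.card F : ℕ) : ZMod r) ^ m - (s : ZMod r)) = 0 := by
    rw [h3]; ring
  rcases mul_eq_zero.mp h5 with h0 | h0
  · exact absurd h0 (pow_ne_zero m hx)
  · exact sub_eq_zero.mp h0

end Cfsg.Agent.Lib.Helper13.OTS
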