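import Mathlib
import Cfsg.Prelude.Def_GeometricClasses
import Cfsg.Agent.Lib.Helper27.ASC.Defs
import Cfsg.Agent.Lib.Helper19.ASG.Defs
import Cfsg.Agent.Lib.Helper18.ASP.Defs
import Cfsg.Agent.Lib.Lead.Reindex
import Cfsg.Agent.Lib.Helper28.OFrameT

set_option autoImplicit false
set_option linter.unusedVariables false
set_option linter.unusedSectionVars false

/-!
# Project ASP (helper18), block TR : shared transport lemmas for the decomposition clauses (TR-C3, TR-C4)

`f' = fun x y => f (x ∘ e) (y ∘ e)`, `W' = W.comap (LinearMap.funLeft F F e) = {x | x ∘ e ∈ W}`.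
-/

namespace Cfsg.Agent.Lib.Helper18.ASP

open Cfsg Cfsg.Geo Cfsg.Agent.Lib.Helper27.ASC Cfsg.Agent.Lib.Helper19.ASG
open scoped MatrixGroups Matrix

variable {n : ℕ} {F : Type*} [Field F]

section transport

open Cfsg.Agent.Lib.Lead

variable {ι κ : Type} [Fintype ι] [DecidableEq ι] [Fintype κ] [DecidableEq κ]

/-- own copy of TR-ISO -/
theorem asptrc_iso (e : ι ≃ κ) (f : (ι → F) → (ι → F) → F) :
    (isoGL f).map (RI.glReindex (F := F) e).toMonoidHom =
      isoGL (fun x y : κ → F => f (x ∘ e) (y ∘ e)) := by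
  ext h
  rw [Subgroup.mem_map_equiv, mem_isoGL_iff, mem_isoGL_iff]
  have key : ∀ x : κ → F, ((h : Matrix κ κ F) *ᵥ x) ∘ e =
      (((RI.glReindex (F := F) e).symm h : GL ι F) : Matrix ι ι F) *ᵥ (x ∘ e) := by
    intro x
    have := Cfsg.Agent.Lib.Helper28.OFrameT.reindex_key e ((RI.glReindex (F := F) e).symm h) x
    rwa [MulEquiv.apply_symm_apply] at this
  have e1 : ∀ w : ι → F, (w ∘ e.symm) ∘ e = w := by
    intro w; funext i; simp
  constructor
  · intro H u v
    show f (((h : Matrix κ κ F) *ᵥ u) ∘ e) (((h : Matrix κ κ F) *ᵥ v) ∘ e) = f (u ∘ e) (v ∘ e)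
    rw [key, key]
    exact H _ _
  · intro H u v
    have h1 : f (((h : Matrix κ κ F) *ᵥ (u ∘ e.symm)) ∘ e) (((h : Matrix κ κ F) *ᵥ (v ∘ e.symm)) ∘ e) =
        f ((u ∘ e.symm) ∘ e) ((v ∘ e.symm) ∘ e) := H (u ∘ e.symm) (v ∘ e.symm)
    rw [key, key, e1, e1] at h1
    exact h1

/-- the image of `S ⊓ isoGL f` -/
theorem asptrc_map_inf (e : ι ≃ κ) (f : (ι → F) → (ι → F) → F) (S : Subgroup (GL ι F)) :
    (S ⊓ isoGL f).map (RI.glReindex (F := F) e).toMonoidHom =
      S.map (RI.glReindex (F := F) e).toMonoidHom ⊓ isoGL (fun x y : κ → F => f (x ∘ e) (y ∘ e)) := by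
  have h := Subgroup.map_inf S (isoGL f) (RI.glReindex (F := F) e).toMonoidHom
    (RI.glReindex (F := F) e).injective
  rw [h, asptrc_iso]

theorem asptrc_mem_comap (e : ι ≃ κ) (W : Submodule F (ι → F)) (x : κ → F) :
    x ∈ W.comap (LinearMap.funLeft F F e) ↔ x ∘ e ∈ W := Iff.rfl

theorem asptrc_comp_symm (e : ι ≃ κ) (w : ι → F) : (w ∘ e.symm) ∘ e = w := by
  funext i; simp

theorem asptrc_finrank (e : ι ≃ κ) (W : Submodule F (ι → F)) :
    Module.finrank F (W.comap (LinearMap.funLeft F F e)) = Module.finrank F W := by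
  have h := Submodule.comap_equiv_eq_map_symm (LinearEquiv.funCongrLeft F F e) W
  have h2 : W.comap (LinearMap.funLeft F F e) =
      W.map ((LinearEquiv.funCongrLeft F F e).symm : (ι → F) →ₗ[F] (κ → F)) := h
  rw [h2]
  exact LinearEquiv.finrank_map_eq (LinearEquiv.funCongrLeft F F e).symm W

theorem asptrc_mdecomp (e : ι ≃ κ) {t : ℕ} (m : ℕ) (D : Fin t → Submodule F (ι → F))
    (h : IsMDecomposition m D) :
    IsMDecomposition m (fun i => (D i).comap (LinearMap.funLeft F F e)) := by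
  refine ⟨h.two_le, h.pos, fun i => ?_, ?_, ?_⟩
  · rw [asptrc_finrank]
    exact h.finrank_eq i
  · have := h.indep.map_orderIso (Submodule.orderIsoMapComap (LinearEquiv.funCongrLeft F F e)).symm
    exact this
  · have := OrderIso.map_iSup (Submodule.orderIsoMapComap (LinearEquiv.funCongrLeft F F e)).symm D
    rw [h.iSup_eq_top] at this
    have h2 : (⨆ i, (D i).comap (LinearMap.funLeft F F e)) =
        (⊤ : Submodule F (ι → F)).comap (LinearMap.funLeft F F e) := this.symm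
    rw [h2, Submodule.comap_top]

theorem asptrc_ts (e : ι ≃ κ) (f : (ι → F) → (ι → F) → F) (W : Submodule F (ι → F))
    (h : IsTotallySingularFor f W) :
    IsTotallySingularFor (fun x y : κ → F => f (x ∘ e) (y ∘ e)) (W.comap (LinearMap.funLeft F F e)) := by
  intro u hu v hv
  exact h _ hu _ hv

theorem asptrc_orth (e : ι ≃ κ) (f : (ι → F) → (ι → F) → F) (W W' : Submodule F (ι → F))
    (h : AreOrthogonalFor f W W') :
    AreOrthogonalFor (fun x y : κ → F => f (x ∘ e) (y ∘ e)) (W.comap (LinearMap.funLeft F F e))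
      (W'.comap (LinearMap.funLeft F F e)) := by
  intro u hu v hv
  exact h _ hu _ hv

theorem asptrc_nondeg (e : ι ≃ κ) (f : (ι → F) → (ι → F) → F) (W : Submodule F (ι → F))
    (h : IsNondegenerateOn f W) :
    IsNondegenerateOn (fun x y : κ → F => f (x ∘ e) (y ∘ e)) (W.comap (LinearMap.funLeft F F e)) := by
  intro w hw hw0
  have hw' : w ∘ e ∈ W := hw
  have hne : w ∘ e ≠ 0 := by
    intro hz
    apply hw0
    funext k
    have := congrFun hz (e.symm k)
    simpa using this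
  obtain ⟨⟨x, hx, hx0⟩, ⟨y, hy, hy0⟩⟩ := h (w ∘ e) hw' hne
  refine ⟨⟨x ∘ e.symm, ?_, ?_⟩, ⟨y ∘ e.symm, ?_, ?_⟩⟩
  · show (x ∘ e.symm) ∘ e ∈ W
    rw [asptrc_comp_symm]; exact hx
  · show f ((x ∘ e.symm) ∘ e) (w ∘ e) ≠ 0
    rw [asptrc_comp_symm]; exact hx0
  · show (y ∘ e.symm) ∘ e ∈ W
    rw [asptrc_comp_symm]; exact hy
  · show f (w ∘ e) ((y ∘ e.symm) ∘ e) ≠ 0
    rw [asptrc_comp_symm]; exact hy0

end transport

end Cfsg.Agent.Lib.Helper18.ASP
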