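import Mathlib
import Cfsg.Prelude.Def_GeometricClasses
import Cfsg.Agent.Lib.Helper27.ASC.Defs
import Cfsg.Agent.Lib.Helper19.ASG.Defs
import Cfsg.Agent.Lib.Helper18.ASP.Defs
import Cfsg.Agent.Lib.Lead.Reindex
import Cfsg.Agent.Lib.Helper21.ASPTRCcore

set_option autoImplicit false
set_option linter.unusedVariables false
set_option linter.unusedSectionVars false

/-!
# Project ASP (helper18), block TR : shared transport lemmas for the tensor clauses (TR-C10, TR-C11)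
-/

namespace Cfsg.Agent.Lib.Helper18.ASP

open Cfsg Cfsg.Geo Cfsg.Agent.Lib.Helper27.ASC Cfsg.Agent.Lib.Helper19.ASG
open scoped MatrixGroups Matrix

variable {n : ℕ} {F : Type*} [Field F]

section transport

open Cfsg.Agent.Lib.Lead

variable {ι κ : Type} [Fintype ι] [DecidableEq ι] [Fintype κ] [DecidableEq κ]

theorem asptrct_reindex_reindex {α : Type} [Fintype α] [DecidableEq α] (e₀ : ι ≃ κ) (e : ι ≃ α)
    (k : GL α F) :
    RI.glReindex (F := F) e₀ (Cfsg.Geo.glReindex e.symm k) =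
      Cfsg.Geo.glReindex (e₀.symm.trans e).symm k := by
  apply Units.ext
  ext i j
  rfl

/-- a conjugate of a reindexed standard subgroup, reindexed once more -/
theorem asptrct_map_conj {α : Type} [Fintype α] [DecidableEq α] (e₀ : ι ≃ κ) (e : ι ≃ α)
    (P : GL ι F) (S₀ : Subgroup (GL α F)) :
    (((S₀.map (Cfsg.Geo.glReindex e.symm).toMonoidHom).map (MulAut.conj P).toMonoidHom).map
        (RI.glReindex (F := F) e₀).toMonoidHom) =
      (S₀.map (Cfsg.Geo.glReindex (e₀.symm.trans e).symm).toMonoidHom).map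
        (MulAut.conj (RI.glReindex (F := F) e₀ P)).toMonoidHom := by
  ext g
  constructor
  · rintro ⟨h, ⟨k', ⟨k, hk, rfl⟩, rfl⟩, rfl⟩
    refine ⟨Cfsg.Geo.glReindex (e₀.symm.trans e).symm k, ⟨k, hk, rfl⟩, ?_⟩
    show RI.glReindex (F := F) e₀ P * Cfsg.Geo.glReindex (e₀.symm.trans e).symm k *
      (RI.glReindex (F := F) e₀ P)⁻¹ = RI.glReindex (F := F) e₀
        (P * Cfsg.Geo.glReindex e.symm k * P⁻¹)
    rw [map_mul, map_mul, map_inv, asptrct_reindex_reindex]
  · rintro ⟨k', ⟨k, hk, rfl⟩, rfl⟩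
    refine ⟨P * Cfsg.Geo.glReindex e.symm k * P⁻¹, ⟨Cfsg.Geo.glReindex e.symm k, ⟨k, hk, rfl⟩, rfl⟩,
      ?_⟩
    show RI.glReindex (F := F) e₀ (P * Cfsg.Geo.glReindex e.symm k * P⁻¹) =
      RI.glReindex (F := F) e₀ P * Cfsg.Geo.glReindex (e₀.symm.trans e).symm k *
      (RI.glReindex (F := F) e₀ P)⁻¹
    rw [map_mul, map_mul, map_inv, asptrct_reindex_reindex]

theorem asptrct_map_tensor {n₁ n₂ : ℕ} (e₀ : ι ≃ κ) (e : ι ≃ Fin n₁ × Fin n₂) (P : GL ι F) :
    (tensorProductSubgroup n₁ n₂ e P).map (RI.glReindex (F := F) e₀).toMonoidHom =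
      tensorProductSubgroup n₁ n₂ (e₀.symm.trans e) (RI.glReindex (F := F) e₀ P) :=
  asptrct_map_conj e₀ e P _

theorem asptrct_map_wreath {k t : ℕ} (e₀ : ι ≃ κ) (e : ι ≃ (Fin t → Fin k)) (P : GL ι F) :
    (tensorWreathSubgroup k t e P).map (RI.glReindex (F := F) e₀).toMonoidHom =
      tensorWreathSubgroup k t (e₀.symm.trans e) (RI.glReindex (F := F) e₀ P) :=
  asptrct_map_conj e₀ e P _

/-- the key identity for the form structures -/
theorem asptrct_key {α : Type} (e₀ : ι ≃ κ) (e : ι ≃ α) (P : GL ι F) (z : α → F) :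
    (((RI.glReindex (F := F) e₀ P : GL κ F) : Matrix κ κ F) *ᵥ (z ∘ (e₀.symm.trans e))) ∘ e₀ =
      (P : Matrix ι ι F) *ᵥ (z ∘ e) := by
  rw [Cfsg.Agent.Lib.Helper28.OFrameT.reindex_key]
  congr 1
  funext i
  simp

end transport

end Cfsg.Agent.Lib.Helper18.ASP
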