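import Mathlib
import Cfsg.Agent.Lib.Helper1.S5955N2
import Cfsg.Agent.Lib.Helper18.S5955N4
import Cfsg.Agent.Lib.helper8.S5955X4
import Cfsg.Agent.Lib.helper17.S5955N3

/-!
# Project S5955, row N10 (MAXEL): an isometry `≠ 1` of order `r` of the standard `2d`-space whose fixed space
has dimension `(2d) mod c`: `d / h` copies of one Cauchy element of `Sp_c(q)`, `c = 2h`, and the identity on a
standard `2 (d % h)`-space, transported to the standard space.
-/

set_option autoImplicit false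
set_option linter.unusedVariables false

namespace Cfsg.Agent.Lib.Helper13.S5955

open Polynomial Module

/-- a prime `r ≠ p` does not divide the order of a finite field of characteristic `p`. -/
theorem s5955n10_not_dvd {F : Type*} [Field F] [Fintype F] {p : ℕ} [Fact p.Prime] [CharP F p]
    (r : ℕ) [Fact r.Prime] (hrp : r ≠ p) : ¬ r ∣ Fintype.card F := by
  have hr : r.Prime := Fact.out
  have hp : p.Prime := Fact.out
  obtain ⟨n, -, hn⟩ := FiniteField.card F p
  rw [hn]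
  intro h
  exact hrp ((Nat.prime_dvd_prime_iff_eq hr hp).mp (hr.dvd_of_dvd_pow h))

/-- the order of `q` modulo `r` is positive and `r ∣ q ^ n - 1` for every multiple `n` of it. -/
theorem s5955n10_ord (q r : ℕ) [Fact r.Prime] (hq : ¬ r ∣ q) :
    0 < orderOf (q : ZMod r) ∧ ∀ n, orderOf (q : ZMod r) ∣ n → r ∣ q ^ n - 1 := by
  have hr : r.Prime := Fact.out
  have hq0 : (q : ZMod r) ≠ 0 := by
    rw [Ne, ZMod.natCast_eq_zero_iff]
    exact hq
  constructor
  · rw [orderOf_pos_iff, isOfFinOrder_iff_pow_eq_one]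
    exact ⟨r - 1, Nat.sub_pos_of_lt hr.one_lt, ZMod.pow_card_sub_one_eq_one hq0⟩
  · intro n hn
    have h1 : (q : ZMod r) ^ n = 1 := orderOf_dvd_iff_pow_eq_one.mp hn
    have hq1 : 1 ≤ q ^ n := Nat.one_le_pow _ _ (Nat.pos_of_ne_zero (by rintro rfl; exact hq (dvd_zero r)))
    rw [← ZMod.natCast_eq_zero_iff, Nat.cast_sub hq1]
    push_cast
    rw [h1, sub_self]

/-- N10 core: `maxel` from the statement of X5 (`transport_dims`, second and third parts), specialised. -/
theorem s5955n10_core {F : Type*} [Field F] [Fintype F] {p : ℕ} [Fact p.Prime] [CharP F p]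
    (r : ℕ) [Fact r.Prime] (hrp : r ≠ p) (hr2 : r ≠ 2) (d i c : ℕ)
    (hi : i = orderOf ((Fintype.card F : ℕ) : ZMod r)) (hc : c = if Even i then i else 2 * i)
    (hcd : c ≤ 2 * d)
    (hX5 : ∀ (A h w : ℕ) (y : Module.End F (Fin d ⊕ Fin d → F)) (x' : Module.End F (OSum F A h w))
      (ψ : (Fin d ⊕ Fin d → F) ≃ₗ[F] OSum F A h w),
      (∀ u v, osumB F A h w (ψ u) (ψ v) = stdB d F u v) → (∀ u, ψ (y u) = x' (ψ u)) →
      finrank F (fixS y) = finrank F (fixS x') ∧ (y = 1 ↔ x' = 1)) :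
    ∃ y : Module.End F (Fin d ⊕ Fin d → F), SCtx r (stdB d F) y ∧ y ≠ 1 ∧
      finrank F (fixS y) = (2 * d) % c := by
  obtain ⟨hipos, hdvd⟩ := s5955n10_ord (Fintype.card F) r (s5955n10_not_dvd r hrp)
  rw [← hi] at hipos hdvd
  -- `c = 2 h`, `h ≥ 1`, `i ∣ c`
  obtain ⟨h, hh2⟩ : ∃ h, c = 2 * h := by
    by_cases hie : Even i
    · obtain ⟨k, hk⟩ := hie
      exact ⟨k, by rw [hc, if_pos ⟨k, hk⟩, hk]; ring⟩
    · exact ⟨i, by rw [hc, if_neg hie]⟩
  have hic : i ∣ c := by
    by_cases hie : Even i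
    · rw [hc, if_pos hie]
    · rw [hc, if_neg hie]; exact Dvd.intro_left 2 rfl
  have hcpos : 0 < c := by
    by_cases hie : Even i
    · rw [hc, if_pos hie]; exact hipos
    · rw [hc, if_neg hie]; omega
  have hh : 1 ≤ h := by omega
  have hhd : h ≤ d := by omega
  obtain ⟨y0, hy0, hy01⟩ := cauchy (F := F) r hrp h hh (by rw [← hh2]; exact hdvd c hic)
  obtain ⟨hfix0, -⟩ := cauchy_fpf r hrp h i c hi hc hh2.symm y0 hy0 hy01
  -- the orthogonal sum
  set A : ℕ := d / h with hA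
  set w : ℕ := d % h with hw
  have hAw : A * h + w = d := by rw [hA, hw, mul_comm]; exact Nat.div_add_mod d h
  have hA1 : 1 ≤ A := Nat.div_pos hhd hh
  have h2w : 2 * w = (2 * d) % c := by rw [hh2, hw, Nat.mul_mod_mul_left]
  obtain ⟨hctx, hdim⟩ := osum_ctx (F := F) w r (fun _ : Fin A => y0) (fun _ => hy0)
  obtain ⟨hfx, hne⟩ := osum_fix (F := F) w (fun _ : Fin A => y0) (fun _ => hfix0)
  rw [hAw] at hdim
  obtain ⟨y, ψ, hy, hB, hx⟩ := transport (osumB F A h w) (osumX w (fun _ : Fin A => y0)) hctx d hdim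
  obtain ⟨hfd, h1⟩ := hX5 A h w y (osumX w (fun _ : Fin A => y0)) ψ hB hx
  exact ⟨y, hy, fun hy1 => hne hA1 hh (h1.mp hy1), by rw [hfd, hfx, h2w]⟩

end Cfsg.Agent.Lib.Helper13.S5955
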