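import Mathlib
import Cfsg.Agent.Lib.Helper21.S5955N10
import Cfsg.Agent.Lib.helper2.S5955X5

/-!
# Project S5955, row N10 (MAXEL), verbatim wrapper.
-/

set_option autoImplicit false
set_option linter.unusedVariables false

namespace Cfsg.Agent.Lib.Helper13.S5955

open Polynomial Module

/-- N10 [M] MAXEL: an isometry `≠ 1` of the standard `2d`-space of order `r` whose fixed space
has dimension `(2d) mod c`. -/
theorem maxel {F : Type*} [Field F] [Fintype F] {p : ℕ} [Fact p.Prime] [CharP F p]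
    (r : ℕ) [Fact r.Prime] (hrp : r ≠ p) (hr2 : r ≠ 2) (d i c : ℕ)
    (hi : i = orderOf ((Fintype.card F : ℕ) : ZMod r)) (hc : c = if Even i then i else 2 * i)
    (hcd : c ≤ 2 * d) :
    ∃ y : Module.End F (Fin d ⊕ Fin d → F), SCtx r (stdB d F) y ∧ y ≠ 1 ∧
      finrank F (fixS y) = (2 * d) % c := by
  apply s5955n10_core r hrp hr2 d i c hi hc hcd
  intro A h w y x' ψ hB hx
  obtain ⟨-, hfd, h1, -⟩ := transport_dims (stdB d F) y (osumB F A h w) x' ψ hB hx
  exact ⟨hfd, h1⟩

end Cfsg.Agent.Lib.Helper13.S5955
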