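import Mathlib
import Cfsg.Agent.Lib.Helper18.OPE.Defs
import Cfsg.Agent.Lib.helper6.PlusCoords

/-!
# Project OPE, row CP1 (helper21): every hyperbolic `2h`-space contains the same number `N ≥ 1` of totally
singular `h`-spaces (all characteristics).  Char-free port of helper20's ONE `hyp_ts_const`.
-/

set_option autoImplicit false
set_option linter.unusedVariables false

namespace Cfsg.Agent.Lib.Helper18.OPE

open Polynomial Module Cfsg.Agent.Lib.Helper13.S5955 Cfsg.Agent.Lib.helper15.S5972

/-- transport of a family of subspaces of `W` along a linear equivalence `T : ↥W ≃ M` -/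
theorem opecp1_card_transport {F : Type*} [Field F] {V : Type*} [AddCommGroup V] [Module F V]
    {M : Type*} [AddCommGroup M] [Module F M] (W : Submodule F V) (T : ↥W ≃ₗ[F] M)
    (C : Submodule F V → Prop) (C' : Submodule F M → Prop)
    (hC : ∀ U : Submodule F V, U ≤ W →
      (C U ↔ C' ((U.comap W.subtype).map (T : ↥W →ₗ[F] M)))) :
    Nat.card {U : Submodule F V // U ≤ W ∧ C U} = Nat.card {U' : Submodule F M // C' U'} := by
  have hle : ∀ U' : Submodule F M, (U'.comap (T : ↥W →ₗ[F] M)).map W.subtype ≤ W :=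
    fun U' => Submodule.map_subtype_le W _
  have hback : ∀ U' : Submodule F M,
      (((U'.comap (T : ↥W →ₗ[F] M)).map W.subtype).comap W.subtype).map (T : ↥W →ₗ[F] M) = U' := by
    intro U'
    rw [Submodule.comap_map_eq_of_injective W.injective_subtype,
      Submodule.map_comap_eq_of_surjective T.surjective]
  refine Nat.card_congr ⟨fun U => ⟨(U.1.comap W.subtype).map (T : ↥W →ₗ[F] M), (hC U.1 U.2.1).mp U.2.2⟩,
    fun U' => ⟨(U'.1.comap (T : ↥W →ₗ[F] M)).map W.subtype, hle U'.1,
      (hC _ (hle U'.1)).mpr (by rw [hback]; exact U'.2)⟩, ?_, ?_⟩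
  · intro U
    apply Subtype.ext
    show (((U.1.comap W.subtype).map (T : ↥W →ₗ[F] M)).comap (T : ↥W →ₗ[F] M)).map W.subtype = U.1
    rw [Submodule.comap_map_eq_of_injective T.injective, Submodule.map_comap_subtype,
      inf_eq_right.mpr U.2.1]
  · intro U'
    apply Subtype.ext
    exact hback U'.1

/-- the restriction of `Q` to `W` -/
noncomputable def opecp1_Q {F : Type*} [Field F] {V : Type*} [AddCommGroup V] [Module F V]
    (Q : QuadraticForm F V) (W : Submodule F V) : QuadraticForm F ↥W :=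
  Q.comp W.subtype

theorem opecp1_Q_apply {F : Type*} [Field F] {V : Type*} [AddCommGroup V] [Module F V]
    (Q : QuadraticForm F V) (W : Submodule F V) (w : ↥W) : opecp1_Q Q W w = Q (w : V) := rfl

theorem opecp1_polar {F : Type*} [Field F] {V : Type*} [AddCommGroup V] [Module F V]
    (Q : QuadraticForm F V) (W : Submodule F V) (u v : ↥W) :
    QuadraticMap.polar (opecp1_Q Q W) u v = QuadraticMap.polar Q (u : V) (v : V) := by
  unfold QuadraticMap.polar
  rw [opecp1_Q_apply, opecp1_Q_apply, opecp1_Q_apply, Submodule.coe_add]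

theorem opecp1_nd {F : Type*} [Field F] {V : Type*} [AddCommGroup V] [Module F V]
    (Q : QuadraticForm F V) (W : Submodule F V)
    (hW : ∀ u ∈ W, u ≠ 0 → ∃ v ∈ W, QuadraticMap.polar Q u v ≠ 0) :
    (QuadraticMap.polarBilin (opecp1_Q Q W)).Nondegenerate := by
  have hleft : ∀ u : ↥W, (∀ v, QuadraticMap.polarBilin (opecp1_Q Q W) u v = 0) → u = 0 := by
    intro u hu
    by_contra hne
    have hne' : (u : V) ≠ 0 := fun h0 => hne (Subtype.ext h0)
    obtain ⟨v, hv, hpv⟩ := hW u u.2 hne'
    apply hpv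
    have := hu ⟨v, hv⟩
    rw [QuadraticMap.polarBilin_apply_apply, opecp1_polar] at this
    exact this
  constructor
  · exact hleft
  · intro v hv
    apply hleft
    intro u
    have := hv u
    rw [QuadraticMap.polarBilin_apply_apply] at this ⊢
    rw [QuadraticMap.polar_comm]
    exact this

/-- CP1 [M-L]: every hyperbolic `2h`-space contains the same number `N ≥ 1` of t.s. `h`-spaces. -/
theorem hyp_ts_const {F : Type*} [Field F] [Fintype F] (d h : ℕ) :
    ∃ N : ℕ, 0 < N ∧ ∀ W : HYP d (2 * h) F,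
      Nat.card {U : Submodule F (Fin d ⊕ Fin d → F) //
        U ≤ W.1 ∧ Module.finrank F ↥U = h ∧ ∀ u ∈ U, Cfsg.quadFormPlus d F u = 0} = N := by
  classical
  refine ⟨Nat.card {U' : Submodule F (Fin h ⊕ Fin h → F) //
    Module.finrank F ↥U' = h ∧ ∀ u ∈ U', Cfsg.quadFormPlus h F u = 0}, ?_, ?_⟩
  · -- the model has a totally singular `h`-space
    apply Nat.card_pos_iff.mpr
    refine ⟨⟨⟨LinearMap.ker (LinearMap.funLeft F F (Sum.inr : Fin h → Fin h ⊕ Fin h)), ?_, ?_⟩⟩,
      inferInstance⟩
    · -- dimension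
      have hsurj : Function.Surjective (LinearMap.funLeft F F (Sum.inr : Fin h → Fin h ⊕ Fin h)) :=
        LinearMap.funLeft_surjective_of_injective F F _ Sum.inr_injective
      have hrn := LinearMap.finrank_range_add_finrank_ker
        (LinearMap.funLeft F F (Sum.inr : Fin h → Fin h ⊕ Fin h))
      rw [LinearMap.range_eq_top.mpr hsurj, finrank_top, Module.finrank_fin_fun,
        Module.finrank_fintype_fun_eq_card, Fintype.card_sum, Fintype.card_fin] at hrn
      omega
    · intro u hu
      have hu' : ∀ j, u (Sum.inr j) = 0 := by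
        intro j
        have := congrFun (LinearMap.mem_ker.mp hu) j
        simpa [LinearMap.funLeft_apply] using this
      unfold Cfsg.quadFormPlus
      apply Finset.sum_eq_zero
      intro i _
      rw [hu' i, mul_zero]
  · intro W
    obtain ⟨hWdim, hWnd, U₀, hU₀W, hU₀dim, hU₀ts⟩ := W.2
    set Q : QuadraticForm F (Fin d ⊕ Fin d → F) := Cfsg.Agent.Lib.Helper16.qfPlus d F with hQ
    have hQc : ∀ v, Q v = Cfsg.quadFormPlus d F v := fun v => rfl
    have hnd := opecp1_nd Q W.1 hWnd
    let U₀' : Submodule F ↥W.1 := U₀.comap W.1.subtype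
    have hU₀'dim : finrank F U₀' = h := by
      have h1 : finrank F U₀' = finrank F U₀ := (Submodule.comapSubtypeEquivOfLe hU₀W).finrank_eq
      rw [h1]
      omega
    have hU₀'s : ∀ u ∈ U₀', opecp1_Q Q W.1 u = 0 := by
      intro u hu
      rw [opecp1_Q_apply, hQc]
      exact hU₀ts _ hu
    obtain ⟨T, hT⟩ := Cfsg.Agent.Lib.helper6.Plus.exists_hyp_coords (opecp1_Q Q W.1) hnd
      U₀' hU₀'s h hU₀'dim hWdim
    have hTQ : ∀ w : ↥W.1, Cfsg.quadFormPlus h F (T w) = Cfsg.quadFormPlus d F (w : _) := by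
      intro w
      rw [hT w, opecp1_Q_apply, hQc]
    apply opecp1_card_transport W.1 T
      (fun U => Module.finrank F ↥U = h ∧ ∀ u ∈ U, Cfsg.quadFormPlus d F u = 0)
      (fun U' => Module.finrank F ↥U' = h ∧ ∀ u ∈ U', Cfsg.quadFormPlus h F u = 0)
    intro U hUW
    have hdimeq : finrank F ↥((U.comap W.1.subtype).map (T : ↥W.1 →ₗ[F] (Fin h ⊕ Fin h → F))) =
        finrank F ↥U := by
      rw [LinearEquiv.finrank_map_eq T]
      exact (Submodule.comapSubtypeEquivOfLe hUW).finrank_eq
    constructor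
    · rintro ⟨hd, hs⟩
      refine ⟨by rw [hdimeq, hd], ?_⟩
      rintro _ ⟨w, hw, rfl⟩
      show Cfsg.quadFormPlus h F (T w) = 0
      have h1 : Cfsg.quadFormPlus d F ((w : ↥W.1) : Fin d ⊕ Fin d → F) = 0 := hs _ hw
      rw [hTQ, h1]
    · rintro ⟨hd, hs⟩
      refine ⟨by rw [← hdimeq, hd], ?_⟩
      intro u hu
      have h1 := hs (T ⟨u, hUW hu⟩) ⟨⟨u, hUW hu⟩, hu, rfl⟩
      rw [hTQ] at h1
      exact h1

end Cfsg.Agent.Lib.Helper18.OPE
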