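import Mathlib
import Cfsg.Prelude.Def_Classical
import Cfsg.Agent.Lib.helper6.PlusCoords

/-!
# Project OTS, row HYPEXT (helper21), part a: a totally singular subspace of a non-degenerate quadratic space
spans a hyperbolic subspace together with a dual totally singular subspace (all characteristics).
Adapted from helper6's `Plus.exists_hyp_coords` (which is the case `dim V = 2 dim U`).
-/

set_option autoImplicit false

namespace Cfsg.Agent.Lib.Helper13.OTS

open Module Cfsg.Agent.Lib.helper6.Plus

variable {F : Type*} [Field F] {V : Type*} [AddCommGroup V] [Module F V] [FiniteDimensional F V]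

/-- a t.s. `m`-space `U` of a non-degenerate quadratic space: an injective linear map `S : F^m ⊕ F^m → V` with
`Q (S v) = Σ v(inl i) v(inr i)` whose restriction to the `inl`-part is onto `U`. -/
theorem otshypext_hyp (Q : QuadraticForm F V)
    (hQ : (QuadraticMap.polarBilin Q).Nondegenerate) (U : Submodule F V) (hU : ∀ u ∈ U, Q u = 0)
    (m : ℕ) (hdim : finrank F U = m) :
    ∃ S : (Fin m ⊕ Fin m → F) →ₗ[F] V, Function.Injective S ∧
      (∀ v, Q (S v) = Cfsg.quadFormPlus m F v) ∧
      (∀ v : Fin m ⊕ Fin m → F, v ∘ Sum.inr = 0 → S v ∈ U) ∧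
      (∀ u ∈ U, ∃ v : Fin m ⊕ Fin m → F, v ∘ Sum.inr = 0 ∧ S v = u) := by
  classical
  set B : LinearMap.BilinForm F V := QuadraticMap.polarBilin Q with hB
  have hUU : ∀ u ∈ U, ∀ u' ∈ U, QuadraticMap.polar Q u u' = 0 := by
    intro u hu u' hu'
    unfold QuadraticMap.polar
    rw [hU _ (U.add_mem hu hu'), hU u hu, hU u' hu']; ring
  let e : Basis (Fin m) F U := Module.finBasisOfFinrankEq F U hdim
  let Φ : V →ₗ[F] (Fin m → F) := LinearMap.pi (fun i => B (e i : V))
  have hΦ : ∀ v i, Φ v i = QuadraticMap.polar Q (e i : V) v := fun v i => rfl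
  -- kernel of Φ is inside the orthogonal of U
  have hker : LinearMap.ker Φ ≤ B.orthogonal U := by
    intro v hv
    rw [LinearMap.mem_ker] at hv
    rw [LinearMap.BilinForm.mem_orthogonal_iff]
    intro u hu
    show B u v = 0
    have h1 : (B.flip v).comp U.subtype = 0 := by
      apply e.ext
      intro i
      have := congrFun hv i
      rw [hΦ] at this
      show B (e i : V) v = 0
      exact this
    have := congrArg (fun l => l ⟨u, hu⟩) h1
    simpa using this
  have hfo : finrank F (B.orthogonal U) = finrank F V - m := by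
    rw [LinearMap.BilinForm.finrank_orthogonal hQ U, hdim]
  have hmV : m ≤ finrank F V := by rw [← hdim]; exact Submodule.finrank_le U
  have hkerle : finrank F (LinearMap.ker Φ) ≤ finrank F V - m :=
    le_trans (Submodule.finrank_mono hker) (le_of_eq hfo)
  have hrn := LinearMap.finrank_range_add_finrank_ker Φ
  have hrange : LinearMap.range Φ = ⊤ := by
    apply Submodule.eq_top_of_finrank_eq
    rw [Module.finrank_fintype_fun_eq_card, Fintype.card_fin]
    have : finrank F (LinearMap.range Φ) ≤ m := by
      have := Submodule.finrank_le (LinearMap.range Φ)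
      rwa [Module.finrank_fintype_fun_eq_card, Fintype.card_fin] at this
    omega
  obtain ⟨ψ, hψ⟩ := LinearMap.exists_rightInverse_of_surjective Φ hrange
  have hψ' : ∀ y i, QuadraticMap.polar Q (e i : V) (ψ y) = y i := by
    intro y i
    rw [← hΦ]
    have := congrArg (fun l => l y) hψ
    simp only [LinearMap.comp_apply, LinearMap.id_apply] at this
    rw [this]
  obtain ⟨β, hβ⟩ := LinearMap.BilinMap.toQuadraticMap_surjective (Q.comp ψ)
  have hβ' : ∀ y, β y y = Q (ψ y) := by
    intro y
    have := congrArg (fun q => q y) hβ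
    simpa using this
  -- ε
  let ε : (Fin m → F) →ₗ[F] V := U.subtype ∘ₗ (e.equivFun.symm : (Fin m → F) →ₗ[F] U)
  have hεU : ∀ x, ε x ∈ U := fun x => (e.equivFun.symm x).2
  have hεsum : ∀ x, ε x = ∑ i, x i • (e i : V) := by
    intro x
    show ((e.equivFun.symm x : U) : V) = _
    rw [Basis.equivFun_symm_apply]
    simp
  have hεpol : ∀ x v, QuadraticMap.polar Q (ε x) v = ∑ i, x i * QuadraticMap.polar Q (e i : V) v := by
    intro x v
    rw [hεsum]
    have : QuadraticMap.polar Q (∑ i, x i • (e i : V)) v = B (∑ i, x i • (e i : V)) v := rfl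
    rw [this, map_sum, LinearMap.sum_apply]
    apply Finset.sum_congr rfl
    intro i _
    rw [map_smul, LinearMap.smul_apply, smul_eq_mul]
    rfl
  have hεinj : Function.Injective ε := by
    intro x x' h
    have : (e.equivFun.symm x : U) = e.equivFun.symm x' := Subtype.ext h
    exact e.equivFun.symm.injective this
  let k : (Fin m → F) →ₗ[F] (Fin m → F) := LinearMap.pi (fun i => β.flip (Pi.single i 1))
  have hk : ∀ y i, k y i = β y (Pi.single i 1) := fun y i => rfl
  let S' : (Fin m → F) →ₗ[F] V := ψ - ε ∘ₗ k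
  have hS' : ∀ y, S' y = ψ y - ε (k y) := fun y => rfl
  have hpolsymm : ∀ a b, QuadraticMap.polar Q a b = QuadraticMap.polar Q b a :=
    fun a b => QuadraticMap.polar_comm Q a b
  have hQS' : ∀ y, Q (S' y) = 0 := by
    intro y
    rw [hS', Q_sub', hU _ (hεU _), hpolsymm, hεpol]
    have h1 : ∑ i, k y i * QuadraticMap.polar Q (e i : V) (ψ y) = β y y := by
      have h2 : ∀ i, k y i * QuadraticMap.polar Q (e i : V) (ψ y) = β y (y i • Pi.single i 1) := by
        intro i
        rw [hψ', hk, map_smul, smul_eq_mul, mul_comm]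
      rw [Finset.sum_congr rfl (fun i _ => h2 i), ← map_sum]
      congr 1
      funext j
      simp [Finset.sum_apply, Pi.single_apply]
    rw [h1, hβ']
    ring
  have hpolS' : ∀ y i, QuadraticMap.polar Q (e i : V) (S' y) = y i := by
    intro y i
    rw [hS', QuadraticMap.polar_sub_right, hψ', hUU _ (e i).2 _ (hεU _), sub_zero]
  let S : (Fin m ⊕ Fin m → F) →ₗ[F] V :=
    ε ∘ₗ (LinearMap.funLeft F F Sum.inl) + S' ∘ₗ (LinearMap.funLeft F F Sum.inr)
  have hS : ∀ v, S v = ε (v ∘ Sum.inl) + S' (v ∘ Sum.inr) := fun v => rfl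
  have hQS : ∀ v, Q (S v) = Cfsg.quadFormPlus m F v := by
    intro v
    rw [hS, Q_add', hU _ (hεU _), hQS', hεpol]
    unfold Cfsg.quadFormPlus
    rw [zero_add, zero_add]
    apply Finset.sum_congr rfl
    intro i _
    rw [hpolS']
    rfl
  have hSinj : Function.Injective S := by
    rw [← LinearMap.ker_eq_bot, LinearMap.ker_eq_bot']
    intro v hv
    have hy : v ∘ Sum.inr = 0 := by
      funext i
      have h1 : QuadraticMap.polar Q (e i : V) (S v) = 0 := by rw [hv]; simp
      rw [hS, QuadraticMap.polar_add_right, hUU _ (e i).2 _ (hεU _), hpolS', zero_add] at h1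
      exact h1
    have hx : v ∘ Sum.inl = 0 := by
      rw [hS, hy, map_zero, add_zero] at hv
      have := hεinj (hv.trans (map_zero ε).symm)
      exact this
    funext j
    rcases j with j | j
    · exact congrFun hx j
    · exact congrFun hy j
  refine ⟨S, hSinj, hQS, ?_, ?_⟩
  · intro v hv
    rw [hS, hv, map_zero, add_zero]
    exact hεU _
  · intro u hu
    refine ⟨Sum.elim (e.equivFun ⟨u, hu⟩) 0, ?_, ?_⟩
    · funext i; simp
    · rw [hS]
      have h1 : (Sum.elim (e.equivFun ⟨u, hu⟩) (0 : Fin m → F)) ∘ Sum.inr = 0 := by funext i; simp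
      have h2 : (Sum.elim (e.equivFun ⟨u, hu⟩) (0 : Fin m → F)) ∘ Sum.inl = e.equivFun ⟨u, hu⟩ := by
        funext i; simp
      rw [h1, h2, map_zero, add_zero]
      show ((e.equivFun.symm (e.equivFun ⟨u, hu⟩) : U) : V) = u
      rw [LinearEquiv.symm_apply_apply]

end Cfsg.Agent.Lib.Helper13.OTS
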