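import Mathlib
import Cfsg.Agent.Lib.Helper18.OPE.Defs
import Cfsg.Agent.Lib.Helper16.OStd
import Cfsg.Agent.Lib.Helper16.OPlane
import Cfsg.Agent.Lib.Helper16.PlusFam
import Cfsg.Agent.Lib.Helper21.OPECP1
import Cfsg.Agent.Lib.Helper21.OTSHYPEXTa
import Cfsg.Agent.Lib.Helper21.OTSTYCLASS

/-!
# Project OPE, row CM1 (helper21): every elliptic `2h`-space (`h ≥ 1`) contains the same number `N₁ ≥ 1` of
hyperbolic `(2h-2)`-spaces (all characteristics).  Char-free port of helper20's ONE `ell_sub_const`.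
-/

set_option autoImplicit false
set_option linter.unusedVariables false

namespace Cfsg.Agent.Lib.Helper18.OPE

open Polynomial Module Cfsg.Agent.Lib.Helper13.S5955 Cfsg.Agent.Lib.helper15.S5972
open Cfsg.Agent.Lib.Helper16.OSemi

/-- the (pulled back) conditions "dimension `k`, nondegenerate, hyperbolic" of `HYP`, for a function `g : M → F` -/
def opecm1_P {F : Type*} [Field F] {M : Type*} [AddCommGroup M] [Module F M] (g : M → F) (k : ℕ)
    (U : Submodule F M) : Prop :=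
  finrank F ↥U = k ∧
  (∀ u ∈ U, u ≠ 0 → ∃ v ∈ U, QuadraticMap.polar g u v ≠ 0) ∧
  ∃ S : Submodule F M, S ≤ U ∧ 2 * finrank F ↥S = k ∧ ∀ s ∈ S, g s = 0

/-- pulling the conditions back along an injective linear map -/
theorem opecm1_pull {F : Type*} [Field F] {M : Type*} [AddCommGroup M] [Module F M]
    {V : Type*} [AddCommGroup V] [Module F V]
    (ψ : M →ₗ[F] V) (hψ : Function.Injective ψ) (q : V → F) (k : ℕ) (U : Submodule F M) :
    opecm1_P q k (U.map ψ) ↔ opecm1_P (q ∘ ψ) k U := by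
  have hfr : ∀ S : Submodule F M, finrank F ↥(S.map ψ) = finrank F ↥S := fun S =>
    (Submodule.equivMapOfInjective ψ hψ S).finrank_eq.symm
  have hpol : ∀ x w, QuadraticMap.polar (q ∘ ψ) x w = QuadraticMap.polar q (ψ x) (ψ w) := by
    intro x w
    unfold QuadraticMap.polar
    simp only [Function.comp_apply, map_add]
  unfold opecm1_P
  rw [hfr U]
  refine and_congr Iff.rfl (and_congr ?_ ?_)
  · constructor
    · intro hnd w hw hw0
      have hw' : ψ w ≠ 0 := fun h0 => hw0 (hψ (by rw [h0, map_zero]))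
      obtain ⟨y', ⟨y, hy, rfl⟩, hy1⟩ := hnd (ψ w) (Submodule.mem_map_of_mem hw) hw'
      exact ⟨y, hy, by rw [hpol]; exact hy1⟩
    · rintro hnd _ ⟨w, hw, rfl⟩ hw0
      have hw' : w ≠ 0 := fun h0 => hw0 (by rw [h0, map_zero])
      obtain ⟨y, hy, hy1⟩ := hnd w hw hw'
      exact ⟨ψ y, Submodule.mem_map_of_mem hy, by rw [← hpol]; exact hy1⟩
  · constructor
    · rintro ⟨S', hS'U, hS'dim, hS'ts⟩
      have hS'eq : (S'.comap ψ).map ψ = S' := by
        rw [Submodule.map_comap_eq]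
        apply inf_eq_right.mpr
        intro s hs
        obtain ⟨u, _, rfl⟩ := hS'U hs
        exact LinearMap.mem_range_self ψ u
      refine ⟨S'.comap ψ, ?_, ?_, ?_⟩
      · intro s hs
        obtain ⟨u, hu, hus⟩ := hS'U (Submodule.mem_comap.mp hs)
        rw [← hψ hus]
        exact hu
      · rw [← hfr (S'.comap ψ), hS'eq, hS'dim]
      · intro s hs
        exact hS'ts _ (Submodule.mem_comap.mp hs)
    · rintro ⟨S, hSU, hSdim, hSts⟩
      refine ⟨S.map ψ, Submodule.map_mono hSU, ?_, ?_⟩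
      · rw [hfr S, hSdim]
      · rintro _ ⟨s, hs, rfl⟩
        exact hSts s hs

/-- the frozen nondegeneracy gives `SND` -/
theorem opecm1_snd {F : Type*} [Field F] (d : ℕ) (W : Submodule F (Fin d ⊕ Fin d → F))
    (hW : Cfsg.Geo.IsNondegenerateOn (QuadraticMap.polar (Cfsg.quadFormPlus d F)) W) :
    ∀ u ∈ W, u ≠ 0 → ∃ v ∈ W, QuadraticMap.polar (Cfsg.Agent.Lib.Helper16.qfPlus d F) u v ≠ 0 := by
  intro u hu hu0
  obtain ⟨_, ⟨x, hx, hx1⟩⟩ := hW u hu hu0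
  exact ⟨x, hx, hx1⟩

/-- an elliptic space is isometric to a standard minus space -/
theorem opecm1_coords {F : Type*} [Field F] [Fintype F] (d : ℕ)
    (W : Submodule F (Fin d ⊕ Fin d → F))
    (hW : Cfsg.Geo.IsNondegenerateOn (QuadraticMap.polar (Cfsg.quadFormPlus d F)) W)
    (hS : ¬ Cfsg.Geo.IsPlusTypeOn (Cfsg.quadFormPlus d F) W) (h : ℕ) (hpos : 1 ≤ h)
    (hdim : finrank F W = 2 * h) :
    ∃ ζ : F, (∀ t : F, t ^ 2 + t + ζ ≠ 0) ∧
      ∃ Φ : ((Fin (h - 1) ⊕ Fin (h - 1)) ⊕ Fin 2 → F) ≃ₗ[F] ↥W,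
        ∀ v, Cfsg.quadFormPlus d F ((Φ v : ↥W) : Fin d ⊕ Fin d → F) =
          Cfsg.quadFormMinus (h - 1) F 1 ζ v := by
  classical
  set Q : QuadraticForm F (Fin d ⊕ Fin d → F) := Cfsg.Agent.Lib.Helper16.qfPlus d F with hQdef
  have hnd := opecp1_nd Q W (opecm1_snd d W hW)
  let b : Basis (Fin (2 * h)) F W := Module.finBasisOfFinrankEq F W hdim
  let e : ↥W ≃ₗ[F] (Fin (2 * h) → F) := b.equivFun
  let Q' : QuadraticForm F (Fin (2 * h) → F) := (opecp1_Q Q W).comp e.symm.toLinearMap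
  have hQ' : ∀ v, Q' v = Cfsg.quadFormPlus d F ((e.symm v : ↥W) : Fin d ⊕ Fin d → F) := fun v => rfl
  have hQ'nd : (QuadraticMap.polarBilin Q').Nondegenerate :=
    nondeg_of_equiv (opecp1_Q Q W) Q' e.symm (fun v => rfl) hnd
  rcases classify hpos (Fintype.card_fin _) Q' hQ'nd with ⟨Φ, hΦ⟩ | ⟨ζ, hζ, Φ, hΦ⟩
  · exfalso
    apply hS
    obtain ⟨U, hUW, hUd, hUm⟩ := Cfsg.Agent.Lib.Helper13.OTS.otstyclass_image W (Φ.trans e.symm)
      (LinearMap.ker (LinearMap.funLeft F F (Sum.inr : Fin h → Fin h ⊕ Fin h)))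
    refine ⟨U, hUW, ?_, ?_⟩
    · intro u hu
      obtain ⟨v, hv, rfl⟩ := hUm u hu
      have hv' : ∀ j, v (Sum.inr j) = 0 := by
        intro j
        have := congrFun (LinearMap.mem_ker.mp hv) j
        simpa [LinearMap.funLeft_apply] using this
      have h1 : Cfsg.quadFormPlus d F (((Φ.trans e.symm) v : ↥W) : Fin d ⊕ Fin d → F) =
          Cfsg.quadFormPlus h F v := by
        rw [← hΦ v, hQ']; rfl
      rw [h1]
      unfold Cfsg.quadFormPlus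
      apply Finset.sum_eq_zero
      intro j _
      rw [hv' j, mul_zero]
    · rw [hUd, Cfsg.Agent.Lib.Helper13.OTS.otstyclass_dim_plus, hdim]
  · refine ⟨ζ, hζ, Φ.trans e.symm, ?_⟩
    intro v
    rw [← hΦ v, hQ']
    rfl

/-- two elliptic spaces of the same dimension are isometric -/
theorem opecm1_iso {F : Type*} [Field F] [Fintype F] (d : ℕ)
    (W W₀ : Submodule F (Fin d ⊕ Fin d → F))
    (hW : Cfsg.Geo.IsNondegenerateOn (QuadraticMap.polar (Cfsg.quadFormPlus d F)) W)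
    (hS : ¬ Cfsg.Geo.IsPlusTypeOn (Cfsg.quadFormPlus d F) W)
    (hW₀ : Cfsg.Geo.IsNondegenerateOn (QuadraticMap.polar (Cfsg.quadFormPlus d F)) W₀)
    (hS₀ : ¬ Cfsg.Geo.IsPlusTypeOn (Cfsg.quadFormPlus d F) W₀)
    (h : ℕ) (hpos : 1 ≤ h) (hdim : finrank F W = 2 * h) (hdim₀ : finrank F W₀ = 2 * h) :
    ∃ T : ↥W ≃ₗ[F] ↥W₀, ∀ w : ↥W, Cfsg.quadFormPlus d F ((T w : ↥W₀) : Fin d ⊕ Fin d → F) =
      Cfsg.quadFormPlus d F (w : Fin d ⊕ Fin d → F) := by
  obtain ⟨ζ, hζ, Φ, hΦ⟩ := opecm1_coords d W hW hS h hpos hdim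
  obtain ⟨ζ₀, hζ₀, Φ₀, hΦ₀⟩ := opecm1_coords d W₀ hW₀ hS₀ h hpos hdim₀
  obtain ⟨Ψ, hΨ⟩ := minus_change (h - 1) 1 ζ 1 ζ₀ (aniso_of_irred ζ hζ) (aniso_of_irred ζ₀ hζ₀)
  refine ⟨(Φ.symm.trans Ψ).trans Φ₀, ?_⟩
  intro w
  have h1 : ((Φ.symm.trans Ψ).trans Φ₀) w = Φ₀ (Ψ (Φ.symm w)) := rfl
  rw [h1, hΦ₀, hΨ, ← hΦ, LinearEquiv.apply_symm_apply]

/-- the standard plus space satisfies the `HYP` conditions on `⊤` -/
theorem opecm1_std {F : Type*} [Field F] (k : ℕ) :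
    opecm1_P (Cfsg.quadFormPlus k F) (2 * k) (⊤ : Submodule F (Fin k ⊕ Fin k → F)) := by
  classical
  refine ⟨?_, ?_, ?_⟩
  · rw [finrank_top, Module.finrank_fintype_fun_eq_card, Fintype.card_sum, Fintype.card_fin]; ring
  · intro u _ hu0
    by_contra hno
    apply hu0
    have hnd := Cfsg.Agent.Lib.Helper16.qfPlus_nondeg k F
    exact hnd.1 u (fun v => by
      by_contra hv
      exact hno ⟨v, Submodule.mem_top, hv⟩)
  · refine ⟨LinearMap.ker (LinearMap.funLeft F F (Sum.inr : Fin k → Fin k ⊕ Fin k)), le_top, ?_, ?_⟩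
    · rw [Cfsg.Agent.Lib.Helper13.OTS.otstyclass_dim_plus]
    · intro u hu
      have hu' : ∀ j, u (Sum.inr j) = 0 := by
        intro j
        have := congrFun (LinearMap.mem_ker.mp hu) j
        simpa [LinearMap.funLeft_apply] using this
      unfold Cfsg.quadFormPlus
      apply Finset.sum_eq_zero
      intro i _
      rw [hu' i, mul_zero]

/-- an elliptic `2h`-space contains a hyperbolic `(2h-2)`-space -/
theorem opecm1_pos {F : Type*} [Field F] [Fintype F] (d h : ℕ) (hh : 1 ≤ h)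
    (W₀ : Submodule F (Fin d ⊕ Fin d → F)) (hW₀dim : finrank F W₀ = 2 * h)
    (hW₀ : Cfsg.Geo.IsNondegenerateOn (QuadraticMap.polar (Cfsg.quadFormPlus d F)) W₀)
    (hS₀ : ¬ Cfsg.Geo.IsPlusTypeOn (Cfsg.quadFormPlus d F) W₀) :
    ∃ H : Submodule F (Fin d ⊕ Fin d → F), H ≤ W₀ ∧ opecm1_P (Cfsg.quadFormPlus d F) (2 * h - 2) H := by
  classical
  set Q : QuadraticForm F (Fin d ⊕ Fin d → F) := Cfsg.Agent.Lib.Helper16.qfPlus d F with hQdef
  have hQc : ∀ v, Q v = Cfsg.quadFormPlus d F v := fun v => rfl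
  have hsnd := opecm1_snd d W₀ hW₀
  have hSND : SND (QuadraticMap.polarBilin Q) W₀ := by
    intro u hu huv
    by_contra hu0
    obtain ⟨v, hv, hpv⟩ := hsnd u hu hu0
    exact hpv (huv v hv)
  have hnd := opecp1_nd Q W₀ hsnd
  obtain ⟨U, hUle, hUts, hUdim⟩ : ∃ U : Submodule F (Fin d ⊕ Fin d → F), U ≤ W₀ ∧
      (∀ u ∈ U, Q u = 0) ∧ 2 * finrank F U + 2 = finrank F W₀ := by
    rcases Cfsg.Agent.Lib.Helper13.OTS.q_ty_class Q W₀ hSND ⟨h, by omega⟩ with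
      ⟨⟨U, hUle, hUts, hUdim⟩, _⟩ | ⟨_, _, U, hUle, hUts, hUdim⟩
    · exact (hS₀ ⟨U, hUle, fun w hw => hUts w hw, hUdim⟩).elim
    · exact ⟨U, hUle, hUts, hUdim⟩
  let U' : Submodule F ↥W₀ := U.comap W₀.subtype
  have hU'dim : finrank F U' = h - 1 := by
    have h1 : finrank F U' = finrank F U := (Submodule.comapSubtypeEquivOfLe hUle).finrank_eq
    rw [h1]
    omega
  have hU's : ∀ u ∈ U', opecp1_Q Q W₀ u = 0 := by
    intro u hu
    rw [opecp1_Q_apply]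
    exact hUts _ hu
  obtain ⟨S, hSinj, hQS, _, _⟩ := Cfsg.Agent.Lib.Helper13.OTS.otshypext_hyp (opecp1_Q Q W₀) hnd U' hU's
    (h - 1) hU'dim
  let ψ : (Fin (h - 1) ⊕ Fin (h - 1) → F) →ₗ[F] (Fin d ⊕ Fin d → F) := W₀.subtype ∘ₗ S
  have hψinj : Function.Injective ψ := W₀.injective_subtype.comp hSinj
  have hfun : Cfsg.quadFormPlus d F ∘ ψ = Cfsg.quadFormPlus (h - 1) F := by
    funext v
    show Cfsg.quadFormPlus d F ((S v : ↥W₀) : Fin d ⊕ Fin d → F) = _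
    rw [← hQS v, opecp1_Q_apply, hQc]
  refine ⟨(⊤ : Submodule F (Fin (h - 1) ⊕ Fin (h - 1) → F)).map ψ, ?_, ?_⟩
  · rintro _ ⟨v, _, rfl⟩
    exact (S v).2
  · rw [opecm1_pull ψ hψinj, hfun]
    have := opecm1_std (F := F) (h - 1)
    rw [show 2 * (h - 1) = 2 * h - 2 by omega] at this
    exact this

/-- CM1 [M-L]: every elliptic `2h`-space (`h ≥ 1`) contains the same number `N₁ ≥ 1` of hyperbolic `(2h-2)`-spaces. -/
theorem ell_sub_const {F : Type*} [Field F] [Fintype F] (d h : ℕ) (hh : 1 ≤ h) :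
    ∃ N₁ : ℕ, 0 < N₁ ∧ ∀ W : ELL d (2 * h) F,
      Nat.card {W' : HYP d (2 * h - 2) F // W'.1 ≤ W.1} = N₁ := by
  classical
  -- the subtype in the statement, rewritten
  have hre : ∀ W : Submodule F (Fin d ⊕ Fin d → F),
      Nat.card {W' : HYP d (2 * h - 2) F // W'.1 ≤ W} =
      Nat.card {U : Submodule F (Fin d ⊕ Fin d → F) // U ≤ W ∧
        opecm1_P (Cfsg.quadFormPlus d F) (2 * h - 2) U} := by
    intro W
    apply Nat.card_congr
    exact ⟨fun W' => ⟨W'.1.1, W'.2, W'.1.2⟩, fun U => ⟨⟨U.1, U.2.2⟩, U.2.1⟩,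
      fun _ => rfl, fun _ => rfl⟩
  by_cases hne : Nonempty (ELL d (2 * h) F)
  swap
  · exact ⟨1, one_pos, fun W => (hne ⟨W⟩).elim⟩
  obtain ⟨W₀⟩ := hne
  obtain ⟨hW₀dim, hW₀nd, hW₀np⟩ := W₀.2
  refine ⟨Nat.card {W' : HYP d (2 * h - 2) F // W'.1 ≤ W₀.1}, ?_, ?_⟩
  · apply Nat.card_pos_iff.mpr
    refine ⟨?_, inferInstance⟩
    obtain ⟨H, hHle, hHP⟩ := opecm1_pos d h hh W₀.1 hW₀dim hW₀nd hW₀np
    exact ⟨⟨⟨H, hHP⟩, hHle⟩⟩
  · intro W
    obtain ⟨hWdim, hWnd, hWnp⟩ := W.2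
    obtain ⟨T, hT⟩ := opecm1_iso d W.1 W₀.1 hWnd hWnp hW₀nd hW₀np h hh hWdim hW₀dim
    rw [hre W.1, hre W₀.1]
    have key : ∀ (W₁ : Submodule F (Fin d ⊕ Fin d → F)) (T₁ : ↥W₁ ≃ₗ[F] ↥W₀.1)
        (_ : ∀ w : ↥W₁, Cfsg.quadFormPlus d F ((T₁ w : ↥W₀.1) : _) = Cfsg.quadFormPlus d F (w : _)),
        Nat.card {U : Submodule F (Fin d ⊕ Fin d → F) // U ≤ W₁ ∧
          opecm1_P (Cfsg.quadFormPlus d F) (2 * h - 2) U} =
        Nat.card {U' : Submodule F ↥W₀.1 //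
          opecm1_P (Cfsg.quadFormPlus d F ∘ W₀.1.subtype) (2 * h - 2) U'} := by
      intro W₁ T₁ hT₁
      apply opecp1_card_transport W₁ T₁
      intro U hUW
      have hUeq : U = (U.comap W₁.subtype).map W₁.subtype := by
        rw [Submodule.map_comap_subtype, inf_eq_right.mpr hUW]
      have hfun : Cfsg.quadFormPlus d F ∘ W₁.subtype =
          (Cfsg.quadFormPlus d F ∘ W₀.1.subtype) ∘ (T₁ : ↥W₁ →ₗ[F] ↥W₀.1) := by
        funext w
        exact (hT₁ w).symm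
      rw [opecm1_pull (T₁ : ↥W₁ →ₗ[F] ↥W₀.1) T₁.injective, ← hfun,
        ← opecm1_pull W₁.subtype W₁.injective_subtype, ← hUeq]
    rw [key W.1 T hT, key W₀.1 (LinearEquiv.refl F _) (fun _ => rfl)]

end Cfsg.Agent.Lib.Helper18.OPE
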