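import Mathlib

/-!
# Quotients of presented groups: extra relators (helper21; generic, for the bounded-presentation projects)

If `G ≅ ⟨α | R⟩` and `N` is the normal closure in `G` of the images of the words `W`, then
`G ⧸ N ≅ ⟨α | R ∪ W⟩`, letters to letters.  Counting form: a cyclic central (or any normal, normally
generated by one element) subgroup costs one relator.
-/

set_option autoImplicit false

namespace Cfsg.Agent.Lib.Helper21.PresQuot

open PresentedGroup

universe u w

/-- **Quotient by extra relators**, explicit form. -/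
theorem quot_rels {α : Type u} (R W : Set (FreeGroup α)) {G : Type w} [Group G]
    (e : PresentedGroup R ≃* G) (N : Subgroup G) [N.Normal]
    (hN : N = Subgroup.normalClosure ((fun x => e (PresentedGroup.mk R x)) '' W)) :
    ∃ e' : PresentedGroup (R ∪ W) ≃* G ⧸ N,
      ∀ i, e' (PresentedGroup.of i) = ((e (PresentedGroup.of i) : G) : G ⧸ N) := by
  classical
  -- the map `⟨α | R ∪ W⟩ → G ⧸ N`
  let f : α → G ⧸ N := fun i => ((e (PresentedGroup.of i) : G) : G ⧸ N)
  have hlift : ∀ x : FreeGroup α, FreeGroup.lift f x = ((e (PresentedGroup.mk R x) : G) : G ⧸ N) := by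
    intro x
    have : FreeGroup.lift f = ((QuotientGroup.mk' N).comp e.toMonoidHom).comp (PresentedGroup.mk R) := by
      ext i
      simp only [FreeGroup.lift_apply_of, MonoidHom.comp_apply]
      rfl
    exact DFunLike.congr_fun this x
  have hα : ∀ r ∈ R ∪ W, FreeGroup.lift f r = 1 := by
    intro r hr
    rw [hlift]
    rcases hr with hr | hr
    · have : PresentedGroup.mk R r = 1 := (PresentedGroup.mk_eq_one_iff).2 (Subgroup.subset_normalClosure hr)
      rw [this, map_one]; rfl
    · rw [QuotientGroup.eq_one_iff, hN]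
      exact Subgroup.subset_normalClosure ⟨r, hr, rfl⟩
  let a : PresentedGroup (R ∪ W) →* G ⧸ N := PresentedGroup.toGroup hα
  -- the map `⟨α | R⟩ → ⟨α | R ∪ W⟩`
  have hγ : ∀ r ∈ R, FreeGroup.lift (fun i => (PresentedGroup.of i : PresentedGroup (R ∪ W))) r = 1 := by
    intro r hr
    have h1 : FreeGroup.lift (fun i => (PresentedGroup.of i : PresentedGroup (R ∪ W))) r
        = PresentedGroup.mk (R ∪ W) r := by
      have : FreeGroup.lift (fun i => (PresentedGroup.of i : PresentedGroup (R ∪ W)))
          = PresentedGroup.mk (R ∪ W) := by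
        ext i
        simp only [FreeGroup.lift_apply_of]
        rfl
      exact DFunLike.congr_fun this r
    rw [h1]
    exact (PresentedGroup.mk_eq_one_iff).2 (Subgroup.subset_normalClosure (Or.inl hr))
  let γ : PresentedGroup R →* PresentedGroup (R ∪ W) := PresentedGroup.toGroup hγ
  have hγmk : ∀ x : FreeGroup α, γ (PresentedGroup.mk R x) = PresentedGroup.mk (R ∪ W) x := by
    intro x
    have : γ.comp (PresentedGroup.mk R) = PresentedGroup.mk (R ∪ W) := by
      ext i
      simp only [MonoidHom.comp_apply]
      exact PresentedGroup.toGroup.of hγ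
    exact DFunLike.congr_fun this x
  -- `N ≤ ker (γ ∘ e⁻¹)`
  have hker : N ≤ (γ.comp e.symm.toMonoidHom).ker := by
    rw [hN]
    apply Subgroup.normalClosure_le_normal
    rintro _ ⟨x, hx, rfl⟩
    rw [SetLike.mem_coe, MonoidHom.mem_ker, MonoidHom.comp_apply]
    show γ (e.symm (e (PresentedGroup.mk R x))) = 1
    rw [e.symm_apply_apply, hγmk]
    exact (PresentedGroup.mk_eq_one_iff).2 (Subgroup.subset_normalClosure (Or.inr hx))
  let b : G ⧸ N →* PresentedGroup (R ∪ W) := QuotientGroup.lift N (γ.comp e.symm.toMonoidHom) hker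
  have hb : ∀ g : G, b (g : G ⧸ N) = γ (e.symm g) := fun g => rfl
  have ha : ∀ i, a (PresentedGroup.of i) = ((e (PresentedGroup.of i) : G) : G ⧸ N) := by
    intro i
    exact PresentedGroup.toGroup.of hα
  -- `b ∘ a = id`
  have hba : ∀ y, b (a y) = y := by
    intro y
    have : b.comp a = MonoidHom.id _ := by
      apply PresentedGroup.ext
      intro i
      simp only [MonoidHom.comp_apply, MonoidHom.id_apply]
      rw [ha i, hb, e.symm_apply_apply]
      exact hγmk (FreeGroup.of i)
    exact DFunLike.congr_fun this y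
  -- `a ∘ b = id`
  have hab : ∀ q, a (b q) = q := by
    intro q
    obtain ⟨g, rfl⟩ := QuotientGroup.mk_surjective q
    rw [hb]
    obtain ⟨x, hx⟩ := PresentedGroup.mk_surjective R (e.symm g)
    rw [← hx, hγmk]
    show FreeGroup.lift f x = _
    rw [hlift, hx, e.apply_symm_apply]
  exact ⟨{ toFun := a, invFun := b, left_inv := hba, right_inv := hab, map_mul' := a.map_mul }, ha⟩

/-- **One more relator**: quotient by the normal closure of ONE element `c = e (mk w)`. -/
theorem quot_one_relator {m : ℕ} (R : Finset (FreeGroup (Fin m))) {G : Type w} [Group G]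
    (e : PresentedGroup (↑R : Set (FreeGroup (Fin m))) ≃* G) (N : Subgroup G) [N.Normal] (c : G)
    (hN : N = Subgroup.normalClosure {c}) :
    ∃ rels : Finset (FreeGroup (Fin m)), rels.card ≤ R.card + 1 ∧
      ∃ e' : PresentedGroup (↑rels : Set (FreeGroup (Fin m))) ≃* G ⧸ N,
        ∀ i, e' (PresentedGroup.of i) = ((e (PresentedGroup.of i) : G) : G ⧸ N) := by
  classical
  obtain ⟨x, hx⟩ := PresentedGroup.mk_surjective (↑R : Set (FreeGroup (Fin m))) (e.symm c)
  have hc : e (PresentedGroup.mk (↑R : Set (FreeGroup (Fin m))) x) = c := by rw [hx, e.apply_symm_apply]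
  obtain ⟨e', he'⟩ := quot_rels (↑R : Set (FreeGroup (Fin m))) {x} e N (by
    rw [hN, Set.image_singleton, hc])
  refine ⟨insert x R, Finset.card_insert_le _ _, ?_⟩
  have hset : (↑(insert x R) : Set (FreeGroup (Fin m))) = (↑R : Set (FreeGroup (Fin m))) ∪ {x} := by
    rw [Finset.coe_insert, Set.union_singleton]
  rw [hset]
  exact ⟨e', he'⟩

/-- the case of a central element: the quotient by `zpowers c`, `c` central. -/
theorem quot_central {m : ℕ} (R : Finset (FreeGroup (Fin m))) {G : Type w} [Group G]
    (e : PresentedGroup (↑R : Set (FreeGroup (Fin m))) ≃* G) (c : G) (hc : c ∈ Subgroup.center G)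
    (N : Subgroup G) [N.Normal] (hN : N = Subgroup.zpowers c) :
    ∃ rels : Finset (FreeGroup (Fin m)), rels.card ≤ R.card + 1 ∧
      ∃ e' : PresentedGroup (↑rels : Set (FreeGroup (Fin m))) ≃* G ⧸ N,
        ∀ i, e' (PresentedGroup.of i) = ((e (PresentedGroup.of i) : G) : G ⧸ N) := by
  apply quot_one_relator R e N c
  rw [hN]
  apply le_antisymm
  · rw [Subgroup.zpowers_le]
    exact Subgroup.subset_normalClosure rfl
  · have hn : (Subgroup.zpowers c).Normal := by
      constructor
      intro n hn g
      obtain ⟨k, rfl⟩ := hn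
      have hk : c ^ k ∈ Subgroup.center G := Subgroup.zpow_mem _ hc k
      rw [Subgroup.mem_center_iff] at hk
      rw [hk g, mul_inv_cancel_right]
      exact ⟨k, rfl⟩
    apply Subgroup.normalClosure_le_normal
    intro y hy
    rw [Set.mem_singleton_iff] at hy
    rw [hy]
    exact Subgroup.mem_zpowers c

end Cfsg.Agent.Lib.Helper21.PresQuot
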