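import Mathlib
import Cfsg.Agent.Lib.Helper1.SLN.Defs
import Cfsg.Agent.Lib.Helper1.SLN.Defs2
import Cfsg.Agent.Lib.helper23.SL7G1p
import Cfsg.Agent.Lib.Helper16.SLNG2core
import Cfsg.Agent.Lib.Helper16.SLNG3
import Cfsg.Agent.Lib.Helper16.SLNM3

/-!
# Project SL7 (designer helper1), skeleton 2, row G3p (`gX_frame'`), VERBATIM (helper21)

= G3 (`gX_frame`, helper16) under the weaker hypothesis `Glue3` (the same proof).  The statement of G2p (`gX_low'`) is proved here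
under the own name `sl7g3p_gX_low`, so that the row does not wait for G2p.
-/

set_option autoImplicit false

namespace Cfsg.Agent.Lib.Helper1.SLN

open Matrix Equiv
open Cfsg.Agent.Lib.helper17.SLP

universe u v w

section Gp

variable {F : Type u} [Field F] {G : Type v} [Group G]

/-- own copy of the statement of G2p (`gX_low'`) -/
theorem sl7g3p_gX_low (M : ℕ) (α : alternatingGroup (Fin (M + 4)) →* G)
    (β : Matrix.SpecialLinearGroup (Fin 3) F →* G) (H : Glue3 M α β)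
    (σ : alternatingGroup (Fin (M + 4))) (i j : Fin (M + 4))
    (h0 : (σ : Equiv.Perm (Fin (M + 4))) (i0 M) = i) (h1 : (σ : Equiv.Perm (Fin (M + 4))) (i1 M) = j)
    (t : F) : gX M α β j i t = α σ * β (emb23 (xL t)) * (α σ)⁻¹ := by
  have e0 : ((σ * t23 M : alternatingGroup (Fin (M + 4))) : Equiv.Perm (Fin (M + 4))) (i0 M) = j := by
    rw [Subgroup.coe_mul, Equiv.Perm.mul_apply, slng2_t23_i0, h1]
  have e1 : ((σ * t23 M : alternatingGroup (Fin (M + 4))) : Equiv.Perm (Fin (M + 4))) (i1 M) = i := by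
    rw [Subgroup.coe_mul, Equiv.Perm.mul_apply, slng2_t23_i1, h0]
  rw [gX_eq' M α β H (σ * t23 M) j i e0 e1 t, map_mul, _root_.mul_inv_rev, ← slng2_flip2_xU, ← H.g3]
  simp only [mul_assoc]

/-- conjugating by `α (σ * c3 M)` is conjugating by `α σ` after conjugating by `cM` inside `SL₃(F)` -/
theorem sl7g3p_step (M : ℕ) (α : alternatingGroup (Fin (M + 4)) →* G)
    (β : Matrix.SpecialLinearGroup (Fin 3) F →* G) (H : Glue3 M α β)
    (σ : alternatingGroup (Fin (M + 4))) (A : Matrix.SpecialLinearGroup (Fin 3) F) :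
    α (σ * c3 M) * β A * (α (σ * c3 M))⁻¹ = α σ * β (cM * A * cM⁻¹) * (α σ)⁻¹ := by
  rw [map_mul, H.g2, _root_.mul_inv_rev, map_mul, map_mul, map_inv]
  simp only [mul_assoc]

/-- G3p [M]  = G3 (the frame lemma) with `Glue3` (G1p, G2p, M3a, M3b, `H.g2`). -/
theorem gX_frame' (M : ℕ) (α : alternatingGroup (Fin (M + 4)) →* G)
    (β : Matrix.SpecialLinearGroup (Fin 3) F →* G) (H : Glue3 M α β)
    (σ : alternatingGroup (Fin (M + 4))) (a b : Fin 3) (hab : a ≠ b) (t : F) :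
    gX M α β ((σ : Equiv.Perm (Fin (M + 4))) (inc M a)) ((σ : Equiv.Perm (Fin (M + 4))) (inc M b)) t =
      α σ * β (Matrix.SpecialLinearGroup.transvection hab t) * (α σ)⁻¹ := by
  have c0 : ((σ * c3 M : alternatingGroup (Fin (M + 4))) : Equiv.Perm (Fin (M + 4))) (i0 M) =
      (σ : Equiv.Perm (Fin (M + 4))) (i1 M) := by
    rw [Subgroup.coe_mul, Equiv.Perm.mul_apply, slng3_c3_i0]
  have c1 : ((σ * c3 M : alternatingGroup (Fin (M + 4))) : Equiv.Perm (Fin (M + 4))) (i1 M) =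
      (σ : Equiv.Perm (Fin (M + 4))) (i2 M) := by
    rw [Subgroup.coe_mul, Equiv.Perm.mul_apply, slng3_c3_i1]
  have d0 : ((σ * c3 M * c3 M : alternatingGroup (Fin (M + 4))) : Equiv.Perm (Fin (M + 4))) (i0 M) =
      (σ : Equiv.Perm (Fin (M + 4))) (i2 M) := by
    rw [Subgroup.coe_mul, Equiv.Perm.mul_apply, slng3_c3_i0, c1]
  have d1 : ((σ * c3 M * c3 M : alternatingGroup (Fin (M + 4))) : Equiv.Perm (Fin (M + 4))) (i1 M) =
      (σ : Equiv.Perm (Fin (M + 4))) (i0 M) := by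
    rw [Subgroup.coe_mul, Equiv.Perm.mul_apply, slng3_c3_i1, Subgroup.coe_mul, Equiv.Perm.mul_apply,
      slng3_c3_i2]
  fin_cases a <;> fin_cases b
  · exact absurd rfl hab
  · show gX M α β ((σ : Equiv.Perm (Fin (M + 4))) (i0 M)) ((σ : Equiv.Perm (Fin (M + 4))) (i1 M)) t = _
    rw [gX_eq' M α β H σ _ _ rfl rfl t, emb23_xU]
  · show gX M α β ((σ : Equiv.Perm (Fin (M + 4))) (i0 M)) ((σ : Equiv.Perm (Fin (M + 4))) (i2 M)) t = _
    rw [sl7g3p_gX_low M α β H (σ * c3 M * c3 M) _ _ d0 d1 t, emb23_xL, sl7g3p_step M α β H (σ * c3 M),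
      sl7g3p_step M α β H σ, cM_conj, cM_conj]
  · show gX M α β ((σ : Equiv.Perm (Fin (M + 4))) (i1 M)) ((σ : Equiv.Perm (Fin (M + 4))) (i0 M)) t = _
    rw [sl7g3p_gX_low M α β H σ _ _ rfl rfl t, emb23_xL]
  · exact absurd rfl hab
  · show gX M α β ((σ : Equiv.Perm (Fin (M + 4))) (i1 M)) ((σ : Equiv.Perm (Fin (M + 4))) (i2 M)) t = _
    rw [gX_eq' M α β H (σ * c3 M) _ _ c0 c1 t, emb23_xU, sl7g3p_step M α β H σ, cM_conj]
  · show gX M α β ((σ : Equiv.Perm (Fin (M + 4))) (i2 M)) ((σ : Equiv.Perm (Fin (M + 4))) (i0 M)) t = _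
    rw [gX_eq' M α β H (σ * c3 M * c3 M) _ _ d0 d1 t, emb23_xU, sl7g3p_step M α β H (σ * c3 M),
      sl7g3p_step M α β H σ, cM_conj, cM_conj]
  · show gX M α β ((σ : Equiv.Perm (Fin (M + 4))) (i2 M)) ((σ : Equiv.Perm (Fin (M + 4))) (i1 M)) t = _
    rw [sl7g3p_gX_low M α β H (σ * c3 M) _ _ c0 c1 t, emb23_xL, sl7g3p_step M α β H σ, cM_conj]
  · exact absurd rfl hab

end Gp

end Cfsg.Agent.Lib.Helper1.SLN
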