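import Mathlib

/-!
# Project SL3 (helper17, S2287), row E1 (`bn_union`), VERBATIM: the abstract rank-2 Bruhat
decomposition.  Pure group theory (Mathlib only).
-/

set_option autoImplicit false

namespace Cfsg.Agent.Lib.helper17.SL3

universe u v

section E

variable {G : Type u} [Group G]

/-- the union of the six double cosets -/
def sl3e1_Y (B : Subgroup G) (n1 n2 : G) : Set G :=
  {g | ∃ m ∈ ({1, n1, n2, n1 * n2, n2 * n1, n1 * n2 * n1} : Set G),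
    ∃ b₁ ∈ B, ∃ b₂ ∈ B, g = b₁ * m * b₂}

theorem sl3e1_Y_left (B : Subgroup G) (n1 n2 : G) (g c : G) (hg : g ∈ sl3e1_Y B n1 n2)
    (hc : c ∈ B) : c * g ∈ sl3e1_Y B n1 n2 := by
  obtain ⟨m, hm, b₁, hb₁, b₂, hb₂, rfl⟩ := hg
  exact ⟨m, hm, c * b₁, mul_mem hc hb₁, b₂, hb₂, by group⟩

theorem sl3e1_Y_right (B : Subgroup G) (n1 n2 : G) (g c : G) (hg : g ∈ sl3e1_Y B n1 n2)
    (hc : c ∈ B) : g * c ∈ sl3e1_Y B n1 n2 := by
  obtain ⟨m, hm, b₁, hb₁, b₂, hb₂, rfl⟩ := hg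
  exact ⟨m, hm, b₁, hb₁, b₂ * c, mul_mem hb₂ hc, by group⟩

theorem sl3e1_Y_dc (B : Subgroup G) (n1 n2 : G) (g m : G)
    (hm : m ∈ ({1, n1, n2, n1 * n2, n2 * n1, n1 * n2 * n1} : Set G))
    (h : ∃ b₁ ∈ B, ∃ b₂ ∈ B, g = b₁ * m * b₂) : g ∈ sl3e1_Y B n1 n2 := by
  obtain ⟨b₁, hb₁, b₂, hb₂, h⟩ := h
  exact ⟨m, hm, b₁, hb₁, b₂, hb₂, h⟩

theorem bn_union (B : Subgroup G) (n1 n2 : G) (h1 : n1 ^ 2 ∈ B) (h2 : n2 ^ 2 ∈ B)
    (hr1 : ∀ g ∈ B, n1 * g * n1 ∈ B ∨ ∃ b₁ ∈ B, ∃ b₂ ∈ B, n1 * g * n1 = b₁ * n1 * b₂)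
    (hr2 : ∀ g ∈ B, n2 * g * n2 ∈ B ∨ ∃ b₁ ∈ B, ∃ b₂ ∈ B, n2 * g * n2 = b₁ * n2 * b₂)
    (h12 : ∀ g ∈ B, ∃ b₁ ∈ B, ∃ b₂ ∈ B, n1 * g * n2 = b₁ * (n1 * n2) * b₂)
    (h21 : ∀ g ∈ B, ∃ b₁ ∈ B, ∃ b₂ ∈ B, n2 * g * n1 = b₁ * (n2 * n1) * b₂)
    (h121 : ∀ g ∈ B, ∃ b₁ ∈ B, ∃ b₂ ∈ B, n1 * g * (n2 * n1) = b₁ * (n1 * n2 * n1) * b₂)
    (h212 : ∀ g ∈ B, ∃ b₁ ∈ B, ∃ b₂ ∈ B, n2 * g * (n1 * n2) = b₁ * (n2 * n1 * n2) * b₂)
    (hbr : ∃ b ∈ B, n2 * n1 * n2 = b * (n1 * n2 * n1))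
    (hgen : Subgroup.closure ((B : Set G) ∪ {n1, n2}) = ⊤) :
    ∀ g : G, ∃ m ∈ ({1, n1, n2, n1 * n2, n2 * n1, n1 * n2 * n1} : Set G),
      ∃ b₁ ∈ B, ∃ b₂ ∈ B, g = b₁ * m * b₂ := by
  have hM1 : (1 : G) ∈ ({1, n1, n2, n1 * n2, n2 * n1, n1 * n2 * n1} : Set G) := by simp
  have hMn1 : n1 ∈ ({1, n1, n2, n1 * n2, n2 * n1, n1 * n2 * n1} : Set G) := by simp
  have hMn2 : n2 ∈ ({1, n1, n2, n1 * n2, n2 * n1, n1 * n2 * n1} : Set G) := by simp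
  have hM12 : n1 * n2 ∈ ({1, n1, n2, n1 * n2, n2 * n1, n1 * n2 * n1} : Set G) := by simp
  have hM21 : n2 * n1 ∈ ({1, n1, n2, n1 * n2, n2 * n1, n1 * n2 * n1} : Set G) := by simp
  have hM121 : n1 * n2 * n1 ∈ ({1, n1, n2, n1 * n2, n2 * n1, n1 * n2 * n1} : Set G) := by simp
  have Yl := sl3e1_Y_left B n1 n2
  have Yr := sl3e1_Y_right B n1 n2
  have Ydc := sl3e1_Y_dc B n1 n2
  have YB : ∀ c ∈ B, c ∈ sl3e1_Y B n1 n2 := fun c hc => ⟨1, hM1, c, hc, 1, one_mem _, by group⟩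
  obtain ⟨b0, hb0, hbr'⟩ := hbr
  have Y212 : ∀ g, (∃ b₁ ∈ B, ∃ b₂ ∈ B, g = b₁ * (n2 * n1 * n2) * b₂) → g ∈ sl3e1_Y B n1 n2 := by
    rintro g ⟨b₁, hb₁, b₂, hb₂, rfl⟩
    exact ⟨n1 * n2 * n1, hM121, b₁ * b0, mul_mem hb₁ hb0, b₂, hb₂, by rw [hbr']; group⟩
  -- left multiplication by `n1`
  have K1 : ∀ b ∈ B, ∀ m ∈ ({1, n1, n2, n1 * n2, n2 * n1, n1 * n2 * n1} : Set G),
      n1 * b * m ∈ sl3e1_Y B n1 n2 := by
    intro b hb m hm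
    simp only [Set.mem_insert_iff, Set.mem_singleton_iff] at hm
    rcases hm with h | h | h | h | h | h
    · rw [h, mul_one]
      exact ⟨n1, hMn1, 1, one_mem _, b, hb, by group⟩
    · rw [h]
      rcases hr1 b hb with hc | hc
      · exact YB _ hc
      · exact Ydc _ n1 hMn1 hc
    · rw [h]
      exact Ydc _ _ hM12 (h12 b hb)
    · rw [h]
      have e : n1 * b * (n1 * n2) = (n1 * b * n1) * n2 := by group
      rw [e]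
      rcases hr1 b hb with hc | ⟨b₁, hb₁, b₂, hb₂, hc⟩
      · exact ⟨n2, hMn2, _, hc, 1, one_mem _, by group⟩
      · rw [hc]
        have e2 : b₁ * n1 * b₂ * n2 = b₁ * (n1 * b₂ * n2) := by group
        rw [e2]
        exact Yl _ _ (Ydc _ _ hM12 (h12 b₂ hb₂)) hb₁
    · rw [h]
      exact Ydc _ _ hM121 (h121 b hb)
    · rw [h]
      have e : n1 * b * (n1 * n2 * n1) = (n1 * b * n1) * (n2 * n1) := by group
      rw [e]
      rcases hr1 b hb with hc | ⟨b₁, hb₁, b₂, hb₂, hc⟩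
      · exact ⟨n2 * n1, hM21, _, hc, 1, one_mem _, by group⟩
      · rw [hc]
        have e2 : b₁ * n1 * b₂ * (n2 * n1) = b₁ * (n1 * b₂ * (n2 * n1)) := by group
        rw [e2]
        exact Yl _ _ (Ydc _ _ hM121 (h121 b₂ hb₂)) hb₁
  -- left multiplication by `n2`
  have K2 : ∀ b ∈ B, ∀ m ∈ ({1, n1, n2, n1 * n2, n2 * n1, n1 * n2 * n1} : Set G),
      n2 * b * m ∈ sl3e1_Y B n1 n2 := by
    intro b hb m hm
    simp only [Set.mem_insert_iff, Set.mem_singleton_iff] at hm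
    rcases hm with h | h | h | h | h | h
    · rw [h, mul_one]
      exact ⟨n2, hMn2, 1, one_mem _, b, hb, by group⟩
    · rw [h]
      exact Ydc _ _ hM21 (h21 b hb)
    · rw [h]
      rcases hr2 b hb with hc | hc
      · exact YB _ hc
      · exact Ydc _ n2 hMn2 hc
    · rw [h]
      exact Y212 _ (h212 b hb)
    · rw [h]
      have e : n2 * b * (n2 * n1) = (n2 * b * n2) * n1 := by group
      rw [e]
      rcases hr2 b hb with hc | ⟨b₁, hb₁, b₂, hb₂, hc⟩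
      · exact ⟨n1, hMn1, _, hc, 1, one_mem _, by group⟩
      · rw [hc]
        have e2 : b₁ * n2 * b₂ * n1 = b₁ * (n2 * b₂ * n1) := by group
        rw [e2]
        exact Yl _ _ (Ydc _ _ hM21 (h21 b₂ hb₂)) hb₁
    · rw [h]
      have e0 : n1 * n2 * n1 = b0⁻¹ * (n2 * n1 * n2) := by rw [hbr']; group
      have e : n2 * b * (n1 * n2 * n1) = (n2 * (b * b0⁻¹) * n2) * (n1 * n2) := by
        rw [e0]; group
      rw [e]
      rcases hr2 (b * b0⁻¹) (mul_mem hb (inv_mem hb0)) with hc | ⟨b₁, hb₁, b₂, hb₂, hc⟩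
      · exact ⟨n1 * n2, hM12, _, hc, 1, one_mem _, by group⟩
      · rw [hc]
        have e2 : b₁ * n2 * b₂ * (n1 * n2) = b₁ * (n2 * b₂ * (n1 * n2)) := by group
        rw [e2]
        exact Yl _ _ (Y212 _ (h212 b₂ hb₂)) hb₁
  have S1 : ∀ y ∈ sl3e1_Y B n1 n2, n1 * y ∈ sl3e1_Y B n1 n2 := by
    rintro y ⟨m, hm, b₁, hb₁, b₂, hb₂, rfl⟩
    have e : n1 * (b₁ * m * b₂) = (n1 * b₁ * m) * b₂ := by group
    rw [e]
    exact Yr _ _ (K1 b₁ hb₁ m hm) hb₂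
  have S2 : ∀ y ∈ sl3e1_Y B n1 n2, n2 * y ∈ sl3e1_Y B n1 n2 := by
    rintro y ⟨m, hm, b₁, hb₁, b₂, hb₂, rfl⟩
    have e : n2 * (b₁ * m * b₂) = (n2 * b₁ * m) * b₂ := by group
    rw [e]
    exact Yr _ _ (K2 b₁ hb₁ m hm) hb₂
  have S1i : ∀ y ∈ sl3e1_Y B n1 n2, n1⁻¹ * y ∈ sl3e1_Y B n1 n2 := by
    intro y hy
    have e : n1⁻¹ * y = (n1 ^ 2)⁻¹ * (n1 * y) := by group
    rw [e]
    exact Yl _ _ (S1 y hy) (inv_mem h1)
  have S2i : ∀ y ∈ sl3e1_Y B n1 n2, n2⁻¹ * y ∈ sl3e1_Y B n1 n2 := by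
    intro y hy
    have e : n2⁻¹ * y = (n2 ^ 2)⁻¹ * (n2 * y) := by group
    rw [e]
    exact Yl _ _ (S2 y hy) (inv_mem h2)
  -- closure induction
  have key : ∀ x ∈ Subgroup.closure ((B : Set G) ∪ {n1, n2}),
      (∀ y ∈ sl3e1_Y B n1 n2, x * y ∈ sl3e1_Y B n1 n2) ∧
      (∀ y ∈ sl3e1_Y B n1 n2, x⁻¹ * y ∈ sl3e1_Y B n1 n2) := by
    intro x hx
    induction hx using Subgroup.closure_induction with
    | mem x hx =>
      rcases hx with hx | hx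
      · exact ⟨fun y hy => Yl _ _ hy hx, fun y hy => Yl _ _ hy (inv_mem hx)⟩
      · simp only [Set.mem_insert_iff, Set.mem_singleton_iff] at hx
        rcases hx with rfl | rfl
        · exact ⟨S1, S1i⟩
        · exact ⟨S2, S2i⟩
    | one =>
      refine ⟨fun y hy => by rwa [one_mul], fun y hy => by rwa [inv_one, one_mul]⟩
    | mul a b _ _ iha ihb =>
      refine ⟨fun y hy => ?_, fun y hy => ?_⟩
      · rw [mul_assoc]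
        exact iha.1 _ (ihb.1 y hy)
      · rw [mul_inv_rev, mul_assoc]
        exact ihb.2 _ (iha.2 y hy)
    | inv a _ iha =>
      refine ⟨iha.2, fun y hy => ?_⟩
      rw [inv_inv]
      exact iha.1 y hy
  intro g
  have hg : g ∈ Subgroup.closure ((B : Set G) ∪ {n1, n2}) := by rw [hgen]; trivial
  have := (key g hg).1 1 (YB 1 (one_mem _))
  rwa [mul_one] at this

end E

end Cfsg.Agent.Lib.helper17.SL3
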