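import Mathlib
import Cfsg.Agent.Lib.helper17.SLP.Defs
import Cfsg.Agent.Lib.helper17.SL3.Defs
import Cfsg.Agent.Lib.helper17.SL3.Defs2
import Cfsg.Agent.Lib.Helper22.SL3A1
import Cfsg.Agent.Lib.Helper9.SL3M3a
import Cfsg.Agent.Lib.Helper24.SL3M3b
import Cfsg.Agent.Lib.Helper24.SL3M3c
import Cfsg.Agent.Lib.Helper24.SL3M3d
import Cfsg.Agent.Lib.Helper24.SL3M4
import Cfsg.Agent.Lib.Helper24.SL3M5
import Cfsg.Agent.Lib.Helper26.SL3P1
import Cfsg.Agent.Lib.Helper12.SL3P2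

/-!
# Project SL3 (helper17, S2287), row FIN2 (`sl3_main`): the core, on the landed rows
A1 M3a-d M4 M5 P1 P2, with the statements of A6 (`ascheme3`) and FIN1 (`card_le_sl3`) as hypotheses.
-/

set_option autoImplicit false

namespace Cfsg.Agent.Lib.helper17.SL3

open Cfsg.Agent.Lib.helper17.SLP
open Polynomial

universe u v

theorem sl3fin2_lt {F : Type u} [Field F] [Fintype F] (p : ℕ) [CharP F p]
    (h4 : Fintype.card F = 4) : Fintype.card F < p ^ 3 := by
  obtain ⟨n, hp, hq⟩ := FiniteField.card F p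
  have hdvd : p ∣ 2 ^ 2 := by
    have : p ∣ p ^ (n : ℕ) := dvd_pow_self p n.ne_zero
    rw [← hq, h4] at this
    exact this
  have h2 : p = 2 := (Nat.prime_dvd_prime_iff_eq hp Nat.prime_two).mp (hp.dvd_of_dvd_pow hdvd)
  rw [h4, h2]
  norm_num

theorem sl3fin2_core {F : Type u} [Field F] [Fintype F]
    (hA6 : ∀ (p : ℕ) [Fact p.Prime] [CharP F p] (ζ : Fˣ), (∀ y : Fˣ, y ∈ Subgroup.zpowers ζ) →
      ∃ A : List (FreeGroup (Fin 4)), A.length ≤ 3 ∧ (Fintype.card F < p ^ 3 → A.length ≤ 2) ∧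
        (∀ r ∈ A, ev4 (xM3 (1 : F)) (dM3 ζ) wM3 cM3 r = 1) ∧
        ∀ (G : Type) [Group G] (u d w c : G), (∀ r ∈ A, ev4 u d w c r = 1) → Commute u (cj d u 1) →
          ∃ x : F → G, (∀ s t, x (s + t) = x s * x t) ∧ (∀ t, d * x t * d⁻¹ = x ((ζ : F) * t)) ∧
            x 1 = u)
    (hFIN1 : ∀ (ζ : Fˣ), (∀ y : Fˣ, y ∈ Subgroup.zpowers ζ) →
      ∀ (G : Type) [Group G] (x : F → G) (d w c : G), Hyp ζ x d w c →
      (Fintype.card F = 4 → relRx (x 1) d w c = 1) →
      Subgroup.closure {x 1, d, w, c} = ⊤ →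
      Finite G ∧ Nat.card G ≤ (Fintype.card F - 1) ^ 2 * Fintype.card F ^ 3 *
        (1 + 2 * Fintype.card F + 2 * Fintype.card F ^ 2 + Fintype.card F ^ 3)) :
    ∃ rels : Finset (FreeGroup (Fin 4)), rels.card ≤ 14 ∧
      Nonempty (PresentedGroup (↑rels : Set (FreeGroup (Fin 4))) ≃* Matrix.SpecialLinearGroup (Fin 3) F) := by
  classical
  have : CharP F (ringChar F) := ringChar.charP F
  have : Fact (ringChar F).Prime := ⟨CharP.char_is_prime F (ringChar F)⟩
  obtain ⟨ζ, hζ⟩ := IsCyclic.exists_generator (α := Fˣ)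
  obtain ⟨A, hA3, hA2, hAM, hAG⟩ := hA6 (ringChar F) ζ hζ
  have hS11 : wordsS.length = 11 := rfl
  -- the list of relators
  obtain ⟨L, hLlen, hAL, hSL, hXL, hLsub⟩ : ∃ L : List (FreeGroup (Fin 4)), L.length ≤ 14 ∧
      (∀ r ∈ A, r ∈ L) ∧ (∀ r ∈ wordsS, r ∈ L) ∧ (Fintype.card F = 4 → wordX ∈ L) ∧
      (∀ r ∈ L, r ∈ A ∨ r ∈ wordsS ∨ r = wordX) := by
    by_cases h4 : Fintype.card F = 4
    · have hlen2 := hA2 (sl3fin2_lt (ringChar F) h4)
      refine ⟨A ++ wordsS ++ [wordX], ?_, ?_, ?_, ?_, ?_⟩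
      · simp only [List.length_append, List.length_singleton, hS11]
        omega
      · intro r hr
        simp [hr]
      · intro r hr
        simp [hr]
      · intro _
        simp
      · intro r hr
        simp only [List.mem_append, List.mem_singleton] at hr
        tauto
    · refine ⟨A ++ wordsS, ?_, ?_, ?_, ?_, ?_⟩
      · simp only [List.length_append, hS11]
        omega
      · intro r hr
        simp [hr]
      · intro r hr
        simp [hr]
      · intro h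
        exact absurd h h4
      · intro r hr
        simp only [List.mem_append] at hr
        tauto
  refine ⟨L.toFinset, (List.toFinset_card_le L).trans hLlen, ?_⟩
  apply pres_of_card4 L (xM3 (1 : F)) (dM3 ζ) wM3 cM3 (closure_M3 ζ hζ)
  · intro r hr
    rcases hLsub r hr with h | h | h
    · exact hAM r h
    · exact (ev4_wordsS _ _ _ _).mpr ⟨relK1_M3, cM3_pow_three, relE2_M3, relT1_M3 ζ, relT2_M3 ζ,
        relTw_M3 ζ, relT3_M3 ζ, relR1_M3, relRu_M3, relR2_M3 ζ, relR3_M3 ζ⟩ r h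
    · rw [h, ev4_wordX]
      exact relRx_M3 ζ
  · intro G _ u d w c' hgen hrel
    obtain ⟨hK1, hc3, hE2, hT1, hT2, hTw, hT3, hR1, hRu, hR2, hR3⟩ :=
      (ev4_wordsS u d w c').mp (fun r hr => hrel r (hSL r hr))
    have hcomm := a2_of_rel u d w c' hRu hR2 hR3
    obtain ⟨x, hadd, hdc, hx1⟩ := hAG G u d w c' (fun r hr => hrel r (hAL r hr)) hcomm
    subst hx1
    have H : Hyp ζ x d w c' :=
      ⟨hadd, hdc, hK1, hc3, hE2, hT1, hT2, hTw, hT3, hR1, hRu, hR2, hR3⟩
    have hRx : Fintype.card F = 4 → relRx (x 1) d w c' = 1 := by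
      intro h4
      have := hrel wordX (hXL h4)
      rwa [ev4_wordX] at this
    obtain ⟨hfin, hle⟩ := hFIN1 ζ hζ G x d w c' H hRx hgen
    refine ⟨hfin, ?_⟩
    rw [card_SL3]
    exact hle

end Cfsg.Agent.Lib.helper17.SL3
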