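import Mathlib
import Cfsg.Agent.Lib.Helper1.SLN.Defs
import Cfsg.Agent.Lib.Helper1.SLN.Defs2
import Cfsg.Agent.Lib.Lead.SLn
import Cfsg.Agent.Lib.helper4.SL7P0
import Cfsg.Agent.Lib.helper23.SL7G1p
import Cfsg.Agent.Lib.Helper29.SL7G5
import Cfsg.Agent.Lib.Helper21.SL7G3p

/-!
# Project SL7 (designer helper1), skeleton 2, row G5p (`gX_add'`, `gX_cmm'`, `gX_comm3'`), VERBATIM (helper21)

The parts of G5 (`gX_sys`, helper29) with at most three distinct indices, under the weaker hypothesis `Glue3` (the same proofs, on G1p and G3p).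
-/

set_option autoImplicit false

namespace Cfsg.Agent.Lib.Helper1.SLN

open Matrix Equiv
open Cfsg.Agent.Lib.helper17.SLP

universe u v w

section Gp

variable {F : Type u} [Field F] {G : Type v} [Group G]

/-- three distinct indices: all six root maps through one frame (under `Glue3`) -/
theorem sl7g5p_frame3 (M : ℕ) (α : alternatingGroup (Fin (M + 4)) →* G)
    (β : Matrix.SpecialLinearGroup (Fin 3) F →* G) (H : Glue3 M α β)
    (i j k : Fin (M + 4)) (hij : i ≠ j) (hjk : j ≠ k) (hik : i ≠ k) :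
    ∃ (φ : Matrix.SpecialLinearGroup (Fin 3) F →* G) (a b c : Fin 3) (hab : a ≠ b) (hbc : b ≠ c)
      (hac : a ≠ c),
      (∀ t, gX M α β i j t = φ (Matrix.SpecialLinearGroup.transvection hab t)) ∧
      (∀ t, gX M α β j k t = φ (Matrix.SpecialLinearGroup.transvection hbc t)) ∧
      (∀ t, gX M α β i k t = φ (Matrix.SpecialLinearGroup.transvection hac t)) ∧
      (∀ t, gX M α β j i t = φ (Matrix.SpecialLinearGroup.transvection hab.symm t)) ∧
      (∀ t, gX M α β k j t = φ (Matrix.SpecialLinearGroup.transvection hbc.symm t)) ∧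
      (∀ t, gX M α β k i t = φ (Matrix.SpecialLinearGroup.transvection hac.symm t)) := by
  obtain ⟨σ, a, b, c, hab, hbc, hac, hi, hj, hk⟩ := exists_sig3 M i j k hij hjk hik
  refine ⟨sl7g5_cj β (α σ), a, b, c, hab, hbc, hac, ?_, ?_, ?_, ?_, ?_, ?_⟩
  · intro t
    rw [sl7g5_cj_apply, ← gX_frame' M α β H σ a b hab t, hi, hj]
  · intro t
    rw [sl7g5_cj_apply, ← gX_frame' M α β H σ b c hbc t, hj, hk]
  · intro t
    rw [sl7g5_cj_apply, ← gX_frame' M α β H σ a c hac t, hi, hk]
  · intro t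
    rw [sl7g5_cj_apply, ← gX_frame' M α β H σ b a hab.symm t, hi, hj]
  · intro t
    rw [sl7g5_cj_apply, ← gX_frame' M α β H σ c b hbc.symm t, hj, hk]
  · intro t
    rw [sl7g5_cj_apply, ← gX_frame' M α β H σ c a hac.symm t, hi, hk]

/-- G5p [M]  deps P1 P2 G1p G3p: the parts `add`, `cmm` of G5 and the part of `comm` with at most three distinct indices, under `Glue3` (recipe of G5: `σ a b c` from P2, G3p,
`Cfsg.Agent.Lib.Lead.transvection_eq_commutator`, `Cfsg.Agent.Lib.helper7.St.transvection_comm'` in `SL₃(F)`).  Three statements, one file. -/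
theorem gX_add' (M : ℕ) (α : alternatingGroup (Fin (M + 4)) →* G)
    (β : Matrix.SpecialLinearGroup (Fin 3) F →* G) (H : Glue3 M α β)
    (i j : Fin (M + 4)) (hij : i ≠ j) (s t : F) :
    gX M α β i j s * gX M α β i j t = gX M α β i j (s + t) := by
  obtain ⟨σ, h0, h1⟩ := exists_sig2 M i j hij
  rw [gX_eq' M α β H σ i j h0 h1 s, gX_eq' M α β H σ i j h0 h1 t, gX_eq' M α β H σ i j h0 h1 (s + t)]
  have hx : xU (s + t) = xU s * xU t := by
    unfold xU
    exact Matrix.SpecialLinearGroup.transvection_add _ s t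
  rw [hx, map_mul, map_mul]
  group

theorem gX_cmm' (M : ℕ) (α : alternatingGroup (Fin (M + 4)) →* G)
    (β : Matrix.SpecialLinearGroup (Fin 3) F →* G) (H : Glue3 M α β)
    (i j k : Fin (M + 4)) (hij : i ≠ j) (hjk : j ≠ k) (hik : i ≠ k) (s t : F) :
    gX M α β i j s * gX M α β j k t * (gX M α β i j s)⁻¹ * (gX M α β j k t)⁻¹ = gX M α β i k (s * t) := by
  obtain ⟨φ, a, b, c, hab, hbc, hac, h1, h2, h3, -, -, -⟩ :=
    sl7g5p_frame3 M α β H i j k hij hjk hik
  rw [h1 s, h2 t, h3 (s * t), ← map_inv, ← map_inv, ← map_mul, ← map_mul, ← map_mul]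
  congr 1
  rw [Cfsg.Agent.Lib.Lead.transvection_eq_commutator hac hab hbc s t, commutatorElement_def]

theorem gX_comm3' (M : ℕ) (α : alternatingGroup (Fin (M + 4)) →* G)
    (β : Matrix.SpecialLinearGroup (Fin 3) F →* G) (H : Glue3 M α β)
    (i j k l : Fin (M + 4)) (hij : i ≠ j) (hkl : k ≠ l) (hil : i ≠ l) (hjk : j ≠ k) (h3 : k = i ∨ l = j)
    (s t : F) : gX M α β i j s * gX M α β k l t = gX M α β k l t * gX M α β i j s := by
  by_cases hki : k = i
  · subst hki
    by_cases hlj : l = j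
    · subst hlj
      rw [gX_add' M α β H k l hij s t, gX_add' M α β H k l hij t s, add_comm]
    · have hjl : j ≠ l := fun h => hlj h.symm
      obtain ⟨φ, a, b, c, hab, hbc, hac, h1, -, h3', -, -, -⟩ :=
        sl7g5p_frame3 M α β H k j l hij hjl hil
      rw [h1 s, h3' t, ← map_mul, ← map_mul]
      congr 1
      exact Cfsg.Agent.Lib.helper7.St.transvection_comm' hab hac hac hab.symm s t
  · have hlj : l = j := by
      rcases h3 with h | h
      · exact absurd h hki
      · exact h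
    subst hlj
    have hik : i ≠ k := fun h => hki h.symm
    obtain ⟨φ, a, b, c, hab, hbc, hac, h1, -, -, -, h5, -⟩ :=
      sl7g5p_frame3 M α β H i l k hij hjk hik
    rw [h1 s, h5 t, ← map_mul, ← map_mul]
    congr 1
    exact Cfsg.Agent.Lib.helper7.St.transvection_comm' hab hbc.symm hab hbc s t

end Gp

end Cfsg.Agent.Lib.Helper1.SLN
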