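import Mathlib
import Cfsg.Agent.S1378
import Cfsg.Agent.S1425
import Cfsg.Agent.S1432
import Cfsg.Agent.S1374
import Cfsg.Agent.Lib.Helper1.BG14b.TildeForm
import Cfsg.Agent.Lib.Helper1.BG14.SigmaATI
import Cfsg.Agent.Lib.Helper1.BG15.SigmaDecomp
import Cfsg.Agent.Lib.Helper1.BG12b.PiSplit
import Cfsg.Agent.Lib.Helper1.BG12b.EThree

set_option autoImplicit false

/-!
# B&G Section 14: the sigma-decomposition dichotomy

Every non-identity element `g` of a minimal simple group of odd order either lies in some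
`tildeOf N (N_σ \ {1})`, or is conjugate to a product `x * w` with `x ∈ L_σ#`, `C_G(x) ≤ L` and
`w ∈ C_L(x)` a non-identity `κ(L)`-element.
-/

namespace Cfsg.Agent.Lib.Helper21.BG14d

open Cfsg Cfsg.Agent.Lib.Helper18

variable {G : Type*} [Group G]

/-- the `π`-decomposition of an element of a finite group -/
theorem exists_pi_decomp [Finite G] (π : Set ℕ) (g : G) :
    ∃ a b : G, a ∈ Subgroup.zpowers g ∧ b ∈ Subgroup.zpowers g ∧ g = a * b ∧
      (∀ p : ℕ, p.Prime → p ∣ orderOf a → p ∈ π) ∧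
      (∀ p : ℕ, p.Prime → p ∣ orderOf b → p ∉ π) := by
  have he : orderOf g ≠ 0 := (orderOf_pos g).ne'
  obtain ⟨e₁, e₂, he12, hcop, h1, h2⟩ :=
    Cfsg.Agent.Lib.Helper1.BG12b.pi_split π (orderOf g) he
  have hc : IsCoprime (e₁ : ℤ) (e₂ : ℤ) := Nat.isCoprime_iff_coprime.mpr hcop
  obtain ⟨u, v, huv⟩ := hc
  have hpow : g ^ (e₁ * e₂) = 1 := by rw [← he12]; exact pow_orderOf_eq_one g
  have ho1 : orderOf ((g ^ e₂) ^ v) ∣ e₁ := by
    apply orderOf_dvd_of_pow_eq_one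
    rw [← zpow_natCast, ← zpow_mul, mul_comm, zpow_mul, zpow_natCast, ← pow_mul, mul_comm, hpow,
      one_zpow]
  have ho2 : orderOf ((g ^ e₁) ^ u) ∣ e₂ := by
    apply orderOf_dvd_of_pow_eq_one
    rw [← zpow_natCast, ← zpow_mul, mul_comm, zpow_mul, zpow_natCast, ← pow_mul, hpow,
      one_zpow]
  refine ⟨(g ^ e₂) ^ v, (g ^ e₁) ^ u, ?_, ?_, ?_, ?_, ?_⟩
  · exact Subgroup.zpow_mem _ (Subgroup.pow_mem _ (Subgroup.mem_zpowers g) _) _
  · exact Subgroup.zpow_mem _ (Subgroup.pow_mem _ (Subgroup.mem_zpowers g) _) _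
  · rw [← zpow_natCast g e₁, ← zpow_natCast g e₂, ← zpow_mul, ← zpow_mul, ← zpow_add]
    have : (e₂ : ℤ) * v + (e₁ : ℤ) * u = 1 := by rw [← huv]; ring
    rw [this, zpow_one]
  · intro p hp hpd
    exact h1 p hp (hpd.trans ho1)
  · intro p hp hpd
    exact h2 p hp (hpd.trans ho2)

/-- `tildeOf` is closed under conjugation -/
theorem tilde_conj {N : Subgroup G} {A : Set G} {g : G} (c : G)
    (h : g ∈ Cfsg.tildeOf N A) : c * g * c⁻¹ ∈ Cfsg.tildeOf N A := by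
  obtain ⟨a, ha, r, hr, y, rfl⟩ := h
  exact ⟨a, ha, r, hr, c * y, by group⟩

variable [Finite G]

/-- the `τ₂`-alternative of `S1432`: `x * w` lies in the tilde set of a maximal subgroup `L'` with
`w ∈ L'_σ`. -/
theorem tilde_of_tau2_case (hG : Cfsg.IsMinSimpleOddOrder G) {M : Subgroup G} (hM : IsCoatom M)
    {x w : G} (hx : x ∈ Cfsg.sigmaCore M) (hw1 : w ≠ 1) (hxw : x * w = w * x)
    (hσ : ∀ p : ℕ, p.Prime → p ∣ orderOf w → p ∉ Cfsg.sigma M)
    (hL : ∃ L : Subgroup G, IsCoatom L ∧ ∀ p : ℕ, p.Prime → p ∣ orderOf w → p ∈ Cfsg.sigma L)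
    (hCw : Subgroup.centralizer ({w} : Set G) ≤ M)
    (huniq : ∀ L : Subgroup G, IsCoatom L → Subgroup.centralizer ({w} : Set G) ≤ L → L = M) :
    ∃ N : Subgroup G, IsCoatom N ∧
      x * w ∈ Cfsg.tildeOf N ((Cfsg.sigmaCore N : Set G) \ {1}) := by
  obtain ⟨L, hLc, hLσ⟩ := hL
  have hY1 : Subgroup.zpowers w ≠ ⊥ := by
    intro h
    exact hw1 (Subgroup.zpowers_eq_bot.mp h)
  obtain ⟨d, hd⟩ := Cfsg.Agent.S1425.result hG L hLc (Subgroup.zpowers w) hY1 (by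
    intro p hp hpd
    rw [Nat.card_zpowers] at hpd
    exact hLσ p hp hpd)
  have hdw : d * w * d⁻¹ ∈ Cfsg.sigmaCore L :=
    hd (Subgroup.mem_map.mpr ⟨w, Subgroup.mem_zpowers w, rfl⟩)
  have hL' : IsCoatom (conjSub d⁻¹ L) := Cfsg.Agent.Lib.Helper11.BenderF.isCoatom_conjSub d⁻¹ hLc
  have hwL' : w ∈ Cfsg.sigmaCore (conjSub d⁻¹ L) := by
    have := Cfsg.Agent.Lib.Helper1.BG14b.conj_mem_sigmaCore_conjSub hG hLc d⁻¹ hdw
    have e : d⁻¹ * (d * w * d⁻¹) * d⁻¹⁻¹ = w := by group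
    rwa [e] at this
  have hC : ¬ Subgroup.centralizer ({w} : Set G) ≤ conjSub d⁻¹ L := by
    intro h
    have hLM : conjSub d⁻¹ L = M := huniq _ hL' h
    rw [hLM] at hwL'
    have ho : orderOf w ≠ 1 := fun h => hw1 (orderOf_eq_one_iff.mp h)
    obtain ⟨p, hp, hpd⟩ := Nat.exists_prime_and_dvd ho
    exact hσ p hp hpd
      (Cfsg.Agent.Lib.Helper1.BG14b.primes_of_mem_sigmaCore hG hM hwL' p hp hpd)
  have hR := Cfsg.Agent.Lib.Helper13.BG14.bg14_supportR_eq hG hL' hwL' hw1 hC hM hCw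
  refine ⟨conjSub d⁻¹ L, hL', w, ⟨hwL', hw1⟩, x, ?_, 1, ?_⟩
  · rw [hR]
    refine Subgroup.mem_inf.mpr ⟨hx, ?_⟩
    rw [Subgroup.mem_centralizer_singleton_iff]
    exact hxw
  · rw [hxw]; group

/-- the dichotomy for `g = x * x'` with `x ∈ M_σ#` and `x'` a commuting `σ(M)'`-element -/
theorem dichotomy_aux (hG : Cfsg.IsMinSimpleOddOrder G) {M : Subgroup G} (hM : IsCoatom M)
    {x x' : G} (hx : x ∈ Cfsg.sigmaCore M) (hx1 : x ≠ 1) (hc : x * x' = x' * x)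
    (hσ : ∀ p : ℕ, p.Prime → p ∣ orderOf x' → p ∉ Cfsg.sigma M) :
    (∃ N : Subgroup G, IsCoatom N ∧
        x * x' ∈ Cfsg.tildeOf N ((Cfsg.sigmaCore N : Set G) \ {1})) ∨
    (∃ L : Subgroup G, IsCoatom L ∧ ∃ a ∈ Cfsg.sigmaCore L, a ≠ 1 ∧ ∃ w ∈ L, w ≠ 1 ∧
        a * w = w * a ∧ (∀ p : ℕ, p.Prime → p ∣ orderOf w → p ∈ Cfsg.kappa L) ∧
        Subgroup.centralizer ({a} : Set G) ≤ L ∧ ∃ y : G, x * x' = y * (a * w) * y⁻¹) := by
  classical
  have hx'C : x' ∈ Subgroup.centralizer ({x} : Set G) :=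
    Subgroup.mem_centralizer_singleton_iff.mpr hc.symm
  by_cases hCM : Subgroup.centralizer ({x} : Set G) ≤ M
  · by_cases hx'1 : x' = 1
    · left
      refine ⟨M, hM, x, ⟨hx, hx1⟩, 1, Subgroup.one_mem _, 1, ?_⟩
      rw [hx'1]; group
    · have hx'M : x' ∈ M ⊓ Subgroup.centralizer ({x} : Set G) :=
        Subgroup.mem_inf.mpr ⟨hCM hx'C, hx'C⟩
      rcases Cfsg.Agent.S1432.result hG M hM x hx hx1 x' hx'M hx'1 hσ with
        ⟨hκ, -⟩ | ⟨-, hL, hCw, huniq⟩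
      · right
        exact ⟨M, hM, x, hx, hx1, x', hCM hx'C, hx'1, hc, hκ, hCM, 1, by group⟩
      · left
        exact tilde_of_tau2_case hG hM hx hx'1 hc hσ hL hCw huniq
  · obtain ⟨N, ⟨hN, hCN⟩, -, -, hnorm, hcompl, -, -⟩ :=
      Cfsg.Agent.Lib.Helper13.BG14.bg14_cent_not_le hG M hM x hx hx1 hCM
    have hcop := (Cfsg.Agent.S1374.result hG M hM x hx hx1).1
    have hRsupp := Cfsg.Agent.Lib.Helper13.BG14.bg14_supportR_eq hG hM hx hx1 hCM hN hCN
    generalize hCdef : Subgroup.centralizer ({x} : Set G) = C at *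
    generalize hAdef : M ⊓ C = A at *
    generalize hRdef : Cfsg.sigmaCore N ⊓ C = R at *
    have hAC : A ≤ C := hcompl.1
    have hRC : R ≤ C := hcompl.2.1
    have hcard : Nat.card C = Nat.card A * Nat.card R :=
      Cfsg.Agent.Lib.Helper1.BG15.card_of_isComplIn hcompl
    have hApos : 0 < Nat.card A := Nat.card_pos
    have hRpos : 0 < Nat.card R := Nat.card_pos
    have hrel : A.relIndex C = Nat.card R := by
      have h1 := Subgroup.relIndex_mul_relIndex ⊥ A C bot_le hAC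
      rw [Subgroup.relIndex_bot_left, Subgroup.relIndex_bot_left, hcard] at h1
      exact Nat.eq_of_mul_eq_mul_left hApos h1
    have hrelR : R.relIndex C = Nat.card A := by
      have h1 := Subgroup.relIndex_mul_relIndex ⊥ R C bot_le hRC
      rw [Subgroup.relIndex_bot_left, Subgroup.relIndex_bot_left, hcard, mul_comm] at h1
      exact Nat.eq_of_mul_eq_mul_right hRpos h1
    have hcopAR : (Nat.card A).Coprime (Nat.card R) := by rw [← hrel]; exact hcop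
    have hCtop : C ≠ ⊤ := by
      intro h
      rw [h] at hCN
      exact hN.1 (top_le_iff.mp hCN)
    have hCs : Group.IsSolvable ↥C := hG.2.2.2 C hCtop
    obtain ⟨r, w, hrz, hwz, hx'rw, hrπ, hwπ⟩ :=
      exists_pi_decomp {p : ℕ | p ∣ Nat.card R} x'
    have hzC : Subgroup.zpowers x' ≤ C := Subgroup.zpowers_le.mpr hx'C
    have hrC : r ∈ C := hzC hrz
    have hwC : w ∈ C := hzC hwz
    have hrw : r * w = w * r := by
      obtain ⟨i, rfl⟩ := Subgroup.mem_zpowers_iff.mp hrz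
      obtain ⟨j, rfl⟩ := Subgroup.mem_zpowers_iff.mp hwz
      exact ((Commute.refl x').zpow_zpow i j).eq
    have hrR : r ∈ R := by
      have hle : Subgroup.zpowers r ≤ R := by
        apply Cfsg.Agent.Lib.Helper1.BG12b.le_of_coprime_relIndex hRC
          (Subgroup.zpowers_le.mpr hrC) hnorm
        rw [Nat.card_zpowers, hrelR]
        apply Nat.coprime_of_dvd
        intro k hk hkr hkA
        have hkR : k ∣ Nat.card R := hrπ k hk hkr
        have := Nat.dvd_gcd hkA hkR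
        rw [hcopAR.gcd_eq_one] at this
        exact hk.one_lt.ne' (Nat.dvd_one.mp this)
      exact hle (Subgroup.mem_zpowers r)
    obtain ⟨c, hcC, hcw⟩ := Cfsg.Agent.Lib.Helper1.BG14.hall_conj_into hCs hAC
      (Subgroup.zpowers_le.mpr hwC) hcard hcopAR (by
        rw [Nat.card_zpowers]
        apply Nat.coprime_of_dvd
        intro k hk hkw hkR
        exact hwπ k hk hkw hkR)
    have hw₁A : c⁻¹ * w * c ∈ A := hcw w (Subgroup.mem_zpowers w)
    have hr₁R : c⁻¹ * r * c ∈ R := by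
      have hcn : c⁻¹ ∈ Subgroup.normalizer (R : Set G) := hnorm (C.inv_mem hcC)
      have := (Subgroup.mem_normalizer_iff.mp hcn r).mp hrR
      rwa [inv_inv] at this
    have hcx : c * x = x * c := by
      rw [← hCdef] at hcC
      exact Subgroup.mem_centralizer_singleton_iff.mp hcC
    have hcx' : c * x * c⁻¹ = x := by rw [hcx]; group
    have hprod : x * x' = c * (x * (c⁻¹ * r * c) * (c⁻¹ * w * c)) * c⁻¹ := by
      calc x * x' = x * (r * w) := by rw [hx'rw]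
        _ = (c * x * c⁻¹) * (r * w) := by rw [hcx']
        _ = c * (x * (c⁻¹ * r * c) * (c⁻¹ * w * c)) * c⁻¹ := by group
    by_cases hw₁1 : c⁻¹ * w * c = 1
    · left
      refine ⟨M, hM, x, ⟨hx, hx1⟩, c⁻¹ * r * c, ?_, c, ?_⟩
      · rw [hRsupp]; exact hr₁R
      · rw [hprod, hw₁1, mul_one]
    · have ho : orderOf (c⁻¹ * w * c) = orderOf w := by
        have := orderOf_conj_h18 c⁻¹ w
        rwa [inv_inv] at this
      have hσ₁ : ∀ p : ℕ, p.Prime → p ∣ orderOf (c⁻¹ * w * c) → p ∉ Cfsg.sigma M := by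
        intro p hp hpd
        rw [ho] at hpd
        exact hσ p hp (hpd.trans (orderOf_dvd_of_mem_zpowers hwz))
      have hw₁M : c⁻¹ * w * c ∈ M ⊓ C := by rw [hAdef]; exact hw₁A
      rw [← hCdef] at hw₁M
      rcases Cfsg.Agent.S1432.result hG M hM x hx hx1 _ hw₁M hw₁1 hσ₁ with
        ⟨-, hle⟩ | ⟨-, hL, hCw, huniq⟩
      · rw [hCdef] at hle
        exact absurd hle hCM
      · have hr₁w₁ : (c⁻¹ * r * c) * (c⁻¹ * w * c) = (c⁻¹ * w * c) * (c⁻¹ * r * c) := by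
          calc (c⁻¹ * r * c) * (c⁻¹ * w * c) = c⁻¹ * (r * w) * c := by group
            _ = c⁻¹ * (w * r) * c := by rw [hrw]
            _ = (c⁻¹ * w * c) * (c⁻¹ * r * c) := by group
        have hr₁M : c⁻¹ * r * c ∈ M :=
          hCw (Subgroup.mem_centralizer_singleton_iff.mpr hr₁w₁)
        have hr₁1 : c⁻¹ * r * c = 1 := by
          have h1 : c⁻¹ * r * c ∈ A ⊓ R := by
            refine Subgroup.mem_inf.mpr ⟨?_, hr₁R⟩
            rw [← hAdef]
            exact Subgroup.mem_inf.mpr ⟨hr₁M, hRC hr₁R⟩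
          rw [hcompl.2.2.1] at h1
          exact Subgroup.mem_bot.mp h1
        have hxw₁ : x * (c⁻¹ * w * c) = (c⁻¹ * w * c) * x :=
          (Subgroup.mem_centralizer_singleton_iff.mp hw₁M.2).symm
        obtain ⟨N', hN', hmem⟩ := tilde_of_tau2_case hG hM hx hw₁1 hxw₁ hσ₁ hL hCw huniq
        left
        refine ⟨N', hN', ?_⟩
        rw [hprod, hr₁1, mul_one]
        exact tilde_conj c hmem

/-- **the sigma-decomposition dichotomy** (B&G Section 14): every `g ≠ 1` lies in some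
`tildeOf N (N_σ \ {1})`, or is conjugate to `a * w` with `a ∈ L_σ#`, `C_G(a) ≤ L`, and
`w ∈ C_L(a)` a non-identity `κ(L)`-element. -/
theorem dichotomy (hG : Cfsg.IsMinSimpleOddOrder G) (g : G) (hg : g ≠ 1) :
    (∃ N : Subgroup G, IsCoatom N ∧ g ∈ Cfsg.tildeOf N ((Cfsg.sigmaCore N : Set G) \ {1})) ∨
    (∃ L : Subgroup G, IsCoatom L ∧ ∃ a ∈ Cfsg.sigmaCore L, a ≠ 1 ∧ ∃ w ∈ L, w ≠ 1 ∧
        a * w = w * a ∧ (∀ p : ℕ, p.Prime → p ∣ orderOf w → p ∈ Cfsg.kappa L) ∧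
        Subgroup.centralizer ({a} : Set G) ≤ L ∧ ∃ y : G, g = y * (a * w) * y⁻¹) := by
  have ho : orderOf g ≠ 1 := fun h => hg (orderOf_eq_one_iff.mp h)
  obtain ⟨p, hp, hpd⟩ := Nat.exists_prime_and_dvd ho
  obtain ⟨M, hM, hpM⟩ := (Cfsg.Agent.S1378.result hG).1 p hp (hpd.trans (orderOf_dvd_natCard g))
  obtain ⟨x, x', hxz, hx'z, hgxx', hxσ, hx'σ⟩ := exists_pi_decomp (Cfsg.sigma M) g
  have hxx' : x * x' = x' * x := by
    obtain ⟨i, rfl⟩ := Subgroup.mem_zpowers_iff.mp hxz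
    obtain ⟨j, rfl⟩ := Subgroup.mem_zpowers_iff.mp hx'z
    exact ((Commute.refl g).zpow_zpow i j).eq
  have hx1 : x ≠ 1 := by
    intro h
    rw [h, one_mul] at hgxx'
    rw [hgxx'] at hpd
    exact hx'σ p hp hpd hpM
  have hY1 : Subgroup.zpowers x ≠ ⊥ := fun h => hx1 (Subgroup.zpowers_eq_bot.mp h)
  obtain ⟨d, hd⟩ := Cfsg.Agent.S1425.result hG M hM (Subgroup.zpowers x) hY1 (by
    intro q hq hqd
    rw [Nat.card_zpowers] at hqd
    exact hxσ q hq hqd)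
  have hdx : d * x * d⁻¹ ∈ Cfsg.sigmaCore M :=
    hd (Subgroup.mem_map.mpr ⟨x, Subgroup.mem_zpowers x, rfl⟩)
  have hdx1 : d * x * d⁻¹ ≠ 1 := by
    intro h
    apply hx1
    have : x = d⁻¹ * (d * x * d⁻¹) * d := by group
    rw [this, h]; group
  have hcomm : (d * x * d⁻¹) * (d * x' * d⁻¹) = (d * x' * d⁻¹) * (d * x * d⁻¹) := by
    calc (d * x * d⁻¹) * (d * x' * d⁻¹) = d * (x * x') * d⁻¹ := by group
      _ = d * (x' * x) * d⁻¹ := by rw [hxx']
      _ = (d * x' * d⁻¹) * (d * x * d⁻¹) := by group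
  have hσ' : ∀ q : ℕ, q.Prime → q ∣ orderOf (d * x' * d⁻¹) → q ∉ Cfsg.sigma M := by
    intro q hq hqd
    rw [orderOf_conj_h18] at hqd
    exact hx'σ q hq hqd
  have hgd : g = d⁻¹ * ((d * x * d⁻¹) * (d * x' * d⁻¹)) * d⁻¹⁻¹ := by
    rw [hgxx']; group
  rcases dichotomy_aux hG hM hdx hdx1 hcomm hσ' with ⟨N, hN, hmem⟩ | ⟨L, hL, a, ha, ha1, w, hw, hw1, haw, hκ, hCa, y, hy⟩
  · left
    refine ⟨N, hN, ?_⟩
    rw [hgd]
    exact tilde_conj d⁻¹ hmem
  · right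
    refine ⟨L, hL, a, ha, ha1, w, hw, hw1, haw, hκ, hCa, d⁻¹ * y, ?_⟩
    rw [hgd, hy]; group

/-- B&G Theorem 14.6 when all `κ(M)` are empty (clause 2 of `S1379`) -/
theorem cover_of_kappa_empty (hG : Cfsg.IsMinSimpleOddOrder G)
    (hκ : ∀ M : Subgroup G, IsCoatom M → Cfsg.kappa M = ∅) (g : G) (hg : g ≠ 1) :
    ∃ M : Subgroup G, IsCoatom M ∧ g ∈ Cfsg.tildeOf M ((Cfsg.sigmaCore M : Set G) \ {1}) := by
  rcases dichotomy hG g hg with h | ⟨L, hL, a, -, -, w, -, hw1, -, hκw, -, -⟩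
  · exact h
  · exfalso
    have ho : orderOf w ≠ 1 := fun h => hw1 (orderOf_eq_one_iff.mp h)
    obtain ⟨p, hp, hpd⟩ := Nat.exists_prime_and_dvd ho
    have := hκw p hp hpd
    rw [hκ L hL] at this
    exact this

end Cfsg.Agent.Lib.Helper21.BG14d
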