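import Mathlib
import Cfsg.Agent.Lib.Helper21.BG14d
import Cfsg.Agent.S1430
import Cfsg.Agent.Lib.Helper1.BG14b.TildeDisjoint
import Cfsg.Agent.Lib.Helper18.BGTwelveD
import Cfsg.Agent.Lib.Helper11.RegD

set_option autoImplicit false

/-!
# B&G Section 14: conjugation invariance of `κ`, and the `κ`-alternative of the dichotomy
-/

namespace Cfsg.Agent.Lib.Helper21.BG14e

open Cfsg Cfsg.Agent.Lib.Helper18 Cfsg.Agent.Lib.Helper28.BGt

variable {G : Type*} [Group G] [Finite G]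

/-- `κ` is invariant under conjugation (one direction) -/
theorem kappa_conjSub_of (hG : Cfsg.IsMinSimpleOddOrder G) {M : Subgroup G} (hM : IsCoatom M)
    (c : G) {p : ℕ} (hp : p ∈ Cfsg.kappa M) : p ∈ Cfsg.kappa (conjSub c M) := by
  obtain ⟨hpp, hpd, hpσ, hS⟩ := hp
  haveI : Fact p.Prime := ⟨hpp⟩
  refine ⟨hpp, ?_, ?_, ?_⟩
  · rw [card_conjSub]; exact hpd
  · intro h
    exact hpσ (Cfsg.Agent.Lib.Helper1.BG14b.sigma_of_conj' rfl h)
  · intro P'
    let e : ↥M ≃* ↥(conjSub c M) := (MulAut.conj c).subgroupMap M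
    have hrange : (P' : Subgroup ↥(conjSub c M)) ≤ e.toMonoidHom.range := by
      intro z _
      exact ⟨e.symm z, e.apply_symm_apply z⟩
    let P : Sylow p ↥M := P'.comapOfInjective e.toMonoidHom e.injective hrange
    obtain ⟨hcyc, x, hxP, hx1, y, hy, hy1, hxy⟩ := hS P
    have hPmem : ∀ z : ↥M, z ∈ (P : Subgroup ↥M) ↔ e z ∈ (P' : Subgroup ↥(conjSub c M)) := by
      intro z
      rfl
    constructor
    · haveI := hcyc
      let f : ↥(P : Subgroup ↥M) →* ↥(P' : Subgroup ↥(conjSub c M)) :=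
        { toFun := fun z => ⟨e z.1, (hPmem z.1).mp z.2⟩
          map_one' := by ext; simp
          map_mul' := by intro a b; ext; simp }
      apply isCyclic_of_surjective f
      rintro ⟨z, hz⟩
      refine ⟨⟨e.symm z, ?_⟩, ?_⟩
      · rw [hPmem, e.apply_symm_apply]; exact hz
      · ext; simp [f]
    · refine ⟨e x, (hPmem x).mp hxP, ?_, c * y * c⁻¹,
        Cfsg.Agent.Lib.Helper1.BG14b.conj_mem_sigmaCore_conjSub hG hM c hy, ?_, ?_⟩
      · intro h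
        apply hx1
        have : e x = e 1 := by rw [h, map_one]
        exact e.injective this
      · intro h
        apply hy1
        have : y = c⁻¹ * (c * y * c⁻¹) * c := by group
        rw [this, h]; group
      · have hex : ((e x : ↥(conjSub c M)) : G) = c * (x : G) * c⁻¹ := rfl
        rw [hex]
        calc c * (x : G) * c⁻¹ * (c * y * c⁻¹) = c * ((x : G) * y) * c⁻¹ := by group
          _ = c * (y * (x : G)) * c⁻¹ := by rw [hxy]
          _ = c * y * c⁻¹ * (c * (x : G) * c⁻¹) := by group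

/-- `κ` is invariant under conjugation -/
theorem kappa_conjSub (hG : Cfsg.IsMinSimpleOddOrder G) {M : Subgroup G} (hM : IsCoatom M)
    (c : G) : Cfsg.kappa (conjSub c M) = Cfsg.kappa M := by
  ext p
  constructor
  · intro h
    have hM' : IsCoatom (conjSub c M) := Cfsg.Agent.Lib.Helper11.BenderF.isCoatom_conjSub c hM
    have := kappa_conjSub_of hG hM' c⁻¹ h
    rwa [conjSub_inv_conjSub] at this
  · exact kappa_conjSub_of hG hM c

/-- a `κ(L)`-element `w` of `L` commuting with `a ∈ L_σ` can be conjugated in `L` into a given Hall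
`κ(L)`-subgroup `K₀`, and then `a` goes into `C_{L_σ}(K₀)`. -/
theorem kappa_elt_conj (hG : Cfsg.IsMinSimpleOddOrder G) {L K₀ : Subgroup G} (hL : IsCoatom L)
    (hK : Cfsg.IsPiHallOf (Cfsg.kappa L) K₀ L) {a w : G} (ha : a ∈ Cfsg.sigmaCore L)
    (hw : w ∈ L) (hw1 : w ≠ 1) (haw : a * w = w * a)
    (hκ : ∀ p : ℕ, p.Prime → p ∣ orderOf w → p ∈ Cfsg.kappa L) :
    ∃ m ∈ L, m⁻¹ * w * m ∈ K₀ ∧
      m⁻¹ * a * m ∈ Cfsg.sigmaCore L ⊓ Subgroup.centralizer (K₀ : Set G) := by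
  have hLs : Group.IsSolvable ↥L := hG.2.2.2 L hL.1
  have hcard : Nat.card L = Nat.card K₀ * K₀.relIndex L := by
    have h1 := Subgroup.relIndex_mul_relIndex ⊥ K₀ L bot_le hK.1
    rw [Subgroup.relIndex_bot_left, Subgroup.relIndex_bot_left] at h1
    exact h1.symm
  have hcop : (Nat.card K₀).Coprime (K₀.relIndex L) := by
    apply Nat.coprime_of_dvd
    intro k hk hkK hkn
    exact hK.2.2 k hk (hK.2.1 k hk hkK) hkn
  obtain ⟨m, hmL, hm⟩ := Cfsg.Agent.Lib.Helper1.BG14.hall_conj_into hLs hK.1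
    (Subgroup.zpowers_le.mpr hw) hcard hcop (by
      rw [Nat.card_zpowers]
      apply Nat.coprime_of_dvd
      intro k hk hkw hkn
      exact hK.2.2 k hk (hκ k hk hkw) hkn)
  have hw₁ : m⁻¹ * w * m ∈ K₀ := hm w (Subgroup.mem_zpowers w)
  have hw₁1 : m⁻¹ * w * m ≠ 1 := by
    intro h
    apply hw1
    have : w = m * (m⁻¹ * w * m) * m⁻¹ := by group
    rw [this, h]; group
  have hK1 : K₀ ≠ ⊥ := by
    intro h
    rw [h, Subgroup.mem_bot] at hw₁
    exact hw₁1 hw₁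
  have ha₁ : m⁻¹ * a * m ∈ Cfsg.sigmaCore L := by
    have hn : m⁻¹ ∈ Subgroup.normalizer (Cfsg.sigmaCore L : Set G) :=
      le_normalizer_sigmaCore L (L.inv_mem hmL)
    have := (Subgroup.mem_normalizer_iff.mp hn a).mp ha
    rwa [inv_inv] at this
  have hcomm : (m⁻¹ * a * m) * (m⁻¹ * w * m) = (m⁻¹ * w * m) * (m⁻¹ * a * m) := by
    calc (m⁻¹ * a * m) * (m⁻¹ * w * m) = m⁻¹ * (a * w) * m := by group
      _ = m⁻¹ * (w * a) * m := by rw [haw]
      _ = (m⁻¹ * w * m) * (m⁻¹ * a * m) := by group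
  refine ⟨m, hmL, hw₁, ?_⟩
  rw [← (Cfsg.Agent.S1430.result hG L hL K₀ hK hK1).1 _ hw₁ hw₁1]
  exact Subgroup.mem_inf.mpr ⟨ha₁, Subgroup.mem_centralizer_singleton_iff.mpr hcomm⟩

/-- transport of the `κ`-alternative to a conjugate -/
theorem kappa_alt_conj (hG : Cfsg.IsMinSimpleOddOrder G) {M₀ K₀ : Subgroup G} (hM₀ : IsCoatom M₀)
    (hK : Cfsg.IsPiHallOf (Cfsg.kappa M₀) K₀ M₀) (c : G) {a w : G}
    (ha : a ∈ Cfsg.sigmaCore (conjSub c M₀)) (ha1 : a ≠ 1)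
    (hw : w ∈ conjSub c M₀) (hw1 : w ≠ 1) (haw : a * w = w * a)
    (hκ : ∀ p : ℕ, p.Prime → p ∣ orderOf w → p ∈ Cfsg.kappa (conjSub c M₀)) :
    ∃ y : G, ∃ a₂ ∈ Cfsg.sigmaCore M₀ ⊓ Subgroup.centralizer (K₀ : Set G), a₂ ≠ 1 ∧
      ∃ w₂ ∈ K₀, w₂ ≠ 1 ∧ a * w = y * (a₂ * w₂) * y⁻¹ := by
  rw [Cfsg.Agent.Lib.Helper1.BG14b.sigmaCore_conjSub hG hM₀, mem_conjSub] at ha
  rw [mem_conjSub] at hw
  have ho : orderOf (c⁻¹ * w * c) = orderOf w := by
    have := orderOf_conj_h18 c⁻¹ w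
    rwa [inv_inv] at this
  have hκ' : ∀ p : ℕ, p.Prime → p ∣ orderOf (c⁻¹ * w * c) → p ∈ Cfsg.kappa M₀ := by
    intro p hp hpd
    rw [ho] at hpd
    have := hκ p hp hpd
    rwa [kappa_conjSub hG hM₀] at this
  have hw₀1 : c⁻¹ * w * c ≠ 1 := by
    intro h
    apply hw1
    have : w = c * (c⁻¹ * w * c) * c⁻¹ := by group
    rw [this, h]; group
  have hcomm : (c⁻¹ * a * c) * (c⁻¹ * w * c) = (c⁻¹ * w * c) * (c⁻¹ * a * c) := by
    calc (c⁻¹ * a * c) * (c⁻¹ * w * c) = c⁻¹ * (a * w) * c := by group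
      _ = c⁻¹ * (w * a) * c := by rw [haw]
      _ = (c⁻¹ * w * c) * (c⁻¹ * a * c) := by group
  obtain ⟨m, -, hw₂, ha₂⟩ := kappa_elt_conj hG hM₀ hK ha hw hw₀1 hcomm hκ'
  refine ⟨c * m, m⁻¹ * (c⁻¹ * a * c) * m, ha₂, ?_, m⁻¹ * (c⁻¹ * w * c) * m, hw₂, ?_, by group⟩
  · intro h
    apply ha1
    have : a = (c * m) * (m⁻¹ * (c⁻¹ * a * c) * m) * (c * m)⁻¹ := by group
    rw [this, h]; group
  · intro h
    apply hw1
    have : w = (c * m) * (m⁻¹ * (c⁻¹ * w * c) * m) * (c * m)⁻¹ := by group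
    rw [this, h]; group

/-- a `κ(M)`-element lying in `M_σ` is trivial -/
theorem eq_one_of_mem_hall_of_mem_sigmaCore (hG : Cfsg.IsMinSimpleOddOrder G) {M K : Subgroup G}
    (hM : IsCoatom M) (hKπ : ∀ p : ℕ, p.Prime → p ∣ Nat.card K → p ∈ Cfsg.kappa M) {t : G}
    (htK : t ∈ K) (htσ : t ∈ Cfsg.sigmaCore M) : t = 1 := by
  by_contra ht1
  have ho : orderOf t ≠ 1 := fun h => ht1 (orderOf_eq_one_iff.mp h)
  obtain ⟨q, hq, hqd⟩ := Nat.exists_prime_and_dvd ho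
  have h1 : q ∈ Cfsg.sigma M :=
    Cfsg.Agent.Lib.Helper1.BG14b.primes_of_mem_sigmaCore hG hM htσ q hq hqd
  have h2 : q ∈ Cfsg.kappa M := hKπ q hq (hqd.trans (Subgroup.orderOf_dvd_natCard _ htK))
  exact h2.2.2.1 h1

/-- the exclusion lemma: if `a * r = u * v` with `a ∈ N_σ#`, `r ∈ R_N(a)`, `u` in a TI-subgroup `A₀` of
`M₀_σ` all of whose prime order subgroups have centralizer in `M₀`, `v` a commuting `σ(M₀)'`-element,
and `a` has a prime divisor in `σ(M₀)`, then `v = 1`. -/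
theorem tilde_excl (hG : Cfsg.IsMinSimpleOddOrder G) {M₀ A₀ : Subgroup G} (hM₀ : IsCoatom M₀)
    (hA₀ : A₀ ≤ Cfsg.sigmaCore M₀)
    (hTI : ∀ g : G, g ∉ M₀ → A₀ ⊓ M₀.map (MulAut.conj g).toMonoidHom = ⊥)
    (hCX : ∀ X : Subgroup G, X ≤ A₀ → (Nat.card X).Prime →
      Subgroup.centralizer (X : Set G) ≤ M₀)
    {N : Subgroup G} (hN : IsCoatom N) {a r u v : G} (ha : a ∈ Cfsg.sigmaCore N) (ha1 : a ≠ 1)
    (hr : r ∈ Cfsg.supportR N a) (hu : u ∈ A₀)
    (hv : ∀ q : ℕ, q.Prime → q ∣ orderOf v → q ∉ Cfsg.sigma M₀) (huv : u * v = v * u)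
    (heq : a * r = u * v) {p : ℕ} (hp : p.Prime) (hpa : p ∣ orderOf a)
    (hpM : p ∈ Cfsg.sigma M₀) : v = 1 := by
  have hpN : p ∈ Cfsg.sigma N :=
    Cfsg.Agent.Lib.Helper1.BG14b.primes_of_mem_sigmaCore hG hN ha p hp hpa
  obtain ⟨e, he⟩ := (Cfsg.Agent.S1378.result hG).2 M₀ N hM₀ hN ⟨p, hpM, hpN⟩
  have he' : N = conjSub e M₀ := he
  have har : r * a = a * r := Subgroup.mem_centralizer_singleton_iff.mp
    (Cfsg.Agent.Lib.Helper1.BG14b.supportR_le_centralizer hG hN ha ha1 hr)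
  have hrσ := Cfsg.Agent.Lib.Helper1.BG14b.supportR_primes hG hN ha ha1 hr
  obtain ⟨hua, hvr⟩ := Cfsg.Agent.Lib.Helper1.BG14b.pi_decomp_unique (π := Cfsg.sigma M₀)
    (a := u) (b := v) (a' := a) (b' := r) huv har.symm heq.symm
    (Cfsg.Agent.Lib.Helper1.BG14b.primes_of_mem_sigmaCore hG hM₀ (hA₀ hu))
    (fun q hq hqd => Cfsg.Agent.Lib.Helper1.BG14b.sigma_of_conj' he'
      (Cfsg.Agent.Lib.Helper1.BG14b.primes_of_mem_sigmaCore hG hN ha q hq hqd))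
    hv
    (fun q hq hqd hqM => hrσ q hq hqd (Cfsg.Agent.Lib.Helper1.BG14b.sigma_of_conj he' hqM))
  have haA : a ∈ A₀ := by rw [← hua]; exact hu
  have heM : e ∈ M₀ := by
    by_contra hne
    have h1 : a ∈ A₀ ⊓ M₀.map (MulAut.conj e).toMonoidHom := by
      refine Subgroup.mem_inf.mpr ⟨haA, ?_⟩
      rw [← he]
      exact sigmaCore_le N ha
    rw [hTI e hne, Subgroup.mem_bot] at h1
    exact ha1 h1
  have hNM : N = M₀ := by
    rw [he']
    exact conjSub_eq_of_mem_normalizer (Subgroup.le_normalizer heM)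
  subst hNM
  have ho : orderOf a ≠ 1 := fun h => ha1 (orderOf_eq_one_iff.mp h)
  obtain ⟨q, hq, hqd⟩ := Nat.exists_prime_and_dvd ho
  have hXc : Nat.card (Subgroup.zpowers (a ^ (orderOf a / q))) = q := by
    rw [Nat.card_zpowers]
    exact orderOf_pow_orderOf_div (orderOf_pos a).ne' hqd
  have hXA : Subgroup.zpowers (a ^ (orderOf a / q)) ≤ A₀ :=
    Subgroup.zpowers_le.mpr (A₀.pow_mem haA _)
  have hCa : Subgroup.centralizer ({a} : Set G) ≤ N := by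
    refine le_trans ?_ (hCX _ hXA (by rw [hXc]; exact hq))
    rw [← Cfsg.Agent.Lib.Helper11.RegD.centralizer_zpowers_eq a]
    apply Subgroup.centralizer_le
    intro t ht
    exact (Subgroup.zpowers_le.mpr (Subgroup.pow_mem _ (Subgroup.mem_zpowers a) _) :
      Subgroup.zpowers (a ^ (orderOf a / q)) ≤ Subgroup.zpowers a) ht
  rw [Cfsg.Agent.Lib.Helper13.BG14.bg14_supportR_of_le hCa, Subgroup.mem_bot] at hr
  rw [hvr, hr]

/-- clause 3, first half, of `S1379`, from B&G 14.3(g) (`h69`). -/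
theorem clause3a (hG : Cfsg.IsMinSimpleOddOrder G) {M K Mstar : Subgroup G} (hM : IsCoatom M)
    (hK : Cfsg.IsPiHallOf (Cfsg.kappa M) K M) (hMstar : IsCoatom Mstar)
    (hKst : K = Cfsg.sigmaCore Mstar ⊓ Subgroup.centralizer
      ((Cfsg.sigmaCore M ⊓ Subgroup.centralizer (K : Set G)) : Set G))
    (hKstH : Cfsg.IsPiHallOf (Cfsg.kappa Mstar)
      (Cfsg.sigmaCore M ⊓ Subgroup.centralizer (K : Set G)) Mstar)
    (h69 : ∀ H : Subgroup G, IsCoatom H → (Cfsg.kappa H).Nonempty →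
      ∃ g : G, H = M.map (MulAut.conj g).toMonoidHom ∨ H = Mstar.map (MulAut.conj g).toMonoidHom)
    (g : G) (hg : g ≠ 1) :
    (∃ N : Subgroup G, IsCoatom N ∧ g ∈ Cfsg.tildeOf N ((Cfsg.sigmaCore N : Set G) \ {1})) ∨
      ∃ y : G, ∃ z ∈ ((↑(K ⊔ (Cfsg.sigmaCore M ⊓ Subgroup.centralizer (K : Set G))) : Set G) \
        ((K : Set G) ∪ ↑(Cfsg.sigmaCore M ⊓ Subgroup.centralizer (K : Set G)))),
        g = y * z * y⁻¹ := by
  replace hKst : K = Cfsg.sigmaCore Mstar ⊓ Subgroup.centralizer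
      ((Cfsg.sigmaCore M ⊓ Subgroup.centralizer (K : Set G) : Subgroup G) : Set G) := by
    rw [Subgroup.coe_inf]; exact hKst
  rcases Cfsg.Agent.Lib.Helper21.BG14d.dichotomy hG g hg with h |
    ⟨L, hL, a, ha, ha1, w, hw, hw1, haw, hκ, -, y, hy⟩
  · exact Or.inl h
  right
  have hne : (Cfsg.kappa L).Nonempty := by
    have ho : orderOf w ≠ 1 := fun h => hw1 (orderOf_eq_one_iff.mp h)
    obtain ⟨p, hp, hpd⟩ := Nat.exists_prime_and_dvd ho
    exact ⟨p, hκ p hp hpd⟩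
  have hKK : ∀ t : G, t ∈ K → t ∈ Cfsg.sigmaCore M ⊓ Subgroup.centralizer (K : Set G) → t = 1 :=
    fun t h1 h2 => eq_one_of_mem_hall_of_mem_sigmaCore hG hM hK.2.1 h1 h2.1
  obtain ⟨c, hc | hc⟩ := h69 L hL hne
  · have hc' : L = conjSub c M := hc
    subst hc'
    obtain ⟨y', a₂, ha₂, ha₂1, w₂, hw₂, hw₂1, heq⟩ :=
      kappa_alt_conj hG hM hK c ha ha1 hw hw1 haw hκ
    refine ⟨y * y', a₂ * w₂, ⟨?_, ?_⟩, ?_⟩
    · exact Subgroup.mul_mem _ (Subgroup.mem_sup_right ha₂) (Subgroup.mem_sup_left hw₂)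
    · rintro (h | h)
      · have h1 : a₂ ∈ K := by
          have := K.mul_mem h (K.inv_mem hw₂)
          rwa [mul_inv_cancel_right] at this
        exact ha₂1 (hKK a₂ h1 ha₂)
      · have h1 : w₂ ∈ Cfsg.sigmaCore M ⊓ Subgroup.centralizer (K : Set G) := by
          have := Subgroup.mul_mem _ (Subgroup.inv_mem _ ha₂) h
          rwa [inv_mul_cancel_left] at this
        exact hw₂1 (hKK w₂ hw₂ h1)
    · rw [hy, heq]; group
  · have hc' : L = conjSub c Mstar := hc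
    subst hc'
    obtain ⟨y', a₂, ha₂, ha₂1, w₂, hw₂, hw₂1, heq⟩ :=
      kappa_alt_conj hG hMstar hKstH c ha ha1 hw hw1 haw hκ
    rw [← hKst] at ha₂
    refine ⟨y * y', a₂ * w₂, ⟨?_, ?_⟩, ?_⟩
    · exact Subgroup.mul_mem _ (Subgroup.mem_sup_left ha₂) (Subgroup.mem_sup_right hw₂)
    · rintro (h | h)
      · have h1 : w₂ ∈ K := by
          have := K.mul_mem (K.inv_mem ha₂) h
          rwa [inv_mul_cancel_left] at this
        exact hw₂1 (hKK w₂ h1 hw₂)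
      · have h1 : a₂ ∈ Cfsg.sigmaCore M ⊓ Subgroup.centralizer (K : Set G) := by
          have := Subgroup.mul_mem _ h (Subgroup.inv_mem _ hw₂)
          rwa [mul_inv_cancel_right] at this
        exact ha₂1 (hKK a₂ ha₂ h1)
    · rw [hy, heq]; group

/-- clause 3, second half, of `S1379`, from B&G 14.2(f) (`h31`) and 14.3(a),(c) (`h67a`, `h67b`). -/
theorem clause3b (hG : Cfsg.IsMinSimpleOddOrder G) {M K Mstar : Subgroup G} (hM : IsCoatom M)
    (hK : Cfsg.IsPiHallOf (Cfsg.kappa M) K M) (hMstar : IsCoatom Mstar)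
    (hKst : K = Cfsg.sigmaCore Mstar ⊓ Subgroup.centralizer
      ((Cfsg.sigmaCore M ⊓ Subgroup.centralizer (K : Set G)) : Set G))
    (hKstH : Cfsg.IsPiHallOf (Cfsg.kappa Mstar)
      (Cfsg.sigmaCore M ⊓ Subgroup.centralizer (K : Set G)) Mstar)
    (h31 : ∀ (M₀ K₀ : Subgroup G), IsCoatom M₀ → Cfsg.IsPiHallOf (Cfsg.kappa M₀) K₀ M₀ → K₀ ≠ ⊥ →
      ∀ g : G, g ∉ M₀ → (Cfsg.sigmaCore M₀ ⊓ Subgroup.centralizer (K₀ : Set G)) ⊓
        M₀.map (MulAut.conj g).toMonoidHom = ⊥)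
    (h67a : ∀ X : Subgroup G, X ≤ (Cfsg.sigmaCore M ⊓ Subgroup.centralizer (K : Set G)) →
      (Nat.card X).Prime → Subgroup.centralizer (X : Set G) ≤ M)
    (h67b : ∀ Y : Subgroup G, Y ≤ K → (Nat.card Y).Prime →
      Subgroup.centralizer (Y : Set G) ≤ Mstar)
    (N : Subgroup G) (hN : IsCoatom N) (y : G) (z : G)
    (hz : z ∈ ((↑(K ⊔ (Cfsg.sigmaCore M ⊓ Subgroup.centralizer (K : Set G))) : Set G) \
        ((K : Set G) ∪ ↑(Cfsg.sigmaCore M ⊓ Subgroup.centralizer (K : Set G))))) :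
    y * z * y⁻¹ ∉ Cfsg.tildeOf N ((Cfsg.sigmaCore N : Set G) \ {1}) := by
  replace hKst : K = Cfsg.sigmaCore Mstar ⊓ Subgroup.centralizer
      ((Cfsg.sigmaCore M ⊓ Subgroup.centralizer (K : Set G) : Subgroup G) : Set G) := by
    rw [Subgroup.coe_inf]; exact hKst
  rintro ⟨a₀, ⟨ha₀, ha₀1⟩, r₀, hr₀, y', hy'⟩
  have ha₀1' : a₀ ≠ 1 := ha₀1
  -- normalize: `z = a * r` with `a ∈ N'_σ#`, `r ∈ R_{N'}(a)`
  obtain ⟨N', hN', a, ha, ha1, r, hr, hzar⟩ : ∃ N' : Subgroup G, IsCoatom N' ∧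
      ∃ a ∈ Cfsg.sigmaCore N', a ≠ 1 ∧ ∃ r ∈ Cfsg.supportR N' a, z = a * r := by
    refine ⟨conjSub (y⁻¹ * y') N, Cfsg.Agent.Lib.Helper11.BenderF.isCoatom_conjSub _ hN,
      (y⁻¹ * y') * a₀ * (y⁻¹ * y')⁻¹,
      Cfsg.Agent.Lib.Helper1.BG14b.conj_mem_sigmaCore_conjSub hG hN _ ha₀, ?_,
      (y⁻¹ * y') * r₀ * (y⁻¹ * y')⁻¹, ?_, ?_⟩
    · intro h
      apply ha₀1'
      have : a₀ = (y⁻¹ * y')⁻¹ * ((y⁻¹ * y') * a₀ * (y⁻¹ * y')⁻¹) * (y⁻¹ * y') := by group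
      rw [this, h]; group
    · rw [Cfsg.Agent.Lib.Helper1.BG14b.supportR_conj hG hN _ ha₀ ha₀1']
      exact conj_mem_conjSub hr₀
    · have : z = y⁻¹ * (y * z * y⁻¹) * y := by group
      rw [this, hy']; group
  obtain ⟨hzZ, hznot⟩ := hz
  have hcomm : ∀ k ∈ K, ∀ s ∈ Cfsg.sigmaCore M ⊓ Subgroup.centralizer (K : Set G),
      k * s = s * k := fun k hk s hs => Subgroup.mem_centralizer_iff.mp hs.2 k hk
  obtain ⟨k, hk, s, hs, hzks⟩ :=
    Cfsg.Agent.Lib.Helper18.BGTwelveD.mem_sup_of_commute hcomm hzZ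
  have hk1 : k ≠ 1 := by
    intro h
    apply hznot
    right
    rw [hzks, h, one_mul]
    exact hs
  have hs1 : s ≠ 1 := by
    intro h
    apply hznot
    left
    rw [hzks, h, mul_one]
    exact hk
  have hks : k * s = s * k := hcomm k hk s hs
  have har : r * a = a * r := Subgroup.mem_centralizer_singleton_iff.mp
    (Cfsg.Agent.Lib.Helper1.BG14b.supportR_le_centralizer hG hN' ha ha1 hr)
  have hrσ := Cfsg.Agent.Lib.Helper1.BG14b.supportR_primes hG hN' ha ha1 hr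
  have haσ := Cfsg.Agent.Lib.Helper1.BG14b.primes_of_mem_sigmaCore hG hN' ha
  have hcop : (orderOf a).Coprime (orderOf r) :=
    Cfsg.Agent.Lib.Helper1.BG14b.coprime_of_pi haσ hrσ
  have haz : a ∈ Subgroup.zpowers (a * r) :=
    Cfsg.Agent.Lib.Helper1.BG14b.mem_zpowers_mul_of_coprime har.symm hcop
  have ho : orderOf a ≠ 1 := fun h => ha1 (orderOf_eq_one_iff.mp h)
  obtain ⟨p, hp, hpa⟩ := Nat.exists_prime_and_dvd ho
  have hpz : p ∣ orderOf (k * s) := by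
    rw [← hzks, hzar]
    exact hpa.trans (orderOf_dvd_of_mem_zpowers haz)
  have hsM : s ∈ Cfsg.sigmaCore M := hs.1
  have hkMst : k ∈ Cfsg.sigmaCore Mstar := by
    have : k ∈ Cfsg.sigmaCore Mstar ⊓ Subgroup.centralizer
      ((Cfsg.sigmaCore M ⊓ Subgroup.centralizer (K : Set G) : Subgroup G) : Set G) := by
      rw [← hKst]; exact hk
    exact this.1
  rcases Cfsg.Agent.Lib.Helper1.BG14b.prime_dvd_orderOf_mul (show Commute k s from hks) hp hpz
    with hpk | hps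
  · -- `p ∣ |k|`: `N'` is conjugate to `Mstar`
    have hpMst : p ∈ Cfsg.sigma Mstar :=
      Cfsg.Agent.Lib.Helper1.BG14b.primes_of_mem_sigmaCore hG hMstar hkMst p hp hpk
    have hKst1 : (Cfsg.sigmaCore M ⊓ Subgroup.centralizer (K : Set G)) ≠ ⊥ := by
      intro h
      rw [h, Subgroup.mem_bot] at hs
      exact hs1 hs
    have hTI : ∀ g : G, g ∉ Mstar → K ⊓ Mstar.map (MulAut.conj g).toMonoidHom = ⊥ := by
      intro g hg
      have := h31 Mstar _ hMstar hKstH hKst1 g hg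
      rwa [← hKst] at this
    have hKle : K ≤ Cfsg.sigmaCore Mstar := by
      intro t ht
      have : t ∈ Cfsg.sigmaCore Mstar ⊓ Subgroup.centralizer
        ((Cfsg.sigmaCore M ⊓ Subgroup.centralizer (K : Set G) : Subgroup G) : Set G) := by
        rw [← hKst]; exact ht
      exact this.1
    have hsσ : ∀ q : ℕ, q.Prime → q ∣ orderOf s → q ∉ Cfsg.sigma Mstar := by
      intro q hq hqd
      exact (hKstH.2.1 q hq (hqd.trans (Subgroup.orderOf_dvd_natCard _ hs))).2.2.1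
    exact hs1 (tilde_excl hG hMstar hKle hTI h67b hN' ha ha1 hr hk hsσ hks
      (by rw [← hzar, hzks]) hp hpa hpMst)
  · -- `p ∣ |s|`: `N'` is conjugate to `M`
    have hpM : p ∈ Cfsg.sigma M :=
      Cfsg.Agent.Lib.Helper1.BG14b.primes_of_mem_sigmaCore hG hM hsM p hp hps
    have hK1 : K ≠ ⊥ := by
      intro h
      rw [h, Subgroup.mem_bot] at hk
      exact hk1 hk
    have hkσ : ∀ q : ℕ, q.Prime → q ∣ orderOf k → q ∉ Cfsg.sigma M := by
      intro q hq hqd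
      exact (hK.2.1 q hq (hqd.trans (Subgroup.orderOf_dvd_natCard _ hk))).2.2.1
    exact hk1 (tilde_excl hG hM inf_le_left (h31 M K hM hK hK1) h67a hN' ha ha1 hr hs hkσ hks.symm
      (by rw [← hzar, hzks, hks]) hp hpa hpM)

end Cfsg.Agent.Lib.Helper21.BG14e
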