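import Mathlib

/-!
# Project PLK (helper1, S2480), row NP4 (`psl_num`): the core, for an abstract bound function `u`
(`u = ubdN q K` in the row), with the conclusions of NP1 NP2 NP3 as hypotheses.  Pure `ℕ`.
-/

set_option autoImplicit false

namespace Cfsg.Agent.Lib.Helper1.PLK

theorem plknp4_core (n q : ℕ) (u : ℕ → ℕ) (hn : 2 ≤ n) (hq : 2 ≤ q)
    (h1 : u 1 ≤ 1) (h2 : u 2 ≤ q + 4)
    (h3 : ∀ k, 2 ≤ k → 2 * u k ≤ 5 * q ^ (k - 1) ∧ (3 ≤ k → u k ≤ q ^ (k - 1) + 3 * q ^ (k - 2)))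
    {α : Type*} (Z : Finset α) (z0 : α) (hz0 : z0 ∈ Z) (m f : α → ℕ)
    (hcard : Z.card = Nat.gcd n (q - 1)) (hm0 : m z0 = 1)
    (hm : ∀ z ∈ Z, z ≠ z0 → 2 ≤ m z ∧ m z ∣ n)
    (hf : ∀ z ∈ Z, f z ≤ u (n / m z)) :
    ∑ z ∈ Z, f z ≤ q ^ (n - 1) + 5 * q ^ (n - 2) := by
  classical
  have hsplit : ∑ z ∈ Z, f z = f z0 + ∑ z ∈ Z.erase z0, f z := (Finset.add_sum_erase Z f hz0).symm
  have hfz0 : f z0 ≤ u n := by
    have := hf z0 hz0
    rwa [hm0, Nat.div_one] at this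
  have hd1 : Nat.gcd n (q - 1) ≤ q - 1 := Nat.le_of_dvd (by omega) (Nat.gcd_dvd_right _ _)
  have hd2 : Nat.gcd n (q - 1) ≤ n := Nat.le_of_dvd (by omega) (Nat.gcd_dvd_left _ _)
  have hcE : (Z.erase z0).card = Nat.gcd n (q - 1) - 1 := by
    rw [Finset.card_erase_of_mem hz0, hcard]
  have hk : ∀ z ∈ Z.erase z0, 1 ≤ n / m z ∧ n / m z ≤ n / 2 ∧ f z ≤ u (n / m z) := by
    intro z hz
    rw [Finset.mem_erase] at hz
    obtain ⟨h2m, hdvd⟩ := hm z hz.2 hz.1
    exact ⟨Nat.div_pos (Nat.le_of_dvd (by omega) hdvd) (by omega),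
      Nat.div_le_div_left h2m (by omega), hf z hz.2⟩
  rw [hsplit]
  rcases (by omega : n = 2 ∨ n = 3 ∨ n = 4 ∨ 5 ≤ n) with rfl | rfl | rfl | h5
  · -- n = 2
    have hS : ∑ z ∈ Z.erase z0, f z ≤ (Z.erase z0).card • 1 := by
      apply Finset.sum_le_card_nsmul
      intro z hz
      obtain ⟨a, b, c⟩ := hk z hz
      have : 2 / m z = 1 := by omega
      rw [this] at c
      exact c.trans h1
    rw [hcE, smul_eq_mul, mul_one] at hS
    have : q ^ (2 - 1) + 5 * q ^ (2 - 2) = q + 5 := by norm_num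
    rw [this]
    omega
  · -- n = 3
    have hS : ∑ z ∈ Z.erase z0, f z ≤ (Z.erase z0).card • 1 := by
      apply Finset.sum_le_card_nsmul
      intro z hz
      obtain ⟨a, b, c⟩ := hk z hz
      have : 3 / m z = 1 := by omega
      rw [this] at c
      exact c.trans h1
    rw [hcE, smul_eq_mul, mul_one] at hS
    have hu3 := (h3 3 (by norm_num)).2 (le_refl 3)
    have e1 : q ^ (3 - 1) = q ^ 2 := by norm_num
    have e2 : q ^ (3 - 2) = q := by norm_num
    rw [e1, e2] at hu3 ⊢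
    have : Nat.gcd 3 (q - 1) - 1 ≤ 2 := by omega
    nlinarith
  · -- n = 4
    have hS : ∑ z ∈ Z.erase z0, f z ≤ (Z.erase z0).card • (q + 4) := by
      apply Finset.sum_le_card_nsmul
      intro z hz
      obtain ⟨a, b, c⟩ := hk z hz
      have : 4 / m z = 1 ∨ 4 / m z = 2 := by omega
      rcases this with h | h
      · rw [h] at c
        exact c.trans (h1.trans (by omega))
      · rw [h] at c
        exact c.trans h2
    rw [hcE, smul_eq_mul] at hS
    have hu4 := (h3 4 (by norm_num)).2 (by norm_num)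
    have e1 : q ^ (4 - 1) = q ^ 3 := by norm_num
    have e2 : q ^ (4 - 2) = q ^ 2 := by norm_num
    rw [e1, e2] at hu4 ⊢
    have hdq : Nat.gcd 4 (q - 1) - 1 ≤ q - 2 := by omega
    have hmul : (Nat.gcd 4 (q - 1) - 1) * (q + 4) ≤ (q - 2) * (q + 4) :=
      Nat.mul_le_mul_right _ hdq
    obtain ⟨a, rfl⟩ : ∃ a, q = a + 2 := ⟨q - 2, by omega⟩
    have e3 : a + 2 - 2 = a := by omega
    rw [e3] at hmul
    nlinarith
  · -- n ≥ 5
    set h := n / 2 with hh
    have hh1 : 1 ≤ h := by omega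
    have hh2 : h + 3 ≤ n := by omega
    have hq1 : 1 ≤ q := by omega
    have hA : ∀ k, 1 ≤ k → k ≤ h → 2 * u k ≤ 5 * q ^ (h - 1) := by
      intro k hk1 hkh
      have hpow : q ^ (k - 1) ≤ q ^ (h - 1) := Nat.pow_le_pow_right hq1 (by omega)
      rcases (by omega : k = 1 ∨ 2 ≤ k) with rfl | hk2
      · have : 1 ≤ q ^ (h - 1) := Nat.one_le_pow _ _ hq1
        omega
      · have := (h3 k hk2).1
        calc 2 * u k ≤ 5 * q ^ (k - 1) := this
          _ ≤ 5 * q ^ (h - 1) := Nat.mul_le_mul_left _ hpow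
    have hS : ∑ z ∈ Z.erase z0, 2 * f z ≤ (Z.erase z0).card • (5 * q ^ (h - 1)) := by
      apply Finset.sum_le_card_nsmul
      intro z hz
      obtain ⟨a, b, c⟩ := hk z hz
      calc 2 * f z ≤ 2 * u (n / m z) := Nat.mul_le_mul_left _ c
        _ ≤ 5 * q ^ (h - 1) := hA _ a b
    rw [← Finset.mul_sum, hcE, smul_eq_mul] at hS
    have hun := (h3 n (by omega)).2 (by omega)
    -- (d - 1) * (5 q^(h-1)) ≤ (q - 2) * 5 q^(h-1) ≤ 5 q^h
    have hdq : Nat.gcd n (q - 1) - 1 ≤ q - 2 := by omega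
    have s1 : (Nat.gcd n (q - 1) - 1) * (5 * q ^ (h - 1)) ≤ q * (5 * q ^ (h - 1)) :=
      Nat.mul_le_mul_right _ (hdq.trans (by omega))
    have s2 : q * (5 * q ^ (h - 1)) = 5 * q ^ h := by
      have : q ^ h = q ^ (h - 1) * q := by
        rw [← pow_succ]
        congr 1
        omega
      rw [this]
      ring
    -- 5 q^h ≤ 4 q^(n-2)
    have s3 : 2 * q ^ h ≤ q ^ (n - 2) := by
      have : q ^ (h + 1) ≤ q ^ (n - 2) := Nat.pow_le_pow_right hq1 (by omega)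
      have e : q ^ (h + 1) = q ^ h * q := pow_succ _ _
      have : q ^ h * 2 ≤ q ^ h * q := Nat.mul_le_mul_left _ hq
      omega
    have hpos : 0 < q ^ h := Nat.pos_of_ne_zero (by positivity)
    omega

end Cfsg.Agent.Lib.Helper1.PLK
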