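import Mathlib
import Cfsg.Agent.Lib.Helper1.PLK.Defs
import Cfsg.Agent.Lib.Helper29.PLKNP1
import Cfsg.Agent.Lib.Helper29.PLKNP2
import Cfsg.Agent.Lib.Helper24.PLKNP3
import Cfsg.Agent.Lib.Helper21.PLKNP4core

/-!
# Project PLK (helper1, S2480), row NP4 (`psl_num`), VERBATIM: the core on the landed NP1 NP2 NP3.
-/

set_option autoImplicit false

namespace Cfsg.Agent.Lib.Helper1.PLK

open Polynomial
open Cfsg.Agent.Lib.Helper29.GLK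
open Cfsg.Agent.Lib.Helper1.SLK

universe u

theorem psl_num (n q : ℕ) (K : ℕ → ℕ) (hn : 2 ≤ n) (hq : 2 ≤ q) (hK : ∀ m, K m ≤ cnt q m 1 m)
    {α : Type*} (Z : Finset α) (z0 : α) (hz0 : z0 ∈ Z) (m f : α → ℕ)
    (hcard : Z.card = Nat.gcd n (q - 1)) (hm0 : m z0 = 1)
    (hm : ∀ z ∈ Z, z ≠ z0 → 2 ≤ m z ∧ m z ∣ n)
    (hf : ∀ z ∈ Z, f z ≤ ubdN q K (n / m z)) :
    ∑ z ∈ Z, f z ≤ q ^ (n - 1) + 5 * q ^ (n - 2) :=
  plknp4_core n q (ubdN q K) hn hq (ubdN_one q K hq hK) (ubdN_two q K hq hK)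
    (fun k hk => ubdN_bounds k q K hk hq hK) Z z0 hz0 m f hcard hm0 hm hf

end Cfsg.Agent.Lib.Helper1.PLK
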