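import Mathlib
import Cfsg.Agent.Lib.Helper1.PLK.Defs

/-!
# Project PLK (helper1, S2480), row U10 (`comp_eq_of_count`), VERBATIM.
-/

set_option autoImplicit false

namespace Cfsg.Agent.Lib.Helper1.PLK

open Polynomial
open Cfsg.Agent.Lib.Helper29.GLK
open Cfsg.Agent.Lib.Helper1.SLK

universe u

variable {F : Type u} [Field F]

theorem plku10_natDegree (ζ : Fˣ) (P : F[X]) :
    (P.comp (C (ζ : F) * X)).natDegree = P.natDegree := by
  rw [natDegree_comp, natDegree_C_mul_X _ ζ.ne_zero, mul_one]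

theorem plku10_lc (ζ : Fˣ) (P : F[X]) :
    (P.comp (C (ζ : F) * X)).leadingCoeff = P.leadingCoeff * (ζ : F) ^ P.natDegree := by
  rw [leadingCoeff_comp (by rw [natDegree_C_mul_X _ ζ.ne_zero]; exact one_ne_zero),
    leadingCoeff_mul, leadingCoeff_C, leadingCoeff_X, mul_one]

theorem plku10_tw_natDegree (ζ : Fˣ) (P : F[X]) : (tw ζ P).natDegree = P.natDegree := by
  unfold tw
  rw [natDegree_C_mul (pow_ne_zero _ (Units.ne_zero _)), plku10_natDegree]

theorem plku10_tw_monic (ζ : Fˣ) (P : F[X]) (hP : P.Monic) : (tw ζ P).Monic := by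
  unfold tw Monic
  rw [leadingCoeff_mul, leadingCoeff_C, plku10_lc, hP.leadingCoeff, one_mul, ← mul_pow]
  simp

theorem plku10_comp_comp (ζ : Fˣ) (P : F[X]) :
    (P.comp (C (ζ : F) * X)).comp (C ((ζ⁻¹ : Fˣ) : F) * X) = P := by
  rw [comp_assoc, mul_comp, C_comp, X_comp, ← mul_assoc, ← C_mul]
  simp

theorem plku10_tw_inv (ζ : Fˣ) (P : F[X]) : tw ζ⁻¹ (tw ζ P) = P := by
  have hd := plku10_tw_natDegree ζ P
  have e : tw ζ⁻¹ (tw ζ P) = C ((((ζ⁻¹)⁻¹ : Fˣ) : F) ^ (tw ζ P).natDegree) *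
      (tw ζ P).comp (C ((ζ⁻¹ : Fˣ) : F) * X) := rfl
  rw [e, hd]
  unfold tw
  rw [mul_comp, C_comp, plku10_comp_comp, ← mul_assoc, ← C_mul, ← mul_pow, inv_inv]
  simp

theorem plku10_tw_inv' (ζ : Fˣ) (P : F[X]) : tw ζ (tw ζ⁻¹ P) = P := by
  have := plku10_tw_inv ζ⁻¹ P
  rwa [inv_inv] at this

theorem plku10_tw_injective (ζ : Fˣ) : Function.Injective (tw (F := F) ζ) :=
  Function.LeftInverse.injective (plku10_tw_inv ζ)

theorem plku10_tw_mul (ζ : Fˣ) (P Q : F[X]) (hP : P ≠ 0) (hQ : Q ≠ 0) :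
    tw ζ (P * Q) = tw ζ P * tw ζ Q := by
  unfold tw
  rw [natDegree_mul hP hQ, mul_comp, pow_add, C_mul]
  ring

/-- the substitution as an algebra automorphism -/
noncomputable def plku10_phi (ζ : Fˣ) : F[X] ≃ₐ[F] F[X] :=
  algEquivOfCompEqX (C (ζ : F) * X) (C ((ζ⁻¹ : Fˣ) : F) * X)
    (by rw [mul_comp, C_comp, X_comp, ← mul_assoc, ← C_mul]; simp)
    (by rw [mul_comp, C_comp, X_comp, ← mul_assoc, ← C_mul]; simp)

theorem plku10_phi_apply (ζ : Fˣ) (P : F[X]) : plku10_phi ζ P = P.comp (C (ζ : F) * X) := by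
  unfold plku10_phi
  rw [algEquivOfCompEqX_apply, comp_eq_aeval]

theorem plku10_tw_irreducible (ζ : Fˣ) (P : F[X]) (hP : Irreducible P) : Irreducible (tw ζ P) := by
  unfold tw
  rw [irreducible_isUnit_mul (isUnit_C.mpr (IsUnit.pow _ (Units.isUnit _))), ← plku10_phi_apply]
  exact (MulEquiv.irreducible_iff (plku10_phi ζ)).mpr hP

theorem plku10_tw_one (ζ : Fˣ) : tw ζ (1 : F[X]) = 1 := by
  unfold tw
  simp

theorem plku10_tw_prod (ζ : Fˣ) (N : Multiset F[X]) (hN : ∀ P ∈ N, P.Monic) :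
    tw ζ N.prod = (N.map (tw ζ)).prod := by
  induction N using Multiset.induction_on with
  | empty => simp [plku10_tw_one]
  | cons a s ih =>
    have hs : ∀ P ∈ s, P.Monic := fun P hP => hN P (Multiset.mem_cons_of_mem hP)
    have ha : a.Monic := hN a (Multiset.mem_cons_self a s)
    have hsm : s.prod.Monic := by
      have := monic_multiset_prod_of_monic s id hs
      rwa [Multiset.map_id] at this
    rw [Multiset.prod_cons, Multiset.map_cons, Multiset.prod_cons, ← ih hs]
    exact plku10_tw_mul ζ a s.prod ha.ne_zero hsm.ne_zero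

theorem comp_eq_of_count {F : Type u} [Field F] [DecidableEq F] (ζ : Fˣ) (g : F[X]) (hg : g.Monic)
    (h : ∀ P : F[X], Irreducible P → P.Monic →
      Multiset.count P (UniqueFactorizationMonoid.normalizedFactors g) =
        Multiset.count (tw ζ P) (UniqueFactorizationMonoid.normalizedFactors g)) :
    g.comp (C (ζ : F) * X) = C ((ζ : F) ^ g.natDegree) * g := by
  have hg0 : g ≠ 0 := hg.ne_zero
  have hMirr : ∀ P ∈ UniqueFactorizationMonoid.normalizedFactors g, Irreducible P ∧ P.Monic := by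
    intro P hP
    have hi := UniqueFactorizationMonoid.irreducible_of_normalized_factor P hP
    refine ⟨hi, ?_⟩
    have := UniqueFactorizationMonoid.normalize_normalized_factor P hP
    rw [← this]
    exact Polynomial.monic_normalize hi.ne_zero
  have hprod : (UniqueFactorizationMonoid.normalizedFactors g).prod = g := by
    have hassoc := UniqueFactorizationMonoid.prod_normalizedFactors hg0
    have hmonic : (UniqueFactorizationMonoid.normalizedFactors g).prod.Monic := by
      have := monic_multiset_prod_of_monic (UniqueFactorizationMonoid.normalizedFactors g) id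
        (fun P hP => (hMirr P hP).2)
      rwa [Multiset.map_id] at this
    exact eq_of_monic_of_associated hmonic hg hassoc
  have hmap : (UniqueFactorizationMonoid.normalizedFactors g).map (tw ζ) =
      UniqueFactorizationMonoid.normalizedFactors g := by
    ext Q
    have hQ : tw ζ (tw ζ⁻¹ Q) = Q := plku10_tw_inv' ζ Q
    rw [← hQ, Multiset.count_map_eq_count' _ _ (plku10_tw_injective ζ)]
    by_cases hP : Irreducible (tw ζ⁻¹ Q) ∧ (tw ζ⁻¹ Q).Monic
    · exact h _ hP.1 hP.2
    · have h1 : tw ζ⁻¹ Q ∉ UniqueFactorizationMonoid.normalizedFactors g :=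
        fun hPM => hP (hMirr _ hPM)
      have h2 : tw ζ (tw ζ⁻¹ Q) ∉ UniqueFactorizationMonoid.normalizedFactors g := by
        intro hm
        rw [hQ] at hm
        obtain ⟨hi, hmo⟩ := hMirr _ hm
        exact hP ⟨plku10_tw_irreducible ζ⁻¹ Q hi, plku10_tw_monic ζ⁻¹ Q hmo⟩
      rw [Multiset.count_eq_zero_of_notMem h1, Multiset.count_eq_zero_of_notMem h2]
  have htw : tw ζ g = g := by
    conv_lhs => rw [← hprod]
    rw [plku10_tw_prod ζ _ (fun P hP => (hMirr P hP).2), hmap, hprod]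
  unfold tw at htw
  calc g.comp (C (ζ : F) * X)
      = C ((ζ : F) ^ g.natDegree) * (C (((ζ⁻¹ : Fˣ) : F) ^ g.natDegree) * g.comp (C (ζ : F) * X)) := by
        rw [← mul_assoc, ← C_mul, ← mul_pow]
        simp
    _ = C ((ζ : F) ^ g.natDegree) * g := by rw [htw]

end Cfsg.Agent.Lib.Helper1.PLK
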