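import Mathlib

/-!
# Project PM2 (S4705) : pieces CRT (`exists_unit_transfer`) and FAM (`exists_kappa`, `exists_fam`)
-/

set_option autoImplicit false
set_option linter.unusedVariables false
set_option linter.unusedSectionVars false

namespace Cfsg.Agent.Lib.helper7.PM2

/-- a residue prime to `L ∣ n` lifts to a residue prime to `n` -/
theorem pm2crt_lift (L n : ℕ) (hn : 0 < n) (hL : L ∣ n) (u₀ : ℕ) (h : Nat.Coprime u₀ L) :
    ∃ u : ℕ, Nat.Coprime u n ∧ u ≡ u₀ [MOD L] := by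
  have : NeZero n := ⟨hn.ne'⟩
  obtain ⟨w, hw⟩ := ZMod.unitsMap_surjective hL (ZMod.unitOfCoprime u₀ h)
  refine ⟨(w : ZMod n).val, ZMod.val_coe_unit_coprime w, ?_⟩
  rw [← ZMod.natCast_eq_natCast_iff]
  have h1 := congrArg (fun x : (ZMod L)ˣ => (x : ZMod L)) hw
  simp only [ZMod.unitsMap_def, Units.coe_map, MonoidHom.coe_coe, ZMod.coe_unitOfCoprime] at h1
  rw [← h1, ZMod.natCast_val, ZMod.castHom_apply]

/-- CRT : the unit needed to transfer the exponent `κ` to the exponent `e` -/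
theorem exists_unit_transfer (n M d κ e : ℕ) (hn : 0 < n) (hM : M ∣ n) (hd : d ∣ n)
    (hκ : Nat.Coprime κ d) (he : Nat.Coprime e d) (hcong : e ≡ κ [MOD Nat.gcd d M]) :
    ∃ u : ℕ, Nat.Coprime u n ∧ u ≡ 1 [MOD M] ∧ κ * u ≡ e [MOD d] := by
  have hd0 : 0 < d := Nat.pos_of_dvd_of_pos hd hn
  have hM0 : 0 < M := Nat.pos_of_dvd_of_pos hM hn
  have : NeZero d := ⟨hd0.ne'⟩
  -- `v` with `κ v ≡ e mod d`
  set v : ℕ := (((ZMod.unitOfCoprime κ hκ)⁻¹ : (ZMod d)ˣ) * (e : ZMod d) : ZMod d).val with hv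
  have hκv : κ * v ≡ e [MOD d] := by
    rw [← ZMod.natCast_eq_natCast_iff]
    push_cast
    rw [hv, ZMod.natCast_val, ZMod.cast_id', id, ← mul_assoc]
    have : (κ : ZMod d) = ((ZMod.unitOfCoprime κ hκ : (ZMod d)ˣ) : ZMod d) :=
      (ZMod.coe_unitOfCoprime κ hκ).symm
    rw [this, Units.mul_inv, one_mul]
  -- `v ≡ 1 mod gcd d M`
  have hg : Nat.gcd d M ∣ d := Nat.gcd_dvd_left d M
  have hκg : Nat.Coprime κ (Nat.gcd d M) := Nat.Coprime.coprime_dvd_right hg hκ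
  have hv1 : v ≡ 1 [MOD Nat.gcd d M] := by
    have h1 : κ * v ≡ κ * 1 [MOD Nat.gcd d M] := by
      rw [mul_one]
      exact (hκv.of_dvd hg).trans hcong
    exact Nat.ModEq.cancel_left_of_coprime (by rw [Nat.gcd_comm]; exact hκg) h1
  -- the Chinese remainder theorem
  obtain ⟨u₀, hu₀d, hu₀M⟩ := Nat.chineseRemainder' hv1
  -- `u₀` is prime to `lcm d M`
  have hcd : Nat.Coprime u₀ d := by
    have h1 : κ * u₀ ≡ e [MOD d] := (Nat.ModEq.mul_left κ hu₀d).trans hκv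
    have h2 : Nat.Coprime (κ * u₀) d := by
      have := h1.gcd_eq
      unfold Nat.Coprime
      rw [this]
      exact he
    exact Nat.Coprime.coprime_mul_left h2
  have hcM : Nat.Coprime u₀ M := by
    have := hu₀M.gcd_eq
    unfold Nat.Coprime
    rw [this]
    exact Nat.gcd_one_left M
  have hcL : Nat.Coprime u₀ (Nat.lcm d M) := by
    have h1 : Nat.Coprime u₀ (d * M) := Nat.Coprime.mul_right hcd hcM
    exact Nat.Coprime.coprime_dvd_right (Nat.lcm_dvd_mul d M) h1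
  obtain ⟨u, hun, huL⟩ := pm2crt_lift (Nat.lcm d M) n hn (Nat.lcm_dvd hd hM) u₀ hcL
  refine ⟨u, hun, ?_, ?_⟩
  · exact (huL.of_dvd (Nat.dvd_lcm_right d M)).trans hu₀M
  · have h1 : u ≡ v [MOD d] := (huL.of_dvd (Nat.dvd_lcm_left d M)).trans hu₀d
    exact (Nat.ModEq.mul_left κ h1).trans hκv

/-- FAM : the exponent `κ` -/
theorem exists_kappa (n p o : ℕ) (hn : 0 < n) (hp : p.Prime) (hpn : p ∣ n) (ho : o ∣ n / p)
    (hodd : Odd o) : ∃ κ : ℕ, Nat.Coprime κ (n / p) ∧ κ ≡ 2 [MOD o] := by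
  have hnp : 0 < n / p := Nat.div_pos (Nat.le_of_dvd hn hpn) hp.pos
  have h2 : Nat.Coprime 2 o := by
    rw [Nat.coprime_two_left]
    exact hodd
  exact pm2crt_lift o (n / p) hnp ho 2 h2

/-- FAM : the exponents `k_a` -/
theorem exists_fam (n p κ : ℕ) (hn : 0 < n) (hp : p.Prime) (hpn : p ∣ n) (hp2 : ¬ p ^ 2 ∣ n)
    (hκ : Nat.Coprime κ (n / p)) (a : ℕ) (ha : ¬ p ∣ a) :
    ∃ k : ℕ, Nat.Coprime k n ∧ k ≡ a [MOD p] ∧ k ≡ κ [MOD n / p] := by
  have hcop : Nat.Coprime p (n / p) := by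
    rw [Nat.Prime.coprime_iff_not_dvd hp]
    intro h
    apply hp2
    obtain ⟨t, ht⟩ := h
    refine ⟨t, ?_⟩
    have h1 : n = p * (n / p) := (Nat.mul_div_cancel' hpn).symm
    rw [h1, ht, sq, mul_assoc]
  obtain ⟨k, hkp, hkn⟩ := Nat.chineseRemainder hcop a κ
  refine ⟨k, ?_, hkp, hkn⟩
  have h1 : Nat.Coprime k p := by
    have := hkp.gcd_eq
    unfold Nat.Coprime
    rw [this]
    exact ((Nat.Prime.coprime_iff_not_dvd hp).mpr ha).symm
  have h2 : Nat.Coprime k (n / p) := by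
    have := hkn.gcd_eq
    unfold Nat.Coprime
    rw [this]
    exact hκ
  have h3 : n = p * (n / p) := (Nat.mul_div_cancel' hpn).symm
  rw [h3]
  exact Nat.Coprime.mul_right h1 h2

end Cfsg.Agent.Lib.helper7.PM2
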