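import Mathlib

/-!
# PS4-QG (project S5320): facts about `QuaternionGroup n` (pure Mathlib)
-/

set_option autoImplicit false

namespace Cfsg.Agent.Lib.Helper21.PS4

open QuaternionGroup

theorem qg_natCast_ne_zero {n : ℕ} [NeZero n] : ((n : ℕ) : ZMod (2 * n)) ≠ 0 := by
  intro h
  rw [ZMod.natCast_eq_zero_iff] at h
  have hn : 0 < n := Nat.pos_of_ne_zero (NeZero.ne n)
  have := Nat.le_of_dvd hn h
  omega

theorem qg_two_mul_eq_zero {n : ℕ} [NeZero n] (i : ZMod (2 * n)) (h : i + i = 0) :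
    i = 0 ∨ i = (n : ZMod (2 * n)) := by
  have hn : 0 < n := Nat.pos_of_ne_zero (NeZero.ne n)
  have : NeZero (2 * n) := ⟨by omega⟩
  have hi : ((i.val : ℕ) : ZMod (2 * n)) = i := ZMod.natCast_zmod_val i
  have hlt : i.val < 2 * n := ZMod.val_lt i
  have h2 : ((i.val + i.val : ℕ) : ZMod (2 * n)) = 0 := by
    rw [Nat.cast_add, hi]; exact h
  rw [ZMod.natCast_eq_zero_iff] at h2
  obtain ⟨t, ht⟩ := h2
  have ht' : i.val = n * t := by nlinarith
  have ht2 : t < 2 := by
    by_contra hcon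
    push Not at hcon
    have : n * 2 ≤ n * t := Nat.mul_le_mul_left n hcon
    omega
  interval_cases t
  · left
    rw [← hi, ht']; simp
  · right
    rw [← hi, ht']; simp

theorem qg_involution {n : ℕ} [NeZero n] (x : QuaternionGroup n) (hx : x * x = 1) :
    x = 1 ∨ x = QuaternionGroup.a n := by
  rcases x with i | i
  · rw [a_mul_a, one_def] at hx
    have h := QuaternionGroup.a.inj hx
    rcases qg_two_mul_eq_zero i h with h0 | h1
    · left; rw [h0, one_def]
    · right; rw [h1]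
  · exfalso
    rw [xa_mul_xa, one_def] at hx
    have h := QuaternionGroup.a.inj hx
    rw [add_sub_cancel_right] at h
    exact qg_natCast_ne_zero h

theorem qg_xa_sq {n : ℕ} (i : ZMod (2 * n)) : xa i * xa i = QuaternionGroup.a (n : ZMod (2 * n)) := by
  rw [xa_mul_xa, add_sub_cancel_right]

theorem qg_closure_sq {n : ℕ} [NeZero n] (hn : Even n) :
    Subgroup.closure {x : QuaternionGroup n | x * x = QuaternionGroup.a n} = ⊤ := by
  rw [eq_top_iff]
  intro x _
  have hxa : ∀ i : ZMod (2 * n), xa i ∈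
      Subgroup.closure {x : QuaternionGroup n | x * x = QuaternionGroup.a n} :=
    fun i => Subgroup.subset_closure (qg_xa_sq i)
  rcases x with i | i
  · have : (QuaternionGroup.a i : QuaternionGroup n) = xa 0 * xa (i - (n : ZMod (2 * n))) := by
      rw [xa_mul_xa]; congr 1; ring
    rw [this]
    exact Subgroup.mul_mem _ (hxa 0) (hxa _)
  · exact hxa i

theorem qg_closure_prod {n : ℕ} [NeZero n] (hn : Even n) :
    Subgroup.closure {z : QuaternionGroup n | ∃ x y : QuaternionGroup n,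
      x * x = QuaternionGroup.a n ∧ y * y = QuaternionGroup.a n ∧ z = x * y} = ⊤ := by
  rw [eq_top_iff]
  intro x _
  obtain ⟨r, hr⟩ := hn
  have har : (QuaternionGroup.a (r : ZMod (2 * n)) : QuaternionGroup n) *
      QuaternionGroup.a (r : ZMod (2 * n)) = QuaternionGroup.a n := by
    rw [a_mul_a, hr, Nat.cast_add]
  apply Subgroup.subset_closure
  rcases x with i | i
  · refine ⟨xa 0, xa (i - (n : ZMod (2 * n))), qg_xa_sq _, qg_xa_sq _, ?_⟩
    rw [xa_mul_xa]; congr 1; ring
  · refine ⟨xa (i - (r : ZMod (2 * n))), QuaternionGroup.a (r : ZMod (2 * n)), qg_xa_sq _, har, ?_⟩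
    rw [xa_mul_a]; congr 1; ring

theorem qg_a_pow {n : ℕ} (j : ZMod (2 * n)) (t : ℕ) :
    (QuaternionGroup.a j : QuaternionGroup n) ^ t = QuaternionGroup.a ((t : ZMod (2 * n)) * j) := by
  induction t with
  | zero => rw [pow_zero, Nat.cast_zero, zero_mul, one_def]
  | succ t ih => rw [pow_succ, ih, a_mul_a]; congr 1; push_cast; ring

/-- `Aut(Q_{2^(k+2)})` is a 2-group for `k ≥ 2` (order at least 16) -/
theorem qg_aut_odd {k : ℕ} (hk : 2 ≤ k) (α : MulAut (QuaternionGroup (2 ^ k))) (m : ℕ)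
    (hm : Odd m) (h : α ^ m = 1) : α = 1 := by
  have : NeZero (2 ^ k) := ⟨by positivity⟩
  have : NeZero (2 * 2 ^ k) := ⟨by positivity⟩
  have hm0 : m ≠ 0 := by rintro rfl; exact (Nat.not_odd_iff_even.mpr (by decide)) hm
  have hcop : Nat.Coprime m (2 * 2 ^ k) := by
    have h2 : Nat.Coprime m 2 := hm.coprime_two_right
    have : 2 * 2 ^ k = 2 ^ (k + 1) := by rw [pow_succ']
    rw [this]
    exact Nat.Coprime.pow_right _ h2
  -- step 1: α (a 1) = a j
  obtain ⟨j, hj⟩ : ∃ j, α (QuaternionGroup.a 1) = QuaternionGroup.a j := by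
    rcases hα : α (QuaternionGroup.a 1) with j | j
    · exact ⟨j, rfl⟩
    · exfalso
      have h1 : orderOf (α (QuaternionGroup.a 1)) = orderOf (QuaternionGroup.a 1 : QuaternionGroup (2 ^ k)) :=
        MulEquiv.orderOf_eq α _
      rw [hα, orderOf_xa, orderOf_a_one] at h1
      have : 2 ^ 2 ≤ 2 ^ k := Nat.pow_le_pow_right (by norm_num) hk
      omega
  -- step 2
  have hai : ∀ i : ZMod (2 * 2 ^ k), α (QuaternionGroup.a i) = QuaternionGroup.a (j * i) := by
    intro i
    have hi : (QuaternionGroup.a i : QuaternionGroup (2 ^ k)) = (QuaternionGroup.a 1) ^ i.val := by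
      rw [a_one_pow, ZMod.natCast_zmod_val]
    rw [hi, map_pow, hj, qg_a_pow, ZMod.natCast_zmod_val, mul_comm]
  -- step 3
  have hpow : ∀ t : ℕ, ∀ i : ZMod (2 * 2 ^ k),
      (α ^ t) (QuaternionGroup.a i) = QuaternionGroup.a (j ^ t * i) := by
    intro t
    induction t with
    | zero => intro i; rw [pow_zero, pow_zero, one_mul]; rfl
    | succ t ih =>
      intro i
      rw [pow_succ', MulAut.mul_apply, ih, hai, pow_succ', mul_assoc]
  have hjm : j ^ m = 1 := by
    have := hpow m 1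
    rw [h, mul_one] at this
    exact (QuaternionGroup.a.inj this).symm
  -- step 4: j = 1
  have hj1 : j = 1 := by
    let u : (ZMod (2 * 2 ^ k))ˣ := Units.ofPowEqOne j m hjm hm0
    have hu : u ^ m = 1 := Units.pow_ofPowEqOne hjm hm0
    have h1 : orderOf u ∣ m := orderOf_dvd_of_pow_eq_one hu
    have h2 : orderOf u ∣ Fintype.card (ZMod (2 * 2 ^ k))ˣ := orderOf_dvd_card
    rw [ZMod.card_units_eq_totient] at h2
    have htot : Nat.totient (2 * 2 ^ k) = 2 ^ k := by
      have : 2 * 2 ^ k = 2 ^ (k + 1) := by rw [pow_succ']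
      rw [this, Nat.totient_prime_pow Nat.prime_two (by omega)]
      simp
    rw [htot] at h2
    have h3 : orderOf u ∣ Nat.gcd m (2 ^ k) := Nat.dvd_gcd h1 h2
    have h4 : Nat.gcd m (2 ^ k) = 1 := Nat.Coprime.pow_right _ hm.coprime_two_right
    rw [h4, Nat.dvd_one, orderOf_eq_one_iff] at h3
    have : (u : ZMod (2 * 2 ^ k)) = 1 := by rw [h3]; rfl
    rwa [Units.val_ofPowEqOne] at this
  have hfix : ∀ i : ZMod (2 * 2 ^ k), α (QuaternionGroup.a i) = QuaternionGroup.a i := by
    intro i; rw [hai, hj1, one_mul]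
  -- step 6
  obtain ⟨c, hc⟩ : ∃ c, α (xa 0) = xa c := by
    rcases hα : α (xa 0) with c' | c
    · exfalso
      have : α (xa 0) = α (QuaternionGroup.a c') := by rw [hα, hfix]
      have := α.injective this
      cases this
    · exact ⟨c, rfl⟩
  have hxi : ∀ i : ZMod (2 * 2 ^ k), α (xa i) = xa (c + i) := by
    intro i
    have : (xa i : QuaternionGroup (2 ^ k)) = xa 0 * QuaternionGroup.a i := by
      rw [xa_mul_a, zero_add]
    rw [this, map_mul, hc, hfix, xa_mul_a]
  have hxpow : ∀ t : ℕ, (α ^ t) (xa 0) = xa ((t : ZMod (2 * 2 ^ k)) * c) := by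
    intro t
    induction t with
    | zero => rw [pow_zero, Nat.cast_zero, zero_mul]; rfl
    | succ t ih =>
      rw [pow_succ', MulAut.mul_apply, ih, hxi]; congr 1; push_cast; ring
  have hc0 : c = 0 := by
    have := hxpow m
    rw [h] at this
    have h1 : (m : ZMod (2 * 2 ^ k)) * c = 0 := (QuaternionGroup.xa.inj this).symm
    have hu : IsUnit (m : ZMod (2 * 2 ^ k)) := (ZMod.isUnit_iff_coprime m (2 * 2 ^ k)).mpr hcop
    exact (hu.mul_right_eq_zero).mp h1
  ext x
  rcases x with i | i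
  · rw [hfix]; rfl
  · rw [hxi, hc0, zero_add]; rfl

end Cfsg.Agent.Lib.Helper21.PS4
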