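import Mathlib
import Cfsg.Agent.Lib.helper7.REE.Defs

/-!
# Project REE (designer helper7), row G8J (`centralizers`): the core, on the statements of the cited rows
G6D (`conj_H_E`), G1E (`cent_H_elt`), G5F (`cent_A1_elt`), G4J (`E_basic`).
-/

set_option autoImplicit false
set_option linter.unusedVariables false

namespace Cfsg.Agent.Lib.helper7.REE

open Matrix Cfsg.Agent.Lib.helper8

universe u v

theorem reeg8j_qq_mod (m : ℕ) : qq m % 8 = 3 := by
  unfold qq
  induction m with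
  | zero => norm_num
  | succ k ih =>
    have : 3 ^ (2 * (k + 1) + 1) = 9 * 3 ^ (2 * k + 1) := by ring
    rw [this]
    omega

theorem reeg8j_qq_ge (m : ℕ) (hm : 1 ≤ m) : 27 ≤ qq m := by
  unfold qq
  calc 27 = 3 ^ 3 := by norm_num
    _ ≤ 3 ^ (2 * m + 1) := Nat.pow_le_pow_right (by norm_num) (by omega)

/-- generic: if `x H x⁻¹ ≤ T`, `T` abelian, and `C(x h x⁻¹) = T` for `h ∈ H ∖ 1`, then `C(A) = x⁻¹ T x` for
every non-trivial `A ≤ H`. -/
theorem reeg8j_generic {G : Type*} [Group G] (T : Subgroup G) (hT : ∀ a ∈ T, ∀ b ∈ T, a * b = b * a)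
    (H : Subgroup G) (x : G) (hx : ∀ h ∈ H, x * h * x⁻¹ ∈ T)
    (hgood : ∀ h ∈ H, h ≠ 1 → Subgroup.centralizer {x * h * x⁻¹} = T)
    (A : Subgroup G) (hA : A ≤ H) (hA1 : A ≠ ⊥) :
    Subgroup.centralizer (A : Set G) = T.map (MulAut.conj x⁻¹).toMonoidHom := by
  obtain ⟨⟨b, hbA⟩, hb1⟩ := (Subgroup.ne_bot_iff_exists_ne_one).mp hA1
  have hb1' : b ≠ 1 := fun h => hb1 (Subtype.ext h)
  have hcb := hgood b (hA hbA) hb1'
  ext c
  rw [Subgroup.mem_centralizer_iff, Subgroup.mem_map]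
  constructor
  · intro hc
    have h1 : x * c * x⁻¹ ∈ Subgroup.centralizer {x * b * x⁻¹} := by
      rw [Subgroup.mem_centralizer_iff]
      intro y hy
      rw [Set.mem_singleton_iff] at hy
      subst hy
      have h2 : b * c = c * b := hc b hbA
      calc x * b * x⁻¹ * (x * c * x⁻¹) = x * (b * c) * x⁻¹ := by group
        _ = x * (c * b) * x⁻¹ := by rw [h2]
        _ = x * c * x⁻¹ * (x * b * x⁻¹) := by group
    rw [hcb] at h1
    refine ⟨x * c * x⁻¹, h1, ?_⟩
    simp only [MulEquiv.coe_toMonoidHom, MulAut.conj_apply]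
    group
  · rintro ⟨h, hh, rfl⟩ a ha
    simp only [MulEquiv.coe_toMonoidHom, MulAut.conj_apply, inv_inv]
    have h2 : x * a * x⁻¹ * h = h * (x * a * x⁻¹) := hT _ (hx a (hA ha)) _ hh
    calc a * (x⁻¹ * h * x) = x⁻¹ * (x * a * x⁻¹ * h) * x := by group
      _ = x⁻¹ * (h * (x * a * x⁻¹)) * x := by rw [h2]
      _ = x⁻¹ * h * x * a := by group

/-- image of a cyclic subgroup under a homomorphism -/
theorem reeg8j_map_cyclic {G : Type*} [Group G] (T : Subgroup G) (hT : IsCyclic T) (f : G →* G) :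
    IsCyclic ↥(T.map f) :=
  isCyclic_of_surjective (f.subgroupMap T) (f.subgroupMap_surjective T)

theorem reeg8j_comm_of_cyclic {G : Type*} [Group G] (T : Subgroup G) (hT : IsCyclic T) :
    ∀ a ∈ T, ∀ b ∈ T, a * b = b * a := by
  intro a ha b hb
  let _ := IsCyclic.commGroup (α := T)
  have hc : (⟨a, ha⟩ : T) * ⟨b, hb⟩ = ⟨b, hb⟩ * ⟨a, ha⟩ := mul_comm _ _
  exact congrArg Subtype.val hc

/-- a cyclic subgroup `H` with a generator `a` such that `x a x⁻¹ ∈ T` -/
theorem reeg8j_gen {G : Type*} [Group G] (H : Subgroup G) (hH : IsCyclic H) :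
    ∃ a ∈ H, orderOf a = Nat.card H ∧ ∀ (T : Subgroup G) (x : G), x * a * x⁻¹ ∈ T → ∀ h ∈ H, x * h * x⁻¹ ∈ T := by
  obtain ⟨gen, hgen⟩ := hH.exists_generator
  refine ⟨gen, gen.2, ?_, ?_⟩
  · rw [Subgroup.orderOf_coe, orderOf_eq_card_of_forall_mem_zpowers hgen]
  · intro T x hx h hh
    obtain ⟨k, hk⟩ := Subgroup.mem_zpowers_iff.mp (hgen ⟨h, hh⟩)
    have h1 : h = (gen : G) ^ k := by
      have := congrArg Subtype.val hk
      simpa using this.symm
    rw [h1, ← conj_zpow]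
    exact T.zpow_mem hx k

theorem reeg8j_pow_card {G : Type*} [Group G] (H : Subgroup G) (h : G) (hh : h ∈ H) : h ^ Nat.card H = 1 := by
  have h1 : (⟨h, hh⟩ : H) ^ Nat.card H = 1 := pow_card_eq_one'
  have := congrArg Subtype.val h1
  rw [Subgroup.coe_pow, Subgroup.coe_one] at this
  exact this

namespace ReeAx

variable {G : Type u} [Group G] [Finite G] {K : Type v} [Field K] [Fintype K] {m : ℕ}

/-- G8J core -/
theorem centralizers_core (R : ReeAx G K m)
    (h_conj_H_E : ∀ (g : G),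
          (2 < orderOf g → orderOf g ∣ qq m - 1 → ∃ x : G, x * g * x⁻¹ ∈ R.H) ∧
        (¬ orderOf g ∣ 2 → orderOf g ∣ (qq m + 1) / 2 → ∃ x : G, x * g * x⁻¹ ∈ R.E))
    (h_cent_H_elt : ∀ (h : G) (hh : h ∈ R.H) (h1 : h ≠ 1) (ht : h ≠ R.t),
          Subgroup.centralizer {h} = R.H)
    (h_cent_A1_elt : ∀ (c : G) (hc : c ∈ R.A1) (hc1 : c ≠ 1),
          Subgroup.centralizer {c} = R.E)
    (h_E_basic : Nat.card R.E = qq m + 1 ∧ (∀ e₁ ∈ R.E, ∀ e₂ ∈ R.E, e₁ * e₂ = e₂ * e₁) ∧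
        (∀ e, e ∈ R.E ↔ ∃ v ∈ R.V, ∃ a ∈ R.A1, e = v * a) ∧
        (∀ e, e ∈ R.E ↔ e ∈ R.D ∨ ∃ d ∈ R.D, e = R.t * d) ∧
        (∀ e ∈ R.E, e ^ ((qq m + 1) / 2) = 1) ∧ (∀ e ∈ R.E, e * e = 1 → e ∈ R.V) ∧
        (∀ e ∈ R.E, e ∉ R.V → e * e ∈ R.A1 ∧ e * e ≠ 1) ∧
        (∀ e ∈ R.E, Odd (orderOf e) → e ∈ R.A1) ∧
        R.A1 ≤ R.E ∧ R.D ≤ R.E)
    (H : Subgroup G) (hH : IsCyclic H) :
    (Nat.card H = (qq m - 1) / 2 →
      IsCyclic ↥(Subgroup.centralizer (H : Set G)) ∧
        Nat.card ↥(Subgroup.centralizer (H : Set G)) = qq m - 1 ∧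
        ∀ A : Subgroup G, A ≤ H → A ≠ ⊥ →
          Subgroup.centralizer (A : Set G) = Subgroup.centralizer (H : Set G)) ∧
    (Nat.card H = (qq m + 1) / 4 →
      IsMulCommutative ↥(Subgroup.centralizer (H : Set G)) ∧
        Nat.card ↥(Subgroup.centralizer (H : Set G)) = qq m + 1 ∧
        (∀ x ∈ Subgroup.centralizer (H : Set G), orderOf x ≠ 4) ∧
        ∀ A : Subgroup G, A ≤ H → A ≠ ⊥ →
          Subgroup.centralizer (A : Set G) = Subgroup.centralizer (H : Set G)) := by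
  have hq8 := reeg8j_qq_mod m
  have hq27 := reeg8j_qq_ge m R.hm
  obtain ⟨a, haH, hord, hgen⟩ := reeg8j_gen H hH
  have hconj1 : ∀ (x h : G), x * h * x⁻¹ = 1 → h = 1 := by
    intro x h h0
    have : h = x⁻¹ * (x * h * x⁻¹) * x := by group
    rw [this, h0]
    group
  have hinj : ∀ x : G, Function.Injective (MulAut.conj x⁻¹).toMonoidHom := fun x => (MulAut.conj x⁻¹).injective
  constructor
  · intro hcard
    have hH1 : H ≠ ⊥ := by
      intro h0
      have := Subgroup.card_eq_one.mpr h0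
      omega
    have h2 : 2 < orderOf a := by rw [hord, hcard]; omega
    have hdvd : orderOf a ∣ qq m - 1 := by
      rw [hord, hcard]
      exact Nat.div_dvd_of_dvd ⟨(qq m - 1) / 2, by omega⟩
    obtain ⟨x, hx⟩ := (h_conj_H_E a).1 h2 hdvd
    have hxH := hgen R.H x hx
    have hTcomm := reeg8j_comm_of_cyclic R.H R.H_cyc
    have hgood : ∀ h ∈ H, h ≠ 1 → Subgroup.centralizer {x * h * x⁻¹} = R.H := by
      intro h hh h1
      apply h_cent_H_elt _ (hxH h hh)
      · exact fun h0 => h1 (hconj1 x h h0)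
      · intro h0
        apply h1
        have h3 : x * (h ^ 2) * x⁻¹ = 1 := by
          rw [← conj_pow, h0, pow_two, R.t_sq]
        have h4 : h ^ 2 = 1 := hconj1 x _ h3
        have h5 : h ^ Nat.card H = 1 := reeg8j_pow_card H h hh
        have h6 := pow_gcd_eq_one.mpr ⟨h4, h5⟩
        have h7 : Nat.gcd 2 (Nat.card H) = 1 := by
          rw [hcard]
          apply Nat.Coprime.gcd_eq_one
          rw [Nat.coprime_two_left]
          rw [Nat.odd_iff]
          omega
        rwa [h7, pow_one] at h6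
    have key := reeg8j_generic R.H hTcomm H x hxH hgood
    have hCH := key H le_rfl hH1
    refine ⟨?_, ?_, ?_⟩
    · rw [hCH]
      exact reeg8j_map_cyclic R.H R.H_cyc _
    · rw [hCH, Subgroup.card_map_of_injective (hinj x), R.H_card]
    · intro A hA hA1
      rw [key A hA hA1, hCH]
  · intro hcard
    obtain ⟨hEcard, hEcomm, -, -, hEexp, -, -, hEodd, -, -⟩ := h_E_basic
    have hH1 : H ≠ ⊥ := by
      intro h0
      have := Subgroup.card_eq_one.mpr h0
      omega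
    have h2 : ¬ orderOf a ∣ 2 := by
      rw [hord, hcard]
      intro h
      have := Nat.le_of_dvd (by norm_num) h
      omega
    have hdvd : orderOf a ∣ (qq m + 1) / 2 := by
      rw [hord, hcard]
      exact ⟨2, by omega⟩
    obtain ⟨x, hx⟩ := (h_conj_H_E a).2 h2 hdvd
    have hxH := hgen R.E x hx
    have hgood : ∀ h ∈ H, h ≠ 1 → Subgroup.centralizer {x * h * x⁻¹} = R.E := by
      intro h hh h1
      apply h_cent_A1_elt
      · apply hEodd _ (hxH h hh)
        have h5 : h ^ Nat.card H = 1 := reeg8j_pow_card H h hh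
        have h6 : (x * h * x⁻¹) ^ Nat.card H = 1 := by
          rw [conj_pow, h5]
          group
        have h7 := orderOf_dvd_of_pow_eq_one h6
        have h8 : Odd (Nat.card H) := by
          rw [hcard, Nat.odd_iff]
          omega
        exact Odd.of_dvd_nat h8 h7
      · exact fun h0 => h1 (hconj1 x h h0)
    have key := reeg8j_generic R.E hEcomm H x hxH hgood
    have hCH := key H le_rfl hH1
    refine ⟨?_, ?_, ?_, ?_⟩
    · rw [hCH]
      refine ⟨⟨fun c d => ?_⟩⟩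
      obtain ⟨e₁, he₁, h1⟩ := Subgroup.mem_map.mp c.2
      obtain ⟨e₂, he₂, h2⟩ := Subgroup.mem_map.mp d.2
      apply Subtype.ext
      rw [Subgroup.coe_mul, Subgroup.coe_mul, ← h1, ← h2, ← map_mul, ← map_mul, hEcomm e₁ he₁ e₂ he₂]
    · rw [hCH, Subgroup.card_map_of_injective (hinj x), hEcard]
    · intro c hc h4
      rw [hCH] at hc
      obtain ⟨e₁, he₁, h1⟩ := Subgroup.mem_map.mp hc
      have h5 : c ^ ((qq m + 1) / 2) = 1 := by
        rw [← h1, ← map_pow, hEexp e₁ he₁, map_one]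
      have h6 := orderOf_dvd_of_pow_eq_one h5
      rw [h4] at h6
      omega
    · intro A hA hA1
      rw [key A hA hA1, hCH]

end ReeAx

end Cfsg.Agent.Lib.helper7.REE
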