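import Mathlib
import Cfsg.Agent.Lib.helper7.REE.Defs
import Cfsg.Agent.Lib.Helper21.REEG8Jcore

/-!
# Project REE (designer helper7), row G8C (`hall_subgroups`): the core, on the statements of the cited rows
G1F (`NH_basic`), G1H (`H_TI`), G4I (`A1_basic`), G4J (`E_basic`), G5G (`E_TI`), G5D (`NV_basic`), G7F (`ward`),
G7B (`tor_cyclic`), G7D (`tor_hall`).
-/

set_option autoImplicit false
set_option linter.unusedVariables false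

namespace Cfsg.Agent.Lib.helper7.REE

open Matrix Cfsg.Agent.Lib.helper8

universe u v

theorem reeg8c_rr_lt (m : ℕ) (hm : 1 ≤ m) : 3 * rr m ≤ qq m := by
  unfold rr qq
  calc 3 * 3 ^ (m + 1) = 3 ^ (m + 2) := by ring
    _ ≤ 3 ^ (2 * m + 1) := Nat.pow_le_pow_right (by norm_num) (by omega)

theorem reeg8c_gen {G : Type*} [Group G] (A : Subgroup G) (hA : IsCyclic A) :
    ∃ c ∈ A, orderOf c = Nat.card A ∧ ∀ a ∈ A, ∃ k : ℤ, a = c ^ k := by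
  obtain ⟨gen, hgen⟩ := hA.exists_generator
  refine ⟨gen, gen.2, ?_, ?_⟩
  · rw [Subgroup.orderOf_coe, orderOf_eq_card_of_forall_mem_zpowers hgen]
  · intro a ha
    obtain ⟨k, hk⟩ := Subgroup.mem_zpowers_iff.mp (hgen ⟨a, ha⟩)
    refine ⟨k, ?_⟩
    have := congrArg Subtype.val hk
    simpa using this.symm

/-- generic: `A` cyclic, normalised by `N`, and `A ∖ 1` a TI-set with normaliser `N`: then `N(A₀) = N` for every
non-trivial `A₀ ≤ A`. -/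
theorem reeg8c_generic {G : Type*} [Group G] (A : Subgroup G) (hA : IsCyclic A) (N : Subgroup G)
    (hN : ∀ g ∈ N, ∀ a ∈ A, g * a * g⁻¹ ∈ A)
    (hTI : ∀ g : G, ∀ a ∈ A, a ≠ 1 → g * a * g⁻¹ ∈ A → g ∈ N)
    (A₀ : Subgroup G) (h0 : A₀ ≤ A) (h1 : A₀ ≠ ⊥) : Subgroup.normalizer (A₀ : Set G) = N := by
  obtain ⟨⟨b, hb⟩, hb1⟩ := (Subgroup.ne_bot_iff_exists_ne_one).mp h1
  have hb1' : b ≠ 1 := fun h => hb1 (Subtype.ext h)
  obtain ⟨c, hcA, -, hc⟩ := reeg8c_gen A hA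
  have hfwd : ∀ g ∈ N, ∀ a₀ ∈ A₀, g * a₀ * g⁻¹ ∈ A₀ := by
    intro g hg a₀ ha₀
    obtain ⟨k, hk⟩ := hc _ (hN g hg c hcA)
    obtain ⟨j, hj⟩ := hc a₀ (h0 ha₀)
    have : g * a₀ * g⁻¹ = a₀ ^ k := by
      rw [hj, ← conj_zpow, hk, ← _root_.zpow_mul, ← _root_.zpow_mul, mul_comm]
    rw [this]
    exact A₀.zpow_mem ha₀ k
  ext g
  constructor
  · intro hg
    exact hTI g b (h0 hb) hb1' (h0 ((Subgroup.mem_normalizer_iff.mp hg b).mp hb))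
  · intro hg
    rw [Subgroup.mem_normalizer_iff]
    intro h
    constructor
    · exact hfwd g hg h
    · intro hh
      have := hfwd g⁻¹ (N.inv_mem hg) _ hh
      have e : g⁻¹ * (g * h * g⁻¹) * g⁻¹⁻¹ = h := by group
      rwa [e] at this

namespace ReeAx

variable {G : Type u} [Group G] [Finite G] {K : Type v} [Field K] [Fintype K] {m : ℕ}

/-- G8C core -/
theorem hall_subgroups_core (R : ReeAx G K m)
    (h_NH_basic : (∀ g, g ∈ R.NH ↔ g ∈ R.H ∨ ∃ h ∈ R.H, g = h * R.n0) ∧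
        Nat.card R.NH = 2 * (qq m - 1) ∧ R.n0 ∉ R.H ∧
        (∀ g ∈ R.NH, ∀ h ∈ R.H, g * h * g⁻¹ = h ∨ g * h * g⁻¹ = h⁻¹))
    (h_H_TI : ∀ (g h : G) (hh : h ∈ R.H) (h1 : h ≠ 1) (ht : h ≠ R.t)
        (hg : g * h * g⁻¹ ∈ R.H),
          g ∈ R.NH)
    (h_A1_basic : (∀ a, a ∈ R.A1 ↔ a ∈ R.D ∧ a ^ ((qq m + 1) / 4) = 1) ∧ IsCyclic R.A1 ∧
        4 * Nat.card R.A1 = qq m + 1 ∧ R.A1 ≤ R.D ∧
        (∀ d ∈ R.D, d ∈ R.A1 ∨ ∃ a ∈ R.A1, d = R.n0 * a) ∧ R.V ⊓ R.A1 = ⊥ ∧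
        (∀ a ∈ R.A1, Odd (orderOf a)))
    (h_E_basic : Nat.card R.E = qq m + 1 ∧ (∀ e₁ ∈ R.E, ∀ e₂ ∈ R.E, e₁ * e₂ = e₂ * e₁) ∧
        (∀ e, e ∈ R.E ↔ ∃ v ∈ R.V, ∃ a ∈ R.A1, e = v * a) ∧
        (∀ e, e ∈ R.E ↔ e ∈ R.D ∨ ∃ d ∈ R.D, e = R.t * d) ∧
        (∀ e ∈ R.E, e ^ ((qq m + 1) / 2) = 1) ∧ (∀ e ∈ R.E, e * e = 1 → e ∈ R.V) ∧
        (∀ e ∈ R.E, e ∉ R.V → e * e ∈ R.A1 ∧ e * e ≠ 1) ∧
        (∀ e ∈ R.E, Odd (orderOf e) → e ∈ R.A1) ∧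
        R.A1 ≤ R.E ∧ R.D ≤ R.E)
    (h_E_TI : ∀ (e : G) (he : e ∈ R.E) (heV : e ∉ R.V),
          Subgroup.centralizer {e} = R.E ∧
        ∀ g : G, g * e * g⁻¹ ∈ R.E → g ∈ Subgroup.normalizer (R.V : Set G))
    (h_NV_basic : Nat.card (Subgroup.normalizer (R.V : Set G)) = 6 * (qq m + 1) ∧
        (∀ g ∈ Subgroup.normalizer (R.V : Set G), ∀ a ∈ R.A1, g * a * g⁻¹ ∈ R.A1) ∧
        (∀ g ∈ Subgroup.normalizer (R.V : Set G), ∀ e ∈ R.E, g * e * g⁻¹ ∈ R.E) ∧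
        (∀ g : G, (∀ e ∈ R.E, g * e * g⁻¹ ∈ R.E) → g ∈ Subgroup.normalizer (R.V : Set G)))
    (h_ward : ∃ A₂ A₃ : Subgroup G, R.IsTor A₂ ∧ R.IsTor A₃ ∧
          Nat.card A₂ = qq m + rr m + 1 ∧ Nat.card A₃ = qq m - rr m + 1 ∧
          Nat.card (Subgroup.normalizer (A₂ : Set G)) = 6 * (qq m + rr m + 1) ∧
          Nat.card (Subgroup.normalizer (A₃ : Set G)) = 6 * (qq m - rr m + 1) ∧
          ∀ A, R.IsTor A → (∃ g : G, A = A₂.map (MulAut.conj g).toMonoidHom) ∨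
            (∃ g : G, A = A₃.map (MulAut.conj g).toMonoidHom))
    (h_tor_cyclic : ∀ (A : Subgroup G) (hA : R.IsTor A),
          IsCyclic A ∧ ∀ a ∈ A, a ≠ 1 → Subgroup.centralizer {a} = A)
    (h_tor_hall : (∀ A, R.IsTor A → ∀ g : G, R.IsTor (A.map (MulAut.conj g).toMonoidHom)) ∧
        (∀ A, R.IsTor A → ∀ g : G, ∀ a ∈ A, a ≠ 1 → g * a * g⁻¹ ∈ A →
          g ∈ Subgroup.normalizer (A : Set G)) ∧
        (∀ A, R.IsTor A → (Nat.card A).Coprime (nn m / Nat.card A)) ∧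
        (∀ A A', R.IsTor A → R.IsTor A' → ¬ (Nat.card A).Coprime (Nat.card A') →
          ∃ g : G, A' = A.map (MulAut.conj g).toMonoidHom) ∧
        (∀ l : ℕ, l.Prime → l ∣ nn m → ∃ A, R.IsTor A ∧ l ∣ Nat.card A)) :
    ∀ kn ∈ ({((qq m - 1) / 2, 2 * (qq m - 1)), ((qq m + 1) / 4, 6 * (qq m + 1)),
        (qq m - rr m + 1, 6 * (qq m - rr m + 1)),
        (qq m + rr m + 1, 6 * (qq m + rr m + 1))} : Set (ℕ × ℕ)),
      ∃ A : Subgroup G, IsCyclic A ∧ Nat.card A = kn.1 ∧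
        Nat.card (Subgroup.normalizer (A : Set G)) = kn.2 ∧
        ∀ A₀ : Subgroup G, A₀ ≤ A → A₀ ≠ ⊥ →
          Subgroup.normalizer (A₀ : Set G) = Subgroup.normalizer (A : Set G) := by
  have hq8 := reeg8j_qq_mod m
  have hq27 := reeg8j_qq_ge m R.hm
  intro kn hkn
  simp only [Set.mem_insert_iff, Set.mem_singleton_iff] at hkn
  rcases hkn with rfl | rfl | rfl | rfl
  · -- `A` = the squares of `H`
    obtain ⟨hNHmem, hNHcard, -, hNHact⟩ := h_NH_basic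
    obtain ⟨h₀, hh₀, hord, -⟩ := reeg8c_gen R.H R.H_cyc
    rw [R.H_card] at hord
    have hA_le : Subgroup.zpowers (h₀ ^ 2) ≤ R.H := by
      rw [Subgroup.zpowers_le]
      exact R.H.pow_mem hh₀ 2
    have hAcard : Nat.card (Subgroup.zpowers (h₀ ^ 2)) = (qq m - 1) / 2 := by
      rw [Nat.card_zpowers, orderOf_pow_of_dvd (by norm_num) (by rw [hord]; exact ⟨(qq m - 1) / 2, by omega⟩), hord]
    have hAcyc : IsCyclic (Subgroup.zpowers (h₀ ^ 2)) := inferInstance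
    have hN : ∀ g ∈ R.NH, ∀ a ∈ Subgroup.zpowers (h₀ ^ 2), g * a * g⁻¹ ∈ Subgroup.zpowers (h₀ ^ 2) := by
      intro g hg a ha
      rcases hNHact g hg a (hA_le ha) with h | h
      · rw [h]; exact ha
      · rw [h]; exact inv_mem ha
    have hne_t : ∀ a ∈ Subgroup.zpowers (h₀ ^ 2), a ≠ R.t := by
      rintro a ha rfl
      have h5 := reeg8j_pow_card _ _ ha
      have h4 : R.t ^ 2 = 1 := by rw [pow_two, R.t_sq]
      have h6 := pow_gcd_eq_one.mpr ⟨h4, h5⟩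
      have h7 : Nat.gcd 2 (Nat.card (Subgroup.zpowers (h₀ ^ 2))) = 1 := by
        rw [hAcard]
        apply Nat.Coprime.gcd_eq_one
        rw [Nat.coprime_two_left, Nat.odd_iff]
        omega
      rw [h7, pow_one] at h6
      exact R.t_ne h6
    have hTI : ∀ g : G, ∀ a ∈ Subgroup.zpowers (h₀ ^ 2), a ≠ 1 → g * a * g⁻¹ ∈ Subgroup.zpowers (h₀ ^ 2) → g ∈ R.NH := by
      intro g a ha ha1 hga
      exact h_H_TI g a (hA_le ha) ha1 (hne_t a ha) (hA_le hga)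
    have key := reeg8c_generic _ hAcyc R.NH hN hTI
    have hA1 : Subgroup.zpowers (h₀ ^ 2) ≠ ⊥ := by
      intro h0
      have := Subgroup.card_eq_one.mpr h0
      omega
    have hNA := key _ le_rfl hA1
    refine ⟨Subgroup.zpowers (h₀ ^ 2), hAcyc, hAcard, ?_, ?_⟩
    · rw [hNA, hNHcard]
    · intro A₀ hA₀ hA₀1
      rw [key A₀ hA₀ hA₀1, hNA]
  · -- `A = A₁`
    obtain ⟨-, hA1cyc, hA1card, -, -, hVA1, -⟩ := h_A1_basic
    obtain ⟨-, -, -, -, -, -, -, -, hA1E, -⟩ := h_E_basic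
    obtain ⟨hNVcard, hNVA1, -, -⟩ := h_NV_basic
    have hTI : ∀ g : G, ∀ a ∈ R.A1, a ≠ 1 → g * a * g⁻¹ ∈ R.A1 → g ∈ Subgroup.normalizer (R.V : Set G) := by
      intro g a ha ha1 hga
      have haV : a ∉ R.V := by
        intro hV
        have : a ∈ R.V ⊓ R.A1 := ⟨hV, ha⟩
        rw [hVA1] at this
        exact ha1 (Subgroup.mem_bot.mp this)
      exact (h_E_TI a (hA1E ha) haV).2 g (hA1E hga)
    have key := reeg8c_generic R.A1 hA1cyc _ hNVA1 hTI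
    have hA1 : R.A1 ≠ ⊥ := by
      intro h0
      have := Subgroup.card_eq_one.mpr h0
      omega
    have hNA := key _ le_rfl hA1
    refine ⟨R.A1, hA1cyc, by omega, ?_, ?_⟩
    · rw [hNA, hNVcard]
    · intro A₀ hA₀ hA₀1
      rw [key A₀ hA₀ hA₀1, hNA]
  · obtain ⟨A₂, A₃, h₂, h₃, c₂, c₃, n₂, n₃, -⟩ := h_ward
    have hcyc := (h_tor_cyclic A₃ h₃).1
    have hN : ∀ g ∈ Subgroup.normalizer (A₃ : Set G), ∀ a ∈ A₃, g * a * g⁻¹ ∈ A₃ :=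
      fun g hg a ha => (Subgroup.mem_normalizer_iff.mp hg a).mp ha
    have key := reeg8c_generic A₃ hcyc _ hN (h_tor_hall.2.1 A₃ h₃)
    exact ⟨A₃, hcyc, c₃, n₃, key⟩
  · obtain ⟨A₂, A₃, h₂, h₃, c₂, c₃, n₂, n₃, -⟩ := h_ward
    have hcyc := (h_tor_cyclic A₂ h₂).1
    have hN : ∀ g ∈ Subgroup.normalizer (A₂ : Set G), ∀ a ∈ A₂, g * a * g⁻¹ ∈ A₂ :=
      fun g hg a ha => (Subgroup.mem_normalizer_iff.mp hg a).mp ha
    have key := reeg8c_generic A₂ hcyc _ hN (h_tor_hall.2.1 A₂ h₂)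
    exact ⟨A₂, hcyc, c₂, n₂, key⟩

end ReeAx

end Cfsg.Agent.Lib.helper7.REE
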