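import Mathlib

/-!
# Project S5955, row N8 (COSETS): representatives of the cosets of `⟨q⟩` in `(ℤ/r)ˣ`.
-/

set_option autoImplicit false

namespace Cfsg.Agent.Lib.Helper13.S5955

open Polynomial Module

/-- N8 [M] COSETS: representatives of the `t = (r - 1) / i` cosets of `⟨q⟩` in `(ℤ/r)ˣ`. -/
theorem cosets (q r : ℕ) [Fact r.Prime] (hq : ¬ r ∣ q) :
    ∃ l : Fin ((r - 1) / orderOf (q : ZMod r)) → ℕ, (∀ a, ¬ r ∣ l a) ∧
      ∀ a b, a ≠ b → ∀ e : ℕ, ¬ (l b ≡ l a * q ^ e [MOD r]) := by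
  classical
  have hr : r.Prime := Fact.out
  have : NeZero r := ⟨hr.ne_zero⟩
  have hq0 : (q : ZMod r) ≠ 0 := by
    rw [Ne, ZMod.natCast_eq_zero_iff]
    exact hq
  set u : (ZMod r)ˣ := Units.mk0 (q : ZMod r) hq0 with hu
  set H : Subgroup (ZMod r)ˣ := Subgroup.zpowers u with hH
  have hord : orderOf u = orderOf (q : ZMod r) := by
    rw [← orderOf_units]
    rfl
  have hcardG : Nat.card (ZMod r)ˣ = r - 1 := by
    rw [Nat.card_eq_fintype_card, ZMod.card_units_eq_totient, Nat.totient_prime hr]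
  have hcardH : Nat.card H = orderOf (q : ZMod r) := by
    rw [hH, Nat.card_zpowers, hord]
  have hpos : 0 < orderOf (q : ZMod r) := by
    rw [← hord]
    exact orderOf_pos u
  have hcardQ : Nat.card ((ZMod r)ˣ ⧸ H) = (r - 1) / orderOf (q : ZMod r) := by
    have h1 := Subgroup.card_eq_card_quotient_mul_card_subgroup H
    rw [hcardG, hcardH] at h1
    rw [h1, Nat.mul_div_cancel _ hpos]
  obtain ⟨eq⟩ : Nonempty (Fin ((r - 1) / orderOf (q : ZMod r)) ≃ ((ZMod r)ˣ ⧸ H)) := by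
    rw [← hcardQ]
    exact ⟨(Finite.equivFin _).symm⟩
  refine ⟨fun a => ((Quotient.out (eq a) : (ZMod r)ˣ) : ZMod r).val, ?_, ?_⟩
  · intro a hdvd
    have h0 : ((((Quotient.out (eq a) : (ZMod r)ˣ) : ZMod r).val : ℕ) : ZMod r) = 0 :=
      (ZMod.natCast_eq_zero_iff _ _).mpr hdvd
    rw [ZMod.natCast_zmod_val] at h0
    exact (Units.ne_zero _) h0
  · intro a b hab e hmod
    apply hab
    apply eq.injective
    have h1 : ((Quotient.out (eq b) : (ZMod r)ˣ) : ZMod r) =
        ((Quotient.out (eq a) : (ZMod r)ˣ) : ZMod r) * (q : ZMod r) ^ e := by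
      have h2 := (ZMod.natCast_eq_natCast_iff _ _ _).mpr hmod
      push_cast at h2
      rwa [ZMod.natCast_zmod_val, ZMod.natCast_zmod_val] at h2
    have h2 : Quotient.out (eq b) = Quotient.out (eq a) * u ^ e := by
      apply Units.ext
      rw [h1, Units.val_mul, Units.val_pow_eq_pow_val, hu, Units.val_mk0]
    have h3 : ((Quotient.out (eq a) : (ZMod r)ˣ) : (ZMod r)ˣ ⧸ H) = (Quotient.out (eq b) : (ZMod r)ˣ) := by
      rw [QuotientGroup.eq, h2, inv_mul_cancel_left]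
      exact Subgroup.pow_mem _ (Subgroup.mem_zpowers u) e
    rw [← QuotientGroup.out_eq' (eq a), ← QuotientGroup.out_eq' (eq b)]
    exact h3

end Cfsg.Agent.Lib.Helper13.S5955
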