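import Mathlib
import Cfsg.Agent.Lib.Helper13.S5955.Defs

/-!
# Project S5955, row N9 (POWIRR): powers prime to `r` of an irreducible fixed-point-free isometry of order `r`.
-/

set_option autoImplicit false

namespace Cfsg.Agent.Lib.Helper13.S5955

open Polynomial Module

theorem s5955n9_mem_fixS {F : Type*} [Field F] {V : Type*} [AddCommGroup V] [Module F V]
    (x : Module.End F V) (v : V) : v ∈ fixS x ↔ x v = v := by
  unfold fixS
  rw [LinearMap.mem_ker]
  simp [sub_eq_zero]

theorem s5955n9_pow_fix {F : Type*} [Field F] {V : Type*} [AddCommGroup V] [Module F V]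
    (g : Module.End F V) (v : V) (h : g v = v) (k : ℕ) : (g ^ k) v = v := by
  induction k with
  | zero => simp
  | succ k ih => rw [pow_succ, Module.End.mul_apply, h, ih]

/-- a power `y ^ l` with `r ∤ l` has `y` as a power, when `y ^ r = 1`, `r` prime. -/
theorem s5955n9_root {M : Type*} [Monoid M] {r : ℕ} [Fact r.Prime] (y : M) (hy : y ^ r = 1)
    (l : ℕ) (hl : ¬ r ∣ l) : ∃ l' : ℕ, (y ^ l) ^ l' = y := by
  have hr : r.Prime := Fact.out
  have hcop : Nat.Coprime l r := ((Nat.Prime.coprime_iff_not_dvd hr).mpr hl).symm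
  obtain ⟨l', -, hl'⟩ := Nat.exists_mul_mod_eq_one_of_coprime hcop hr.one_lt
  refine ⟨l', ?_⟩
  have h1 : l * l' = r * (l * l' / r) + 1 := by
    have := Nat.div_add_mod (l * l') r
    omega
  rw [← pow_mul, h1, pow_add, pow_mul, hy, one_pow, one_mul, pow_one]

/-- N9 [M] POWIRR: powers prime to `r` of an irreducible fixed-point-free isometry of order `r`
are again such. -/
theorem pow_irr {F : Type*} [Field F] {V : Type*} [AddCommGroup V] [Module F V] {r : ℕ}
    [Fact r.Prime] {B : LinearMap.BilinForm F V} {y : Module.End F V} (hy : SCtx r B y)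
    (hfix : fixS y = ⊥) (hirr : ∀ U : Submodule F V, SInv y U → U = ⊥ ∨ U = ⊤)
    (l : ℕ) (hl : ¬ r ∣ l) :
    SCtx r B (y ^ l) ∧ fixS (y ^ l) = ⊥ ∧ ∀ U : Submodule F V, SInv (y ^ l) U → U = ⊥ ∨ U = ⊤ := by
  obtain ⟨l', hl'⟩ := s5955n9_root y hy.pow l hl
  refine ⟨⟨hy.alt, hy.nd, ?_, ?_⟩, ?_, ?_⟩
  · have hk : ∀ k : ℕ, ∀ u v, B ((y ^ k) u) ((y ^ k) v) = B u v := by
      intro k
      induction k with
      | zero => intro u v; simp
      | succ k ih =>
        intro u v
        rw [pow_succ, Module.End.mul_apply, Module.End.mul_apply, ih, hy.pres]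
    exact hk l
  · rw [← pow_mul, mul_comm, pow_mul, hy.pow, one_pow]
  · rw [eq_bot_iff]
    intro v hv
    rw [s5955n9_mem_fixS] at hv
    have h1 : y v = v := by
      have := s5955n9_pow_fix (y ^ l) v hv l'
      rwa [hl'] at this
    rw [← hfix, s5955n9_mem_fixS]
    exact h1
  · intro U hU
    apply hirr U
    intro w hw
    have := Cfsg.Agent.Lib.Helper24.el_pow_mem hU l' hw
    rwa [hl'] at this

end Cfsg.Agent.Lib.Helper13.S5955
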