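import Mathlib
import Cfsg.Agent.Lib.Helper19.SPD.Defs

/-!
# Project SPD (S5961), row MASCHKE: an invariant complement.

`X ^ r - 1` is separable, so `y` is a semisimple endomorphism; intersect an invariant complement with `W`.
-/

set_option autoImplicit false
set_option linter.unusedVariables false
set_option linter.unusedSectionVars false

namespace Cfsg.Agent.Lib.Helper19.SPD

open Polynomial

variable {F : Type*} [Field F] {d : ℕ}

/-- MASCHKE [M]: an invariant complement. -/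
theorem exists_inv_compl (r : ℕ) (hrF : (r : F) ≠ 0)
    (y : (Fin d ⊕ Fin d → F) →ₗ[F] (Fin d ⊕ Fin d → F)) (hy : y ^ r = 1)
    (H W : Submodule F (Fin d ⊕ Fin d → F)) (hHW : H ≤ W) (hH : Inv y H) (hW : Inv y W) :
    ∃ U' : Submodule F (Fin d ⊕ Fin d → F), U' ≤ W ∧ Inv y U' ∧ H ⊓ U' = ⊥ ∧ H ⊔ U' = W := by
  have hsep : (X ^ r - 1 : F[X]).Separable := Polynomial.X_pow_sub_one_separable_iff.mpr hrF
  have hss : Module.End.IsSemisimple y := by
    apply Module.End.isSemisimple_of_squarefree_aeval_eq_zero hsep.squarefree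
    simp [hy]
  have hHi : H ∈ Module.End.invtSubmodule y := by
    rw [Module.End.mem_invtSubmodule_iff_forall_mem_of_mem]
    intro v hv
    exact hH v hv
  obtain ⟨Q, hQ, hc⟩ := Module.End.isSemisimple_iff.mp hss H hHi
  refine ⟨W ⊓ Q, inf_le_left, ?_, ?_, ?_⟩
  · intro v hv
    exact ⟨hW v hv.1, hQ hv.2⟩
  · apply le_antisymm _ bot_le
    calc H ⊓ (W ⊓ Q) ≤ H ⊓ Q := inf_le_inf_left _ inf_le_right
      _ = ⊥ := hc.inf_eq_bot
  · calc H ⊔ W ⊓ Q = H ⊔ Q ⊓ W := by rw [inf_comm]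
      _ = (H ⊔ Q) ⊓ W := (sup_inf_assoc_of_le Q hHW).symm
      _ = W := by rw [hc.sup_eq_top, top_inf_eq]

end Cfsg.Agent.Lib.Helper19.SPD
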