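import Mathlib
import Cfsg.Prelude.Def_Classical
import Cfsg.Prelude.Def_KGroupFacts
import Cfsg.Agent.Lib.Lead.SPM2.Defs
import Cfsg.Agent.Lib.Helper24.STCI1

/-!
# Project SPM2 (designer lead; family S2099), rows C2 (`XCsm_add XCsm_inv`), C3 (`EM_sq EM_ik EM_YYm_same EM_bracket_YYm`), C4 (`YYm_comm_EM YM_comm_EM`),
C5 (`XCsm_comm_ls`) (helper21), VERBATIM vs `Lead/SPM2/Skel.lean.txt`.  Models: the SPB rows of `Helper11.SPBC3`.
Own-name copies of the C1 facts used: `spm2c2_YM_mul_same`, `spm2c2_ik_comm_gg`.  Generic ring identities: `spm2c2_pqpr`, `spm2c2_pqqr`, `spm2c2_pmqz`, `spm2c2_ring4`, `spm2c2_expand`.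
-/

set_option autoImplicit false
set_option linter.unusedSectionVars false
set_option linter.unusedVariables false

namespace Cfsg.Agent.Lib.Lead.SPM2

open Cfsg.Agent.Lib.helper15.St2 Cfsg.Agent.Lib.helper3.STC Cfsg.Agent.Lib.Lead.STD Cfsg.Agent.Lib.helper17.STM
  Cfsg.Agent.Lib.Lead.SPN Cfsg.Agent.Lib.Helper16
open Cfsg.Agent.Lib.Helper12.OMN (omatM oglM omatM_mul omatM_one omatM_injective oglM_coe oglM_injective)

universe u v w

section Rings

variable {R : Type*} [Ring R]

theorem spm2c2_pqpr {p q r : R} (hp : p * p = 0) (hpq : p * q = -(q * p)) : p * q * (p * r) = 0 := by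
  calc p * q * (p * r) = (p * q) * p * r := by noncomm_ring
    _ = -(q * (p * p) * r) := by rw [hpq]; noncomm_ring
    _ = 0 := by rw [hp]; simp

theorem spm2c2_pqqr {p q r : R} (hq : q * q = 0) : p * q * (q * r) = 0 := by
  calc p * q * (q * r) = p * (q * q) * r := by noncomm_ring
    _ = 0 := by rw [hq]; simp

/-- `p m (z q) = (z q) (p m) + z p` if `m q + q m = 1`, `z` anticommutes with `p`, `m`, and `q p = -(p q)` -/
theorem spm2c2_pmqz {p m q z : R} (hmq : m * q + q * m = 1) (hzp : z * p = -(p * z)) (hzm : z * m = -(m * z))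
    (hqp : q * p = -(p * q)) : p * m * (z * q) = z * q * (p * m) + z * p := by
  have h1 : z * q * (p * m) = -(z * p * (q * m)) := by
    calc z * q * (p * m) = z * (q * p) * m := by noncomm_ring
      _ = -(z * p * (q * m)) := by rw [hqp]; noncomm_ring
  have h2 : q * m = 1 - m * q := by rw [← hmq]; abel
  have h3 : p * m * (z * q) = z * p * (m * q) := by
    calc p * m * (z * q) = p * (m * z) * q := by noncomm_ring
      _ = -(p * z * (m * q)) := by
          have : m * z = -(z * m) := by rw [hzm, neg_neg]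
          rw [this]; noncomm_ring
      _ = z * p * (m * q) := by
          have : p * z = -(z * p) := by rw [hzp, neg_neg]
          rw [this]; noncomm_ring
  rw [h3, h1, h2]
  noncomm_ring

/-- four pairwise anticommuting elements: `A B` commutes with `C D` -/
theorem spm2c2_ring4 {A B C D : R} (hBC : B * C = -(C * B)) (hBD : B * D = -(D * B))
    (hAC : A * C = -(C * A)) (hAD : A * D = -(D * A)) : A * B * (C * D) = C * D * (A * B) := by
  calc A * B * (C * D) = A * (B * C) * D := by noncomm_ring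
    _ = -(A * C * (B * D)) := by rw [hBC]; noncomm_ring
    _ = A * C * D * B := by rw [hBD]; noncomm_ring
    _ = -(C * (A * D) * B) := by rw [hAC]; noncomm_ring
    _ = C * D * (A * B) := by rw [hAD]; noncomm_ring

end Rings

section C

variable {m : ℕ} {F : Type u} [Field F] {A B : F}

/-- own-name copy of C1 `YM_mul_same` -/
theorem spm2c2_YM_mul_same (a : Fin m ⊕ Fin m) (t u : Kq F A B) : YM (m := m) a t * YM a u = 0 := by
  unfold YM
  calc gw (m := m) t * gamM a * (gw u * gamM a) = gw t * (gamM a * gw u) * gamM a := by noncomm_ring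
    _ = -(gw t * gw u * (gamM a * gamM a)) := by rw [gamM_gw]; noncomm_ring
    _ = 0 := by rw [gamM_sq]; simp

/-- own-name copy of C1 `ik_comm_gg` -/
theorem spm2c2_ik_comm_gg (a b : Fin m ⊕ Fin m) (u : Kq F A B) : ik (m := m) u * (gamM a * gamM b) = gamM a * gamM b * ik u := by
  rw [mul_assoc (gamM a), gamM_ik, ← mul_assoc (gamM a), gamM_ik, mul_assoc]

/-- C2 [S]  `Units.ext`, `XCsm_val`, `YM_add`, `YM_mul_same`: `(1 + YM a t)(1 + YM a u) = 1 + YM a (t + u)` (model: SPB C2 `XCs_add`). -/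
theorem XCsm_add (a : Fin m ⊕ Fin m) (t u : Kq F A B) : XCsm (m := m) a t * XCsm a u = XCsm a (t + u) := by
  apply Units.ext
  rw [Units.val_mul, XCsm_val, XCsm_val, XCsm_val, YM_add]
  have h := spm2c2_YM_mul_same (m := m) a t u
  calc (1 + YM (m := m) a t) * (1 + YM a u) = 1 + YM a t + YM a u + YM a t * YM a u := by noncomm_ring
    _ = 1 + (YM a t + YM a u) := by rw [h, add_zero, add_assoc]

/-- C2 [S]  `XCsm_inv_val`, `XCsm_val`, `YM_neg`. -/
theorem XCsm_inv (a : Fin m ⊕ Fin m) (t : Kq F A B) : (XCsm (m := m) a t)⁻¹ = XCsm a (-t) := by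
  apply Units.ext
  rw [XCsm_inv_val, XCsm_val, YM_neg, sub_eq_add_neg]

/-- C3 [S]  `E_ab² = 0` for `a ≠ b`.  Model SPB C3 `EB_sq`. -/
theorem EM_sq {a b : Fin m ⊕ Fin m} (hab : a ≠ b) : EM (A := A) (B := B) a b * EM a b = 0 := by
  rw [← phiM_EE, ← map_mul, EE_sq hab, map_zero]

/-- C3 [S]  `E_ab` commutes with `ik u` (`ik_comm_gg`). -/
theorem EM_ik (a b : Fin m ⊕ Fin m) (u : Kq F A B) : EM (m := m) a b * ik u = ik u * EM a b := by
  unfold EM
  exact (spm2c2_ik_comm_gg a (ng b) u).symm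

/-- C3 [S-M]  model SPB C3 `EB_YY_same`. -/
theorem EM_YYm_same {a b : Fin m ⊕ Fin m} (hab : a ≠ b) : EM (A := A) (B := B) a b * YYm a = 0 ∧ YYm (A := A) (B := B) a * EM a b = 0 := by
  constructor
  · have e : YYm (A := A) (B := B) a = -(gamM a * g0) := by
      unfold YYm
      exact g0_anti a
    rw [e, mul_neg, neg_eq_zero]
    unfold EM
    apply spm2c2_pqpr (gamM_sq a)
    apply gamM_anti
    rw [ng_ng]
    exact hab
  · unfold YYm EM
    exact spm2c2_pqqr (gamM_sq a)

/-- C3 [S-M]  model SPB C3 `EB_bracket_YY`: `[E_ab, Y_b] = Y_a`. -/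
theorem EM_bracket_YYm {a b : Fin m ⊕ Fin m} (hab' : a ≠ ng b) : EM (A := A) (B := B) a b * YYm b - YYm b * EM a b = YYm a := by
  have hba : b ≠ ng a := fun e => hab' (by rw [e, ng_ng])
  have h : gamM (A := A) (B := B) a * gamM (ng b) * (g0 * gamM b) = g0 * gamM b * (gamM a * gamM (ng b)) + g0 * gamM a := by
    apply spm2c2_pmqz
    · have := gamM_car (A := A) (B := B) (ng b) b
      rw [if_pos rfl] at this
      exact this
    · exact g0_anti a
    · exact g0_anti (ng b)
    · exact gamM_anti hba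
  unfold EM YYm
  rw [h]
  abel

/-- C4 [S-M]  model SPB C4 `YY_comm_EB`: `Y_a` commutes with `E_cd = γ_c γ_{-d}` when `d ≠ a` and `c ≠ ng a`. -/
theorem YYm_comm_EM {a c d : Fin m ⊕ Fin m} (hda : d ≠ a) (hca : c ≠ ng a) : YYm (A := A) (B := B) a * EM c d = EM c d * YYm a := by
  have hac : a ≠ ng c := fun e => hca (by rw [e, ng_ng])
  unfold YYm EM
  apply spm2c2_ring4
  · exact gamM_anti hac
  · apply gamM_anti
    rw [ng_ng]
    exact fun e => hda e.symm
  · exact g0_anti c
  · exact g0_anti (ng d)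

/-- C4 [S]  `YM a u = ik u Y_a` commutes with `E_cd` (`YM_eq`, `EM_ik`, `YYm_comm_EM`). -/
theorem YM_comm_EM {a c d : Fin m ⊕ Fin m} (hda : d ≠ a) (hca : c ≠ ng a) (u : Kq F A B) : YM (m := m) a u * EM c d = EM c d * YM a u := by
  rw [YM_eq, mul_assoc, YYm_comm_EM hda hca, ← mul_assoc, ← EM_ik, mul_assoc]

/-- C5 [S]  the signature of `SysM.comm_ls`.  `Units.ext`, `XCsm_val`, `XClm_val`, C4. -/
theorem XCsm_comm_ls (a c d : Fin m ⊕ Fin m) (hcd : c ≠ d) (hcd' : c ≠ ng d) (hda : d ≠ a) (hca : c ≠ ng a) (t : Kq F A B) (u : F) :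
    XCsm (m := m) a t * XClm c d u = XClm c d u * XCsm a t := by
  apply Units.ext
  rw [Units.val_mul, Units.val_mul, XCsm_val, XClm_val hcd hcd']
  have h := YM_comm_EM (m := m) hda hca t
  calc (1 + YM (m := m) a t) * (1 + u • EM c d) = 1 + YM a t + u • EM c d + u • (YM a t * EM c d) := by
        simp only [mul_add, add_mul, mul_one, one_mul, mul_smul_comm, smul_add]
        abel
    _ = 1 + YM a t + u • EM c d + u • (EM c d * YM a t) := by rw [h]
    _ = (1 + u • EM c d) * (1 + YM a t) := by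
        simp only [mul_add, add_mul, mul_one, one_mul, smul_mul_assoc]
        abel

end C

end Cfsg.Agent.Lib.Lead.SPM2
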