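import Mathlib
import Cfsg.Prelude.Def_Classical
import Cfsg.Prelude.Def_KGroupFacts
import Cfsg.Agent.Lib.Lead.SPM2.Defs
import Cfsg.Agent.Lib.Helper24.STCI1
import Cfsg.Agent.Lib.Helper21.SPM2C2

/-!
# Project SPM2 (designer lead; family S2099), rows C6 (`XCsm_ss`) and C7 (`XCsm_ls`) (helper21), VERBATIM vs `Lead/SPM2/Skel.lean.txt`.
Models: the SPB rows `XCs_ss`, `XCs_ls` of `Helper11.SPBC3`.
Own-name copy of the C1 fact `YM_mul`: `spm2c6_YM_mul`.  Generic identities: `spm2c6_ss_ring`, `spm2c6_ls_ring`, `spm2c6_comm_of_eq`.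
-/

set_option autoImplicit false
set_option linter.unusedSectionVars false
set_option linter.unusedVariables false

namespace Cfsg.Agent.Lib.Lead.SPM2

open Cfsg.Agent.Lib.helper15.St2 Cfsg.Agent.Lib.helper3.STC Cfsg.Agent.Lib.Lead.STD Cfsg.Agent.Lib.helper17.STM
  Cfsg.Agent.Lib.Lead.SPN Cfsg.Agent.Lib.Helper16
open Cfsg.Agent.Lib.Helper12.OMN (omatM oglM omatM_mul omatM_one omatM_injective oglM_coe oglM_injective)

universe u v w

section Rings

variable {R : Type*} [Ring R]

/-- the shape of `ls` -/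
theorem spm2c6_ls_ring {A B E N : R} (hAN : A * N = 0) (hAB : A * B = -N) (hAE : A * E = 0) (hNB : N * B = 0)
    (hEB : E * B = B * E + A) : (1 + E) * (1 + B) = (1 + A) * (1 + N) * (1 + B) * (1 + E) := by
  have h1 : (1 + A) * (1 + N) = 1 + A + N := by
    rw [mul_add, mul_one, add_mul, one_mul, hAN, add_zero]
  have h2 : (1 + A + N) * (1 + B) = 1 + A + B := by
    rw [mul_add, mul_one, add_mul, add_mul, one_mul, hAB, hNB]; abel
  have h3 : (1 + A + B) * (1 + E) = 1 + A + B + E + B * E := by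
    rw [mul_add, mul_one, add_mul, add_mul, one_mul, hAE]; abel
  rw [h1, h2, h3, add_mul, one_mul, mul_add, mul_one, hEB]
  abel

/-- the shape of `ss` -/
theorem spm2c6_ss_ring {A B M : R} (hMB : M * B = 0) (hMA : M * A = 0) (hAB : A * B = M + B * A) :
    (1 + A) * (1 + B) = (1 + M) * (1 + B) * (1 + A) := by
  have h1 : (1 + M) * (1 + B) = 1 + M + B := by
    rw [mul_add, mul_one, add_mul, one_mul, hMB, add_zero]
  have hL : (1 + A) * (1 + B) = 1 + A + B + A * B := by noncomm_ring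
  have hR : (1 + M + B) * (1 + A) = 1 + M + B + A + M * A + B * A := by noncomm_ring
  rw [h1, hL, hR, hMA, hAB]
  abel

theorem spm2c6_comm_of_eq {G : Type*} [Group G] {g h k : G} (e : g * h = k * h * g) : g * h * g⁻¹ * h⁻¹ = k := by
  rw [e]; group

end Rings

section C

variable {m : ℕ} {F : Type u} [Field F] {A B : F}

/-- own-name copy of C1 `YM_mul` -/
theorem spm2c6_YM_mul (a b : Fin m ⊕ Fin m) (t u : Kq F A B) : YM (m := m) a t * YM b u = -(ik (t * star u) * (gamM a * gamM b)) := by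
  unfold YM
  calc gw (m := m) t * gamM a * (gw u * gamM b) = gw t * (gamM a * gw u) * gamM b := by noncomm_ring
    _ = -(gw t * gw u * (gamM a * gamM b)) := by rw [gamM_gw]; noncomm_ring
    _ = -(ik (t * star u) * (gamM a * gamM b)) := by rw [gw_mul_gw]

theorem spm2c6_EM_ng (a b : Fin m ⊕ Fin m) : EM (A := A) (B := B) a (ng b) = gamM a * gamM b := by
  unfold EM
  rw [ng_ng]

/-- `γ_a γ_b * YM b u = 0` -/
theorem spm2c6_N_YM (a b : Fin m ⊕ Fin m) (u : Kq F A B) : gamM (m := m) a * gamM b * YM b u = 0 := by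
  unfold YM
  calc gamM (m := m) a * gamM b * (gw u * gamM b) = gamM a * (gamM b * gw u) * gamM b := by noncomm_ring
    _ = -(gamM a * gw u * (gamM b * gamM b)) := by rw [gamM_gw]; noncomm_ring
    _ = 0 := by rw [gamM_sq]; simp

/-- `γ_a γ_b * YM a u = 0` if `a ≠ ng b` -/
theorem spm2c6_N_YM' {a b : Fin m ⊕ Fin m} (h : a ≠ ng b) (u : Kq F A B) : gamM (m := m) a * gamM b * YM a u = 0 := by
  have hba : b ≠ ng a := fun e => h (by rw [e, ng_ng])
  unfold YM
  calc gamM (m := m) a * gamM b * (gw u * gamM a) = gamM a * (gamM b * gw u) * gamM a := by noncomm_ring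
    _ = -(gamM a * gw u * (gamM b * gamM a)) := by rw [gamM_gw]; noncomm_ring
    _ = gamM a * gw u * (gamM a * gamM b) := by rw [gamM_anti hba]; noncomm_ring
    _ = -(gw u * (gamM a * gamM a) * gamM b) := by rw [gamM_gw]; noncomm_ring
    _ = 0 := by rw [gamM_sq]; simp

/-- `YM a u * (γ_a x) = 0` -/
theorem spm2c6_YM_N (a : Fin m ⊕ Fin m) (u : Kq F A B) (x : ClM m F A B) : YM (m := m) a u * (gamM a * x) = 0 := by
  unfold YM
  exact spm2c2_pqqr (gamM_sq a)

/-- C6 [M]  the signature of `SysM.ss` (model SPB C6 `XCs_ss`). -/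
theorem XCsm_ss (a b : Fin m ⊕ Fin m) (hab : a ≠ b) (hab' : a ≠ ng b) (t u : Kq F A B) :
    XCsm (m := m) a t * XCsm b u * (XCsm a t)⁻¹ * (XCsm b u)⁻¹ = XClm a (ng b) (-(pq t u)) := by
  apply spm2c6_comm_of_eq
  apply Units.ext
  have hab2 : a ≠ ng (ng b) := by rw [ng_ng]; exact hab
  have hba : b ≠ ng a := fun e => hab' (by rw [e, ng_ng])
  rw [Units.val_mul, Units.val_mul, Units.val_mul, XCsm_val, XCsm_val, XClm_val hab' hab2, spm2c6_EM_ng]
  apply spm2c6_ss_ring
  · rw [smul_mul_assoc, spm2c6_N_YM, smul_zero]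
  · rw [smul_mul_assoc, spm2c6_N_YM' hab', smul_zero]
  · rw [spm2c6_YM_mul, spm2c6_YM_mul, gamM_anti hba, mul_neg, neg_neg]
    have e : algebraMap F (ClM m F A B) (pq t u) = ik (t * star u) + ik (u * star t) := by
      rw [← ik_algebraMap, ← map_add]
      congr 1
      unfold pq
      rw [kq_algebraMap_trq, star_mul', star_star, mul_comm (star t) u]
    rw [neg_smul, Algebra.smul_def, e, add_mul]
    abel

/-- C7 [M]  the signature of `SysM.ls` (model SPB C7 `XCs_ls`). -/
theorem XCsm_ls (a b : Fin m ⊕ Fin m) (hab : a ≠ b) (hab' : a ≠ ng b) (t : F) (u : Kq F A B) :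
    XClm (m := m) a b t * XCsm b u * (XClm a b t)⁻¹ * (XCsm b u)⁻¹ = XCsm a (t • u) * XClm a (ng b) (t * nm u) := by
  apply spm2c6_comm_of_eq
  apply Units.ext
  have hab2 : a ≠ ng (ng b) := by rw [ng_ng]; exact hab
  rw [Units.val_mul, Units.val_mul, Units.val_mul, Units.val_mul, XCsm_val, XCsm_val, XClm_val hab hab',
    XClm_val hab' hab2, spm2c6_EM_ng]
  apply spm2c6_ls_ring
  · rw [mul_smul_comm, spm2c6_YM_N, smul_zero]
  · have e : ik (m := m) ((t • u) * star u) = algebraMap F (ClM m F A B) (t * nm u) := by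
      rw [smul_mul_assoc, ← kq_algebraMap_nm, kq_smul_def, ← map_mul, ik_algebraMap]
    rw [spm2c6_YM_mul, e, Algebra.smul_def]
  · unfold EM
    rw [mul_smul_comm, spm2c6_YM_N, smul_zero]
  · rw [smul_mul_assoc, spm2c6_N_YM, smul_zero]
  · have h := EM_bracket_YYm (A := A) (B := B) hab'
    have h' : EM (A := A) (B := B) a b * YYm b = YYm b * EM a b + YYm a := by rw [← h]; abel
    have h2 : EM (m := m) a b * YM b u = YM b u * EM a b + YM a u := by
      rw [YM_eq, YM_eq, ← mul_assoc, EM_ik, mul_assoc, h', mul_add, mul_assoc]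
    have h3 : YM (m := m) a (t • u) = t • YM a u := by
      unfold YM
      rw [gw_smul, smul_mul_assoc]
    rw [smul_mul_assoc, h2, smul_add, mul_smul_comm, h3]

end C

end Cfsg.Agent.Lib.Lead.SPM2
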