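import Mathlib
import Cfsg.Prelude.Def_Classical
import Cfsg.Prelude.Def_KGroupFacts
import Cfsg.Agent.Lib.Lead.SPM2.Defs
import Cfsg.Agent.Lib.Helper29.SPM2C8
import Cfsg.Agent.Lib.Helper21.SPM2C2
import Cfsg.Agent.Lib.Helper21.SPM2C6

/-!
# Project SPM2 (designer lead; family S2099), row C9 (`XCsm_rels`) (helper21), VERBATIM vs `Lead/SPM2/Skel.lean.txt`: the signature of `SysM.rels`.
Model SPB C9 `XCs_rels` (`Helper11.SPBC3`).  On C8 `wsOfM_XCsm` (`Helper29.SPM2C8`) and the own C1 copies of `Helper21.SPM2C2`, `Helper21.SPM2C6`.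
Extra: `spm2c9_cj_of_eq`.
-/

set_option autoImplicit false
set_option linter.unusedSectionVars false
set_option linter.unusedVariables false

namespace Cfsg.Agent.Lib.Lead.SPM2

open Cfsg.Agent.Lib.helper15.St2 Cfsg.Agent.Lib.helper3.STC Cfsg.Agent.Lib.Lead.STD Cfsg.Agent.Lib.helper17.STM
  Cfsg.Agent.Lib.Lead.SPN Cfsg.Agent.Lib.Helper16
open Cfsg.Agent.Lib.Helper12.OMN (omatM oglM omatM_mul omatM_one omatM_injective oglM_coe oglM_injective)

universe u v w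

theorem spm2c9_cj_of_eq {G : Type*} [Group G] {g y z : G} (e : g * y = z * g) : cj g y = z := by
  unfold cj
  rw [e]; group

section C

variable {m : ℕ} {F : Type u} [Field F] {A B : F}

/-- C9 [M]  the signature of `SysM.rels` (model SPB C9 `XCs_rels`; `wsOfM XCsm a t` is the word, `rfl`). -/
theorem XCsm_rels [Fact (∀ r : F, r ^ 2 ≠ -B + A * r)] (a : Fin m ⊕ Fin m) (t u : Kq F A B) (ht : t ≠ 0) :
    cj (XCsm (m := m) a t * XCsm (ng a) (star t)⁻¹ * XCsm a t) (XCsm a u) = XCsm (ng a) (star (t⁻¹ ^ 2 * u)) := by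
  have hst : star t ≠ 0 := kq_star_ne_zero ht
  apply spm2c9_cj_of_eq
  apply Units.ext
  have hw := wsOfM_XCsm (m := m) a t ht
  unfold wsOfM at hw
  rw [Units.val_mul, Units.val_mul (XCsm (ng a) (star (t⁻¹ ^ 2 * u))), hw, XCsm_val, XCsm_val]
  have hPR : YM (m := m) a t * YM a u = 0 := spm2c2_YM_mul_same a t u
  have hZQ : YM (m := m) (ng a) (star (t⁻¹ ^ 2 * u)) * YM (ng a) (star t)⁻¹ = 0 := spm2c2_YM_mul_same (ng a) _ _
  have hQR : YM (m := m) (ng a) (star t)⁻¹ * YM a u = YM (ng a) (star (t⁻¹ ^ 2 * u)) * YM a t := by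
    rw [spm2c6_YM_mul, spm2c6_YM_mul]
    have e : (star t)⁻¹ * star u = star (t⁻¹ ^ 2 * u) * star t := by
      rw [star_mul', star_pow, kq_star_inv]
      field_simp
    rw [e]
  calc (YM (m := m) a t + YM (ng a) (star t)⁻¹) * (1 + YM a u)
      = YM a t + YM (ng a) (star t)⁻¹ + YM a t * YM a u + YM (ng a) (star t)⁻¹ * YM a u := by noncomm_ring
    _ = YM a t + YM (ng a) (star t)⁻¹ + YM (ng a) (star (t⁻¹ ^ 2 * u)) * YM a t
          + YM (ng a) (star (t⁻¹ ^ 2 * u)) * YM (ng a) (star t)⁻¹ := by rw [hPR, hQR, hZQ]; abel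
    _ = (1 + YM (ng a) (star (t⁻¹ ^ 2 * u))) * (YM a t + YM (ng a) (star t)⁻¹) := by noncomm_ring

end C

end Cfsg.Agent.Lib.Lead.SPM2
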