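import Mathlib
import Cfsg.Agent.Lib.helper17.STM.Defs
import Cfsg.Agent.Lib.helper17.STM.Defs2

/-!
# Project STM (designer helper17; family S2099), rows B2 (`sts_x sts_y sts_w sts_h`) and B3 (`ws_neg hs_one ws_swap`) (helper21), VERBATIM vs `helper17/STM/Skel1.lean.txt`
(models `Helper22.STBB2`, `Helper21.STBB3`; the rank one theory `helper15.St2` for `S.sts a`).
-/

set_option autoImplicit false
set_option linter.unusedSectionVars false
set_option linter.unusedVariables false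

namespace Cfsg.Agent.Lib.helper17.STM

open Cfsg.Agent.Lib.helper15.St2 Cfsg.Agent.Lib.helper3.STC Cfsg.Agent.Lib.Lead.STD

universe v w

namespace SysM

variable {F : Type*} [Field F] {A B : F} [Fact (∀ r : F, r ^ 2 ≠ -B + A * r)] {ι : Type*} {G : Type*} [Group G] (S : SysM F A B ι G)

/-- B2 [S]  model STB B2 (`Helper22.STBB2`): the rank one system of a short root. -/
theorem sts_x (a : ι ⊕ ι) (t : Kq F A B) : (S.sts a).x t = S.xs a t := rfl

theorem sts_y (a : ι ⊕ ι) (t : Kq F A B) : (S.sts a).y t = S.xs (ng a) (-(star t)) := rfl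

theorem sts_w (a : ι ⊕ ι) (t : Kq F A B) : (S.sts a).w t = S.ws a t := by
  show S.xs a t * S.xs (ng a) (-(star (-t⁻¹))) * S.xs a t = S.xs a t * S.xs (ng a) (star t)⁻¹ * S.xs a t
  rw [star_neg, neg_neg, kq_star_inv]

theorem sts_h (a : ι ⊕ ι) (t : Kq F A B) : (S.sts a).h t = S.hs a t := by
  show (S.sts a).w t * (S.sts a).w (-1) = S.ws a t * S.ws a (-1)
  rw [sts_w, sts_w]

/-- B3 [S]  model STB B3 (`Helper21.STBB3`): from the rank one theory for `S.sts a`. -/
theorem ws_neg (a : ι ⊕ ι) (t : Kq F A B) : S.ws a (-t) = (S.ws a t)⁻¹ := by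
  rw [← sts_w, ← sts_w]
  exact (S.sts a).w_neg t

theorem hs_one (a : ι ⊕ ι) : S.hs a 1 = 1 := by
  rw [← sts_h]
  exact (S.sts a).h_one

theorem ws_swap (a : ι ⊕ ι) (t : Kq F A B) (ht : t ≠ 0) : S.ws (ng a) t = S.ws a (star t)⁻¹ := by
  have hn : ng (ng a) = a := by cases a <;> rfl
  have hst : star t ≠ 0 := kq_star_ne_zero ht
  have h := (S.sts a).W_swap false (-(star t)) (neg_ne_zero.2 hst)
  have e1 : (S.sts a).W false (-(star t)) = S.ws (ng a) t := by
    show S.xs (ng a) (-(star (-(star t)))) * S.xs a (-(-(star t))⁻¹) * S.xs (ng a) (-(star (-(star t)))) =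
      S.xs (ng a) t * S.xs (ng (ng a)) (star t)⁻¹ * S.xs (ng a) t
    rw [star_neg, star_star, neg_neg, hn, inv_neg, neg_neg]
  have e2 : (S.sts a).W (!false) (-(-(star t))⁻¹) = S.ws a (star t)⁻¹ := by
    rw [inv_neg, neg_neg]
    exact sts_w S a (star t)⁻¹
  rw [← e1, h, e2]

end SysM

end Cfsg.Agent.Lib.helper17.STM
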