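import Mathlib
import Cfsg.Agent.Lib.helper17.STM.Defs
import Cfsg.Agent.Lib.helper17.STM.Defs2
import Cfsg.Agent.Lib.Helper16.STDW13

/-!
# Project STM (designer helper17; family S2099), row W11 (helper21): `IsMon.cj_w`, `IsMon.cj_h`, `IsMon.cj_ws`, `IsMon.cj_hs` — VERBATIM vs `helper17/STM/Skel1.lean.txt`
(model `Helper13.STBW11`; long: STD W13 `Helper16.STDW13` at `S.toSysD`).
Extra: `stmw11_star_tw` (`star (tw ε u) = tw ε (star u)`).
-/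

set_option autoImplicit false
set_option linter.unusedSectionVars false
set_option linter.unusedVariables false

namespace Cfsg.Agent.Lib.helper17.STM

open Cfsg.Agent.Lib.helper15.St2 Cfsg.Agent.Lib.helper3.STC Cfsg.Agent.Lib.Lead.STD

universe v w

theorem stmw11_star_tw {F : Type*} [Field F] {A B : F} (ε : Bool) (u : Kq F A B) : star (tw ε u) = tw ε (star u) := by
  cases ε <;> simp [tw]

namespace SysM

variable {F : Type*} [Field F] {A B : F} [Fact (∀ r : F, r ^ 2 ≠ -B + A * r)] {ι : Type*} {G : Type*} [Group G] (S : SysM F A B ι G)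

variable [DecidableEq ι]

/-- W11 [S-M]  model STB W11 (`Helper13.STBW11`): a monomial element conjugates Weyl / torus elements to Weyl / torus elements. -/
theorem IsMon.cj_w {g : G} {σ : Equiv.Perm (ι ⊕ ι)} {d : ι ⊕ ι → F} {c0 : Kq F A B} {ε : Bool} (hg : S.IsMon g σ d c0 ε) {a b : ι ⊕ ι}
    (hab : a ≠ b) (u : F) (hu : u ≠ 0) :
    cj g (S.w a b u) = S.w (σ a) (σ b) (d a * (d b)⁻¹ * u) :=
  Cfsg.Agent.Lib.Lead.STD.SysD.IsMon.cj_w S.toSysD hg.1 hab u hu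

theorem IsMon.cj_h {g : G} {σ : Equiv.Perm (ι ⊕ ι)} {d : ι ⊕ ι → F} {c0 : Kq F A B} {ε : Bool} (hg : S.IsMon g σ d c0 ε) {a b : ι ⊕ ι}
    (hab : a ≠ b) (u : F) (hu : u ≠ 0) :
    cj g (S.h a b u) = S.w (σ a) (σ b) (d a * (d b)⁻¹ * u) * S.w (σ a) (σ b) (-(d a * (d b)⁻¹)) :=
  Cfsg.Agent.Lib.Lead.STD.SysD.IsMon.cj_h S.toSysD hg.1 hab u hu

theorem IsMon.cj_ws {g : G} {σ : Equiv.Perm (ι ⊕ ι)} {d : ι ⊕ ι → F} {c0 : Kq F A B} {ε : Bool} (hg : S.IsMon g σ d c0 ε) (a : ι ⊕ ι)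
    (u : Kq F A B) (hu : u ≠ 0) :
    cj g (S.ws a u) = S.ws (σ a) (d a • (c0 * tw ε u)) := by
  obtain ⟨-, hσ, hd, hc0, hx⟩ := hg
  unfold ws
  rw [cj_mul, cj_mul, hx a u, hx (ng a) (star u)⁻¹, hσ a]
  have e : d (ng a) • (c0 * tw ε (star u)⁻¹) = (star (d a • (c0 * tw ε u)))⁻¹ := by
    have e1 : d (ng a) = (d a)⁻¹ := eq_inv_of_mul_eq_one_right (hd a)
    have e2 : c0 * star c0 = 1 := by rw [← kq_algebraMap_nm, hc0, map_one]
    have e4 : c0 = (star c0)⁻¹ := eq_inv_of_mul_eq_one_left e2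
    rw [kq_star_smul, star_mul', stmw11_star_tw, tw_inv, kq_smul_def, kq_smul_def, mul_inv, mul_inv, ← e4, e1, map_inv₀]
  rw [e]

theorem IsMon.cj_hs {g : G} {σ : Equiv.Perm (ι ⊕ ι)} {d : ι ⊕ ι → F} {c0 : Kq F A B} {ε : Bool} (hg : S.IsMon g σ d c0 ε) (a : ι ⊕ ι)
    (u : Kq F A B) (hu : u ≠ 0) :
    cj g (S.hs a u) = S.ws (σ a) (d a • (c0 * tw ε u)) * S.ws (σ a) (-(d a • c0)) := by
  unfold hs
  rw [cj_mul, IsMon.cj_ws S hg a u hu, IsMon.cj_ws S hg a (-1) (neg_ne_zero.mpr one_ne_zero), tw_neg, tw_one, mul_neg, mul_one, smul_neg]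

end SysM

end Cfsg.Agent.Lib.helper17.STM
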