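import Mathlib
import Cfsg.Agent.Lib.helper17.STM.Defs
import Cfsg.Agent.Lib.helper17.STM.Defs2
import Cfsg.Agent.Lib.Helper24.STCI1
import Cfsg.Agent.Lib.Lead.STDB1
import Cfsg.Agent.Lib.Helper21.STMB2

/-!
# Project STM (designer helper17; family S2099), rows B1 (`xs_zero xs_neg xs_comm_same`), B4 (`cj_xs_x_comm cj_x_xs_comm`), B6 (`cj_xs_xs`),
W1 (`cj_w_xs_disj`), W4 (`cj_ws_xs_self cj_ws_xs_neg`), W6 (`cj_ws_x_disj`) (helper21), VERBATIM vs `helper17/STM/Skel1.lean.txt`
(models `helper6.STBB1`, `helper23.STBB4`, `Helper11.STBW1`, `Helper5.STBW4`, `helper6.STBW5`).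
Extras: `stmb4_comm` (the commutation form of B4, all `c d`), `stmb1_cj_mul` (`cj (g * h) y = cj g (cj h y)`).
-/

set_option autoImplicit false
set_option linter.unusedSectionVars false
set_option linter.unusedVariables false

namespace Cfsg.Agent.Lib.helper17.STM

open Cfsg.Agent.Lib.helper15.St2 Cfsg.Agent.Lib.helper3.STC Cfsg.Agent.Lib.Lead.STD

universe v w

namespace SysM

variable {F : Type*} [Field F] {A B : F} [Fact (∀ r : F, r ^ 2 ≠ -B + A * r)] {ι : Type*} {G : Type*} [Group G] (S : SysM F A B ι G)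

/-! ## Block B: basic calculus of the short root elements -/

/-- B1 [S]  model STB B1 (`helper6.STBB1`): `adds`. -/
theorem xs_zero (a : ι ⊕ ι) : S.xs a 0 = 1 := by
  have h := S.adds a 0 0
  rw [add_zero] at h
  exact mul_eq_left.1 h

theorem xs_neg (a : ι ⊕ ι) (t : Kq F A B) : S.xs a (-t) = (S.xs a t)⁻¹ := by
  apply eq_inv_of_mul_eq_one_left
  rw [S.adds, neg_add_cancel, S.xs_zero]

theorem xs_comm_same (a : ι ⊕ ι) (t u : Kq F A B) : S.xs a t * S.xs a u = S.xs a u * S.xs a t := by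
  rw [S.adds, S.adds, add_comm]

/-- the commutation form of B4 (all `c d`) -/
theorem stmb4_comm {a c d : ι ⊕ ι} (hda : d ≠ a) (hca : c ≠ ng a) (t : Kq F A B) (u : F) :
    S.xs a t * S.x c d u = S.x c d u * S.xs a t := by
  by_cases hcd : c = d
  · subst hcd
    rw [S.diag, mul_one, one_mul]
  · by_cases hcd' : c = ng d
    · subst hcd'
      rw [S.toSysD.x_opp', mul_one, one_mul]
    · exact S.comm_ls a c d hcd hcd' hda hca t u

/-- B4 [S]  model STB B4 (`helper23.STBB4`): conjugation forms of `comm_ls` (`cj g y = g * y * g⁻¹`).  If `c = d` or `c = ng d` the long element is `1` (`S.diag`, `S.opp`). -/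
theorem cj_xs_x_comm {a c d : ι ⊕ ι} (hda : d ≠ a) (hca : c ≠ ng a) (t : Kq F A B) (u : F) : cj (S.xs a t) (S.x c d u) = S.x c d u := by
  unfold cj
  rw [S.stmb4_comm hda hca, mul_inv_cancel_right]

theorem cj_x_xs_comm {a c d : ι ⊕ ι} (hda : d ≠ a) (hca : c ≠ ng a) (t : Kq F A B) (u : F) : cj (S.x c d u) (S.xs a t) = S.xs a t := by
  unfold cj
  rw [← S.stmb4_comm hda hca, mul_inv_cancel_right]

/-- B6 [S]  model STB B6: conjugation form of `ss`. -/
theorem cj_xs_xs {a b : ι ⊕ ι} (hab : a ≠ b) (hab' : a ≠ ng b) (t u : Kq F A B) :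
    cj (S.xs a t) (S.xs b u) = S.x a (ng b) (-(pq t u)) * S.xs b u := by
  have h := S.ss a b hab hab' t u
  unfold cj
  rw [← h]
  group

theorem stmb1_cj_mul (g h y : G) : cj (g * h) y = cj g (cj h y) := by
  unfold cj; group

/-! ## Block W: the Weyl elements act monomially -/

/-- W1 [S-M]  model STB W1: the long Weyl element on a short root element with an index outside `{a, b, ng a, ng b}`: all three factors of `w a b u` commute with `xs c t` (B4). -/
theorem cj_w_xs_disj {a b c : ι ⊕ ι} (hca : c ≠ a) (hcb : c ≠ b) (hca' : c ≠ ng a) (hcb' : c ≠ ng b) (u : F) (t : Kq F A B) :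
    cj (S.w a b u) (S.xs c t) = S.xs c t := by
  have hac : a ≠ ng c := by
    intro e
    apply hca'
    rw [e, ng_ng]
  have hbc : b ≠ ng c := by
    intro e
    apply hcb'
    rw [e, ng_ng]
  have h1 : ∀ s, cj (S.x a b s) (S.xs c t) = S.xs c t := fun s => S.cj_x_xs_comm (Ne.symm hcb) hac t s
  have h2 : ∀ s, cj (S.x b a s) (S.xs c t) = S.xs c t := fun s => S.cj_x_xs_comm (Ne.symm hca) hbc t s
  show cj (S.toSysD.w a b u) (S.xs c t) = S.xs c t
  unfold SysD.w
  rw [stmb1_cj_mul, stmb1_cj_mul, h1, h2, h1]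

/-- W4 [S]  model STB W4 (`Helper5.STBW4`): the short Weyl element on its own root subgroups: `S.rels`, and `St.w_y` for `S.sts a`. -/
theorem cj_ws_xs_self (a : ι ⊕ ι) (u t : Kq F A B) (hu : u ≠ 0) : cj (S.ws a u) (S.xs a t) = S.xs (ng a) (star (u⁻¹ ^ 2 * t)) :=
  S.rels a u t hu

theorem cj_ws_xs_neg (a : ι ⊕ ι) (u t : Kq F A B) (hu : u ≠ 0) : cj (S.ws a u) (S.xs (ng a) t) = S.xs a (u ^ 2 * star t) := by
  have h := (S.sts a).w_y u (-(star t)) hu
  rw [S.sts_w] at h
  have e1 : (S.sts a).y (-(star t)) = S.xs (ng a) t := by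
    show S.xs (ng a) (-(star (-(star t)))) = S.xs (ng a) t
    rw [star_neg, star_star, neg_neg]
  have e2 : (S.sts a).x (-(u ^ 2 * -(star t))) = S.xs a (u ^ 2 * star t) := by
    show S.xs a (-(u ^ 2 * -(star t))) = S.xs a (u ^ 2 * star t)
    congr 1
    ring
  rw [e1, e2] at h
  exact h

/-- W6 [S]  model STB W6: the short Weyl element on a long root element with both indices outside `{a, ng a}` (B4). -/
theorem cj_ws_x_disj {a k l : ι ⊕ ι} (hka : k ≠ a) (hka' : k ≠ ng a) (hla : l ≠ a) (hla' : l ≠ ng a) (u : Kq F A B) (t : F) :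
    cj (S.ws a u) (S.x k l t) = S.x k l t := by
  unfold ws
  rw [← cj_cj, ← cj_cj, S.cj_xs_x_comm hla hka', S.cj_xs_x_comm hla' (by rw [ng_ng]; exact hka),
    S.cj_xs_x_comm hla hka']

end SysM

end Cfsg.Agent.Lib.helper17.STM
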