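import Mathlib
import Cfsg.Agent.Lib.helper17.STM.Defs
import Cfsg.Agent.Lib.helper17.STM.Defs2
import Cfsg.Agent.Lib.Helper24.STCI1
import Cfsg.Agent.Lib.Lead.STDB1
import Cfsg.Agent.Lib.helper6.STDW14
import Cfsg.Agent.Lib.Helper21.STMB2
import Cfsg.Agent.Lib.Helper21.STMB1

/-!
# Project STM (designer helper17; family S2099), rows W5 (`cj_ws_xs_disj`), W7 (`cj_ws_x_al`), W8 (`cj_ws_x_nal cj_ws_x_ka cj_ws_x_kna`) (helper21),
VERBATIM vs `helper17/STM/Skel1.lean.txt`: the short Weyl element `ws a u` on the other root elements.  Port of the model `helper6.STBW5`.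

B5 is cited through own-name copies `stmw5_cj_xs_x`, `stmw5_cj_xs_x'` (that row belongs to another seat).  Extras: `stmw5_rev3`, `stmw5_comm_long`,
`stmw5_pq_star_inv` (`pq u (star u)⁻¹ = 2`), `stmw5_refl` (`t - (pq u t) • (star u)⁻¹ = -(u / star u) * star t`: the reflection in `u`).
-/

set_option autoImplicit false
set_option linter.unusedSectionVars false
set_option linter.unusedVariables false

namespace Cfsg.Agent.Lib.helper17.STM

open Cfsg.Agent.Lib.helper15.St2 Cfsg.Agent.Lib.helper3.STC Cfsg.Agent.Lib.Lead.STD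

universe v w

section aux

variable {G : Type*} [Group G]

theorem stmw5_rev3 {A B C : G} (hAB : A * B = B * A) (hAC : A * C = C * A) (hBC : B * C = C * B) :
    A * B * C = C * B * A := by
  calc A * B * C = A * (B * C) := mul_assoc _ _ _
    _ = A * (C * B) := by rw [hBC]
    _ = (A * C) * B := (mul_assoc _ _ _).symm
    _ = (C * A) * B := by rw [hAC]
    _ = C * (A * B) := mul_assoc _ _ _
    _ = C * (B * A) := by rw [hAB]
    _ = C * B * A := (mul_assoc _ _ _).symm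

end aux

section field

variable {F : Type*} [Field F] {A B : F} [Fact (∀ r : F, r ^ 2 ≠ -B + A * r)]

/-- `pq u (star u)⁻¹ = 2` -/
theorem stmw5_pq_star_inv {u : Kq F A B} (hu : u ≠ 0) : pq u (star u)⁻¹ = 2 := by
  rw [kq_star_inv_eq, pq_smul_right, pq_self]
  have hn : nm u ≠ 0 := nm_ne_zero hu
  field_simp

/-- `algebraMap (pq u t) = u * star t + star u * t` -/
theorem stmw5_algebraMap_pq (u t : Kq F A B) : algebraMap F (Kq F A B) (pq u t) = u * star t + star u * t := by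
  unfold pq
  rw [kq_algebraMap_trq, star_mul', star_star]

/-- the reflection of `t` in `u` -/
theorem stmw5_refl {u : Kq F A B} (hu : u ≠ 0) (t : Kq F A B) :
    (-(pq u t)) • (star u)⁻¹ + t = -(u / star u) * star t := by
  have hs : star u ≠ 0 := kq_star_ne_zero hu
  rw [kq_smul_def, map_neg, stmw5_algebraMap_pq]
  field_simp
  ring

end field

namespace SysM

variable {F : Type*} [Field F] {A B : F} [Fact (∀ r : F, r ^ 2 ≠ -B + A * r)] {ι : Type*} {G : Type*} [Group G] (S : SysM F A B ι G)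

/-- `x a b` and `x a (ng b)` commute -/
theorem stmw5_comm_long {a b : ι ⊕ ι} (hab : a ≠ b) (hab' : a ≠ ng b) (t v : F) :
    S.x a b t * S.x a (ng b) v = S.x a (ng b) v * S.x a b t := by
  rw [S.toSysD.stdw14_sym_r hab hab' v]
  exact S.sso a b hab hab' t (-v)

/-- own copy of B5 `cj_xs_x` -/
theorem stmw5_cj_xs_x {a b : ι ⊕ ι} (hab : a ≠ b) (hab' : a ≠ ng b) (t : F) (u : Kq F A B) :
    cj (S.xs b u) (S.x a b t) = S.x a b t * S.xs a (-(t • u)) * S.x a (ng b) (-(t * nm u)) := by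
  have h := S.ls a b hab hab' t u
  have h1 : cj (S.xs b u) (S.x a b t) = (S.xs a (t • u) * S.x a (ng b) (t * nm u))⁻¹ * S.x a b t := by
    rw [← h]; unfold cj; group
  rw [h1, mul_inv_rev, ← S.xs_neg, ← S.toSysD.x_neg]
  have hna : ng b ≠ a := fun e => hab' e.symm
  exact stmw5_rev3 (S.stmb4_comm hna (ne_ng a) _ _).symm ((S.stmw5_comm_long hab hab' _ _).symm)
    (S.stmb4_comm hab.symm (ne_ng a) _ _)

/-- own copy of B5 `cj_xs_x'` -/
theorem stmw5_cj_xs_x' {a b : ι ⊕ ι} (hab : a ≠ b) (hab' : a ≠ ng b) (t : F) (u : Kq F A B) :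
    cj (S.xs (ng a) u) (S.x a b t) = S.x a b t * S.xs (ng b) (t • u) * S.x (ng b) a (t * nm u) := by
  have hnn : ng b ≠ ng a := fun e => hab (ng_inj.mp e).symm
  have hnn' : ng b ≠ ng (ng a) := by rw [ng_ng]; exact fun e => hab' e.symm
  have h := S.stmw5_cj_xs_x hnn hnn' (-t) u
  rw [ng_ng] at h
  have e1 : -((-t) • u) = t • u := by rw [neg_smul, neg_neg]
  have e2 : -(-t * nm u) = t * nm u := by ring
  rw [S.sym a b hab hab' t, h, e1, e2]

/-- W5 [M]  model STB W5 (`helper6.STBW5`): the short Weyl element on another short root element. -/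
theorem cj_ws_xs_disj {a c : ι ⊕ ι} (hca : c ≠ a) (hca' : c ≠ ng a) (u t : Kq F A B) (hu : u ≠ 0) :
    cj (S.ws a u) (S.xs c t) = S.xs c (-(u / star u) * star t) := by
  have hac : a ≠ c := hca.symm
  have hac' : a ≠ ng c := fun e => hca' (by rw [e, ng_ng])
  have hnac : ng a ≠ c := hca'.symm
  have hnac' : ng a ≠ ng c := fun e => hca (ng_inj.mp e).symm
  have hacc : a ≠ ng (ng c) := by rw [ng_ng]; exact hac
  have hn : nm u ≠ 0 := nm_ne_zero hu
  -- step 1
  have s1 : cj (S.xs a u) (S.xs c t) = S.x a (ng c) (-(pq u t)) * S.xs c t := S.cj_xs_xs hac hac' u t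
  -- step 2
  have s2a : cj (S.xs (ng a) (star u)⁻¹) (S.x a (ng c) (-(pq u t))) =
      S.x a (ng c) (-(pq u t)) * S.xs c ((-(pq u t)) • (star u)⁻¹) * S.x c a (-(pq u t) * (nm u)⁻¹) := by
    have h := S.stmw5_cj_xs_x' hac' hacc (-(pq u t)) (star u)⁻¹
    rw [ng_ng, nm_inv, nm_star] at h
    exact h
  have s2b : cj (S.xs (ng a) (star u)⁻¹) (S.xs c t) = S.x c a (pq u t * (nm u)⁻¹) * S.xs c t := by
    have e1 : -(-(pq (star u)⁻¹ t)) = pq u t * (nm u)⁻¹ := by
      rw [neg_neg, kq_star_inv_eq, pq_smul_left, mul_comm]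
    rw [S.cj_xs_xs hnac hnac' (star u)⁻¹ t, S.toSysD.stdw14_sym_b hac hac', e1]
  have s2 : cj (S.xs (ng a) (star u)⁻¹) (cj (S.xs a u) (S.xs c t)) =
      S.x a (ng c) (-(pq u t)) * S.xs c (-(u / star u) * star t) := by
    rw [s1, cj_mul, s2a, s2b]
    have e : S.x c a (-(pq u t) * (nm u)⁻¹) * (S.x c a (pq u t * (nm u)⁻¹) * S.xs c t) = S.xs c t := by
      have e0 : -(pq u t) * (nm u)⁻¹ = -(pq u t * (nm u)⁻¹) := by ring
      rw [← mul_assoc, e0, S.toSysD.x_neg, inv_mul_cancel, one_mul]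
    rw [mul_assoc, e, mul_assoc, S.adds, stmw5_refl hu t]
  -- step 3
  have s3 : cj (S.xs a u) (S.x a (ng c) (-(pq u t)) * S.xs c (-(u / star u) * star t)) = S.xs c (-(u / star u) * star t) := by
    rw [cj_mul, S.cj_xs_x_comm (fun e => hac' e.symm) (ne_ng a), S.cj_xs_xs hac hac' u (-(u / star u) * star t), ← mul_assoc]
    have e : S.x a (ng c) (-(pq u (-(u / star u) * star t))) = (S.x a (ng c) (-(pq u t)))⁻¹ := by
      rw [← S.toSysD.x_neg]
      congr 1
      rw [← stmw5_refl hu t, pq_add_right, pq_smul_right, stmw5_pq_star_inv hu]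
      ring
    rw [e, mul_inv_cancel, one_mul]
  unfold ws
  rw [← cj_cj, ← cj_cj, s2, s3]

/-- W7 [M]  model STB W7 (`helper6.STBW5`): the short Weyl element on `x a l` (`l ∉ {a, ng a}`). -/
theorem cj_ws_x_al {a l : ι ⊕ ι} (hla : l ≠ a) (hla' : l ≠ ng a) (u : Kq F A B) (t : F) (hu : u ≠ 0) :
    cj (S.ws a u) (S.x a l t) = S.x (ng a) l (-((nm u)⁻¹ * t)) := by
  have hal : a ≠ l := hla.symm
  have hal' : a ≠ ng l := fun e => hla' (by rw [e, ng_ng])
  have hnla : ng l ≠ a := fun e => hal' e.symm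
  have hnla' : ng l ≠ ng a := fun e => hla (ng_inj.mp e)
  have hanl : a ≠ ng (ng l) := by rw [ng_ng]; exact hal
  have hn : nm u ≠ 0 := nm_ne_zero hu
  -- step 1
  have s1 : cj (S.xs a u) (S.x a l t) = S.x a l t := S.cj_xs_x_comm hla (ne_ng a) u t
  -- step 2
  have s2 : cj (S.xs (ng a) (star u)⁻¹) (S.x a l t) =
      S.x a l t * S.xs (ng l) (t • (star u)⁻¹) * S.x (ng l) a (t * (nm u)⁻¹) := by
    have h := S.stmw5_cj_xs_x' hal hal' t (star u)⁻¹
    rw [nm_inv, nm_star] at h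
    exact h
  -- step 3
  have s3a : cj (S.xs a u) (S.xs (ng l) (t • (star u)⁻¹)) = S.x a l (-(2 * t)) * S.xs (ng l) (t • (star u)⁻¹) := by
    have e1 : -(pq u (t • (star u)⁻¹)) = -(2 * t) := by
      rw [pq_smul_right, stmw5_pq_star_inv hu, mul_comm]
    rw [S.cj_xs_xs hal' hanl u (t • (star u)⁻¹), ng_ng, e1]
  have s3b : cj (S.xs a u) (S.x (ng l) a (t * (nm u)⁻¹)) =
      S.x (ng l) a (t * (nm u)⁻¹) * S.xs (ng l) (-(t • (star u)⁻¹)) * S.x a l t := by
    have e1 : -((t * (nm u)⁻¹) • u) = -(t • (star u)⁻¹) := by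
      rw [kq_star_inv_eq, smul_smul]
    have e2 : -(-(t * (nm u)⁻¹ * nm u)) = t := by
      field_simp
    rw [S.stmw5_cj_xs_x hnla hnla' (t * (nm u)⁻¹) u, S.toSysD.stdw14_sym_b hla hla', e1, e2]
  have hc1 : S.xs (ng l) (t • (star u)⁻¹) * S.x (ng l) a (t * (nm u)⁻¹) = S.x (ng l) a (t * (nm u)⁻¹) * S.xs (ng l) (t • (star u)⁻¹) :=
    S.stmb4_comm hal' (ne_ng (ng l)) _ _
  have hc2 : S.x (ng l) a (t * (nm u)⁻¹) * S.x a l (-t) = S.x a l (-t) * S.x (ng l) a (t * (nm u)⁻¹) := by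
    have h := S.sso (ng l) a hnla hnla' (t * (nm u)⁻¹) (-t)
    rw [ng_ng] at h
    exact h
  have s3 : cj (S.xs a u) (S.x a l t * S.xs (ng l) (t • (star u)⁻¹) * S.x (ng l) a (t * (nm u)⁻¹)) = S.x (ng l) a (t * (nm u)⁻¹) := by
    rw [cj_mul, cj_mul, s1, s3a, s3b]
    have e1 : S.x a l t * (S.x a l (-(2 * t)) * S.xs (ng l) (t • (star u)⁻¹)) = S.x a l (-t) * S.xs (ng l) (t • (star u)⁻¹) := by
      have e' : t + -(2 * t) = -t := by ring
      rw [← mul_assoc, S.add a l hal hal', e']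
    rw [e1]
    have e2 : S.x a l (-t) * S.xs (ng l) (t • (star u)⁻¹) * (S.x (ng l) a (t * (nm u)⁻¹) * S.xs (ng l) (-(t • (star u)⁻¹)) * S.x a l t)
        = S.x a l (-t) * (S.xs (ng l) (t • (star u)⁻¹) * S.x (ng l) a (t * (nm u)⁻¹)) * S.xs (ng l) (-(t • (star u)⁻¹)) * S.x a l t := by
      group
    rw [e2, hc1]
    have e3 : S.x a l (-t) * (S.x (ng l) a (t * (nm u)⁻¹) * S.xs (ng l) (t • (star u)⁻¹)) * S.xs (ng l) (-(t • (star u)⁻¹)) * S.x a l t
        = S.x a l (-t) * S.x (ng l) a (t * (nm u)⁻¹) * (S.xs (ng l) (t • (star u)⁻¹) * S.xs (ng l) (-(t • (star u)⁻¹))) * S.x a l t := by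
      group
    rw [e3, S.adds, add_neg_cancel, S.xs_zero, mul_one, ← hc2, mul_assoc, S.add a l hal hal', neg_add_cancel, S.toSysD.x_zero, mul_one]
  unfold ws
  rw [← cj_cj, ← cj_cj, s1, s2, s3, S.toSysD.stdw14_sym_l hal hal']
  congr 1; ring

/-- W8 [S-M]  model STB W8: from W7: `ws (ng a) u = ws a (star u)⁻¹` (B3), inverses, and `S.sym`. -/
theorem cj_ws_x_nal {a l : ι ⊕ ι} (hla : l ≠ a) (hla' : l ≠ ng a) (u : Kq F A B) (t : F) (hu : u ≠ 0) :
    cj (S.ws a u) (S.x (ng a) l t) = S.x a l (-(nm u * t)) := by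
  have hs : (star u)⁻¹ ≠ 0 := inv_ne_zero (kq_star_ne_zero hu)
  have h := S.cj_ws_x_al (a := ng a) hla' (by rw [ng_ng]; exact hla) (star u)⁻¹ t hs
  rw [S.ws_swap a (star u)⁻¹ hs, kq_star_inv, star_star, inv_inv, ng_ng, nm_inv, nm_star, inv_inv] at h
  exact h

theorem cj_ws_x_ka {a k : ι ⊕ ι} (hka : k ≠ a) (hka' : k ≠ ng a) (u : Kq F A B) (t : F) (hu : u ≠ 0) :
    cj (S.ws a u) (S.x k a t) = S.x k (ng a) (-(nm u * t)) := by
  have hak : a ≠ k := hka.symm
  have hak' : a ≠ ng k := fun e => hka' (by rw [e, ng_ng])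
  have hnka : ng k ≠ a := fun e => hak' e.symm
  have hnka' : ng k ≠ ng a := fun e => hka (ng_inj.mp e)
  rw [S.sym k a hka hka' t, S.cj_ws_x_nal hnka hnka' u (-t) hu, S.toSysD.stdw14_sym_r hak hak']
  congr 1; ring

theorem cj_ws_x_kna {a k : ι ⊕ ι} (hka : k ≠ a) (hka' : k ≠ ng a) (u : Kq F A B) (t : F) (hu : u ≠ 0) :
    cj (S.ws a u) (S.x k (ng a) t) = S.x k a (-((nm u)⁻¹ * t)) := by
  have hak : a ≠ k := hka.symm
  have hak' : a ≠ ng k := fun e => hka' (by rw [e, ng_ng])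
  have hnka : ng k ≠ a := fun e => hak' e.symm
  have hnka' : ng k ≠ ng a := fun e => hka (ng_inj.mp e)
  rw [S.toSysD.stdw14_sym_r hka hka' t, S.cj_ws_x_al hnka hnka' u (-t) hu, S.toSysD.stdw14_sym_b hak hak']
  congr 1; ring

end SysM

end Cfsg.Agent.Lib.helper17.STM
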