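import Mathlib
import Cfsg.Agent.Lib.helper17.STM.Defs
import Cfsg.Agent.Lib.helper17.STM.Defs2
import Cfsg.Agent.Lib.Helper24.STCI1

/-!
# Project STM (designer helper17; family S2099), row W9 (helper21): the permutation `swb a` and the coefficients `dwb`, `dhb` — VERBATIM vs `helper17/STM/Skel1.lean.txt`
(model `helper6.STBW9`).

Extras: values `stmw9_dwb_a`, `stmw9_dwb_na`, `stmw9_dwb_of_ne`, `stmw9_dhb_a`, `stmw9_dhb_na`, `stmw9_dhb_of_ne`, `stmw9_dwb_ne_zero`, `stmw9_dhb_ne_zero`.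
-/

set_option autoImplicit false
set_option linter.unusedSectionVars false
set_option linter.unusedVariables false

namespace Cfsg.Agent.Lib.helper17.STM

open Cfsg.Agent.Lib.helper15.St2 Cfsg.Agent.Lib.helper3.STC Cfsg.Agent.Lib.Lead.STD

universe v w

section aux

variable {F : Type*} [Field F] {A B : F} {ι : Type*} [DecidableEq ι]

theorem stmw9_dwb_a (a : ι ⊕ ι) (u : Kq F A B) : dwb a u a = -(nm u)⁻¹ := by
  simp [dwb]

theorem stmw9_dwb_na (a : ι ⊕ ι) (u : Kq F A B) : dwb a u (ng a) = -(nm u) := by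
  simp [dwb, ng_ne]

theorem stmw9_dwb_of_ne {a k : ι ⊕ ι} (hka : k ≠ a) (hka' : k ≠ ng a) (u : Kq F A B) : dwb a u k = 1 := by
  simp [dwb, hka, hka']

theorem stmw9_dhb_a (a : ι ⊕ ι) (u : Kq F A B) : dhb a u a = nm u := by
  simp [dhb]

theorem stmw9_dhb_na (a : ι ⊕ ι) (u : Kq F A B) : dhb a u (ng a) = (nm u)⁻¹ := by
  simp [dhb, ng_ne]

theorem stmw9_dhb_of_ne {a k : ι ⊕ ι} (hka : k ≠ a) (hka' : k ≠ ng a) (u : Kq F A B) : dhb a u k = 1 := by
  simp [dhb, hka, hka']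

theorem stmw9_dwb_ne_zero [Fact (∀ r : F, r ^ 2 ≠ -B + A * r)] (a : ι ⊕ ι) (u : Kq F A B) (hu : u ≠ 0) (k : ι ⊕ ι) : dwb a u k ≠ 0 := by
  have hn : nm u ≠ 0 := nm_ne_zero hu
  by_cases hka : k = a
  · subst hka; rw [stmw9_dwb_a]; exact neg_ne_zero.mpr (inv_ne_zero hn)
  by_cases hka' : k = ng a
  · subst hka'; rw [stmw9_dwb_na]; exact neg_ne_zero.mpr hn
  rw [stmw9_dwb_of_ne hka hka']; exact one_ne_zero

theorem stmw9_dhb_ne_zero [Fact (∀ r : F, r ^ 2 ≠ -B + A * r)] (a : ι ⊕ ι) (u : Kq F A B) (hu : u ≠ 0) (k : ι ⊕ ι) : dhb a u k ≠ 0 := by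
  have hn : nm u ≠ 0 := nm_ne_zero hu
  by_cases hka : k = a
  · subst hka; rw [stmw9_dhb_a]; exact hn
  by_cases hka' : k = ng a
  · subst hka'; rw [stmw9_dhb_na]; exact inv_ne_zero hn
  rw [stmw9_dhb_of_ne hka hka']; exact one_ne_zero

end aux

namespace SysM

variable {F : Type*} [Field F] {A B : F} [Fact (∀ r : F, r ^ 2 ≠ -B + A * r)] {ι : Type*} {G : Type*} [Group G] (S : SysM F A B ι G)

variable [DecidableEq ι]

/-- W9 [S]  model STB W9 (`helper6.STBW9`): the permutation `swb a = swap a (ng a)` and the coefficients `dwb`, `dhb` of `STM/Defs.lean`. -/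
theorem swb_self (a : ι ⊕ ι) : swb a a = ng a := by
  unfold swb; exact Equiv.swap_apply_left a (ng a)

theorem swb_ng_self (a : ι ⊕ ι) : swb a (ng a) = a := by
  unfold swb; exact Equiv.swap_apply_right a (ng a)

theorem swb_of_ne {a k : ι ⊕ ι} (hka : k ≠ a) (hka' : k ≠ ng a) : swb a k = k := by
  unfold swb; exact Equiv.swap_apply_of_ne_of_ne hka hka'

theorem swb_ng (a k : ι ⊕ ι) : swb a (ng k) = ng (swb a k) := by
  by_cases hka : k = a
  · subst hka; rw [swb_ng_self, swb_self, ng_ng]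
  by_cases hka' : k = ng a
  · subst hka'; rw [ng_ng, swb_self, swb_ng_self]
  rw [swb_of_ne hka hka', swb_of_ne (fun h => hka' (by rw [← h, ng_ng])) (fun h => hka (ng_inj.mp h))]

theorem swb_mul_self (a : ι ⊕ ι) : swb a * swb a = 1 := by
  unfold swb; exact Equiv.swap_mul_self a (ng a)

theorem dwb_mul_ng (a : ι ⊕ ι) (u : Kq F A B) (hu : u ≠ 0) (k : ι ⊕ ι) : dwb a u k * dwb a u (ng k) = 1 := by
  have hn : nm u ≠ 0 := nm_ne_zero hu
  by_cases hka : k = a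
  · subst hka; rw [stmw9_dwb_a, stmw9_dwb_na]; field_simp
  by_cases hka' : k = ng a
  · subst hka'; rw [ng_ng, stmw9_dwb_a, stmw9_dwb_na]; field_simp
  rw [stmw9_dwb_of_ne hka hka', stmw9_dwb_of_ne (fun h => hka' (by rw [← h, ng_ng])) (fun h => hka (ng_inj.mp h)), mul_one]

theorem dhb_mul_ng (a : ι ⊕ ι) (u : Kq F A B) (hu : u ≠ 0) (k : ι ⊕ ι) : dhb a u k * dhb a u (ng k) = 1 := by
  have hn : nm u ≠ 0 := nm_ne_zero hu
  by_cases hka : k = a
  · subst hka; rw [stmw9_dhb_a, stmw9_dhb_na]; field_simp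
  by_cases hka' : k = ng a
  · subst hka'; rw [ng_ng, stmw9_dhb_a, stmw9_dhb_na]; field_simp
  rw [stmw9_dhb_of_ne hka hka', stmw9_dhb_of_ne (fun h => hka' (by rw [← h, ng_ng])) (fun h => hka (ng_inj.mp h)), mul_one]

end SysM

end Cfsg.Agent.Lib.helper17.STM
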