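import Mathlib
import Cfsg.Agent.Lib.helper17.STM.Defs
import Cfsg.Agent.Lib.helper17.STM.Defs2
import Cfsg.Agent.Lib.Helper24.STCI1
import Cfsg.Agent.Lib.Lead.STDB1
import Cfsg.Agent.Lib.helper6.STDW14
import Cfsg.Agent.Lib.Helper16.STDX2
import Cfsg.Agent.Lib.helper6.STBW9
import Cfsg.Agent.Lib.Helper21.STMB1
import Cfsg.Agent.Lib.Helper21.STMW5
import Cfsg.Agent.Lib.Helper21.STMW9

/-!
# Project STM (designer helper17; family S2099), row W13 (`isMon_ws`) VERBATIM vs `helper17/STM/Skel1.lean.txt` and the core of W12 (`isMon_w`) (helper21).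
Models `helper6.STBW13`, `Helper1.STBW12core`.

`stmw12_core`: `isMon_w` with the conclusions of W2 `cj_w_xs_b`, W3 `cj_w_xs_a cj_w_xs_nb cj_w_xs_na` (at the given `a b u`) as hypotheses (W1 is `Helper21.STMB1`).
-/

set_option autoImplicit false
set_option linter.unusedSectionVars false
set_option linter.unusedVariables false

namespace Cfsg.Agent.Lib.helper17.STM

open Cfsg.Agent.Lib.helper15.St2 Cfsg.Agent.Lib.helper3.STC Cfsg.Agent.Lib.Lead.STD

universe v w

namespace SysM

variable {F : Type*} [Field F] {A B : F} [Fact (∀ r : F, r ^ 2 ≠ -B + A * r)] {ι : Type*} {G : Type*} [Group G] (S : SysM F A B ι G)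

variable [DecidableEq ι]

/-- core of W12: the long Weyl elements are monomial, from the conclusions of W2, W3 at the given `a b u` -/
theorem stmw12_core {a b : ι ⊕ ι} (hab : a ≠ b) (hab' : a ≠ ng b) (u : F) (hu : u ≠ 0)
    (hW2 : ∀ t : Kq F A B, cj (S.w a b u) (S.xs b t) = S.xs a (u • t))
    (hW3a : ∀ t : Kq F A B, cj (S.w a b u) (S.xs a t) = S.xs b (-(u⁻¹ • t)))
    (hW3nb : ∀ t : Kq F A B, cj (S.w a b u) (S.xs (ng b) t) = S.xs (ng a) (u⁻¹ • t))
    (hW3na : ∀ t : Kq F A B, cj (S.w a b u) (S.xs (ng a) t) = S.xs (ng b) (-(u • t))) :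
    S.IsMon (S.w a b u) (sws a b) (dwd a b u) 1 false := by
  refine ⟨S.toSysD.isMon_w hab hab' u hu, fun k => SysD.sws_ng hab hab' k,
    fun k => Cfsg.Agent.Lib.Lead.STB.SysB.dwd_mul_ng hab hab' u hu k, nm_one, ?_⟩
  intro k t
  rw [one_mul, tw_false]
  by_cases hka : k = a
  · subst hka
    rw [hW3a, SysD.sws_left hab hab', stdw14_dwd_a, neg_smul]
  by_cases hkb : k = b
  · subst hkb
    rw [hW2, SysD.sws_right hab hab', stdw14_dwd_b hab]
  by_cases hkb' : k = ng b
  · subst hkb'
    rw [hW3nb, SysD.stdx2_sws_nright hab', stdw14_dwd_nb hab']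
  by_cases hka' : k = ng a
  · subst hka'
    rw [hW3na, SysD.stdx2_sws_nleft hab', stdw14_dwd_na hab hab', neg_smul]
  rw [S.cj_w_xs_disj hka hkb hka' hkb', SysD.sws_of_ne hka hkb hka' hkb', stdw14_dwd_of_ne hka hkb hka' hkb', one_smul]

/-- W13 [M]  model STB W13 (`helper6.STBW13`): **the short Weyl elements are monomial**, `c0 = -(u / star u)`, `ε = true`. -/
theorem isMon_ws (a : ι ⊕ ι) (u : Kq F A B) (hu : u ≠ 0) :
    S.IsMon (S.ws a u) (swb a) (dwb a u) (-(u / star u)) true := by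
  have hn : nm u ≠ 0 := nm_ne_zero hu
  have hs : star u ≠ 0 := kq_star_ne_zero hu
  refine ⟨⟨fun k => stmw9_dwb_ne_zero a u hu k, fun k l hkl t => ?_⟩, fun k => swb_ng a k, fun k => dwb_mul_ng a u hu k,
    ?_, fun k t => ?_⟩
  · -- long root elements
    by_cases hlk : l = ng k
    · subst hlk
      rw [swb_ng, S.opp, S.opp, cj_one]
    by_cases hka : k = a
    · subst hka
      have hlk' : l ≠ k := fun e => hkl e.symm
      rw [swb_self, swb_of_ne hlk' hlk, stmw9_dwb_a, stmw9_dwb_of_ne hlk' hlk, S.cj_ws_x_al hlk' hlk u t hu]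
      congr 1; ring
    by_cases hka' : k = ng a
    · subst hka'
      have hla : l ≠ a := by rw [ng_ng] at hlk; exact hlk
      have hla' : l ≠ ng a := fun e => hkl e.symm
      rw [swb_ng_self, swb_of_ne hla hla', stmw9_dwb_na, stmw9_dwb_of_ne hla hla', S.cj_ws_x_nal hla hla' u t hu]
      congr 1; ring
    by_cases hla : l = a
    · subst hla
      rw [swb_self, swb_of_ne hka hka', stmw9_dwb_a, stmw9_dwb_of_ne hka hka', S.cj_ws_x_ka hka hka' u t hu]
      congr 1; field_simp
    by_cases hla' : l = ng a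
    · subst hla'
      rw [swb_ng_self, swb_of_ne hka hka', stmw9_dwb_na, stmw9_dwb_of_ne hka hka', S.cj_ws_x_kna hka hka' u t hu]
      congr 1; field_simp
    rw [swb_of_ne hka hka', swb_of_ne hla hla', stmw9_dwb_of_ne hka hka', stmw9_dwb_of_ne hla hla',
      S.cj_ws_x_disj hka hka' hla hla' u t]
    congr 1; ring
  · -- `nm c0 = 1`
    rw [nm_neg, nm_div, nm_star, div_self hn]
  · -- short root elements
    rw [tw_true]
    by_cases hka : k = a
    · subst hka
      rw [swb_self, stmw9_dwb_a, S.cj_ws_xs_self k u t hu]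
      congr 1
      rw [kq_smul_def, map_neg, map_inv₀, kq_algebraMap_nm, star_mul', star_pow, kq_star_inv]
      field_simp
    by_cases hka' : k = ng a
    · subst hka'
      rw [swb_ng_self, stmw9_dwb_na, S.cj_ws_xs_neg a u t hu]
      congr 1
      rw [kq_smul_def, map_neg, kq_algebraMap_nm]
      field_simp
    rw [swb_of_ne hka hka', stmw9_dwb_of_ne hka hka', S.cj_ws_xs_disj hka hka' u t hu, one_smul]

end SysM

end Cfsg.Agent.Lib.helper17.STM
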