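import Mathlib
import Cfsg.Agent.Lib.helper17.STM.Defs
import Cfsg.Agent.Lib.helper17.STM.Defs2
import Cfsg.Agent.Lib.Lead.STDB1
import Cfsg.Agent.Lib.Helper24.STCI1

/-!
# Project STM (designer helper17; family S2099), row W3, the core (helper21): `cj_w_xs_a`, `cj_w_xs_nb`, `cj_w_xs_na` from the STATEMENT of
W2 `cj_w_xs_b` (hypothesis `hW2`), by inverse (`w_neg`) and symmetry (`w_sym`).  Model `Helper5.STBW3core`.
-/

set_option autoImplicit false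
set_option linter.unusedSectionVars false
set_option linter.unusedVariables false

namespace Cfsg.Agent.Lib.helper17.STM

open Cfsg.Agent.Lib.helper15.St2 Cfsg.Agent.Lib.helper3.STC Cfsg.Agent.Lib.Lead.STD

universe v w

namespace SysM

variable {F : Type*} [Field F] {A B : F} [Fact (∀ r : F, r ^ 2 ≠ -B + A * r)] {ι : Type*} {G : Type*} [Group G] (S : SysM F A B ι G)

theorem stmw3_a_core
    (hW2 : ∀ {a b : ι ⊕ ι}, a ≠ b → a ≠ ng b → ∀ (u : F) (t : Kq F A B), u ≠ 0 → cj (S.w a b u) (S.xs b t) = S.xs a (u • t))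
    {a b : ι ⊕ ι} (hab : a ≠ b) (hab' : a ≠ ng b) (u : F) (t : Kq F A B) (hu : u ≠ 0) :
    cj (S.w a b u) (S.xs a t) = S.xs b (-(u⁻¹ • t)) := by
  have h1 := hW2 hab hab' (-u) (-(u⁻¹ • t)) (neg_ne_zero.2 hu)
  have e : (-u) • -(u⁻¹ • t) = t := by
    rw [neg_smul, smul_neg, neg_neg, smul_smul, mul_inv_cancel₀ hu, one_smul]
  rw [e] at h1
  have h2 := cj_inv_of h1
  have e2 : (S.w a b (-u))⁻¹ = S.w a b u := by
    show (S.toSysD.w a b (-u))⁻¹ = S.toSysD.w a b u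
    rw [S.toSysD.w_neg, inv_inv]
  rw [e2] at h2
  exact h2

theorem stmw3_nb_core
    (hW2 : ∀ {a b : ι ⊕ ι}, a ≠ b → a ≠ ng b → ∀ (u : F) (t : Kq F A B), u ≠ 0 → cj (S.w a b u) (S.xs b t) = S.xs a (u • t))
    {a b : ι ⊕ ι} (hab : a ≠ b) (hab' : a ≠ ng b) (u : F) (t : Kq F A B) (hu : u ≠ 0) :
    cj (S.w a b u) (S.xs (ng b) t) = S.xs (ng a) (u⁻¹ • t) := by
  have hn : ng b ≠ ng a := fun e => hab (ng_inj.1 e).symm
  have hn' : ng b ≠ ng (ng a) := by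
    rw [ng_ng]
    intro e
    exact hab' e.symm
  have e1 : S.w a b u = S.w (ng b) (ng a) (-u) := S.toSysD.w_sym hab hab' u
  rw [e1, S.stmw3_a_core hW2 hn hn' (-u) t (neg_ne_zero.2 hu)]
  congr 1
  rw [inv_neg, neg_smul, neg_neg]

theorem stmw3_na_core
    (hW2 : ∀ {a b : ι ⊕ ι}, a ≠ b → a ≠ ng b → ∀ (u : F) (t : Kq F A B), u ≠ 0 → cj (S.w a b u) (S.xs b t) = S.xs a (u • t))
    {a b : ι ⊕ ι} (hab : a ≠ b) (hab' : a ≠ ng b) (u : F) (t : Kq F A B) (hu : u ≠ 0) :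
    cj (S.w a b u) (S.xs (ng a) t) = S.xs (ng b) (-(u • t)) := by
  have hn : ng b ≠ ng a := fun e => hab (ng_inj.1 e).symm
  have hn' : ng b ≠ ng (ng a) := by
    rw [ng_ng]
    intro e
    exact hab' e.symm
  have e1 : S.w a b u = S.w (ng b) (ng a) (-u) := S.toSysD.w_sym hab hab' u
  rw [e1, hW2 hn hn' (-u) t (neg_ne_zero.2 hu)]
  congr 1
  rw [neg_smul]

end SysM

end Cfsg.Agent.Lib.helper17.STM
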