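import Mathlib
import Cfsg.Agent.Lib.helper17.STM.Defs
import Cfsg.Agent.Lib.helper17.STM.Defs2
import Cfsg.Agent.Lib.Helper5.STMW2
import Cfsg.Agent.Lib.Helper21.STMW3core
import Cfsg.Agent.Lib.Helper21.STMW13

/-!
# Project STM (designer helper17; family S2099), rows W3 (`cj_w_xs_a cj_w_xs_nb cj_w_xs_na`) and W12 (`isMon_w`) (helper21), VERBATIM vs `helper17/STM/Skel1.lean.txt`:
the cores `Helper21.STMW3core`, `Helper21.STMW13` (`stmw12_core`) applied to W2 `cj_w_xs_b`.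
-/

set_option autoImplicit false
set_option linter.unusedSectionVars false
set_option linter.unusedVariables false

namespace Cfsg.Agent.Lib.helper17.STM

open Cfsg.Agent.Lib.helper15.St2 Cfsg.Agent.Lib.helper3.STC Cfsg.Agent.Lib.Lead.STD

universe v w

namespace SysM

variable {F : Type*} [Field F] {A B : F} [Fact (∀ r : F, r ^ 2 ≠ -B + A * r)] {ι : Type*} {G : Type*} [Group G] (S : SysM F A B ι G)

/-- W3 [S-M]  model STB W3 (`Helper5.STBW3core`): from W2: inverse and the symmetry `w a b u = w (ng b) (ng a) (-u)`. -/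
theorem cj_w_xs_a {a b : ι ⊕ ι} (hab : a ≠ b) (hab' : a ≠ ng b) (u : F) (t : Kq F A B) (hu : u ≠ 0) :
    cj (S.w a b u) (S.xs a t) = S.xs b (-(u⁻¹ • t)) :=
  S.stmw3_a_core (fun {_ _} h h' u t hu => S.cj_w_xs_b h h' u t hu) hab hab' u t hu

theorem cj_w_xs_nb {a b : ι ⊕ ι} (hab : a ≠ b) (hab' : a ≠ ng b) (u : F) (t : Kq F A B) (hu : u ≠ 0) :
    cj (S.w a b u) (S.xs (ng b) t) = S.xs (ng a) (u⁻¹ • t) :=
  S.stmw3_nb_core (fun {_ _} h h' u t hu => S.cj_w_xs_b h h' u t hu) hab hab' u t hu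

theorem cj_w_xs_na {a b : ι ⊕ ι} (hab : a ≠ b) (hab' : a ≠ ng b) (u : F) (t : Kq F A B) (hu : u ≠ 0) :
    cj (S.w a b u) (S.xs (ng a) t) = S.xs (ng b) (-(u • t)) :=
  S.stmw3_na_core (fun {_ _} h h' u t hu => S.cj_w_xs_b h h' u t hu) hab hab' u t hu

variable [DecidableEq ι]

/-- W12 [M]  model STB W12: **the long Weyl elements are monomial**. -/
theorem isMon_w {a b : ι ⊕ ι} (hab : a ≠ b) (hab' : a ≠ ng b) (u : F) (hu : u ≠ 0) :
    S.IsMon (S.w a b u) (sws a b) (dwd a b u) 1 false :=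
  S.stmw12_core hab hab' u hu (fun t => S.cj_w_xs_b hab hab' u t hu) (fun t => S.cj_w_xs_a hab hab' u t hu)
    (fun t => S.cj_w_xs_nb hab hab' u t hu) (fun t => S.cj_w_xs_na hab hab' u t hu)

end SysM

end Cfsg.Agent.Lib.helper17.STM
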