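import Mathlib
import Cfsg.Agent.Lib.Lead.STB.Defs

/-!
# Project STB (designer lead), row B3 (helper21): `ws_neg`, `hs_one`, `ws_swap` VERBATIM vs `Lead/STB/Skel1.lean.txt` (from the rank one theory `helper15.St2` for `S.sts a`).
Extras (own-name copies of B2): `stbb3_sts_w`, `stbb3_sts_h`.
-/

set_option autoImplicit false

namespace Cfsg.Agent.Lib.Lead.STB

open Cfsg.Agent.Lib.helper15.St2 Cfsg.Agent.Lib.helper3.STC Cfsg.Agent.Lib.Lead.STD

universe v w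

namespace SysB

variable {K : Type*} [Field K] {ι : Type*} {G : Type*} [Group G] (S : SysB K ι G)

theorem stbb3_sts_w (a : ι ⊕ ι) (t : K) : (S.sts a).w t = S.ws a t := by
  show S.xs a t * S.xs (ng a) (-(-t⁻¹)) * S.xs a t = S.xs a t * S.xs (ng a) t⁻¹ * S.xs a t
  rw [neg_neg]

theorem stbb3_sts_h (a : ι ⊕ ι) (t : K) : (S.sts a).h t = S.hs a t := by
  show (S.sts a).w t * (S.sts a).w (-1) = S.ws a t * S.ws a (-1)
  rw [stbb3_sts_w, stbb3_sts_w]

/-- B3 [S] -/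
theorem ws_neg (a : ι ⊕ ι) (t : K) : S.ws a (-t) = (S.ws a t)⁻¹ := by
  rw [← stbb3_sts_w, ← stbb3_sts_w]
  exact (S.sts a).w_neg t

theorem hs_one (a : ι ⊕ ι) : S.hs a 1 = 1 := by
  rw [← stbb3_sts_h]
  exact (S.sts a).h_one

theorem ws_swap (a : ι ⊕ ι) (t : K) (ht : t ≠ 0) : S.ws (ng a) t = S.ws a t⁻¹ := by
  have hn : ng (ng a) = a := by cases a <;> rfl
  have h := (S.sts a).W_swap false (-t) (neg_ne_zero.2 ht)
  have e1 : (S.sts a).W false (-t) = S.ws (ng a) t := by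
    show S.xs (ng a) (-(-t)) * S.xs a (-(-t)⁻¹) * S.xs (ng a) (-(-t)) = S.xs (ng a) t * S.xs (ng (ng a)) t⁻¹ * S.xs (ng a) t
    rw [neg_neg, hn, inv_neg, neg_neg]
  have e2 : (S.sts a).W (!false) (-(-t)⁻¹) = S.ws a t⁻¹ := by
    rw [inv_neg, neg_neg]
    exact stbb3_sts_w S a t⁻¹
  rw [← e1, h, e2]

end SysB

end Cfsg.Agent.Lib.Lead.STB
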