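import Mathlib
import Cfsg.Agent.Lib.Lead.STB.Defs
import Cfsg.Agent.Lib.Lead.STB.Defs3

/-!
# Project STB (designer lead; family S2094), part 2, rows F15a (`NP_cell0`) VERBATIM and the first half of F2 (`NP_mul`) VERBATIM (helper21) vs `Lead/STB/Skel2.lean.txt`
(only `STB/Defs.lean` needed).  The second half of F2 (`NP_of_Lg`) as a core on the statement of N2p `Lg_cj_mem_Yg`: `stbf2_NP_of_Lg_core`
(with `Lg ≤ Phat` as second hypothesis, = `Lg_le_Pg`, `Pg_le_Phat` of `Helper22.STBN1`).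
-/

set_option autoImplicit false
set_option linter.unusedSectionVars false
set_option linter.unusedVariables false

namespace Cfsg.Agent.Lib.Lead.STB

open Cfsg.Agent.Lib.helper15.St2 Cfsg.Agent.Lib.helper3.STC Cfsg.Agent.Lib.Lead.STD

universe v w

namespace SysB

variable {K : Type*} [Field K] {ι : Type*} [DecidableEq ι] {G : Type*} [Group G] (S : SysB K ι G)

section F
variable (o : ι ⊕ ι)

omit [DecidableEq ι] in
/-- F2 [S]  properties of `NP` (model STD F2 `Helper22.STDF2`). -/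
theorem NP_mul {n n' : G} (h : S.NP o n) (h' : S.NP o n') : S.NP o (n * n') := by
  refine ⟨(S.Phat o).mul_mem h.1 h'.1, fun y hy => ?_⟩
  rw [← cj_cj]
  exact h.2 _ (h'.2 y hy)

omit [DecidableEq ι] in
/-- core of the second half of F2: `NP_of_Lg` from the statement of N2p `Lg_cj_mem_Yg` and `Lg o ≤ Phat o` -/
theorem stbf2_NP_of_Lg_core (hLP : S.Lg o ≤ S.Phat o) (hN2p : ∀ z ∈ S.Lg o, ∀ y ∈ S.Yg o, cj z y ∈ S.Yg o)
    {n : G} (hn : n ∈ S.Lg o) : S.NP o n :=
  ⟨hLP hn, hN2p n hn⟩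

omit [DecidableEq ι] in
/-- F15a [S]  `n * (y * p) = cj n y * (n * p)` for `n ∈ NP`: the cells are stable under left multiplication by `w * n * w⁻¹`-type rewriting; the form used below. -/
theorem NP_cell0 {n : G} (hn : S.NP o n) {y p : G} (hy : y ∈ S.Yg o) (hp : p ∈ S.Phat o) : ∃ y₁ ∈ S.Yg o, ∃ p₁ ∈ S.Phat o, n * (y * p) = y₁ * p₁ := by
  refine ⟨cj n y, hn.2 y hy, n * p, (S.Phat o).mul_mem hn.1 hp, ?_⟩
  unfold cj
  group

end F

end SysB

end Cfsg.Agent.Lib.Lead.STB
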