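import Mathlib
import Cfsg.Agent.Lib.Lead.STB.Defs
import Cfsg.Agent.Lib.Lead.STB.Defs3
import Cfsg.Agent.Lib.Helper24.STCI1
import Cfsg.Agent.Lib.Lead.STDB1
import Cfsg.Agent.Lib.Helper16.STDX2
import Cfsg.Agent.Lib.helper6.STDW1
import Cfsg.Agent.Lib.helper6.STBW9
import Cfsg.Agent.Lib.Helper13.STBW11
import Cfsg.Agent.Lib.Helper1.STBW12
import Cfsg.Agent.Lib.helper6.STBW13
import Cfsg.Agent.Lib.Helper22.STBN1
import Cfsg.Agent.Lib.Helper21.STBB3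
import Cfsg.Agent.Lib.Helper21.STBF15a

/-!
# Project STB (designer lead; family S2094), part 2, rows F12 F13 F14 F14b (helper21): the EXPLICIT identities between the Weyl elements (no hypotheses)
and cores of the four existential statements on the statement of N2p `Lg_cj_mem_Yg` (and of F2b `NP_h` for F14b).

* `stbf12_w_mem_Lg`, `stbf12_ws_mem_Lg`: own-name copies of the N1d statements `w_mem_Lg`, `ws_mem_Lg`.
* `stbf12_ww_gen_eq`: `w o k 1 * w o j 1 = w o j 1 * w j k 1`.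
* `stbf13_ww_opp_eq`: `w o k 1 * w o (ng k) 1 = ws o 1 * ws k (-1)`.
* `stbf14_ws_w_eq`: `ws o 1 * w o j 1 = w o j 1 * ws j 1`.
* `stbf14b_w_ws_eq`: `w o k 1 * ws o 1 = w o (ng k) 1 * (h o k (-1) * ws k 1)`  (`[Finite K]`, STD `w_mul_w`).
* `stbf12_ww_gen_core`, `stbf13_ww_opp_core`, `stbf14_ws_w_core`, `stbf14b_w_ws_core`: the conclusions of F12, F13, F14, F14b.
-/

set_option autoImplicit false
set_option linter.unusedSectionVars false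
set_option linter.unusedVariables false

namespace Cfsg.Agent.Lib.Lead.STB

open Cfsg.Agent.Lib.helper15.St2 Cfsg.Agent.Lib.helper3.STC Cfsg.Agent.Lib.Lead.STD

universe v w

namespace SysB

variable {K : Type*} [Field K] {ι : Type*} [DecidableEq ι] {G : Type*} [Group G] (S : SysB K ι G)

section F
variable (o : ι ⊕ ι)

omit [DecidableEq ι] in
/-- own-name copy of the N1d statement `w_mem_Lg` -/
theorem stbf12_w_mem_Lg {a b : ι ⊕ ι} (ha : a ≠ o) (ha' : a ≠ ng o) (hb : b ≠ o) (hb' : b ≠ ng o) (t : K) : S.w a b t ∈ S.Lg o := by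
  show S.x a b t * S.x b a (-t⁻¹) * S.x a b t ∈ S.Lg o
  exact (S.Lg o).mul_mem ((S.Lg o).mul_mem (S.x_mem_Lg o ha ha' hb hb' t) (S.x_mem_Lg o hb hb' ha ha' _)) (S.x_mem_Lg o ha ha' hb hb' t)

omit [DecidableEq ι] in
/-- own-name copy of the N1d statement `ws_mem_Lg` -/
theorem stbf12_ws_mem_Lg {a : ι ⊕ ι} (ha : a ≠ o) (ha' : a ≠ ng o) (t : K) : S.ws a t ∈ S.Lg o := by
  have hn : ng a ≠ o := fun e => ha' (by rw [← e, ng_ng])
  have hn' : ng a ≠ ng o := fun e => ha (ng_inj.mp e)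
  unfold ws
  exact (S.Lg o).mul_mem ((S.Lg o).mul_mem (S.xs_mem_Lg o ha ha' t) (S.xs_mem_Lg o hn hn' _)) (S.xs_mem_Lg o ha ha' t)

/-- F12, the explicit identity: `w o k 1 * w o j 1 = w o j 1 * w j k 1` -/
theorem stbf12_ww_gen_eq {k j : ι ⊕ ι} (hk : k ≠ o) (hk' : k ≠ ng o) (hj : j ≠ o) (hj' : j ≠ ng o) (hkj : k ≠ j) (hkj' : k ≠ ng j) :
    S.w o k 1 * S.w o j 1 = S.w o j 1 * S.w j k 1 := by
  have hm1 : (-1 : K) ≠ 0 := neg_ne_zero.mpr one_ne_zero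
  have hg := S.isMon_w hj.symm (stdw1_ne_ng hj') (-1) hm1
  have h1 := IsMon.cj_w S hg (a := o) (b := k) hk.symm 1 one_ne_zero
  rw [SysD.sws_left hj.symm (stdw1_ne_ng hj'), SysD.sws_of_ne hk hkj hk' hkj'] at h1
  have e1 : dwd o j (-1 : K) o = 1 := by
    simp [dwd, inv_neg]
  have e2 : dwd o j (-1 : K) k = 1 := by
    simp [dwd, hk, hkj, hkj', hk']
  rw [e1, e2, inv_one, mul_one, mul_one] at h1
  rw [← h1]
  show S.w o k 1 * S.w o j 1 = S.w o j 1 * cj (S.toSysD.w o j (-1)) (S.w o k 1)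
  rw [S.toSysD.w_neg, cj]
  group

/-- F13, the explicit identity: `w o k 1 * w o (ng k) 1 = ws o 1 * ws k (-1)` -/
theorem stbf13_ww_opp_eq {k : ι ⊕ ι} (hk : k ≠ o) (hk' : k ≠ ng o) :
    S.w o k 1 * S.w o (ng k) 1 = S.ws o 1 * S.ws k (-1) := by
  have h1 := IsMon.cj_w S (S.isMon_ws k 1 one_ne_zero) (a := o) (b := k) hk.symm 1 one_ne_zero
  rw [swb_of_ne hk.symm (stdw1_ne_ng hk'), swb_self, stbw9_dwb_of_ne hk.symm (stdw1_ne_ng hk'), stbw9_dwb_a] at h1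
  have e1 : (1 : K) * (-((1 : K)⁻¹ ^ 2))⁻¹ * 1 = -1 := by
    simp
  rw [e1] at h1
  have h1' : cj (S.ws k 1) (S.w o k 1) = (S.w o (ng k) 1)⁻¹ := by
    rw [h1]
    exact S.toSysD.w_neg o (ng k) 1
  have h2 := IsMon.cj_ws S (S.isMon_w hk.symm (stdw1_ne_ng hk') 1 one_ne_zero) k 1 one_ne_zero
  rw [SysD.sws_right hk.symm (stdw1_ne_ng hk')] at h2
  have e2 : dwd o k (1 : K) k = 1 := by
    simp [dwd, hk]
  rw [e2, mul_one, mul_one] at h2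
  rw [S.ws_neg, ← h2]
  have e3 : S.w o (ng k) 1 = (cj (S.ws k 1) (S.w o k 1))⁻¹ := by
    rw [h1', inv_inv]
  rw [e3, cj, cj]
  group

/-- F14, the explicit identity: `ws o 1 * w o j 1 = w o j 1 * ws j 1` -/
theorem stbf14_ws_w_eq {j : ι ⊕ ι} (hj : j ≠ o) (hj' : j ≠ ng o) :
    S.ws o 1 * S.w o j 1 = S.w o j 1 * S.ws j 1 := by
  have hm1 : (-1 : K) ≠ 0 := neg_ne_zero.mpr one_ne_zero
  have h2 := IsMon.cj_ws S (S.isMon_w hj.symm (stdw1_ne_ng hj') (-1) hm1) o 1 one_ne_zero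
  rw [SysD.sws_left hj.symm (stdw1_ne_ng hj')] at h2
  have e1 : dwd o j (-1 : K) o = 1 := by
    simp [dwd, inv_neg]
  rw [e1, mul_one, mul_one] at h2
  rw [← h2]
  show S.ws o 1 * S.w o j 1 = S.w o j 1 * cj (S.toSysD.w o j (-1)) (S.ws o 1)
  rw [S.toSysD.w_neg, cj]
  group

/-- F14b, the explicit identity: `w o k 1 * ws o 1 = w o (ng k) 1 * (h o k (-1) * ws k 1)` -/
theorem stbf14b_w_ws_eq [Finite K] {k : ι ⊕ ι} (hk : k ≠ o) (hk' : k ≠ ng o) :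
    S.w o k 1 * S.ws o 1 = S.w o (ng k) 1 * (S.h o k (-1) * S.ws k 1) := by
  have hn : ng k ≠ o := fun e => hk' (by rw [← e, ng_ng])
  have hn' : ng k ≠ ng o := fun e => hk (ng_inj.mp e)
  have hm1 : (-1 : K) ≠ 0 := neg_ne_zero.mpr one_ne_zero
  have hAB := S.stbf13_ww_opp_eq o hk hk'
  have hBA := S.stbf13_ww_opp_eq o hn hn'
  rw [ng_ng, S.ws_swap k (-1) hm1, inv_neg, inv_one] at hBA
  have hAA : S.w o k 1 * S.w o k 1 = S.h o k (-1) := by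
    have := S.toSysD.w_mul_w hk.symm (stdw1_ne_ng hk') 1 1 one_ne_zero one_ne_zero
    rw [inv_one, mul_one] at this
    exact this
  have hr : S.ws k 1 = (S.ws k (-1))⁻¹ := by
    rw [S.ws_neg, inv_inv]
  have hs : S.ws o 1 = S.w o k 1 * S.w o (ng k) 1 * (S.ws k (-1))⁻¹ := by
    rw [hAB]
    group
  have hcomm : S.w o k 1 * S.w o (ng k) 1 = S.w o (ng k) 1 * S.w o k 1 := by
    rw [hAB, hBA]
  rw [← hAA, hr]
  calc S.w o k 1 * S.ws o 1 = S.w o k 1 * (S.w o k 1 * S.w o (ng k) 1) * (S.ws k (-1))⁻¹ := by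
        rw [hs]
        group
    _ = S.w o k 1 * (S.w o (ng k) 1 * S.w o k 1) * (S.ws k (-1))⁻¹ := by
        rw [hcomm]
    _ = (S.w o k 1 * S.w o (ng k) 1) * S.w o k 1 * (S.ws k (-1))⁻¹ := by
        group
    _ = (S.w o (ng k) 1 * S.w o k 1) * S.w o k 1 * (S.ws k (-1))⁻¹ := by
        rw [hcomm]
    _ = S.w o (ng k) 1 * (S.w o k 1 * S.w o k 1 * (S.ws k (-1))⁻¹) := by
        group

/-- core of F12 on the statement of N2p `Lg_cj_mem_Yg` -/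
theorem stbf12_ww_gen_core (hN2p : ∀ z ∈ S.Lg o, ∀ y ∈ S.Yg o, cj z y ∈ S.Yg o)
    {k j : ι ⊕ ι} (hk : k ≠ o) (hk' : k ≠ ng o) (hj : j ≠ o) (hj' : j ≠ ng o) (hkj : k ≠ j) (hkj' : k ≠ ng j) :
    ∃ n, S.NP o n ∧ S.w o k 1 * S.w o j 1 = S.w o j 1 * n :=
  ⟨S.w j k 1, S.stbf2_NP_of_Lg_core o (le_trans (S.Lg_le_Pg o) (S.Pg_le_Phat o)) hN2p (S.stbf12_w_mem_Lg o hj hj' hk hk' 1),
    S.stbf12_ww_gen_eq o hk hk' hj hj' hkj hkj'⟩

/-- core of F13 on the statement of N2p `Lg_cj_mem_Yg` -/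
theorem stbf13_ww_opp_core (hN2p : ∀ z ∈ S.Lg o, ∀ y ∈ S.Yg o, cj z y ∈ S.Yg o)
    {k : ι ⊕ ι} (hk : k ≠ o) (hk' : k ≠ ng o) : ∃ n, S.NP o n ∧ S.w o k 1 * S.w o (ng k) 1 = S.ws o 1 * n :=
  ⟨S.ws k (-1), S.stbf2_NP_of_Lg_core o (le_trans (S.Lg_le_Pg o) (S.Pg_le_Phat o)) hN2p (S.stbf12_ws_mem_Lg o hk hk' (-1)),
    S.stbf13_ww_opp_eq o hk hk'⟩

/-- core of F14 on the statement of N2p `Lg_cj_mem_Yg` -/
theorem stbf14_ws_w_core (hN2p : ∀ z ∈ S.Lg o, ∀ y ∈ S.Yg o, cj z y ∈ S.Yg o)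
    {j : ι ⊕ ι} (hj : j ≠ o) (hj' : j ≠ ng o) : ∃ n, S.NP o n ∧ S.ws o 1 * S.w o j 1 = S.w o j 1 * n :=
  ⟨S.ws j 1, S.stbf2_NP_of_Lg_core o (le_trans (S.Lg_le_Pg o) (S.Pg_le_Phat o)) hN2p (S.stbf12_ws_mem_Lg o hj hj' 1),
    S.stbf14_ws_w_eq o hj hj'⟩

/-- core of F14b on the statements of N2p `Lg_cj_mem_Yg` and F2b `NP_h` (at `t = -1`) -/
theorem stbf14b_w_ws_core [Finite K] (hN2p : ∀ z ∈ S.Lg o, ∀ y ∈ S.Yg o, cj z y ∈ S.Yg o)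
    {k : ι ⊕ ι} (hk : k ≠ o) (hk' : k ≠ ng o) (hNPh : S.NP o (S.h o k (-1))) :
    ∃ n, S.NP o n ∧ S.w o k 1 * S.ws o 1 = S.w o (ng k) 1 * n :=
  ⟨S.h o k (-1) * S.ws k 1,
    S.NP_mul o hNPh (S.stbf2_NP_of_Lg_core o (le_trans (S.Lg_le_Pg o) (S.Pg_le_Phat o)) hN2p (S.stbf12_ws_mem_Lg o hk hk' 1)),
    S.stbf14b_w_ws_eq o hk hk'⟩

end F

end SysB

end Cfsg.Agent.Lib.Lead.STB
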