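import Mathlib
import Cfsg.Agent.Lib.Lead.STB.Defs
import Cfsg.Agent.Lib.Lead.STB.Defs3
import Cfsg.Agent.Lib.Helper22.STBN1
import Cfsg.Agent.Lib.Helper9.STBN2p
import Cfsg.Agent.Lib.Helper5.STBF2b
import Cfsg.Agent.Lib.Helper21.STBF15a
import Cfsg.Agent.Lib.Helper21.STBF12core

/-!
# Project STB (designer lead; family S2094), part 2, rows F2 second half (`NP_of_Lg`), F12 (`ww_gen`), F13 (`ww_opp`), F14 (`ws_w`), F14b (`w_ws`) (helper21), all VERBATIM vs `Lead/STB/Skel2.lean.txt`.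
(`NP_mul`, the first half of F2, and F15a `NP_cell0` are VERBATIM in `Helper21/STBF15a.lean`, imported here.)
The cores / explicit identities are in `Helper21/STBF12core.lean`; cited: N2p `Lg_cj_mem_Yg` (`Helper9/STBN2p.lean`), F2b `NP_h` (`Helper5/STBF2b.lean`), N1b `Lg_le_Pg`, `Pg_le_Phat` (`Helper22/STBN1.lean`).
-/

set_option autoImplicit false
set_option linter.unusedSectionVars false
set_option linter.unusedVariables false

namespace Cfsg.Agent.Lib.Lead.STB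

open Cfsg.Agent.Lib.helper15.St2 Cfsg.Agent.Lib.helper3.STC Cfsg.Agent.Lib.Lead.STD

universe v w

namespace SysB

variable {K : Type*} [Field K] {ι : Type*} [DecidableEq ι] {G : Type*} [Group G] (S : SysB K ι G)

section F
variable (o : ι ⊕ ι)

omit [DecidableEq ι] in
theorem NP_of_Lg {n : G} (hn : n ∈ S.Lg o) : S.NP o n :=
  S.stbf2_NP_of_Lg_core o (le_trans (S.Lg_le_Pg o) (S.Pg_le_Phat o)) (S.Lg_cj_mem_Yg o) hn

/-- F12 [M]  generic case (model STD F12 `ww_gen`, `Helper21.STDF12`): `n = w j k c`, `c ≠ 0`, from `IsMon.cj_w` for `w o j (-1) = (w o j 1)⁻¹`; `w_mem_Lg`, `NP_of_Lg`. -/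
theorem ww_gen {k j : ι ⊕ ι} (hk : k ≠ o) (hk' : k ≠ ng o) (hj : j ≠ o) (hj' : j ≠ ng o) (hkj : k ≠ j) (hkj' : k ≠ ng j) :
    ∃ n, S.NP o n ∧ S.w o k 1 * S.w o j 1 = S.w o j 1 * n :=
  S.stbf12_ww_gen_core o (S.Lg_cj_mem_Yg o) hk hk' hj hj' hkj hkj'

/-- F13 [M]  TYPE `B`: `w o k 1 * w o (ng k) 1 = ws o 1 * ws k (-1)`. -/
theorem ww_opp {k : ι ⊕ ι} (hk : k ≠ o) (hk' : k ≠ ng o) : ∃ n, S.NP o n ∧ S.w o k 1 * S.w o (ng k) 1 = S.ws o 1 * n :=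
  S.stbf13_ww_opp_core o (S.Lg_cj_mem_Yg o) hk hk'

/-- F14 [S-M]  `ws o 1 * w o j 1 = w o j 1 * ws j 1`. -/
theorem ws_w {j : ι ⊕ ι} (hj : j ≠ o) (hj' : j ≠ ng o) : ∃ n, S.NP o n ∧ S.ws o 1 * S.w o j 1 = S.w o j 1 * n :=
  S.stbf14_ws_w_core o (S.Lg_cj_mem_Yg o) hj hj'

/-- F14b [M]  `w o k 1 * ws o 1 = w o (ng k) 1 * n`, `n = h o k (-1) * ws k 1`. -/
theorem w_ws [Finite K] {k : ι ⊕ ι} (hk : k ≠ o) (hk' : k ≠ ng o) : ∃ n, S.NP o n ∧ S.w o k 1 * S.ws o 1 = S.w o (ng k) 1 * n :=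
  S.stbf14b_w_ws_core o (S.Lg_cj_mem_Yg o) hk hk' (S.NP_h o hk hk' (neg_ne_zero.mpr one_ne_zero))

end F

end SysB

end Cfsg.Agent.Lib.Lead.STB
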