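import Mathlib
import Cfsg.Agent.Lib.helper17.STM.Defs
import Cfsg.Agent.Lib.helper17.STM.Defs2
import Cfsg.Agent.Lib.Helper24.STCI1
import Cfsg.Agent.Lib.Lead.STDB1
import Cfsg.Agent.Lib.Helper16.STDX2
import Cfsg.Agent.Lib.helper6.STDW1
import Cfsg.Agent.Lib.Helper20.STMN1
import Cfsg.Agent.Lib.Helper21.STMB2
import Cfsg.Agent.Lib.Helper21.STMW9
import Cfsg.Agent.Lib.Helper21.STMW11
import Cfsg.Agent.Lib.Helper21.STMW13
import Cfsg.Agent.Lib.Helper21.STMF15a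

/-!
# Project STM (designer helper17; family S2099), part 2, rows F12 F13 F14 F14b (helper21): the EXPLICIT identities between the Weyl elements
(hypothesis: the statement of W12 `isMon_w`, `hW12`) and cores of the four existential statements on the statements of W12, N2p `Lg_cj_mem_Yg` (and of F2b `NP_h` for F14b).
Port of `Helper21.STBF12core`.

* `stmf12_ww_gen_eq`: `w o k 1 * w o j 1 = w o j 1 * w j k 1`.
* `stmf13_ww_opp_eq`: `w o k 1 * w o (ng k) 1 = ws o 1 * ws k (-1)`.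
* `stmf14_ws_w_eq`: `ws o 1 * w o j 1 = w o j 1 * ws j 1`.
* `stmf14b_w_ws_eq`: `w o k 1 * ws o 1 = w o (ng k) 1 * (h o k (-1) * ws k 1)`  (`[Finite F]`, STD `w_mul_w`).
* `stmf12_ww_gen_core`, `stmf13_ww_opp_core`, `stmf14_ws_w_core`, `stmf14b_w_ws_core`: the conclusions of F12, F13, F14, F14b.
-/

set_option autoImplicit false
set_option linter.unusedSectionVars false
set_option linter.unusedVariables false

namespace Cfsg.Agent.Lib.helper17.STM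

open Cfsg.Agent.Lib.helper15.St2 Cfsg.Agent.Lib.helper3.STC Cfsg.Agent.Lib.Lead.STD

universe v w

namespace SysM

variable {F : Type*} [Field F] {A B : F} [Fact (∀ r : F, r ^ 2 ≠ -B + A * r)] {ι : Type*} [DecidableEq ι] {G : Type*} [Group G] (S : SysM F A B ι G)

section F
variable (o : ι ⊕ ι)

/-- F12, the explicit identity: `w o k 1 * w o j 1 = w o j 1 * w j k 1` -/
theorem stmf12_ww_gen_eq
    (hW12 : ∀ {a b : ι ⊕ ι}, a ≠ b → a ≠ ng b → ∀ u : F, u ≠ 0 → S.IsMon (S.w a b u) (sws a b) (dwd a b u) 1 false)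
    {k j : ι ⊕ ι} (hk : k ≠ o) (hk' : k ≠ ng o) (hj : j ≠ o) (hj' : j ≠ ng o) (hkj : k ≠ j) (hkj' : k ≠ ng j) :
    S.w o k 1 * S.w o j 1 = S.w o j 1 * S.w j k 1 := by
  have hm1 : (-1 : F) ≠ 0 := neg_ne_zero.mpr one_ne_zero
  have hg := hW12 hj.symm (stdw1_ne_ng hj') (-1) hm1
  have h1 := IsMon.cj_w S hg (a := o) (b := k) hk.symm 1 one_ne_zero
  rw [SysD.sws_left hj.symm (stdw1_ne_ng hj'), SysD.sws_of_ne hk hkj hk' hkj'] at h1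
  have e1 : dwd o j (-1 : F) o = 1 := by
    simp [dwd, inv_neg]
  have e2 : dwd o j (-1 : F) k = 1 := by
    simp [dwd, hk, hkj, hkj', hk']
  rw [e1, e2, inv_one, mul_one, mul_one] at h1
  rw [← h1]
  show S.w o k 1 * S.w o j 1 = S.w o j 1 * cj (S.toSysD.w o j (-1)) (S.w o k 1)
  rw [S.toSysD.w_neg, cj]
  group

/-- F13, the explicit identity: `w o k 1 * w o (ng k) 1 = ws o 1 * ws k (-1)` -/
theorem stmf13_ww_opp_eq
    (hW12 : ∀ {a b : ι ⊕ ι}, a ≠ b → a ≠ ng b → ∀ u : F, u ≠ 0 → S.IsMon (S.w a b u) (sws a b) (dwd a b u) 1 false)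
    {k : ι ⊕ ι} (hk : k ≠ o) (hk' : k ≠ ng o) :
    S.w o k 1 * S.w o (ng k) 1 = S.ws o 1 * S.ws k (-1) := by
  have h1 := IsMon.cj_w S (S.isMon_ws k 1 one_ne_zero) (a := o) (b := k) hk.symm 1 one_ne_zero
  rw [swb_of_ne hk.symm (stdw1_ne_ng hk'), swb_self, stmw9_dwb_of_ne hk.symm (stdw1_ne_ng hk'), stmw9_dwb_a] at h1
  have e1 : (1 : F) * (-(nm (1 : Kq F A B))⁻¹)⁻¹ * 1 = -1 := by
    simp
  rw [e1] at h1
  have h1' : cj (S.ws k 1) (S.w o k 1) = (S.w o (ng k) 1)⁻¹ := by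
    rw [h1]
    exact S.toSysD.w_neg o (ng k) 1
  have h2 := IsMon.cj_ws S (hW12 hk.symm (stdw1_ne_ng hk') 1 one_ne_zero) k 1 one_ne_zero
  rw [SysD.sws_right hk.symm (stdw1_ne_ng hk')] at h2
  have e2 : dwd o k (1 : F) k = 1 := by
    simp [dwd, hk]
  rw [e2, one_mul, tw_false, one_smul] at h2
  rw [S.ws_neg, ← h2]
  have e3 : S.w o (ng k) 1 = (cj (S.ws k 1) (S.w o k 1))⁻¹ := by
    rw [h1', inv_inv]
  rw [e3, cj, cj]
  group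

/-- F14, the explicit identity: `ws o 1 * w o j 1 = w o j 1 * ws j 1` -/
theorem stmf14_ws_w_eq
    (hW12 : ∀ {a b : ι ⊕ ι}, a ≠ b → a ≠ ng b → ∀ u : F, u ≠ 0 → S.IsMon (S.w a b u) (sws a b) (dwd a b u) 1 false)
    {j : ι ⊕ ι} (hj : j ≠ o) (hj' : j ≠ ng o) :
    S.ws o 1 * S.w o j 1 = S.w o j 1 * S.ws j 1 := by
  have hm1 : (-1 : F) ≠ 0 := neg_ne_zero.mpr one_ne_zero
  have h2 := IsMon.cj_ws S (hW12 hj.symm (stdw1_ne_ng hj') (-1) hm1) o 1 one_ne_zero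
  rw [SysD.sws_left hj.symm (stdw1_ne_ng hj')] at h2
  have e1 : dwd o j (-1 : F) o = 1 := by
    simp [dwd, inv_neg]
  rw [e1, one_mul, tw_false, one_smul] at h2
  rw [← h2]
  show S.ws o 1 * S.w o j 1 = S.w o j 1 * cj (S.toSysD.w o j (-1)) (S.ws o 1)
  rw [S.toSysD.w_neg, cj]
  group

/-- F14b, the explicit identity: `w o k 1 * ws o 1 = w o (ng k) 1 * (h o k (-1) * ws k 1)` -/
theorem stmf14b_w_ws_eq [Finite F]
    (hW12 : ∀ {a b : ι ⊕ ι}, a ≠ b → a ≠ ng b → ∀ u : F, u ≠ 0 → S.IsMon (S.w a b u) (sws a b) (dwd a b u) 1 false)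
    {k : ι ⊕ ι} (hk : k ≠ o) (hk' : k ≠ ng o) :
    S.w o k 1 * S.ws o 1 = S.w o (ng k) 1 * (S.h o k (-1) * S.ws k 1) := by
  have hn : ng k ≠ o := fun e => hk' (by rw [← e, ng_ng])
  have hn' : ng k ≠ ng o := fun e => hk (ng_inj.mp e)
  have hm1 : (-1 : Kq F A B) ≠ 0 := neg_ne_zero.mpr one_ne_zero
  have hAB := S.stmf13_ww_opp_eq o hW12 hk hk'
  have hBA := S.stmf13_ww_opp_eq o hW12 hn hn'
  rw [ng_ng, S.ws_swap k (-1) hm1, star_neg, star_one, inv_neg, inv_one] at hBA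
  have hAA : S.w o k 1 * S.w o k 1 = S.h o k (-1) := by
    have := S.toSysD.w_mul_w hk.symm (stdw1_ne_ng hk') 1 1 one_ne_zero one_ne_zero
    rw [inv_one, mul_one] at this
    exact this
  have hr : S.ws k 1 = (S.ws k (-1))⁻¹ := by
    rw [S.ws_neg, inv_inv]
  have hs : S.ws o 1 = S.w o k 1 * S.w o (ng k) 1 * (S.ws k (-1))⁻¹ := by
    rw [hAB]
    group
  have hcomm : S.w o k 1 * S.w o (ng k) 1 = S.w o (ng k) 1 * S.w o k 1 := by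
    rw [hAB, hBA]
  rw [← hAA, hr]
  calc S.w o k 1 * S.ws o 1 = S.w o k 1 * (S.w o k 1 * S.w o (ng k) 1) * (S.ws k (-1))⁻¹ := by
        rw [hs]
        group
    _ = S.w o k 1 * (S.w o (ng k) 1 * S.w o k 1) * (S.ws k (-1))⁻¹ := by
        rw [hcomm]
    _ = (S.w o k 1 * S.w o (ng k) 1) * S.w o k 1 * (S.ws k (-1))⁻¹ := by
        group
    _ = (S.w o (ng k) 1 * S.w o k 1) * S.w o k 1 * (S.ws k (-1))⁻¹ := by
        rw [hcomm]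
    _ = S.w o (ng k) 1 * (S.w o k 1 * S.w o k 1 * (S.ws k (-1))⁻¹) := by
        group

/-- core of F12 on the statements of W12 `isMon_w` and N2p `Lg_cj_mem_Yg` -/
theorem stmf12_ww_gen_core
    (hW12 : ∀ {a b : ι ⊕ ι}, a ≠ b → a ≠ ng b → ∀ u : F, u ≠ 0 → S.IsMon (S.w a b u) (sws a b) (dwd a b u) 1 false)
    (hN2p : ∀ z ∈ S.Lg o, ∀ y ∈ S.Yg o, cj z y ∈ S.Yg o)
    {k j : ι ⊕ ι} (hk : k ≠ o) (hk' : k ≠ ng o) (hj : j ≠ o) (hj' : j ≠ ng o) (hkj : k ≠ j) (hkj' : k ≠ ng j) :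
    ∃ n, S.NP o n ∧ S.w o k 1 * S.w o j 1 = S.w o j 1 * n :=
  ⟨S.w j k 1, S.stmf2_NP_of_Lg_core o (le_trans (S.Lg_le_Pg o) (S.Pg_le_Phat o)) hN2p (S.w_mem_Lg o hj hj' hk hk' 1),
    S.stmf12_ww_gen_eq o hW12 hk hk' hj hj' hkj hkj'⟩

/-- core of F13 on the statements of W12 `isMon_w` and N2p `Lg_cj_mem_Yg` -/
theorem stmf13_ww_opp_core
    (hW12 : ∀ {a b : ι ⊕ ι}, a ≠ b → a ≠ ng b → ∀ u : F, u ≠ 0 → S.IsMon (S.w a b u) (sws a b) (dwd a b u) 1 false)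
    (hN2p : ∀ z ∈ S.Lg o, ∀ y ∈ S.Yg o, cj z y ∈ S.Yg o)
    {k : ι ⊕ ι} (hk : k ≠ o) (hk' : k ≠ ng o) : ∃ n, S.NP o n ∧ S.w o k 1 * S.w o (ng k) 1 = S.ws o 1 * n :=
  ⟨S.ws k (-1), S.stmf2_NP_of_Lg_core o (le_trans (S.Lg_le_Pg o) (S.Pg_le_Phat o)) hN2p (S.ws_mem_Lg o hk hk' (-1)),
    S.stmf13_ww_opp_eq o hW12 hk hk'⟩

/-- core of F14 on the statements of W12 `isMon_w` and N2p `Lg_cj_mem_Yg` -/
theorem stmf14_ws_w_core
    (hW12 : ∀ {a b : ι ⊕ ι}, a ≠ b → a ≠ ng b → ∀ u : F, u ≠ 0 → S.IsMon (S.w a b u) (sws a b) (dwd a b u) 1 false)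
    (hN2p : ∀ z ∈ S.Lg o, ∀ y ∈ S.Yg o, cj z y ∈ S.Yg o)
    {j : ι ⊕ ι} (hj : j ≠ o) (hj' : j ≠ ng o) : ∃ n, S.NP o n ∧ S.ws o 1 * S.w o j 1 = S.w o j 1 * n :=
  ⟨S.ws j 1, S.stmf2_NP_of_Lg_core o (le_trans (S.Lg_le_Pg o) (S.Pg_le_Phat o)) hN2p (S.ws_mem_Lg o hj hj' 1),
    S.stmf14_ws_w_eq o hW12 hj hj'⟩

/-- core of F14b on the statements of W12 `isMon_w`, N2p `Lg_cj_mem_Yg` and F2b `NP_h` (at `t = -1`) -/
theorem stmf14b_w_ws_core [Finite F]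
    (hW12 : ∀ {a b : ι ⊕ ι}, a ≠ b → a ≠ ng b → ∀ u : F, u ≠ 0 → S.IsMon (S.w a b u) (sws a b) (dwd a b u) 1 false)
    (hN2p : ∀ z ∈ S.Lg o, ∀ y ∈ S.Yg o, cj z y ∈ S.Yg o)
    {k : ι ⊕ ι} (hk : k ≠ o) (hk' : k ≠ ng o) (hNPh : S.NP o (S.h o k (-1))) :
    ∃ n, S.NP o n ∧ S.w o k 1 * S.ws o 1 = S.w o (ng k) 1 * n :=
  ⟨S.h o k (-1) * S.ws k 1,
    S.NP_mul o hNPh (S.stmf2_NP_of_Lg_core o (le_trans (S.Lg_le_Pg o) (S.Pg_le_Phat o)) hN2p (S.ws_mem_Lg o hk hk' 1)),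
    S.stmf14b_w_ws_eq o hW12 hk hk'⟩

end F

end SysM

end Cfsg.Agent.Lib.helper17.STM
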