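import Mathlib
import Cfsg.Agent.Lib.helper17.STM.Defs
import Cfsg.Agent.Lib.helper17.STM.Defs2
import Cfsg.Agent.Lib.Helper20.STMN1
import Cfsg.Agent.Lib.Helper9.STMN2p
import Cfsg.Agent.Lib.Helper21.STMW12
import Cfsg.Agent.Lib.Helper21.STMF15a
import Cfsg.Agent.Lib.Helper21.STMF12core

/-!
# Project STM (designer helper17; family S2099), part 2, rows F2 second half (`NP_of_Lg`), F12 (`ww_gen`), F13 (`ww_opp`), F14 (`ws_w`) (helper21), all VERBATIM vs `helper17/STM/Skel2.lean.txt`.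
(`NP_mul`, the first half of F2, and F15a `NP_cell0` are VERBATIM in `Helper21/STMF15a.lean`, imported here.)
The cores / explicit identities are in `Helper21/STMF12core.lean`; cited: W12 `isMon_w` (`Helper21/STMW12.lean`), N2p `Lg_cj_mem_Yg` (`Helper9/STMN2p.lean`), N1b `Lg_le_Pg`, `Pg_le_Phat` (`Helper20/STMN1.lean`).
-/

set_option autoImplicit false
set_option linter.unusedSectionVars false
set_option linter.unusedVariables false

namespace Cfsg.Agent.Lib.helper17.STM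

open Cfsg.Agent.Lib.helper15.St2 Cfsg.Agent.Lib.helper3.STC Cfsg.Agent.Lib.Lead.STD

universe v w

namespace SysM

variable {F : Type*} [Field F] {A B : F} [Fact (∀ r : F, r ^ 2 ≠ -B + A * r)] {ι : Type*} [DecidableEq ι] {G : Type*} [Group G] (S : SysM F A B ι G)

section F
variable (o : ι ⊕ ι)

omit [DecidableEq ι] in
theorem NP_of_Lg {n : G} (hn : n ∈ S.Lg o) : S.NP o n :=
  S.stmf2_NP_of_Lg_core o (le_trans (S.Lg_le_Pg o) (S.Pg_le_Phat o)) (S.Lg_cj_mem_Yg o) hn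

/-- F12 [M]  generic case: `n = w j k 1` (`stmf12_ww_gen_eq`). -/
theorem ww_gen {k j : ι ⊕ ι} (hk : k ≠ o) (hk' : k ≠ ng o) (hj : j ≠ o) (hj' : j ≠ ng o) (hkj : k ≠ j) (hkj' : k ≠ ng j) :
    ∃ n, S.NP o n ∧ S.w o k 1 * S.w o j 1 = S.w o j 1 * n :=
  S.stmf12_ww_gen_core o (fun {_ _} h h' u hu => S.isMon_w h h' u hu) (S.Lg_cj_mem_Yg o) hk hk' hj hj' hkj hkj'

/-- F13 [M]  `w o k 1 * w o (ng k) 1 = ws o 1 * ws k (-1)` (`stmf13_ww_opp_eq`). -/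
theorem ww_opp {k : ι ⊕ ι} (hk : k ≠ o) (hk' : k ≠ ng o) : ∃ n, S.NP o n ∧ S.w o k 1 * S.w o (ng k) 1 = S.ws o 1 * n :=
  S.stmf13_ww_opp_core o (fun {_ _} h h' u hu => S.isMon_w h h' u hu) (S.Lg_cj_mem_Yg o) hk hk'

/-- F14 [S-M]  `ws o 1 * w o j 1 = w o j 1 * ws j 1` (`stmf14_ws_w_eq`). -/
theorem ws_w {j : ι ⊕ ι} (hj : j ≠ o) (hj' : j ≠ ng o) : ∃ n, S.NP o n ∧ S.ws o 1 * S.w o j 1 = S.w o j 1 * n :=
  S.stmf14_ws_w_core o (fun {_ _} h h' u hu => S.isMon_w h h' u hu) (S.Lg_cj_mem_Yg o) hj hj'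

end F

end SysM

end Cfsg.Agent.Lib.helper17.STM
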