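import Mathlib
import Cfsg.Agent.Lib.helper17.STM.Defs
import Cfsg.Agent.Lib.helper17.STM.Defs2
import Cfsg.Agent.Lib.Helper20.STMH2
import Cfsg.Agent.Lib.Helper20.STMN1
import Cfsg.Agent.Lib.Helper9.STMN3

/-!
# Project STM (designer helper17; S2099 family), row F2b `SysM.NP_h`, `SysM.NP_hs`, VERBATIM (helper21; port of `Helper5.STBF2b`):
H2 (`Helper20.STMH2`), N1d (`Helper20.STMN1`), N3 (`Helper9.STMN3`).
-/

set_option autoImplicit false
set_option linter.unusedSectionVars false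

namespace Cfsg.Agent.Lib.helper17.STM

open Cfsg.Agent.Lib.helper15.St2 Cfsg.Agent.Lib.helper3.STC Cfsg.Agent.Lib.Lead.STD

universe v w

namespace SysM

variable {F : Type*} [Field F] {A B : F} [Fact (∀ r : F, r ^ 2 ≠ -B + A * r)] {ι : Type*} [DecidableEq ι] {G : Type*} [Group G] (S : SysM F A B ι G)

section F
variable (o : ι ⊕ ι)

/-- F2b [S-M]  the generators of `Hg o` are in `NP` (H2 `isMon_h`, `isMon_hs` with `σ = 1`, N3). -/
theorem NP_h [Finite F] {b : ι ⊕ ι} (hb : b ≠ o) (hb' : b ≠ ng o) {t : F} (ht : t ≠ 0) : S.NP o (S.h o b t) :=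
  ⟨S.h_mem_Phat o hb hb' ht,
    SysM.IsMon.cj_mem_Yg S o (S.isMon_h (a := o) (b := b) (fun e => hb e.symm)
      (fun e => hb' (by rw [e, Cfsg.Agent.Lib.helper3.STC.ng_ng])) t ht) (Equiv.Perm.one_apply o)⟩

theorem NP_hs [Finite F] {t : Kq F A B} (ht : t ≠ 0) : S.NP o (S.hs o t) :=
  ⟨S.hs_mem_Phat o ht, SysM.IsMon.cj_mem_Yg S o (S.isMon_hs o t ht) (Equiv.Perm.one_apply o)⟩

end F

end SysM

end Cfsg.Agent.Lib.helper17.STM
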