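import Cfsg.Agent.Lib.helper15.SUn.Iso
import Cfsg.Agent.Lib.Helper28.UGen2
import Cfsg.Agent.Lib.Helper28.UHerm
import Cfsg.Agent.S0780

/-!
# SUn-P7 (project S2282): existence of a hyperbolic frame for the standard hermitian form
-/

set_option autoImplicit false

namespace Cfsg.Agent.Lib.Helper21.SUnP7

open Matrix Cfsg.Agent.Lib.helper15.SUn Cfsg.Agent.Lib.Helper28.UGen Cfsg.Agent.Lib.Helper28.UForm

variable {F : Type*} [Field F] [Fintype F] {n : ℕ} {q : ℕ} {σ : F ≃+* F}

/-- the inductive data: `j` pairwise orthogonal hyperbolic pairs, enumerated by a non-degenerate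
family `a`. -/
structure Part (f : (Fin n → F) → (Fin n → F) → F) (j : ℕ) (E Fv : ℕ → Fin n → F)
    {k : ℕ} (a : Fin k → (Fin n → F)) : Prop where
  hk : k = 2 * j
  nd : Nd f a
  perp : ∀ v, Perp f a v ↔ ∀ i, i < j → f v (E i) = 0 ∧ f v (Fv i) = 0
  ee : ∀ i i', i < j → i' < j → f (E i) (E i') = 0
  ff : ∀ i i', i < j → i' < j → f (Fv i) (Fv i') = 0
  fe : ∀ i i', i < j → i' < j → f (Fv i) (E i') = if i = i' then 1 else 0

theorem part_zero {f : (Fin n → F) → (Fin n → F) → F} (hf : Cfsg.Geo.IsUnitaryForm σ f) :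
    ∃ (E Fv : ℕ → Fin n → F) (k : ℕ) (a : Fin k → (Fin n → F)), Part f 0 E Fv a := by
  refine ⟨fun _ => 0, fun _ => 0, 0, Fin.elim0, ⟨rfl, ⟨?_, ?_⟩, ?_, ?_, ?_, ?_⟩⟩
  · exact linearIndependent_empty_type
  · intro v hv _
    have : Set.range (Fin.elim0 : Fin 0 → (Fin n → F)) = ∅ := Set.range_eq_empty _
    rw [this, Submodule.span_empty, Submodule.mem_bot] at hv
    exact hv
  · intro v
    constructor
    · intro _ i hi; omega
    · intro _ i; exact i.elim0
  · intro i i' hi; omega
  · intro i i' hi; omega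
  · intro i i' hi; omega

theorem part_succ {f : (Fin n → F) → (Fin n → F) → F} (hf : Cfsg.Geo.IsUnitaryForm σ f)
    (j : ℕ) (hj : 2 * j + 2 ≤ n) {E Fv : ℕ → Fin n → F} {k : ℕ} {a : Fin k → (Fin n → F)}
    (hP : Part f j E Fv a) :
    ∃ (E' Fv' : ℕ → Fin n → F) (k' : ℕ) (a' : Fin k' → (Fin n → F)), Part f (j + 1) E' Fv' a' := by
  have hk := hP.hk
  obtain ⟨u, v, huu, hvv, hvu, hua, hva⟩ := ex_hyp hf a hP.nd (by omega)
  have huv : f u v = 1 := by rw [hf.herm, hvu, map_one]
  have huE := (hP.perp u).mp hua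
  have hvE := (hP.perp v).mp hva
  refine ⟨Function.update E j u, Function.update Fv j v, k + 1 + 1,
    (Fin.cons u (Fin.cons v a) : Fin (k + 1 + 1) → (Fin n → F)), ⟨by omega, ?_, ?_, ?_, ?_, ?_⟩⟩
  · exact nd_cons2 hf a hP.nd u v hua hva huu hvv (by rw [hvu]; exact one_ne_zero)
  · intro w
    rw [perp_cons, perp_cons, hP.perp w]
    constructor
    · rintro ⟨hwu, hwv, hw⟩ i hi
      by_cases hij : i = j
      · subst hij
        rw [Function.update_self, Function.update_self]
        exact ⟨hwu, hwv⟩
      · rw [Function.update_of_ne hij, Function.update_of_ne hij]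
        exact hw i (by omega)
    · intro h
      have hjj := h j (by omega)
      rw [Function.update_self, Function.update_self] at hjj
      refine ⟨hjj.1, hjj.2, fun i hi => ?_⟩
      have hij : i ≠ j := by omega
      have := h i (by omega)
      rw [Function.update_of_ne hij, Function.update_of_ne hij] at this
      exact this
  · intro i i' hi hi'
    by_cases hij : i = j
    · subst hij
      rw [Function.update_self]
      by_cases hij' : i' = i
      · subst hij'
        rw [Function.update_self]; exact huu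
      · rw [Function.update_of_ne hij']
        exact (huE i' (by omega)).1
    · rw [Function.update_of_ne hij]
      by_cases hij' : i' = j
      · subst hij'
        rw [Function.update_self]
        exact f_swap_zero hf (huE i (by omega)).1
      · rw [Function.update_of_ne hij']
        exact hP.ee i i' (by omega) (by omega)
  · intro i i' hi hi'
    by_cases hij : i = j
    · subst hij
      rw [Function.update_self]
      by_cases hij' : i' = i
      · subst hij'
        rw [Function.update_self]; exact hvv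
      · rw [Function.update_of_ne hij']
        exact (hvE i' (by omega)).2
    · rw [Function.update_of_ne hij]
      by_cases hij' : i' = j
      · subst hij'
        rw [Function.update_self]
        exact f_swap_zero hf (hvE i (by omega)).2
      · rw [Function.update_of_ne hij']
        exact hP.ff i i' (by omega) (by omega)
  · intro i i' hi hi'
    by_cases hij : i = j
    · subst hij
      rw [Function.update_self]
      by_cases hij' : i' = i
      · subst hij'
        rw [Function.update_self, if_pos rfl]; exact hvu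
      · rw [Function.update_of_ne hij', if_neg (Ne.symm hij')]
        exact (hvE i' (by omega)).1
    · rw [Function.update_of_ne hij]
      by_cases hij' : i' = j
      · subst hij'
        rw [Function.update_self, if_neg hij]
        exact f_swap_zero hf (huE i (by omega)).2
      · rw [Function.update_of_ne hij']
        exact hP.fe i i' (by omega) (by omega)

theorem part_all {f : (Fin n → F) → (Fin n → F) → F} (hf : Cfsg.Geo.IsUnitaryForm σ f)
    (m : ℕ) (hn : n = 2 * m + 1) :
    ∀ j, j ≤ m → ∃ (E Fv : ℕ → Fin n → F) (k : ℕ) (a : Fin k → (Fin n → F)), Part f j E Fv a := by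
  intro j
  induction j with
  | zero => intro _; exact part_zero hf
  | succ j ih =>
    intro hj
    obtain ⟨E, Fv, k, a, hP⟩ := ih (by omega)
    exact part_succ hf j (by omega) hP

/-- abstract form of the frame for an arbitrary unitary form -/
theorem exists_frame_aux {f : (Fin n → F) → (Fin n → F) → F} (hf : Cfsg.Geo.IsUnitaryForm σ f)
    (m : ℕ) (hn : n = 2 * m + 1) :
    ∃ (E Fv : ℕ → Fin n → F) (d : Fin n → F),
      (∀ i j, i < m → j < m → f (E i) (E j) = 0) ∧
      (∀ i j, i < m → j < m → f (Fv i) (Fv j) = 0) ∧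
      (∀ i j, i < m → j < m → f (E i) (Fv j) = if i = j then 1 else 0) ∧
      (∀ i j, i < m → j < m → f (Fv i) (E j) = if i = j then 1 else 0) ∧
      f d d = 1 ∧
      (∀ i, i < m → f (E i) d = 0) ∧ (∀ i, i < m → f d (E i) = 0) ∧
      (∀ i, i < m → f (Fv i) d = 0) ∧ (∀ i, i < m → f d (Fv i) = 0) ∧
      (∀ x : Fin n → F, x = (∑ i ∈ Finset.range m, (f x (Fv i) • E i + f x (E i) • Fv i)) +
        f x d • d) := by
  obtain ⟨E, Fv, k, a, hP⟩ := part_all hf m hn m le_rfl
  have hk := hP.hk
  obtain ⟨s, hsa, hss⟩ := exists_noniso_perp hf a hP.nd (by omega)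
  have hfix : σ ((f s s)⁻¹) = (f s s)⁻¹ := by rw [map_inv₀, f_self_fixed hf]
  obtain ⟨c, hc⟩ := norm_surj hf _ hfix
  have hsE := (hP.perp s).mp hsa
  obtain ⟨d, hd⟩ : ∃ d, d = c • s := ⟨_, rfl⟩
  have hdd : f d d = 1 := by
    rw [hd, hf.smul_left, f_smul_right hf, ← mul_assoc, hc, inv_mul_cancel₀ hss]
  have hdE : ∀ i, i < m → f d (E i) = 0 := by
    intro i hi; rw [hd, hf.smul_left, (hsE i hi).1, mul_zero]
  have hdF : ∀ i, i < m → f d (Fv i) = 0 := by
    intro i hi; rw [hd, hf.smul_left, (hsE i hi).2, mul_zero]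
  have hda : Perp f a d := (hP.perp d).mpr (fun i hi => ⟨hdE i hi, hdF i hi⟩)
  have hnd := nd_cons1 hf a hP.nd d hda (by rw [hdd]; exact one_ne_zero)
  have hef : ∀ i j, i < m → j < m → f (E i) (Fv j) = if i = j then 1 else 0 := by
    intro i j hi hj
    rw [hf.herm, hP.fe j i hj hi]
    by_cases hij : i = j
    · subst hij; rw [if_pos rfl, map_one]
    · rw [if_neg hij, if_neg (Ne.symm hij), map_zero]
  refine ⟨E, Fv, d, hP.ee, hP.ff, hef, hP.fe, hdd, fun i hi => f_swap_zero hf (hdE i hi), hdE,
    fun i hi => f_swap_zero hf (hdF i hi), hdF, ?_⟩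
  intro x
  have h0 : x - ((∑ i ∈ Finset.range m, (f x (Fv i) • E i + f x (E i) • Fv i)) + f x d • d) = 0 := by
    apply perp_full _ hnd (by omega)
    rw [perp_cons, hP.perp]
    have hsumE : ∀ i0, i0 < m →
        f (∑ i ∈ Finset.range m, (f x (Fv i) • E i + f x (E i) • Fv i)) (E i0) = f x (E i0) := by
      intro i0 hi0
      rw [f_sum_left hf]
      have hterm : ∀ i ∈ Finset.range m, f (f x (Fv i) • E i + f x (E i) • Fv i) (E i0) =
          if i = i0 then f x (E i0) else 0 := by
        intro i hi
        have him : i < m := Finset.mem_range.mp hi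
        rw [hf.add_left, hf.smul_left, hf.smul_left, hP.ee i i0 him hi0, hP.fe i i0 him hi0]
        by_cases hii : i = i0
        · subst hii; rw [if_pos rfl, if_pos rfl]; ring
        · rw [if_neg hii, if_neg hii]; ring
      rw [Finset.sum_congr rfl hterm, Finset.sum_ite_eq' (Finset.range m) i0,
        if_pos (Finset.mem_range.mpr hi0)]
    have hsumF : ∀ i0, i0 < m →
        f (∑ i ∈ Finset.range m, (f x (Fv i) • E i + f x (E i) • Fv i)) (Fv i0) = f x (Fv i0) := by
      intro i0 hi0
      rw [f_sum_left hf]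
      have hterm : ∀ i ∈ Finset.range m, f (f x (Fv i) • E i + f x (E i) • Fv i) (Fv i0) =
          if i = i0 then f x (Fv i0) else 0 := by
        intro i hi
        have him : i < m := Finset.mem_range.mp hi
        rw [hf.add_left, hf.smul_left, hf.smul_left, hP.ff i i0 him hi0, hef i i0 him hi0]
        by_cases hii : i = i0
        · subst hii; rw [if_pos rfl, if_pos rfl]; ring
        · rw [if_neg hii, if_neg hii]; ring
      rw [Finset.sum_congr rfl hterm, Finset.sum_ite_eq' (Finset.range m) i0,
        if_pos (Finset.mem_range.mpr hi0)]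
    have hsumd : f (∑ i ∈ Finset.range m, (f x (Fv i) • E i + f x (E i) • Fv i)) d = 0 := by
      rw [f_sum_left hf]
      apply Finset.sum_eq_zero
      intro i hi
      have him : i < m := Finset.mem_range.mp hi
      rw [hf.add_left, hf.smul_left, hf.smul_left, f_swap_zero hf (hdE i him),
        f_swap_zero hf (hdF i him)]
      ring
    refine ⟨?_, fun i0 hi0 => ⟨?_, ?_⟩⟩
    · rw [f_sub_left hf, hf.add_left, hsumd, hf.smul_left, hdd]; ring
    · rw [f_sub_left hf, hf.add_left, hsumE i0 hi0, hf.smul_left, hdE i0 hi0]; ring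
    · rw [f_sub_left hf, hf.add_left, hsumF i0 hi0, hf.smul_left, hdF i0 hi0]; ring
  exact sub_eq_zero.mp h0

theorem exists_frame (hF : Fintype.card F = q ^ 2) (hσ : ∀ x, σ x = x ^ q)
    (hf : Cfsg.Geo.IsUnitaryForm σ (Cfsg.hermForm n F q)) (m : ℕ) (hn : n = 2 * m + 1) :
    ∃ (E Fv : ℕ → Fin n → F) (d : Fin n → F), Frame q m E Fv d := by
  obtain ⟨E, Fv, d, h1, h2, h3, h4, h5, h6, h7, h8, h9, h10⟩ := exists_frame_aux hf m hn
  exact ⟨E, Fv, d, ⟨h1, h2, h3, h4, h5, h6, h7, h8, h9, h10⟩⟩

end Cfsg.Agent.Lib.Helper21.SUnP7
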