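import Mathlib
import Cfsg.Agent.Lib.Helper10.TEM.Defs
import Cfsg.Agent.Lib.helper8.ChevTF6
import Cfsg.Agent.Lib.helper8.ChevLvl6
import Cfsg.Agent.Lib.helper8.ChevCent2

/-!
# Project TEM = S2191 (designer helper10), rows C3 `norm_of_terms` and C4 `norm_pairs` (helper21), VERBATIM
vs `Helper10/TEM/Skel.lean.txt`.

C3: the commutator formula `h8xU_comm_formula` gives `(X r t)⁻¹ * X s u * X r t = X s u * W`, `W` a word in
root elements of roots in `L'`; `(X r t)⁻¹ = X r (-t)` gives the other conjugate; `h8mem_normalizer_of_conj`,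
then `closure_le` into the normalizer.  C4: `decide +kernel` on `normPairs`.
-/

set_option autoImplicit false
set_option linter.unusedSectionVars false
set_option linter.unusedVariables false

namespace Cfsg.Agent.Lib.Helper10.TEM

open Cfsg.Lie Cfsg.Lie.ChevalleyDatum Matrix
open Cfsg.Agent.Lib.helper8

universe u

variable {K : Type u} [Field K] {q : ℕ} {f : K ≃+* K} {M H : Subgroup (GG K)}

/-- a root element of a root in `L` lies in `UPsi K L` -/
theorem temc3_X_mem (L : List ℕ) (r : ℕ) (hr : r ∈ L) (t : K) : X r t ∈ UPsi K L :=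
  Subgroup.subset_closure ⟨r, hr, t, rfl⟩

/-- the word of the commutator formula lies in `UPsi K L'` -/
theorem temc3_word_mem (L' : List ℕ) (r s : ℕ) (h : ∀ c ∈ chevE6.commTerms r s, c.1 ∈ L') (t v : K) :
    h8wordU chevE6 hB (chevE6.commWord K r s t v) ∈ UPsi K L' := by
  apply h8wordU_mem_of
  intro p hp
  unfold ChevalleyDatum.commWord at hp
  rw [List.mem_map] at hp
  obtain ⟨c, hc, rfl⟩ := hp
  exact temc3_X_mem L' c.1 (h c hc) _

/-- `(X r t)⁻¹ * X s v * X r t ∈ UPsi K L'` -/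
theorem temc3_conj_gen (L' : List ℕ) (r s : ℕ) (hr : r < 72) (hs : s < 72) (hne : s ≠ r) (hneg : s ≠ 71 - r)
    (hs' : s ∈ L') (h : ∀ c ∈ chevE6.commTerms r s, c.1 ∈ L') (t v : K) :
    (X r t)⁻¹ * X s v * X r t ∈ UPsi K L' := by
  have hd := root_data r hr
  have hds := root_data s hs
  have hf := h8xU_comm_formula (K := K) chevE6 hB hC r s hd.1 hds.1 hne (by rw [hd.2.1]; exact hneg) t v
  have e : (X r t)⁻¹ * X s v * X r t = X s v * h8wordU chevE6 hB (chevE6.commWord K r s t v) := by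
    unfold X
    rw [mul_assoc, hf]
    group
  rw [e]
  exact Subgroup.mul_mem _ (temc3_X_mem L' s hs' v) (temc3_word_mem L' r s h t v)

-- ROW C3
theorem norm_of_terms (L L' : List ℕ)
    (h : ∀ r ∈ L, ∀ s ∈ L', r < 72 ∧ s < 72 ∧ s ≠ r ∧ s ≠ 71 - r ∧
      ∀ c ∈ chevE6.commTerms r s, c.1 ∈ L')
    (g : GG K) (hg : g ∈ UPsi K L) (b : GG K) (hb : b ∈ UPsi K L') :
    g * b * g⁻¹ ∈ UPsi K L' := by
  have hle : UPsi K L ≤ Subgroup.normalizer ((UPsi K L' : Subgroup (GG K)) : Set (GG K)) := by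
    unfold UPsi
    rw [Subgroup.closure_le]
    rintro x ⟨r, hr, t, rfl⟩
    apply h8mem_normalizer_of_conj
    · rintro y ⟨s, hs, v, rfl⟩
      obtain ⟨h1, h2, h3, h4, h5⟩ := h r hr s hs
      have := temc3_conj_gen (K := K) L' r s h1 h2 h3 h4 hs h5 (-t) v
      have e : (X r (-t) : GG K) = (X r t)⁻¹ := by
        unfold X
        rw [h8xU_inv]
      rw [e, inv_inv] at this
      exact this
    · rintro y ⟨s, hs, v, rfl⟩
      obtain ⟨h1, h2, h3, h4, h5⟩ := h r hr s hs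
      exact temc3_conj_gen (K := K) L' r s h1 h2 h3 h4 hs h5 t v
  have hn := hle hg
  rw [Subgroup.mem_normalizer_iff] at hn
  exact (hn b).1 hb

set_option synthInstance.maxSize 1024 in
theorem temc4_data : ∀ p ∈ normPairs, ∀ r ∈ p.1, ∀ s ∈ p.2, r < 72 ∧ s < 72 ∧ s ≠ r ∧ s ≠ 71 - r ∧
    ∀ c ∈ chevE6.commTerms r s, c.1 ∈ p.2 := by decide +kernel

-- ROW C4
theorem norm_pairs (L L' : List ℕ) (h : (L, L') ∈ normPairs) (g : GG K) (hg : g ∈ UPsi K L)
    (b : GG K) (hb : b ∈ UPsi K L') : g * b * g⁻¹ ∈ UPsi K L' :=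
  norm_of_terms L L' (temc4_data (L, L') h) g hg b hb

end Cfsg.Agent.Lib.Helper10.TEM
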