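import Mathlib
import Cfsg.Agent.Lib.Helper10.TEM.Defs
import Cfsg.Agent.Lib.helper8.ChevTF6
import Cfsg.Agent.Lib.helper8.ChevTw7
import Cfsg.Agent.Lib.Helper21.TEMC3

/-!
# Project TEM = S2191 (designer helper10), row C5 `Q_comm` (helper21), VERBATIM vs `Helper10/TEM/Skel.lean.txt`.

The commutator of two root elements of `Psi1` lies in the root subgroup of `71` (`decide`), which is central in
`UPsi K Psi1`; a general lemma (`temc5_comm_closure`) passes from generators to the closure.
-/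

set_option autoImplicit false
set_option linter.unusedSectionVars false
set_option linter.unusedVariables false

namespace Cfsg.Agent.Lib.Helper10.TEM

open Cfsg.Lie Cfsg.Lie.ChevalleyDatum Matrix
open Cfsg.Agent.Lib.helper8

universe u

/-- if `Z` is centralized by the generators `S` and contains the commutators of generators,
then it contains all commutators of `closure S` -/
theorem temc5_comm_closure {G : Type*} [Group G] (S : Set G) (Z : Subgroup G)
    (hZ : ∀ z ∈ Z, ∀ x ∈ S, Commute x z)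
    (hS : ∀ x ∈ S, ∀ y ∈ S, x * y * x⁻¹ * y⁻¹ ∈ Z) :
    ∀ g ∈ Subgroup.closure S, ∀ h ∈ Subgroup.closure S, g * h * g⁻¹ * h⁻¹ ∈ Z := by
  have hcen : ∀ z ∈ Z, ∀ g ∈ Subgroup.closure S, Commute g z := by
    intro z hz g hg
    induction hg using Subgroup.closure_induction with
    | mem x hx => exact hZ z hz x hx
    | one => exact Commute.one_left z
    | mul x y _ _ hx hy => exact hx.mul_left hy
    | inv x _ hx => exact hx.inv_left
  have step1 : ∀ x ∈ S, ∀ h ∈ Subgroup.closure S, x * h * x⁻¹ * h⁻¹ ∈ Z := by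
    intro x hx h hh
    induction hh using Subgroup.closure_induction with
    | mem y hy => exact hS x hx y hy
    | one => simp
    | mul h1 h2 hh1 _ ih1 ih2 =>
      have hc := hcen _ ih2 h1 hh1
      have e : x * (h1 * h2) * x⁻¹ * (h1 * h2)⁻¹ =
          (x * h1 * x⁻¹ * h1⁻¹) * (h1 * (x * h2 * x⁻¹ * h2⁻¹) * h1⁻¹) := by group
      rw [e, hc.eq, mul_inv_cancel_right]
      exact Z.mul_mem ih1 ih2
    | inv h1 hh1 ih =>
      have hc := hcen _ (Z.inv_mem ih) h1 hh1
      have e : x * h1⁻¹ * x⁻¹ * h1⁻¹⁻¹ = h1⁻¹ * ((x * h1 * x⁻¹ * h1⁻¹)⁻¹ * h1) := by group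
      rw [e, ← hc.eq, inv_mul_cancel_left]
      exact Z.inv_mem ih
  intro g hg h hh
  induction hg using Subgroup.closure_induction with
  | mem x hx => exact step1 x hx h hh
  | one => simp
  | mul g1 g2 hg1 _ ih1 ih2 =>
    have hc := hcen _ ih2 g1 hg1
    have e : g1 * g2 * h * (g1 * g2)⁻¹ * h⁻¹ =
        (g1 * (g2 * h * g2⁻¹ * h⁻¹) * g1⁻¹) * (g1 * h * g1⁻¹ * h⁻¹) := by group
    rw [e, hc.eq, mul_inv_cancel_right]
    exact Z.mul_mem ih2 ih1
  | inv g1 hg1 ih =>
    have hc := hcen _ (Z.inv_mem ih) g1 hg1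
    have e : g1⁻¹ * h * g1⁻¹⁻¹ * h⁻¹ = g1⁻¹ * ((g1 * h * g1⁻¹ * h⁻¹)⁻¹ * g1) := by group
    rw [e, ← hc.eq, inv_mul_cancel_left]
    exact Z.inv_mem ih

variable {K : Type u} [Field K] {q : ℕ} {f : K ≃+* K} {M H : Subgroup (GG K)}

set_option synthInstance.maxSize 1024 in
theorem temc5_data : ∀ r ∈ Psi1, r < 72 ∧ (r ≠ 71 → 71 ≠ 71 - r ∧ chevE6.commTerms r 71 = []) ∧
    ∀ s ∈ Psi1, s ≠ r → s ≠ 71 - r ∧ ∀ c ∈ chevE6.commTerms r s, c.1 ∈ [71] := by decide +kernel

/-- two root elements of the same root commute -/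
theorem temc5_same (r : ℕ) (hr : r < 72) (t v : K) : Commute (X r t : GG K) (X r v) := by
  have hd := root_data r hr
  unfold X Commute SemiconjBy
  rw [h8xU_add chevE6 hB r hd.1, h8xU_add chevE6 hB r hd.1, add_comm]

/-- the root elements of `Psi1` centralize `UPsi K [71]` -/
theorem temc5_central (r : ℕ) (hr : r ∈ Psi1) (t : K) : ∀ z ∈ UPsi K [71], Commute (X r t : GG K) z := by
  obtain ⟨h1, h2, _⟩ := temc5_data r hr
  have hle : UPsi K [71] ≤ Subgroup.centralizer {(X r t : GG K)} := by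
    unfold UPsi
    rw [Subgroup.closure_le]
    rintro x ⟨s, hs, c, rfl⟩
    rw [List.mem_singleton] at hs
    subst hs
    rw [SetLike.mem_coe, Subgroup.mem_centralizer_iff]
    intro y hy
    rw [Set.mem_singleton_iff] at hy
    subst hy
    by_cases h71 : r = 71
    · subst h71
      exact (temc5_same 71 (by norm_num) t c).eq
    · obtain ⟨h3, h4⟩ := h2 h71
      have hd := root_data r h1
      have hd71 := root_data 71 (by norm_num)
      exact (h8xU_commute (K := K) chevE6 hB hC r 71 hd.1 hd71.1 (fun e => h71 e.symm)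
        (by rw [hd.2.1]; exact h3) h4 t c).eq
  intro z hz
  have := hle hz
  rw [Subgroup.mem_centralizer_iff] at this
  exact (this _ rfl)

-- ROW C5
theorem Q_comm (g : GG K) (hg : g ∈ UPsi K Psi1) (h : GG K) (hh : h ∈ UPsi K Psi1) :
    g * h * g⁻¹ * h⁻¹ ∈ UPsi K [71] := by
  refine temc5_comm_closure {g : GG K | ∃ r ∈ Psi1, ∃ t : K, g = X r t} (UPsi K [71]) ?_ ?_ g hg h hh
  · rintro z hz x ⟨r, hr, t, rfl⟩
    exact temc5_central r hr t z hz
  · rintro x ⟨r, hr, t, rfl⟩ y ⟨s, hs, v, rfl⟩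
    obtain ⟨h1, _, h3⟩ := temc5_data r hr
    by_cases hsr : s = r
    · subst hsr
      have := (temc5_same (K := K) s h1 t v).eq
      have e : (X s t : GG K) * X s v * (X s t)⁻¹ * (X s v)⁻¹ = 1 := by
        rw [this]
        group
      rw [e]
      exact Subgroup.one_mem _
    · obtain ⟨h4, h5⟩ := h3 s hs hsr
      obtain ⟨hs1, _, _⟩ := temc5_data s hs
      have hd := root_data r h1
      have hds := root_data s hs1
      have hf := h8xU_comm_formula (K := K) chevE6 hB hC r s hd.1 hds.1 hsr (by rw [hd.2.1]; exact h4) (-t) (-v)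
      have hW := temc3_word_mem (K := K) [71] r s h5 (-t) (-v)
      have ex : (X r (-t) : GG K) = (X r t)⁻¹ := by
        unfold X
        rw [h8xU_inv]
      have ey : (X s (-v) : GG K) = (X s v)⁻¹ := by
        unfold X
        rw [h8xU_inv]
      have e : (X r t : GG K) * X s v * (X r t)⁻¹ * (X s v)⁻¹ =
          (h8wordU chevE6 hB (chevE6.commWord K r s (-t) (-v)))⁻¹ := by
        have hf' : (X s v : GG K)⁻¹ * (X r t)⁻¹ =
            (X r t)⁻¹ * (X s v)⁻¹ * h8wordU chevE6 hB (chevE6.commWord K r s (-t) (-v)) := by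
          rw [← ex, ← ey]
          exact hf
        have : h8wordU chevE6 hB (chevE6.commWord K r s (-t) (-v)) =
            (X s v : GG K) * X r t * (X s v)⁻¹ * (X r t)⁻¹ := by
          have h2 : h8wordU chevE6 hB (chevE6.commWord K r s (-t) (-v)) =
              ((X r t : GG K)⁻¹ * (X s v)⁻¹)⁻¹ * ((X s v)⁻¹ * (X r t)⁻¹) := by
            rw [hf']
            group
          rw [h2]
          group
        rw [this]
        group
      rw [e]
      exact Subgroup.inv_mem _ hW

end Cfsg.Agent.Lib.Helper10.TEM
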