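import Mathlib
import Cfsg.Prelude.Def_Classical
import Cfsg.Agent.Lib.helper23.P4V.Defs

/-!
# P4V row G1 (`conj_cmp`): a `2 × 2` matrix with irreducible characteristic polynomial is conjugate to the
companion matrix.
-/

set_option autoImplicit false

namespace Cfsg.Agent.Lib.helper23.P4V

open Matrix

universe u

section Field

variable {F : Type u} [Field F]

/-- **G1**. -/
theorem conj_cmp (τ ν : F) (hirr : ∀ t : F, t ^ 2 - τ * t + ν ≠ 0) (M : M2 F) (htr : M.trace = τ)
    (hdet : M.det = ν) : ∃ P : M2 F, P.det ≠ 0 ∧ M = P * cmp τ ν * P⁻¹ := by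
  rw [Matrix.trace_fin_two] at htr
  rw [Matrix.det_fin_two] at hdet
  have h10 : M 1 0 ≠ 0 := by
    intro h
    apply hirr (M 0 0)
    rw [← htr, ← hdet, h]
    ring
  have hdP : (!![1, M 0 0; 0, M 1 0] : M2 F).det = M 1 0 := by
    rw [Matrix.det_fin_two_of]
    ring
  refine ⟨!![1, M 0 0; 0, M 1 0], ?_, ?_⟩
  · rw [hdP]
    exact h10
  · have hP : IsUnit (!![1, M 0 0; 0, M 1 0] : M2 F).det := by
      rw [hdP]
      exact isUnit_iff_ne_zero.mpr h10
    have key : M * !![1, M 0 0; 0, M 1 0] = !![1, M 0 0; 0, M 1 0] * cmp τ ν := by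
      rw [cmp]
      ext i j
      fin_cases i <;> fin_cases j
      · simp [Matrix.mul_apply, Fin.sum_univ_two]
      · simp only [Matrix.mul_apply, Fin.sum_univ_two]
        simp
        rw [← htr, ← hdet]
        ring
      · simp [Matrix.mul_apply, Fin.sum_univ_two]
      · simp only [Matrix.mul_apply, Fin.sum_univ_two]
        simp
        rw [← htr]
        ring
    calc M = M * (!![1, M 0 0; 0, M 1 0] * (!![1, M 0 0; 0, M 1 0] : M2 F)⁻¹) := by
          rw [Matrix.mul_nonsing_inv _ hP, Matrix.mul_one]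
      _ = (M * !![1, M 0 0; 0, M 1 0]) * (!![1, M 0 0; 0, M 1 0] : M2 F)⁻¹ := by
          rw [Matrix.mul_assoc]
      _ = !![1, M 0 0; 0, M 1 0] * cmp τ ν * (!![1, M 0 0; 0, M 1 0] : M2 F)⁻¹ := by rw [key]

end Field

end Cfsg.Agent.Lib.helper23.P4V
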