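import Mathlib
import Cfsg.Prelude.Def_ChevStructure
import Cfsg.Prelude.Def_LieTwisted
import Cfsg.Agent.Lib.helper8.TD4.Defs

/-!
# TD4 row B7 (`rho_rel`): core on the statements of B5 (`chi_twist`, character part) and B6
(`chi_refl`, character part) for the given `h`, `h'`, `f`.
-/

set_option autoImplicit false

namespace Cfsg.Agent.Lib.helper8.TD4

open Cfsg.Lie Cfsg.Lie.ChevalleyDatum Cfsg.Agent.Lib.helper8 Matrix

universe u v

section B

variable {F : Type u} [Field F] (hB : H8Base.{u} chevD4)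

/-- the triality permutation of the roots of `D₄` preserves `r < 24`. -/
theorem td4b7_sD4_lt : ∀ r < 24, h8sD4 r < 24 := by decide

/-- B7 core: `hB5`, `hB6` = the character parts of B5, B6. -/
theorem td4b7_core (hA : H8ReflAll chevD4) (f : F ≃+* F) (h h' : GL chevD4.Idx F)
    (hB5 : ∀ r < 24, h8chi chevD4 hB (Fr hA f h) (h8sD4 r) = f (h8chi chevD4 hB h r))
    (hB6 : ∀ r < 24,
      h8chi chevD4 hB ((h' * h8nU chevD4 hB 14 1) * h * (h' * h8nU chevD4 hB 14 1)⁻¹) r =
        h8chi chevD4 hB h (chevD4.reflectRoot 1 r))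
    (hF : Fr hA f h = (h' * h8nU chevD4 hB 14 1) * h * (h' * h8nU chevD4 hB 14 1)⁻¹) :
    ∀ r < 24, h8chi chevD4 hB h (rho r) = f (h8chi chevD4 hB h r) := by
  intro r hr
  rw [← hB5 r hr, hF, hB6 (h8sD4 r) (td4b7_sD4_lt r hr)]
  rfl

end B

end Cfsg.Agent.Lib.helper8.TD4
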