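import Mathlib
import Cfsg.Agent.Lib.helper23.TD4V.Defs
import Cfsg.Agent.Lib.helper8.TD4VE2a
import Cfsg.Agent.Lib.Helper5.TD4VN2
import Cfsg.Agent.Lib.Helper5.TD4VN3
import Cfsg.Agent.Lib.Helper16.TD4VI3

/-!
# Project TD4V (helper23, S2462), row E2 (`B1_le_Pp`): the core, on the landed rows E2a E2b N3 N4 I3, with the
statement of E2c (`U1_form`) as hypothesis.
-/

set_option autoImplicit false

namespace Cfsg.Agent.Lib.helper23.TD4V

open Cfsg.Lie Cfsg.Lie.ChevalleyDatum Matrix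
open Cfsg.Agent.Lib.helper8 Cfsg.Agent.Lib.helper8.TD4
open Cfsg.Agent.Lib.helper23.P4V

universe u v

section E

variable {F K : Type u} [Field F] [Field K] [Fintype F] [Fintype K] (j : F →+* K) (q : ℕ)

/-- a generator of `Pp` -/
theorem td4ve2_gen (A : GL (Fin 2) F) (t : K) (ht : t ≠ 0) (h : j (A : M2 F).det = Nm q t) :
    iota j q A t ∈ Pp j q :=
  Subgroup.subset_closure (Or.inl ⟨A, t, ht, h, rfl⟩)

theorem td4ve2_Q_le : Q K q ≤ Pp j q := fun _ hg => Subgroup.subset_closure (Or.inr hg)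

/-- `hJ t ∈ Pp`. -/
theorem td4ve2_hJ_mem (hq : IsPrimePow q) (hF : Fintype.card F = q) (hK : Fintype.card K = q ^ 3)
    (t : K) (ht : t ≠ 0) : hJ hB q t ∈ Pp j q := by
  obtain ⟨c₁, hc₁⟩ := exists_pre j q hq hF (Nm q t) (Nm_pow q hK t)
  have hc0 : c₁ ≠ 0 := by
    intro h0
    apply Nm_ne_zero q t ht
    rw [← hc₁, h0, map_zero]
  have hdet : (!![1, 0; 0, c₁] : M2 F).det ≠ 0 := by
    rw [Matrix.det_fin_two_of]
    simpa using hc0
  have hA : ((mk2 (!![1, 0; 0, c₁] : M2 F) hdet : GL (Fin 2) F) : M2 F) = !![1, 0; 0, c₁] := rfl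
  rw [← iota_dg j q (mk2 _ hdet) c₁ t hA]
  apply td4ve2_gen j q _ t ht
  rw [hA, Matrix.det_fin_two_of]
  simpa using hc₁

/-- `hh 14 c ∈ Pp` for `c ≠ 0` fixed by the Frobenius. -/
theorem td4ve2_hh_mem (hq : IsPrimePow q) (hF : Fintype.card F = q)
    (c : K) (hc0 : c ≠ 0) (hc : c ^ q = c) : (hh 14 c : GG K) ∈ Pp j q := by
  obtain ⟨c', rfl⟩ := exists_pre j q hq hF c hc
  have hc'0 : c' ≠ 0 := by
    intro h0
    apply hc0
    rw [h0, map_zero]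
  have hdet : (!![c', 0; 0, c'⁻¹] : M2 F).det ≠ 0 := by
    rw [Matrix.det_fin_two_of]
    simp [hc'0]
  have hA : ((mk2 (!![c', 0; 0, c'⁻¹] : M2 F) hdet : GL (Fin 2) F) : M2 F) = !![c', 0; 0, c'⁻¹] := rfl
  rw [← iota_hb j q (mk2 _ hdet) c' hc'0 hA]
  apply td4ve2_gen j q _ 1 one_ne_zero
  rw [hA, Matrix.det_fin_two_of, Nm_one]
  simp [hc'0]

/-- `X 14 c ∈ Pp` for `c` fixed by the Frobenius. -/
theorem td4ve2_X14_mem (hq : IsPrimePow q) (hF : Fintype.card F = q)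
    (c : K) (hc : c ^ q = c) : (X 14 c : GG K) ∈ Pp j q := by
  obtain ⟨c', rfl⟩ := exists_pre j q hq hF c hc
  have hdet : (!![1, c'; 0, 1] : M2 F).det ≠ 0 := by
    rw [Matrix.det_fin_two_of]
    simp
  have hA : ((mk2 (!![1, c'; 0, 1] : M2 F) hdet : GL (Fin 2) F) : M2 F) = !![1, c'; 0, 1] := rfl
  rw [← iota_upper j q (mk2 _ hdet) c' hA]
  apply td4ve2_gen j q _ 1 one_ne_zero
  rw [hA, Matrix.det_fin_two_of, Nm_one]
  simp

/-- **E2 core**. -/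
theorem td4ve2_core (hq : IsPrimePow q) (hF : Fintype.card F = q) (hK : Fintype.card K = q ^ 3)
    (hE2c : ∀ u : GG K, u ∈ chevD4.posUnipotent K ⊓ twistedD4 K q →
      ∃ c : K, c ^ q = c ∧ ∃ u' ∈ Q K q, u = X 14 c * u') :
    chevD4.borelSubgroup K ⊓ twistedD4 K q ≤ Pp j q := by
  intro b hb
  obtain ⟨h, hh', u, hu, rfl⟩ := B1_dec q hq hK b hb.1 hb.2
  obtain ⟨t, c, ht, hc0, hc, rfl⟩ := H1_form q hq hK h hh'
  obtain ⟨c2, hc2, u', hu', rfl⟩ := hE2c u hu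
  exact mul_mem (mul_mem (td4ve2_hJ_mem j q hq hF hK t ht) (td4ve2_hh_mem j q hq hF c hc0 hc))
    (mul_mem (td4ve2_X14_mem j q hq hF c2 hc2) (td4ve2_Q_le j q hu'))

end E

end Cfsg.Agent.Lib.helper23.TD4V
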