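import Cfsg.Agent.Lib.Helper21.TS.XA

/-!
# Project TS (S5666), piece CALC1 (helper21): first half of the fixed-space computation
-/

set_option autoImplicit false
set_option linter.unusedSectionVars false
set_option linter.unusedVariables false

namespace Cfsg.Agent.Lib.Helper21.TS

open Matrix
open scoped Kronecker
open Cfsg.Agent.Lib.helper7.TP

variable {ι : Type*} [Fintype ι] [DecidableEq ι] {a b : ℕ} {F : Type*} [Field F]

theorem tscalc1_sieg_mulVec (J : Matrix ι ι F) (w z x : ι → F) :
    sieg J w z *ᵥ x = x + bf J z x • w - bf J w x • z - (bf J z z / 2 * bf J w x) • w := by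
  rw [sieg, Matrix.sub_mulVec, Matrix.sub_mulVec, Matrix.add_mulVec, Matrix.one_mulVec, opm_mulVec,
    opm_mulVec, Matrix.smul_mulVec, opm_mulVec, smul_smul]

/-- a non-zero vector orthogonal to a hyperbolic pair, in dimension `≥ 3`. -/
theorem tscalc1_third {J : Matrix (Fin b) (Fin b) F} (hJ : Jᵀ = J) (hb : 3 ≤ b)
    {w w' : Fin b → F} (hw : bf J w w = 0) (hw' : bf J w' w' = 0) (hww' : bf J w w' = 1) :
    ∃ z₀ : Fin b → F, z₀ ≠ 0 ∧ bf J w z₀ = 0 ∧ bf J w' z₀ = 0 := by
  have hs : ∀ x y, bf J x y = bf J y x := bf_symm hJ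
  have hw'w : bf J w' w = 1 := by rw [hs, hww']
  by_contra hcon
  push Not at hcon
  have hall : ∀ x : Fin b → F, x = bf J w' x • w + bf J w x • w' := by
    intro x
    by_contra hx
    have hne : x - bf J w' x • w - bf J w x • w' ≠ 0 := by
      intro h
      apply hx
      rw [sub_eq_zero, sub_eq_iff_eq_add] at h
      refine h.trans ?_
      abel
    apply hcon _ hne
    · rw [bf_sub_right, bf_sub_right, bf_smul_right, bf_smul_right, hw, hww']
      ring
    · rw [bf_sub_right, bf_sub_right, bf_smul_right, bf_smul_right, hw', hw'w]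
      ring
  have htop : (⊤ : Submodule F (Fin b → F)) ≤ Submodule.span F ({w, w'} : Set (Fin b → F)) := by
    intro v _
    rw [hall v]
    apply Submodule.add_mem
    · exact Submodule.smul_mem _ _ (Submodule.subset_span (by simp))
    · exact Submodule.smul_mem _ _ (Submodule.subset_span (by simp))
  have h1 : Module.finrank F (Fin b → F) ≤ 2 := by
    classical
    have h3 : Module.finrank F (Submodule.span F (({w, w'} : Finset (Fin b → F)) : Set (Fin b → F))) ≤
        ({w, w'} : Finset (Fin b → F)).card := finrank_span_finset_le_card _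
    have h4 : ({w, w'} : Finset (Fin b → F)).card ≤ 2 := Finset.card_le_two
    have h5 : Module.finrank F (Fin b → F) = Module.finrank F (⊤ : Submodule F (Fin b → F)) :=
      (finrank_top F (Fin b → F)).symm
    have h6 : Module.finrank F (⊤ : Submodule F (Fin b → F)) ≤
        Module.finrank F (Submodule.span F (({w, w'} : Finset (Fin b → F)) : Set (Fin b → F))) := by
      apply Submodule.finrank_mono
      simpa using htop
    omega
  rw [Module.finrank_fin_fun] at h1
  omega

theorem calc_one [Fintype F] {J : Matrix (Fin b) (Fin b) F} (hJ : Jᵀ = J) (two : (2 : F) ≠ 0)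
    (hdet : J.det ≠ 0) (hb : 3 ≤ b) (hex : 5 ≤ Fintype.card F ∨ 4 ≤ b)
    {w w' : Fin b → F} (hw : bf J w w = 0) (hw' : bf J w' w' = 0) (hww' : bf J w w' = 1)
    (η : Matrix (Fin b) (Fin b) F) (hη : SelfAdj J η)
    (h : ∀ z : Fin b → F, bf J w z = 0 → ∃ c : F, sieg J w z * η = (η + c • 1) * sieg J w z) :
    (∃ γ : F, η *ᵥ w = γ • w) ∧ ∀ z : Fin b → F, bf J w z = 0 → sieg J w z * η = η * sieg J w z := by
  classical
  have hs : ∀ x y, bf J x y = bf J y x := bf_symm hJ
  have hsa := (selfAdj_iff_bf J η).mp hη
  have hw'w : bf J w' w = 1 := by rw [hs, hww']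
  have hw0 : w ≠ 0 := by
    intro h0
    rw [h0, bf_zero_left] at hww'
    exact zero_ne_one hww'
  -- the relation, applied to vectors
  have hact : ∀ z, bf J w z = 0 → ∃ c : F, ∀ x, sieg J w z *ᵥ (η *ᵥ x) =
      η *ᵥ (sieg J w z *ᵥ x) + c • (sieg J w z *ᵥ x) := by
    intro z hz
    obtain ⟨c, hc⟩ := h z hz
    refine ⟨c, fun x => ?_⟩
    have := congrFun (congrArg Matrix.mulVec hc) x
    rw [← Matrix.mulVec_mulVec, ← Matrix.mulVec_mulVec, Matrix.add_mulVec, Matrix.smul_mulVec,
      Matrix.one_mulVec] at this
    exact this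
  have hρw : ∀ z, bf J w z = 0 → sieg J w z *ᵥ w = w := by
    intro z hz
    rw [tscalc1_sieg_mulVec, hs z w, hz, hw, zero_smul, zero_smul, mul_zero, zero_smul, add_zero,
      sub_zero, sub_zero]
  -- the projection onto `U = ⟨w, w'⟩^⊥`
  set P : (Fin b → F) → (Fin b → F) := fun x => x - bf J w' x • w - bf J w x • w' with hP
  have hPw : ∀ x, bf J w (P x) = 0 := by
    intro x
    simp only [hP, bf_sub_right, bf_smul_right, hw, hww']
    ring
  have hPw' : ∀ x, bf J w' (P x) = 0 := by
    intro x
    simp only [hP, bf_sub_right, bf_smul_right, hw', hw'w]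
    ring
  have hPid : ∀ x, bf J w x = 0 → bf J w' x = 0 → P x = x := by
    intro x h1 h2
    simp only [hP, h1, h2, zero_smul, sub_zero]
  have hPpair : ∀ u x, bf J w u = 0 → bf J w' u = 0 → bf J u (P x) = bf J u x := by
    intro u x h1 h2
    simp only [hP, bf_sub_right, bf_smul_right, hs u w, hs u w', h1, h2, mul_zero, sub_zero]
  -- a vector of `U` orthogonal to `U` vanishes
  have hUnd : ∀ x, bf J w x = 0 → bf J w' x = 0 →
      (∀ t, bf J w t = 0 → bf J w' t = 0 → bf J x t = 0) → x = 0 := by
    intro x h1 h2 h3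
    by_contra hx
    obtain ⟨y, hy⟩ := bf_nondeg hdet hx
    apply hy
    rw [← hPpair x y h1 h2]
    exact h3 (P y) (hPw y) (hPw' y)
  obtain ⟨z₀, hz₀, hz₀w, hz₀w'⟩ := tscalc1_third hJ hb hw hw' hww'
  set a : Fin b → F := η *ᵥ w with ha
  -- `f(w, a) = 0`
  have hwa : bf J w a = 0 := by
    obtain ⟨c, hc⟩ := hact z₀ hz₀w
    have e := hc w
    rw [hρw z₀ hz₀w, ← ha, tscalc1_sieg_mulVec] at e
    obtain ⟨t, ht⟩ := bf_nondeg hdet hz₀
    have e2 := congrArg (fun v => bf J v (P t)) e
    simp only [bf_add_left, bf_sub_left, bf_smul_left, hPw t] at e2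
    have hz₀t : bf J z₀ (P t) ≠ 0 := by rw [hPpair z₀ t hz₀w hz₀w']; exact ht
    have e3 : bf J w a * bf J z₀ (P t) = 0 := by linear_combination -e2
    rcases mul_eq_zero.mp e3 with h' | h'
    · exact h'
    · exact (hz₀t h').elim
  -- the constant is `f(z, a)`
  have hact2 : ∀ z, bf J w z = 0 → ∀ x, sieg J w z *ᵥ (η *ᵥ x) =
      η *ᵥ (sieg J w z *ᵥ x) + bf J z a • (sieg J w z *ᵥ x) := by
    intro z hz
    obtain ⟨c, hc⟩ := hact z hz
    have e := hc w
    rw [hρw z hz, ← ha, tscalc1_sieg_mulVec, hwa, zero_smul, mul_zero, zero_smul, sub_zero, sub_zero,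
      add_right_inj] at e
    have hcz : c = bf J z a := by
      have : (bf J z a - c) • w = 0 := by rw [sub_smul, e, sub_self]
      rcases smul_eq_zero.mp this with h' | h'
      · exact (sub_eq_zero.mp h').symm
      · exact (hw0 h').elim
    intro x
    rw [← hcz]
    exact hc x
  set a₀ : F := bf J w' a with ha₀
  set aU : Fin b → F := a - a₀ • w with haU
  have haUw : bf J w aU = 0 := by
    rw [haU, bf_sub_right, bf_smul_right, hwa, hw, mul_zero, sub_zero]
  have haUw' : bf J w' aU = 0 := by
    rw [haU, bf_sub_right, bf_smul_right, hw'w, mul_one, ← ha₀, sub_self]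
  have hza : ∀ z, bf J w z = 0 → bf J z a = bf J z aU := by
    intro z hz
    rw [haU, bf_sub_right, bf_smul_right, hs z w, hz, mul_zero, sub_zero]
  have hPa : P a = aU := by
    simp only [hP, hwa, zero_smul, sub_zero]
    rfl
  -- it suffices to show `aU = 0`
  suffices haU0 : aU = 0 by
    have haw : a = a₀ • w := by
      have := sub_eq_zero.mp haU0
      exact this
    refine ⟨⟨a₀, haw⟩, fun z hz => ?_⟩
    obtain ⟨c, hc⟩ := h z hz
    have hz0 : bf J z a = 0 := by rw [hza z hz, haU0, bf_zero_right]
    rw [Matrix.ext_iff_mulVec]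
    intro x
    rw [← Matrix.mulVec_mulVec, ← Matrix.mulVec_mulVec, hact2 z hz x, hz0, zero_smul, add_zero]
  by_contra haUne
  rcases hex with hq | hb4
  · -- case `5 ≤ q`
    -- (III): `4 f(z, η w') = - f(z, aU) Q(z)` for `z ∈ U`
    have hIII : ∀ z, bf J w z = 0 → bf J w' z = 0 →
        4 * bf J z (η *ᵥ w') = -(bf J z aU * bf J z z) := by
      intro z hz hz'
      have e := hact2 z hz w'
      have hρw' : sieg J w z *ᵥ w' = w' - z - (bf J z z / 2) • w := by
        rw [tscalc1_sieg_mulVec, hs z w', hz', hww', zero_smul, add_zero, one_smul, mul_one]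
      rw [hρw', tscalc1_sieg_mulVec] at e
      have e2 := congrArg (fun v => bf J v w') e
      have hwy : bf J w (η *ᵥ w') = a₀ := by rw [← hsa, ← ha, hs]
      have hzy : bf J (η *ᵥ z) w' = bf J z (η *ᵥ w') := hsa z w'
      have hwηw' : bf J (η *ᵥ w) w' = a₀ := by rw [← ha, hs]
      simp only [bf_add_left, bf_sub_left, bf_smul_left, Matrix.mulVec_sub, Matrix.mulVec_smul, hwy,
        hw', hw'w, hww', hs z w', hz', hzy, hwηw', hza z hz] at e2
      field_simp at e2
      linear_combination e2
    obtain ⟨s, hs0, hs1, hs2⟩ : ∃ s : F, s ≠ 0 ∧ s ≠ 1 ∧ s ≠ -1 := by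
      by_contra hcon
      push Not at hcon
      have hsub : (Finset.univ : Finset F) ⊆ {0, 1, -1} := by
        intro s _
        by_cases h0 : s = 0
        · simp [h0]
        · by_cases h1 : s = 1
          · simp [h1]
          · simp [hcon s h0 h1]
      have := Finset.card_le_card hsub
      have h3 : ({0, 1, -1} : Finset F).card ≤ 3 := Finset.card_le_three
      rw [Finset.card_univ] at this
      omega
    have hIV : ∀ z, bf J w z = 0 → bf J w' z = 0 → bf J z aU * bf J z z = 0 := by
      intro z hz hz'
      have e1 := hIII z hz hz'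
      have e2 := hIII (s • z) (by rw [bf_smul_right, hz, mul_zero]) (by rw [bf_smul_right, hz', mul_zero])
      simp only [bf_smul_left, bf_smul_right] at e2
      have e3 : (s * (s - 1) * (s + 1)) * (bf J z aU * bf J z z) = 0 := by
        linear_combination e2 - s * e1
      rcases mul_eq_zero.mp e3 with h' | h'
      · exfalso
        rcases mul_eq_zero.mp h' with h'' | h''
        · rcases mul_eq_zero.mp h'' with h3 | h3
          · exact hs0 h3
          · exact hs1 (sub_eq_zero.mp h3)
        · exact hs2 (eq_neg_of_add_eq_zero_left h'')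
      · exact h'
    have hQa : bf J aU aU = 0 := by
      have := hIV aU haUw haUw'
      rcases mul_eq_zero.mp this with h' | h' <;> exact h'
    obtain ⟨t₀, ht₀⟩ := bf_nondeg hdet haUne
    set t₁ := P t₀ with ht₁
    have hat₁ : bf J aU t₁ ≠ 0 := by rw [hPpair aU t₀ haUw haUw']; exact ht₀
    have ht₁a : bf J t₁ aU ≠ 0 := by rw [hs]; exact hat₁
    have hQt₁ : bf J t₁ t₁ = 0 := by
      have := hIV t₁ (hPw t₀) (hPw' t₀)
      rcases mul_eq_zero.mp this with h' | h'
      · exact (ht₁a h').elim
      · exact h'
    have h5 := hIV (t₁ + aU) (by rw [bf_add_right, hPw t₀, haUw, add_zero])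
      (by rw [bf_add_right, hPw' t₀, haUw', add_zero])
    rw [bf_add_left, bf_add_left, bf_add_right, bf_add_right, hQa, hQt₁, hs aU t₁] at h5
    have h6 : 2 * (bf J t₁ aU * bf J t₁ aU) = 0 := by linear_combination h5
    rcases mul_eq_zero.mp h6 with h' | h'
    · exact two h'
    · rcases mul_eq_zero.mp h' with h'' | h'' <;> exact ht₁a h''
  · -- case `4 ≤ b`
    -- (I): `Q(z) aU + 2 f(aU, z) z = 0` for `z ∈ U`
    have hI : ∀ z, bf J w z = 0 → bf J w' z = 0 →
        bf J z z • aU + (2 * bf J aU z) • z = 0 := by
      intro z hz hz'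
      have e := hact2 z hz z
      have hρz : sieg J w z *ᵥ z = z + bf J z z • w := by
        rw [tscalc1_sieg_mulVec, hz, zero_smul, mul_zero, zero_smul, sub_zero, sub_zero]
      rw [hρz, tscalc1_sieg_mulVec] at e
      have hwηz : bf J w (η *ᵥ z) = bf J aU z := by
        rw [← hsa, ← ha, hs a z, hza z hz, hs]
      rw [hwηz, Matrix.mulVec_add, Matrix.mulVec_smul, ← ha, hza z hz] at e
      -- apply `P`
      have hPadd : ∀ x y, P (x + y) = P x + P y := by
        intro x y
        simp only [hP, bf_add_right, add_smul]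
        abel
      have hPsub : ∀ x y, P (x - y) = P x - P y := by
        intro x y
        simp only [hP, bf_sub_right, sub_smul]
        abel
      have hPsmul : ∀ (c : F) x, P (c • x) = c • P x := by
        intro c x
        simp only [hP, bf_smul_right, smul_sub, smul_smul]
      have hPw0 : P w = 0 := by
        simp only [hP, hw'w, hw, one_smul, zero_smul, sub_self, sub_zero]
      have hPz : P z = z := hPid z hz hz'
      have e2 := congrArg P e
      simp only [hPadd, hPsub, hPsmul, hPw0, smul_zero, sub_zero, add_zero, hPz, hPa] at e2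
      rw [hs z aU] at e2
      linear_combination (norm := module) -e2
    have e1 := hI aU haUw haUw'
    -- (II): `Q(aU) z = - 2 f(aU, z) aU`
    have hII : ∀ z, bf J w z = 0 → bf J w' z = 0 →
        (2 * bf J aU aU) • z + (4 * bf J aU z) • aU = 0 := by
      intro z hz hz'
      have e2 := hI z hz hz'
      have e3 := hI (z + aU) (by rw [bf_add_right, hz, haUw, add_zero])
        (by rw [bf_add_right, hz', haUw', add_zero])
      simp only [bf_add_left, bf_add_right, hs z aU] at e3
      linear_combination (norm := module) e3 - e2 - e1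
    by_cases hQ : bf J aU aU = 0
    · -- `aU ⊥ U`
      apply haUne
      apply hUnd aU haUw haUw'
      intro t ht ht'
      have := hII t ht ht'
      rw [hQ, mul_zero, zero_smul, zero_add] at this
      rcases smul_eq_zero.mp this with h' | h'
      · rcases mul_eq_zero.mp h' with h'' | h''
        · exfalso
          have h4 : (4 : F) = 2 * 2 := by norm_num
          rw [h4] at h''
          rcases mul_eq_zero.mp h'' with h3 | h3 <;> exact two h3
        · exact h''
      · exact (haUne h').elim
    · -- every vector of `U` is a multiple of `aU`: `b ≤ 3`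
      have hmult : ∀ z, bf J w z = 0 → bf J w' z = 0 → z = (-(2 * bf J aU z) / bf J aU aU) • aU := by
        intro z hz hz'
        have e2 := hII z hz hz'
        have h2Q : (2 * bf J aU aU) ≠ 0 := mul_ne_zero two hQ
        have e3 : (2 * bf J aU aU) • z = (2 * bf J aU aU) • ((-(2 * bf J aU z) / bf J aU aU) • aU) := by
          rw [smul_smul]
          have : 2 * bf J aU aU * (-(2 * bf J aU z) / bf J aU aU) = -(4 * bf J aU z) := by
            field_simp
            ring
          rw [this, neg_smul]
          exact eq_neg_of_add_eq_zero_left e2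
        exact smul_right_injective _ h2Q e3
      have hall : ∀ x : Fin b → F, x ∈ Submodule.span F ({w, w', aU} : Set (Fin b → F)) := by
        intro x
        have hx : x = bf J w' x • w + bf J w x • w' + P x := by
          simp only [hP]
          abel
        rw [hx, hmult (P x) (hPw x) (hPw' x)]
        apply Submodule.add_mem
        · apply Submodule.add_mem
          · exact Submodule.smul_mem _ _ (Submodule.subset_span (by simp))
          · exact Submodule.smul_mem _ _ (Submodule.subset_span (by simp))
        · exact Submodule.smul_mem _ _ (Submodule.subset_span (by simp))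
      have h1 : Module.finrank F (Fin b → F) ≤ 3 := by
        have h3 : Module.finrank F (Submodule.span F (({w, w', aU} : Finset (Fin b → F)) : Set (Fin b → F))) ≤
            ({w, w', aU} : Finset (Fin b → F)).card := finrank_span_finset_le_card _
        have h4 : ({w, w', aU} : Finset (Fin b → F)).card ≤ 3 := Finset.card_le_three
        have h5 : Module.finrank F (Fin b → F) = Module.finrank F (⊤ : Submodule F (Fin b → F)) :=
          (finrank_top F (Fin b → F)).symm
        have h6 : Module.finrank F (⊤ : Submodule F (Fin b → F)) ≤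
            Module.finrank F (Submodule.span F (({w, w', aU} : Finset (Fin b → F)) : Set (Fin b → F))) := by
          apply Submodule.finrank_mono
          intro x _
          have := hall x
          simpa using this
        omega
      rw [Module.finrank_fin_fun] at h1
      omega

end Cfsg.Agent.Lib.Helper21.TS
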