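import Mathlib
import Cfsg.Agent.Lib.Helper10.BGL.FldDefs
import Cfsg.Agent.Lib.helper8.ChevK
import Cfsg.Agent.Lib.helper8.ChevW0
import Cfsg.Agent.Lib.helper8.ChevTwP1

/-!
# Project BGL (designer helper10), block FLD, row FL9 (`aset_mul_odd`): the core (helper21), on the STATEMENT of FL7 (`sl2_dickson`)
-/

set_option autoImplicit false
set_option linter.unusedSectionVars false

namespace Cfsg.Agent.Lib.Helper10.BGL

open Cfsg.Lie Cfsg.Lie.ChevalleyDatum Cfsg.Agent.Lib.helper8

universe u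

variable {K : Type u} [Field K] [Finite K]

omit [Finite K] in
/-- the diagonal matrix `diag(l, l⁻¹)` of `SL(2, K)` -/
theorem bglfl09_diag (l : K) (hl : l ≠ 0) :
    ∃ g : Matrix.SpecialLinearGroup (Fin 2) K, (g : Matrix (Fin 2) (Fin 2) K) = !![l, 0; 0, l⁻¹] ∧
      ∀ v : K, g * sx v * g⁻¹ = sx (l ^ 2 * v) := by
  have hdet : (!![l, 0; 0, l⁻¹] : Matrix (Fin 2) (Fin 2) K).det = 1 := by
    rw [Matrix.det_fin_two_of]
    field_simp
    ring
  let g : Matrix.SpecialLinearGroup (Fin 2) K := ⟨!![l, 0; 0, l⁻¹], hdet⟩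
  refine ⟨g, rfl, fun v => ?_⟩
  rw [mul_inv_eq_iff_eq_mul]
  apply Subtype.ext
  show (!![l, 0; 0, l⁻¹] : Matrix (Fin 2) (Fin 2) K) * (sx v).1 = (sx (l ^ 2 * v)).1 * !![l, 0; 0, l⁻¹]
  ext i j
  fin_cases i <;> fin_cases j <;> simp [sx, Matrix.mul_apply, Fin.sum_univ_two]
  field_simp

omit [Finite K] in
/-- `A_s` is closed under multiples -/
theorem bglfl09_nsmul (D : ChevalleyDatum) (hB : H8Base.{u} D) (H : Subgroup (GL D.Idx K)) (s : ℕ)
    (hs : s < D.nroots) (n : ℕ) (t : K) (ht : t ∈ Aset D H s) : (n : K) * t ∈ Aset D H s := by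
  induction n with
  | zero => rw [Nat.cast_zero, zero_mul]; exact aset_zero D hB H s
  | succ n ih =>
    rw [Nat.cast_succ, add_mul, one_mul]
    exact aset_add D hB H s hs _ _ ih ht

/-- FL9 on the statement of FL7 -/
theorem bglfl09_core (p : ℕ) [Fact p.Prime] [CharP K p] (hp : p ≠ 2)
    (hFL7 : ∀ (S : Subgroup (Matrix.SpecialLinearGroup (Fin 2) K)) (t : K), t ≠ 0 → sx t ∈ S → sy (1 : K) ∈ S →
      (∀ g : Matrix.SpecialLinearGroup (Fin 2) K,
        (∀ i j, (g : Matrix (Fin 2) (Fin 2) K) i j ∈ Subfield.closure ({t} : Set K)) → g ∈ S) ∨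
      (t ^ 2 = -1 ∧ Nat.card (Subfield.closure ({t} : Set K)) = 9))
    (D : ChevalleyDatum)
    (hD : D ∈ [chevG2, chevB2, chevD4, chevF4, chevE6, chevE7, chevE8]) (a : ℕ)
    (H : Subgroup (GL D.Idx K)) (hL : Lq D K (p ^ a) ≤ H) (s : ℕ) (hs : s < D.nroots) (t u : K)
    (ht : t ∈ Aset D H s) (hu : u ∈ Aset D H s) : t * u ∈ Aset D H s := by
  have hB : H8Base.{u} D := h8base_all.{u} D hD
  obtain ⟨φ, hφx, hφy⟩ := aset_sl2 (K := K) D hD s hs
  have h1 : ∀ r, (1 : K) ∈ Aset D H r := fun r => aset_rat D H (p ^ a) hL hB r 1 (one_pow _)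
  -- the pull back of `H`
  have hSx : ∀ v : K, v ∈ Aset D H s ↔ sx v ∈ H.comap φ := by
    intro v
    rw [Subgroup.mem_comap, hφx, aset_iff D hB]
  have hSy : sy (1 : K) ∈ H.comap φ := by
    rw [Subgroup.mem_comap, hφy, ← aset_iff D hB]
    exact h1 _
  -- the good case
  have good : ∀ t₀ : K, t₀ ∈ Aset D H s →
      (∀ g : Matrix.SpecialLinearGroup (Fin 2) K,
        (∀ i j, (g : Matrix (Fin 2) (Fin 2) K) i j ∈ Subfield.closure ({t₀} : Set K)) → g ∈ H.comap φ) →
      ∀ v ∈ Aset D H s, t₀ * v ∈ Aset D H s := by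
    intro t₀ _ hg v hv
    have hsq : ∀ l ∈ Subfield.closure ({t₀} : Set K), l ^ 2 * v ∈ Aset D H s := by
      intro l hl
      by_cases hl0 : l = 0
      · rw [hl0]
        have : (0 : K) ^ 2 * v = 0 := by ring
        rw [this]
        exact aset_zero D hB H s
      · obtain ⟨g, hgm, hgc⟩ := bglfl09_diag l hl0
        have hgS : g ∈ H.comap φ := by
          apply hg
          intro i j
          rw [hgm]
          fin_cases i <;> fin_cases j
          · exact hl
          · exact Subfield.zero_mem _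
          · exact Subfield.zero_mem _
          · exact Subfield.inv_mem _ hl
        rw [hSx, ← hgc v]
        exact (H.comap φ).mul_mem ((H.comap φ).mul_mem hgS ((hSx v).1 hv)) ((H.comap φ).inv_mem hgS)
    have ht0 : t₀ ∈ Subfield.closure ({t₀} : Set K) := Subfield.subset_closure rfl
    have ht1 : t₀ + 1 ∈ Subfield.closure ({t₀} : Set K) := Subfield.add_mem _ ht0 (Subfield.one_mem _)
    have h2 : 2 * (t₀ * v) ∈ Aset D H s := by
      have e : 2 * (t₀ * v) = (t₀ + 1) ^ 2 * v + (-(t₀ ^ 2 * v) + -v) := by ring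
      rw [e]
      exact aset_add D hB H s hs _ _ (hsq _ ht1)
        (aset_add D hB H s hs _ _ (aset_neg D hB H s _ (hsq _ ht0)) (aset_neg D hB H s _ hv))
    have hodd : p % 2 = 1 := by
      rcases (Fact.out : p.Prime).eq_two_or_odd with h | h
      · exact absurd h hp
      · exact h
    have e : t₀ * v = (((p + 1) / 2 : ℕ) : K) * (2 * (t₀ * v)) := by
      have h3 : ((((p + 1) / 2 : ℕ) : K) * 2) = 1 := by
        have : (p + 1) / 2 * 2 = p + 1 := by omega
        have h4 : ((((p + 1) / 2 * 2 : ℕ)) : K) = ((p + 1 : ℕ) : K) := by rw [this]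
        rw [Nat.cast_mul, Nat.cast_add, CharP.cast_eq_zero K p, Nat.cast_one, zero_add] at h4
        exact_mod_cast h4
      rw [← mul_assoc, h3, one_mul]
    rw [e]
    exact bglfl09_nsmul D hB H s hs _ _ h2
  by_cases ht0 : t = 0
  · rw [ht0, zero_mul]
    exact aset_zero D hB H s
  rcases hFL7 (H.comap φ) t ht0 ((hSx t).1 ht) hSy with hg | ⟨hsq, hcard⟩
  · exact good t ht hg u hu
  · -- the exception: use `t + 1`
    have ht' : t + 1 ∈ Aset D H s := aset_add D hB H s hs _ _ ht (h1 s)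
    have h2ne : (2 : K) ≠ 0 := by
      intro h
      have : ((2 : ℕ) : K) = 0 := by exact_mod_cast h
      rw [CharP.cast_eq_zero_iff K p] at this
      exact hp ((Nat.prime_dvd_prime_iff_eq (Fact.out : p.Prime) Nat.prime_two).1 this)
    have ht'0 : t + 1 ≠ 0 := by
      intro h
      have : t = -1 := by linear_combination h
      rw [this] at hsq
      apply h2ne
      linear_combination hsq
    rcases hFL7 (H.comap φ) (t + 1) ht'0 ((hSx _).1 ht') hSy with hg | ⟨hsq', _⟩
    · have := good (t + 1) ht' hg u hu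
      have e : t * u = (t + 1) * u + -u := by ring
      rw [e]
      exact aset_add D hB H s hs _ _ this (aset_neg D hB H s _ hu)
    · exfalso
      -- `2 t = -1`, so `5 = 0`; and `9 = 0`
      have h5 : ((5 : ℕ) : K) = 0 := by
        have h2t : 2 * t = -1 := by linear_combination hsq' - hsq
        push_cast
        linear_combination (4 : K) * hsq - (2 * t - 1) * h2t
      have h9 : ((9 : ℕ) : K) = 0 := by
        have h0 : (9 : ℕ) • (1 : Subfield.closure ({t} : Set K)) = 0 := by
          rw [← hcard]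
          exact card_nsmul_eq_zero'
        rw [nsmul_eq_mul, mul_one] at h0
        have h' := congrArg (fun x : Subfield.closure ({t} : Set K) => (x : K)) h0
        simp only [ZeroMemClass.coe_zero] at h'
        rw [← h']
        norm_cast
      rw [CharP.cast_eq_zero_iff K p] at h5 h9
      have : p ∣ Nat.gcd 5 9 := Nat.dvd_gcd h5 h9
      have h1' : p ∣ 1 := by simpa using this
      exact (Fact.out : p.Prime).one_lt.ne' (Nat.dvd_one.1 h1')

end Cfsg.Agent.Lib.Helper10.BGL
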