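import Mathlib
import Cfsg.Agent.Lib.Helper10.BGL.FldDefs
import Cfsg.Agent.Lib.helper8.ChevK
import Cfsg.Agent.Lib.helper8.ChevW0
import Cfsg.Agent.Lib.helper8.ChevTwP1
import Cfsg.Agent.Lib.helper23.BGLFL07
import Cfsg.Agent.Lib.Helper21.BGLFL09core

/-!
# Project BGL (designer helper10), block FLD, row FL9 (`aset_mul_odd`): the verbatim statement (helper21)
-/

set_option autoImplicit false

namespace Cfsg.Agent.Lib.Helper10.BGL

open Cfsg.Lie Cfsg.Lie.ChevalleyDatum Cfsg.Agent.Lib.helper8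

universe u

variable {K : Type u} [Field K] [Finite K]

/-- FL9 -/
theorem aset_mul_odd (p : ℕ) [Fact p.Prime] [CharP K p] (hp : p ≠ 2) (D : ChevalleyDatum)
    (hD : D ∈ [chevG2, chevB2, chevD4, chevF4, chevE6, chevE7, chevE8]) (a : ℕ)
    (H : Subgroup (GL D.Idx K)) (hL : Lq D K (p ^ a) ≤ H) (s : ℕ) (hs : s < D.nroots) (t u : K)
    (ht : t ∈ Aset D H s) (hu : u ∈ Aset D H s) : t * u ∈ Aset D H s :=
  bglfl09_core p hp (fun S t ht hx hy => sl2_dickson p hp S t ht hx hy) D hD a H hL s hs t u ht hu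

end Cfsg.Agent.Lib.Helper10.BGL
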