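import Mathlib

set_option autoImplicit false

namespace Cfsg.Agent.Lib.Helper21

theorem gen_lift {Γ D : Type*} [Group Γ] [Group D] (σ : Γ →* D) (a b : Γ)
    (hD : Subgroup.closure {σ a, σ b} = ⊤) : Subgroup.closure {a, b} ⊔ σ.ker = ⊤ := by
  rw [eq_top_iff]
  intro g _
  have h1 : σ g ∈ (Subgroup.closure {a, b}).map σ := by
    rw [MonoidHom.map_closure, Set.image_pair, hD]; trivial
  obtain ⟨w, hw, hwg⟩ := h1
  have h2 : g = w * (w⁻¹ * g) := by group
  rw [h2]
  refine Subgroup.mul_mem_sup hw ?_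
  rw [MonoidHom.mem_ker, map_mul, map_inv, hwg]
  group

theorem stem_core {Γ : Type*} [Group Γ] (K : Subgroup Γ) (hKc : K ≤ Subgroup.center Γ)
    (hKd : K ≤ commutator Γ) (a b : Γ) (hgen : Subgroup.closure {a, b} ⊔ K = ⊤)
    (hz : b * a * b⁻¹ * a ∈ K) (N : ℕ) (hN : b * a ^ N = a ^ N * b) :
    (a * b * a⁻¹ * b⁻¹) ^ N = 1 ∧ K ≤ Subgroup.zpowers (a * b * a⁻¹ * b⁻¹) := by
  set z := b * a * b⁻¹ * a with hzdef
  set u := a * b * a⁻¹ * b⁻¹ with hudef
  have hzc : ∀ g : Γ, g * z = z * g := Subgroup.mem_center_iff.mp (hKc hz)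
  have hzic : ∀ g : Γ, g * z⁻¹ = z⁻¹ * g := by
    intro g
    have := hzc g
    calc g * z⁻¹ = z⁻¹ * (z * g) * z⁻¹ := by group
      _ = z⁻¹ * (g * z) * z⁻¹ := by rw [this]
      _ = z⁻¹ * g := by group
  have hconj : b * a * b⁻¹ = z * a⁻¹ := by rw [hzdef]; group
  have hu : u = a * a * z⁻¹ := by
    have h1 : u = a * (b * a * b⁻¹)⁻¹ := by rw [hudef]; group
    rw [h1, hconj, mul_inv_rev, inv_inv, hzic a, ← mul_assoc, mul_assoc a z⁻¹ a, ← hzic a, ← mul_assoc]
  have hconjN : b * a ^ N * b⁻¹ = z ^ N * (a ^ N)⁻¹ := by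
    rw [← conj_pow, hconj]
    have hcomm : Commute z a⁻¹ := (hzc a⁻¹).symm
    rw [hcomm.mul_pow, inv_pow]
  have haN : a ^ N * a ^ N = z ^ N := by
    have h1 : b * a ^ N * b⁻¹ = a ^ N := by rw [hN]; group
    rw [h1] at hconjN
    calc a ^ N * a ^ N = (z ^ N * (a ^ N)⁻¹) * a ^ N := by rw [← hconjN]
      _ = z ^ N := by group
  have huN : u ^ N = 1 := by
    rw [hu]
    have hcomm : Commute (a * a) z⁻¹ := hzic (a * a)
    rw [hcomm.mul_pow, (Commute.refl a).mul_pow, haN, inv_pow, mul_inv_cancel]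
  refine ⟨huN, ?_⟩
  have hua : a * u * a⁻¹ = u := by
    rw [hu]
    calc a * (a * a * z⁻¹) * a⁻¹ = a * a * (a * z⁻¹) * a⁻¹ := by group
      _ = a * a * (z⁻¹ * a) * a⁻¹ := by rw [hzic a]
      _ = a * a * z⁻¹ := by group
  have hub : b * u * b⁻¹ = u⁻¹ := by
    rw [hu]
    calc b * (a * a * z⁻¹) * b⁻¹ = (b * a * b⁻¹) * (b * a * b⁻¹) * (b * z⁻¹) * b⁻¹ := by group
      _ = (z * a⁻¹) * (z * a⁻¹) * (z⁻¹ * b) * b⁻¹ := by rw [hconj, hzic b]
      _ = z * (a⁻¹ * z) * a⁻¹ * z⁻¹ := by group
      _ = z * (z * a⁻¹) * a⁻¹ * z⁻¹ := by rw [hzc a⁻¹]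
      _ = z * (z * (a⁻¹ * a⁻¹) * z⁻¹) := by group
      _ = z * (z * (z⁻¹ * (a⁻¹ * a⁻¹))) := by rw [mul_assoc z (a⁻¹ * a⁻¹) z⁻¹, hzic (a⁻¹ * a⁻¹)]
      _ = (a * a * z⁻¹)⁻¹ := by group
  have hnorm : (Subgroup.zpowers u).Normal := by
    rw [← Subgroup.normalizer_eq_top_iff, eq_top_iff, ← hgen]
    apply sup_le
    · rw [Subgroup.closure_le]
      intro x hx
      rcases hx with rfl | hx
      · show x ∈ Subgroup.normalizer _
        rw [Subgroup.mem_normalizer_iff]
        intro h
        constructor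
        · rintro ⟨j, rfl⟩
          refine ⟨j, ?_⟩
          show u ^ j = x * u ^ j * x⁻¹
          rw [← conj_zpow, hua]
        · rintro ⟨j, hj⟩
          have hj' : u ^ j = x * h * x⁻¹ := hj
          refine ⟨j, ?_⟩
          show u ^ j = h
          have : h = x⁻¹ * (x * h * x⁻¹) * x := by group
          rw [this, ← hj']
          have h3 : x⁻¹ * u * x = u := by
            calc x⁻¹ * u * x = x⁻¹ * (x * u * x⁻¹) * x := by rw [hua]
              _ = u := by group
          have h4 : x⁻¹ * u ^ j * x = (x⁻¹ * u * x) ^ j := by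
            have := conj_zpow (a := x⁻¹) (b := u) (i := j)
            simpa using this.symm
          rw [h4, h3]
      · rw [Set.mem_singleton_iff] at hx
        subst hx
        show x ∈ Subgroup.normalizer _
        rw [Subgroup.mem_normalizer_iff]
        intro h
        constructor
        · rintro ⟨j, rfl⟩
          refine ⟨-j, ?_⟩
          show u ^ (-j) = x * u ^ j * x⁻¹
          rw [← conj_zpow, hub, inv_zpow, zpow_neg]
        · rintro ⟨j, hj⟩
          have hj' : u ^ j = x * h * x⁻¹ := hj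
          refine ⟨-j, ?_⟩
          show u ^ (-j) = h
          have : h = x⁻¹ * (x * h * x⁻¹) * x := by group
          rw [this, ← hj']
          have h3 : x⁻¹ * u * x = u⁻¹ := by
            have : u = x⁻¹ * u⁻¹ * x := by
              calc u = x⁻¹ * (x * u * x⁻¹) * x := by group
                _ = x⁻¹ * u⁻¹ * x := by rw [hub]
            have h5 : u⁻¹ = (x⁻¹ * u⁻¹ * x)⁻¹ := by rw [← this]
            rw [h5]; group
          have h4 : x⁻¹ * u ^ j * x = (x⁻¹ * u * x) ^ j := by
            have := conj_zpow (a := x⁻¹) (b := u) (i := j)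
            simpa using this.symm
          rw [h4, h3, inv_zpow, zpow_neg]
    · intro k hk
      have hkc : ∀ g : Γ, g * k = k * g := Subgroup.mem_center_iff.mp (hKc hk)
      rw [Subgroup.mem_normalizer_iff]
      intro h
      have : k * h * k⁻¹ = h := by
        rw [← hkc h]; group
      rw [this]
  haveI := hnorm
  have hQcomm : ∀ x y : Γ ⧸ Subgroup.zpowers u, x * y = y * x := by
    set π := QuotientGroup.mk' (Subgroup.zpowers u) with hπ
    set S : Set (Γ ⧸ Subgroup.zpowers u) := π '' ({a, b} ∪ (K : Set Γ)) with hS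
    have hcl : Subgroup.closure S = ⊤ := by
      rw [hS, ← MonoidHom.map_closure, Subgroup.closure_union, Subgroup.closure_eq, hgen,
        Subgroup.map_top_of_surjective _ (QuotientGroup.mk'_surjective _)]
    have hπu : π u = 1 := by
      rw [hπ, QuotientGroup.mk'_apply, QuotientGroup.eq_one_iff]
      exact Subgroup.mem_zpowers u
    have hab : π a * π b = π b * π a := by
      have : a * b = u * (b * a) := by rw [hudef]; group
      rw [← map_mul, this, map_mul, hπu, one_mul, map_mul]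
    have hcentral : ∀ k ∈ K, ∀ y : Γ, π k * π y = π y * π k := by
      intro k hk y
      have hkc : ∀ g : Γ, g * k = k * g := Subgroup.mem_center_iff.mp (hKc hk)
      rw [← map_mul, ← map_mul, hkc y]
    have hcomm : ∀ x ∈ S, ∀ y ∈ S, x * y = y * x := by
      rintro _ ⟨x, hx, rfl⟩ _ ⟨y, hy, rfl⟩
      rcases hx with hx | hx
      · rcases hy with hy | hy
        · rcases hx with rfl | hx <;> rcases hy with rfl | hy
          · rfl
          · rw [Set.mem_singleton_iff] at hy; subst hy; exact hab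
          · rw [Set.mem_singleton_iff] at hx; subst hx; exact hab.symm
          · rw [Set.mem_singleton_iff] at hx hy; subst hx; subst hy; rfl
        · exact (hcentral y hy x).symm
      · exact hcentral x hx y
    have hmc := Subgroup.isMulCommutative_closure hcomm
    rw [hcl] at hmc
    intro x y
    have := hmc.is_comm.comm ⟨x, trivial⟩ ⟨y, trivial⟩
    exact congrArg Subtype.val this
  have hder : commutator Γ ≤ Subgroup.zpowers u := by
    rw [commutator_def, Subgroup.commutator_le]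
    intro g1 _ g2 _
    rw [← QuotientGroup.eq_one_iff, commutatorElement_def]
    simp only [QuotientGroup.mk_mul, QuotientGroup.mk_inv]
    rw [hQcomm (g1 : Γ ⧸ Subgroup.zpowers u) (g2 : Γ ⧸ Subgroup.zpowers u)]
    group
  exact le_trans hKd hder

end Cfsg.Agent.Lib.Helper21
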