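import Mathlib
import Cfsg.Prelude.Def_KGroupFacts
import Cfsg.Agent.Lib.Helper21.StemMeta

set_option autoImplicit false

namespace Cfsg.Agent.Lib.Helper21

open Cfsg

universe u

theorem exists_trivial_stem (G : Type u) [Group G] [Finite G] :
    ∃ (Γ : Type u) (_ : Group Γ) (_ : Finite Γ) (σ : Γ →* G),
      IsStemExtension σ ∧ Nonempty (σ.ker ≃* Multiplicative (ZMod 1)) := by
  refine ⟨G, inferInstance, inferInstance, MonoidHom.id G, ⟨Function.surjective_id, ?_, ?_⟩, ?_⟩
  · rw [MonoidHom.ker_id]; exact bot_le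
  · rw [MonoidHom.ker_id]; exact bot_le
  · haveI : Subsingleton (MonoidHom.id G).ker := by
      rw [MonoidHom.ker_id]; infer_instance
    haveI : Subsingleton (Multiplicative (ZMod 1)) := by
      show Subsingleton (ZMod 1)
      infer_instance
    haveI : Unique (MonoidHom.id G).ker := ⟨⟨1⟩, fun _ => Subsingleton.elim _ _⟩
    haveI : Unique (Multiplicative (ZMod 1)) := ⟨⟨1⟩, fun _ => Subsingleton.elim _ _⟩
    exact ⟨MulEquiv.ofUnique⟩

theorem exists_surj_of_cyclic {H : Type*} [Group H] (k : ℕ) (w : H) (hw : w ^ k = 1)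
    (hgen : ∀ x : H, x ∈ Subgroup.zpowers w) :
    ∃ π : Multiplicative (ZMod k) →* H, Function.Surjective π := by
  let f0 : ℤ →+ Additive H := zmultiplesHom (Additive H) (Additive.ofMul w)
  have hf0 : f0 (k : ℤ) = 0 := by
    simp only [f0, zmultiplesHom_apply, natCast_zsmul]
    rw [← ofMul_pow, hw, ofMul_one]
  let f : ZMod k →+ Additive H := ZMod.lift k ⟨f0, hf0⟩
  refine ⟨AddMonoidHom.toMultiplicativeLeft f, ?_⟩
  intro x
  obtain ⟨j, hj⟩ := Subgroup.mem_zpowers_iff.mp (hgen x)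
  refine ⟨Multiplicative.ofAdd ((j : ℤ) : ZMod k), ?_⟩
  show Additive.toMul (f ((j : ℤ) : ZMod k)) = x
  rw [ZMod.lift_coe]
  simp only [f0, zmultiplesHom_apply]
  rw [← hj]
  rfl

end Cfsg.Agent.Lib.Helper21
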