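import Mathlib
import Cfsg.Agent.Lib.Helper22.C3L.Defs
import Cfsg.Agent.Lib.helper8.C3S.Defs

set_option autoImplicit false
set_option linter.unusedVariables false
set_option linter.unusedSectionVars false

/-!
# Project C3S : common lemmas for the rows JGROW and JPROJ (helper21)

Dedekind independence of the automorphisms of `K / F` in the form used by the rows of block J.
-/

namespace Cfsg.Agent.Lib.helper8.C3S

open Module

variable {F K : Type*} [Field F] [Field K] [Algebra F K]

/-- Dedekind: a `K`-combination of the automorphisms which vanishes identically has zero coefficients. -/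
theorem c3sj21_ded [FiniteDimensional F K] (a : (K ≃ₐ[F] K) → K)
    (h : ∀ x : K, ∑ σ : K ≃ₐ[F] K, a σ * σ x = 0) : a = 0 := by
  classical
  have hli := linearIndependent_toLinearMap F K K
  have hinj : Function.Injective (fun σ : K ≃ₐ[F] K => (σ : K →ₐ[F] K)) := by
    intro σ τ hστ
    ext x
    have := congrArg (fun f : K →ₐ[F] K => f x) hστ
    simpa using this
  have hli2 := hli.comp _ hinj
  rw [Fintype.linearIndependent_iff] at hli2
  funext σ
  apply hli2 a ?_ σ
  ext x
  rw [LinearMap.sum_apply, LinearMap.zero_apply]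
  simpa using h x

/-- uniqueness of the coefficients (`= jdec_unique`, proved here to keep the rows independent). -/
theorem c3sj21_coef_unique [FiniteDimensional F K] {a a' : (K ≃ₐ[F] K) → K}
    (h : ∀ x : K, ∑ σ : K ≃ₐ[F] K, a σ * σ x = ∑ σ : K ≃ₐ[F] K, a' σ * σ x) : a = a' := by
  have h0 : a - a' = 0 := by
    apply c3sj21_ded
    intro x
    simp only [Pi.sub_apply, sub_mul, Finset.sum_sub_distrib, h x, sub_self]
  exact sub_eq_zero.mp h0

/-- a `K`-combination of the automorphisms with a non-zero coefficient is a non-zero function. -/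
theorem c3sj21_ne_zero [FiniteDimensional F K] (a : (K ≃ₐ[F] K) → K) {ρ : K ≃ₐ[F] K} (hρ : a ρ ≠ 0) :
    ∃ x : K, ∑ σ : K ≃ₐ[F] K, a σ * σ x ≠ 0 := by
  by_contra hcon
  have hcon' : ∀ x : K, ∑ σ : K ≃ₐ[F] K, a σ * σ x = 0 := by
    intro x
    by_contra hx
    exact hcon ⟨x, hx⟩
  have := c3sj21_ded a hcon'
  exact hρ (by rw [this]; rfl)

end Cfsg.Agent.Lib.helper8.C3S
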