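import Mathlib
import Cfsg.Agent.Lib.Helper22.C3L.Defs
import Cfsg.Agent.Lib.helper8.C3S.Defs
import Cfsg.Agent.Lib.Helper21.C3SJCOM

set_option autoImplicit false
set_option linter.unusedVariables false
set_option linter.unusedSectionVars false

/-!
# Project C3S, row JGROW (helper21): supports multiply
-/

namespace Cfsg.Agent.Lib.helper8.C3S

open Module Cfsg.Agent.Lib.Helper22.C3L

variable {F K V : Type*} [Field F] [Field K] [Algebra F K] [AddCommGroup V] [Module F V] [Module K V]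
  [IsScalarTower F K V]

/-- the coefficient family of `γ₁ ∘ (k ·) ∘ γ₂` -/
theorem c3sjgrow_coef [FiniteDimensional F K] {γ₁ γ₂ : K →ₗ[F] K} {a₁ a₂ : (K ≃ₐ[F] K) → K}
    (h₁ : Coef γ₁ a₁) (h₂ : Coef γ₂ a₂) (k : K) :
    Coef (γ₁ ∘ₗ LinearMap.mulLeft F k ∘ₗ γ₂)
      (fun s => ∑ ρ : K ≃ₐ[F] K, a₁ ρ * ρ (a₂ (ρ⁻¹ * s)) * ρ k) := by
  classical
  intro x
  simp only [LinearMap.comp_apply, LinearMap.mulLeft_apply]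
  rw [h₁, h₂ x]
  have hR : ∑ s : K ≃ₐ[F] K, (∑ ρ : K ≃ₐ[F] K, a₁ ρ * ρ (a₂ (ρ⁻¹ * s)) * ρ k) * s x =
      ∑ ρ : K ≃ₐ[F] K, ∑ s : K ≃ₐ[F] K, a₁ ρ * ρ (a₂ (ρ⁻¹ * s)) * ρ k * s x := by
    rw [Finset.sum_comm]
    apply Finset.sum_congr rfl
    intro s _
    rw [Finset.sum_mul]
  rw [hR]
  apply Finset.sum_congr rfl
  intro ρ _
  rw [map_mul, map_sum, Finset.mul_sum, Finset.mul_sum]
  apply Fintype.sum_equiv (Equiv.mulLeft ρ)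
  intro τ
  simp only [Equiv.coe_mulLeft, inv_mul_cancel_left, AlgEquiv.mul_apply, map_mul]
  ring

/-- two non-zero additive maps have a common point where both are non-zero -/
theorem c3sjgrow_two {A B : Type*} [AddGroup A] [AddGroup B] (φ ψ : A →+ B) {x y : A} (hx : φ x ≠ 0)
    (hy : ψ y ≠ 0) : ∃ z : A, φ z ≠ 0 ∧ ψ z ≠ 0 := by
  by_cases h1 : ψ x = 0
  · by_cases h2 : φ y = 0
    · refine ⟨x + y, ?_, ?_⟩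
      · rw [map_add, h2, add_zero]; exact hx
      · rw [map_add, h1, zero_add]; exact hy
    · exact ⟨y, h2, hy⟩
  · exact ⟨x, hx, h1⟩

/-- JGROW [M-L] supports multiply. -/
theorem jgrow [Finite K] [FiniteDimensional F K] {γ₁ γ₂ : K →ₗ[F] K} {a₁ a₂ : (K ≃ₐ[F] K) → K}
    (h₁ : Coef γ₁ a₁) (h₂ : Coef γ₂ a₂) {ρ₁ ρ₂ τ₁ τ₂ : K ≃ₐ[F] K}
    (hρ₁ : a₁ ρ₁ ≠ 0) (hρ₂ : a₁ ρ₂ ≠ 0) (hτ₁ : a₂ τ₁ ≠ 0) (hτ₂ : a₂ τ₂ ≠ 0) :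
    ∃ (k : K) (a₃ : (K ≃ₐ[F] K) → K), Coef (γ₁ ∘ₗ LinearMap.mulLeft F k ∘ₗ γ₂) a₃ ∧
      a₃ (ρ₁ * τ₁) ≠ 0 ∧ a₃ (ρ₂ * τ₂) ≠ 0 := by
  classical
  -- the coefficient at `s` as an additive function of `k`
  let φ : (K ≃ₐ[F] K) → K →+ K := fun s =>
    { toFun := fun k => ∑ ρ : K ≃ₐ[F] K, a₁ ρ * ρ (a₂ (ρ⁻¹ * s)) * ρ k
      map_zero' := by simp
      map_add' := by
        intro k k'
        simp only [map_add, mul_add, Finset.sum_add_distrib] }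
  have hφ : ∀ s k, φ s k = ∑ ρ : K ≃ₐ[F] K, a₁ ρ * ρ (a₂ (ρ⁻¹ * s)) * ρ k := fun s k => rfl
  have hne : ∀ ρ τ : K ≃ₐ[F] K, a₁ ρ ≠ 0 → a₂ τ ≠ 0 → ∃ k : K, φ (ρ * τ) k ≠ 0 := by
    intro ρ τ hρ hτ
    have hc : (fun ρ' : K ≃ₐ[F] K => a₁ ρ' * ρ' (a₂ (ρ'⁻¹ * (ρ * τ)))) ρ ≠ 0 := by
      simp only [inv_mul_cancel_left]
      exact mul_ne_zero hρ (by simpa using hτ)
    obtain ⟨k, hk⟩ := c3sj21_ne_zero (F := F)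
      (fun ρ' : K ≃ₐ[F] K => a₁ ρ' * ρ' (a₂ (ρ'⁻¹ * (ρ * τ)))) hc
    exact ⟨k, by rw [hφ]; exact hk⟩
  obtain ⟨x, hx⟩ := hne ρ₁ τ₁ hρ₁ hτ₁
  obtain ⟨y, hy⟩ := hne ρ₂ τ₂ hρ₂ hτ₂
  obtain ⟨k, hk1, hk2⟩ := c3sjgrow_two (φ (ρ₁ * τ₁)) (φ (ρ₂ * τ₂)) hx hy
  exact ⟨k, _, c3sjgrow_coef h₁ h₂ k, hk1, hk2⟩

end Cfsg.Agent.Lib.helper8.C3S
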