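import Mathlib
import Cfsg.Agent.Lib.Helper22.C3L.Defs
import Cfsg.Agent.Lib.helper8.C3S.Defs
import Cfsg.Agent.Lib.Helper21.C3SJCOM

set_option autoImplicit false
set_option linter.unusedVariables false
set_option linter.unusedSectionVars false

/-!
# Project C3S, row JPROJ (helper21): projection onto the components `σ, σ⁻¹`
-/

namespace Cfsg.Agent.Lib.helper8.C3S

open Module Cfsg.Agent.Lib.Helper22.C3L

variable {F K V : Type*} [Field F] [Field K] [Algebra F K] [AddCommGroup V] [Module F V] [Module K V]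
  [IsScalarTower F K V]

/-- the trace form separates points -/
theorem c3sjproj_sep [Finite K] [FiniteDimensional F K] {z : K}
    (h : ∀ s : K, Algebra.trace F K (s * z) = 0) : z = 0 := by
  have hnd := traceForm_nondegenerate F K
  apply hnd.2 z
  intro s
  rw [Algebra.traceForm_apply]
  exact h s

open Classical in
/-- trace-dual bases and the orthogonality relations `Σ_i d_i τ(e_i) = δ_{τ,1} = Σ_i e_i τ(d_i)` -/
theorem c3sjproj_dual [Finite K] [FiniteDimensional F K] :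
    ∃ (n : ℕ) (e d : Fin n → K),
      (∀ τ : K ≃ₐ[F] K, ∑ i, d i * τ (e i) = if τ = 1 then 1 else 0) ∧
      (∀ τ : K ≃ₐ[F] K, ∑ i, e i * τ (d i) = if τ = 1 then 1 else 0) := by
  classical
  have hnd := traceForm_nondegenerate F K
  let e := Module.finBasis F K
  let d := (Algebra.traceForm F K).dualBasis hnd e
  have hx : ∀ x : K, ∑ i, d i * algebraMap F K (Algebra.trace F K (x * e i)) = x := by
    intro x
    have h1 := d.sum_repr x
    conv_rhs => rw [← h1]
    apply Finset.sum_congr rfl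
    intro i _
    rw [LinearMap.BilinForm.dualBasis_repr_apply, Algebra.traceForm_apply, Algebra.smul_def, mul_comm]
  have hD : ∀ τ : K ≃ₐ[F] K, ∑ i, d i * τ (e i) = if τ = 1 then 1 else 0 := by
    have h2 : (fun τ : K ≃ₐ[F] K => ∑ i, d i * τ (e i)) =
        (fun τ : K ≃ₐ[F] K => if τ = 1 then (1 : K) else 0) := by
      apply c3sj21_coef_unique (F := F)
      intro x
      have h3 : ∑ τ : K ≃ₐ[F] K, (if τ = 1 then (1 : K) else 0) * τ x = x := by
        simp
      rw [h3]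
      conv_rhs => rw [← hx x]
      simp only [Finset.sum_mul]
      rw [Finset.sum_comm]
      apply Finset.sum_congr rfl
      intro i _
      rw [trace_eq_sum_automorphisms, Finset.mul_sum]
      apply Finset.sum_congr rfl
      intro τ _
      rw [map_mul]
      ring
    intro τ
    exact congrFun h2 τ
  refine ⟨_, fun i => e i, fun i => d i, hD, ?_⟩
  intro τ
  have h4 := congrArg τ (hD τ⁻¹)
  rw [map_sum] at h4
  have h5 : τ (if τ⁻¹ = 1 then (1 : K) else 0) = if τ = 1 then 1 else 0 := by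
    by_cases hτ : τ = 1
    · simp [hτ]
    · have : ¬ τ⁻¹ = 1 := fun h => hτ (inv_eq_one.mp h)
      simp [hτ, this]
  rw [h5] at h4
  rw [← h4]
  apply Finset.sum_congr rfl
  intro i _
  have h6 : τ (τ⁻¹ (e i)) = e i := by
    rw [← AlgEquiv.mul_apply, mul_inv_cancel, AlgEquiv.one_apply]
  rw [map_mul, h6, mul_comm]

/-- the coefficients of a trace-self-adjoint map satisfy `b_ρ = ρ (b_{ρ⁻¹})` -/
theorem c3sjproj_symm [Finite K] [FiniteDimensional F K] {β : K →ₗ[F] K} (hsa : TrAdj β β)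
    {b : (K ≃ₐ[F] K) → K} (hb : Coef β b) (ρ : K ≃ₐ[F] K) : b ρ = ρ (b ρ⁻¹) := by
  classical
  have key : ∀ t : K, β t = ∑ ρ : K ≃ₐ[F] K, ρ (b ρ⁻¹) * ρ t := by
    intro t
    rw [← sub_eq_zero]
    apply c3sjproj_sep (F := F)
    intro s
    rw [mul_sub, map_sub, sub_eq_zero, ← hsa s t, hb s, Finset.sum_mul, Finset.mul_sum, map_sum, map_sum]
    apply Fintype.sum_equiv (Equiv.inv (K ≃ₐ[F] K))
    intro ρ
    simp only [Equiv.inv_apply, inv_inv]
    rw [← Algebra.trace_eq_of_algEquiv ρ⁻¹ (b ρ * ρ s * t)]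
    congr 1
    rw [map_mul, map_mul]
    have : ρ⁻¹ (ρ s) = s := by
      rw [← AlgEquiv.mul_apply, inv_mul_cancel, AlgEquiv.one_apply]
    rw [this]
    ring
  have h2 := c3sj21_coef_unique (F := F) (a := b) (a' := fun ρ => ρ (b ρ⁻¹))
    (fun x => (hb x).symm.trans (key x))
  exact congrFun h2 ρ

/-- polarisation: `k β k' + k' β k ∈ L` -/
theorem c3sjproj_polar (L : AddSubgroup (K →ₗ[F] K))
    (hk : ∀ β ∈ L, ∀ k : K, LinearMap.mulLeft F k ∘ₗ β ∘ₗ LinearMap.mulLeft F k ∈ L)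
    {β : K →ₗ[F] K} (hβ : β ∈ L) (k k' : K) :
    LinearMap.mulLeft F k ∘ₗ β ∘ₗ LinearMap.mulLeft F k' +
      LinearMap.mulLeft F k' ∘ₗ β ∘ₗ LinearMap.mulLeft F k ∈ L := by
  have h1 := hk β hβ (k + k')
  have h2 := hk β hβ k
  have h3 := hk β hβ k'
  have h4 := L.sub_mem (L.sub_mem h1 h2) h3
  convert h4 using 1
  ext x
  simp only [LinearMap.add_apply, LinearMap.sub_apply, LinearMap.comp_apply, LinearMap.mulLeft_apply,
    add_mul, map_add]
  ring

/-- JPROJ [M-L] projection onto the components `σ, σ⁻¹`. -/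
theorem jproj [Finite K] [FiniteDimensional F K] (L : AddSubgroup (K →ₗ[F] K))
    (hk : ∀ β ∈ L, ∀ k : K, LinearMap.mulLeft F k ∘ₗ β ∘ₗ LinearMap.mulLeft F k ∈ L)
    {β : K →ₗ[F] K} (hβ : β ∈ L) (hsa : TrAdj β β) {b : (K ≃ₐ[F] K) → K} (hb : Coef β b)
    (σ : K ≃ₐ[F] K) (c : K) : symz σ (c * b σ) ∈ L := by
  classical
  obtain ⟨n, e, d, hD, hD'⟩ := c3sjproj_dual (F := F) (K := K)
  have hR : ∑ i : Fin n, (LinearMap.mulLeft F (c * e i) ∘ₗ β ∘ₗ LinearMap.mulLeft F (σ⁻¹ (d i)) +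
      LinearMap.mulLeft F (σ⁻¹ (d i)) ∘ₗ β ∘ₗ LinearMap.mulLeft F (c * e i)) ∈ L :=
    L.sum_mem (fun i _ => c3sjproj_polar L hk hβ _ _)
  convert hR using 1
  ext x
  rw [symz_apply, LinearMap.sum_apply]
  simp only [LinearMap.add_apply, LinearMap.comp_apply, LinearMap.mulLeft_apply]
  rw [Finset.sum_add_distrib]
  congr 1
  · -- first part
    have h1 : ∀ i : Fin n, c * e i * β (σ⁻¹ (d i) * x) =
        ∑ ρ : K ≃ₐ[F] K, c * b ρ * ρ x * (e i * (ρ * σ⁻¹) (d i)) := by
      intro i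
      rw [hb, Finset.mul_sum]
      apply Finset.sum_congr rfl
      intro ρ _
      rw [map_mul, AlgEquiv.mul_apply]
      ring
    simp only [h1]
    rw [Finset.sum_comm]
    simp only [← Finset.mul_sum, hD']
    rw [Finset.sum_eq_single σ]
    · simp
    · intro ρ _ hρ
      have : ¬ ρ * σ⁻¹ = 1 := fun h => hρ (mul_inv_eq_one.mp h)
      simp [this]
    · intro h
      exact absurd (Finset.mem_univ σ) h
  · -- second part
    have h1 : ∀ i : Fin n, σ⁻¹ (d i) * β (c * e i * x) =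
        ∑ ρ : K ≃ₐ[F] K, b ρ * ρ c * ρ x * σ⁻¹ (d i * (σ * ρ) (e i)) := by
      intro i
      rw [hb, Finset.mul_sum]
      apply Finset.sum_congr rfl
      intro ρ _
      rw [map_mul, map_mul, map_mul, AlgEquiv.mul_apply]
      have : σ⁻¹ (σ (ρ (e i))) = ρ (e i) := by
        rw [← AlgEquiv.mul_apply, inv_mul_cancel, AlgEquiv.one_apply]
      rw [this]
      ring
    simp only [h1]
    rw [Finset.sum_comm]
    simp only [← Finset.mul_sum, ← map_sum, hD]
    rw [Finset.sum_eq_single σ⁻¹]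
    · have h2 := c3sjproj_symm hsa hb σ⁻¹
      rw [inv_inv] at h2
      simp only [mul_inv_cancel, if_true, map_one, mul_one]
      rw [h2, map_mul, map_mul]
      show σ⁻¹ c * σ⁻¹ (b σ) * σ⁻¹ x = σ⁻¹ (b σ) * σ⁻¹ c * σ⁻¹ x
      ring
    · intro ρ _ hρ
      have : ¬ σ * ρ = 1 := fun h => hρ (eq_inv_of_mul_eq_one_right h)
      simp [this]
    · intro h
      exact absurd (Finset.mem_univ σ⁻¹) h

end Cfsg.Agent.Lib.helper8.C3S
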