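import Mathlib
import Cfsg.Agent.Lib.Helper22.C3L.Defs
import Cfsg.Agent.Lib.Helper10.C3O.Defs
import Cfsg.Agent.Lib.helper3.C3OHYP

set_option autoImplicit false
set_option linter.unusedVariables false
set_option linter.unusedSectionVars false

/-! Project C3O (leader helper10), row KSC (helper21): an `F`-endomorphism preserving every singular
`K`-line is a scalar of `K`. -/

namespace Cfsg.Agent.Lib.Helper10.C3O

open Module Cfsg.Agent.Lib.Helper22.C3L

variable {F K V : Type*} [Field F] [Field K] [Algebra F K] [AddCommGroup V] [Module F V] [Module K V]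
  [IsScalarTower F K V]

/-- one half of KSC: for a hyperbolic pair `(u, u')` and `w₀ ≠ 0` in `⟨u, u'⟩^⊥`, `T` is a scalar `l`
on `K u'` and, modulo `K u`, on `⟨u, u'⟩^⊥`. -/
theorem c3oksc_half (h2K : (2 : K) ≠ 0) (B : V →ₗ[K] V →ₗ[K] K) (hBs : ∀ x y, B x y = B y x)
    {u u' : V} (hu0 : B u u = 0) (hu'0 : B u' u' = 0) (huu' : B u u' = 1)
    (T : V →ₗ[F] V) (hT : ∀ x : V, B x x = 0 → ∀ c : K, ∃ c' : K, T (c • x) = c' • x)
    {w₀ : V} (hw₀ : w₀ ≠ 0) (hw₀u : B w₀ u = 0) (hw₀u' : B w₀ u' = 0) :
    ∃ l : K, (∀ k : K, T (k • u') = (l * k) • u') ∧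
      ∀ y : V, B y u = 0 → B y u' = 0 → B (T y) u = 0 ∧ T y - B (T y) u' • u = l • y := by
  have hu'u : B u' u = 1 := by rw [hBs, huu']
  choose τ hτ using (fun k => hT u' hu'0 k)
  choose σ hσ using (fun k => hT u hu0 k)
  -- the projection onto `⟨u, u'⟩^⊥`
  set P : V → V := fun x => x - B x u' • u - B x u • u' with hP
  have hPadd : ∀ x y, P (x + y) = P x + P y := by
    intro x y
    simp only [hP, map_add, LinearMap.add_apply, add_smul]
    abel
  have hPsmul : ∀ (c : K) (x : V), P (c • x) = c • P x := by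
    intro c x
    simp only [hP, map_smul, LinearMap.smul_apply, smul_eq_mul, smul_sub, smul_smul]
  have hPu : P u = 0 := by
    simp only [hP, hu0, huu', zero_smul, one_smul, sub_self, sub_zero]
  have hPu' : P u' = 0 := by
    simp only [hP, hu'0, hu'u, zero_smul, one_smul, sub_zero, sub_self]
  have hPw : ∀ w, B w u = 0 → B w u' = 0 → P w = w := by
    intro w h1 h2
    simp only [hP, h1, h2, zero_smul, sub_zero]
  -- the key relation
  have hE1 : ∀ (w : V), B w u = 0 → B w u' = 0 → ∀ k : K,
      P (T (k • w)) = (B (T (k • w)) u + τ k) • w := by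
    intro w hwu hwu' k
    set x : V := -(B w w / 2) • u + w + u' with hx
    have hx0 : B x x = 0 := by
      have huw : B u w = 0 := by rw [hBs, hwu]
      have hu'w : B u' w = 0 := by rw [hBs, hwu']
      simp only [hx, map_add, map_smul, LinearMap.add_apply, LinearMap.smul_apply, smul_eq_mul, hu0,
        hu'0, huu', hu'u, hwu, hwu', huw, hu'w]
      field_simp
      ring
    obtain ⟨μ, hμ⟩ := hT x hx0 k
    have hkx : k • x = (k * -(B w w / 2)) • u + k • w + k • u' := by
      rw [hx, smul_add, smul_add, smul_smul]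
    have hTkx : T (k • x) = σ (k * -(B w w / 2)) • u + T (k • w) + τ k • u' := by
      rw [hkx, map_add, map_add, hσ, hτ]
    have hxu : B x u = 1 := by
      simp only [hx, map_add, map_smul, LinearMap.add_apply, LinearMap.smul_apply, smul_eq_mul, hu0,
        hwu, hu'u]
      ring
    have hPx : P x = w := by
      rw [hx, hPadd, hPadd, hPsmul, hPu, hPu', hPw w hwu hwu', smul_zero, zero_add, add_zero]
    -- `μ = C (k w) + τ k`
    have h1 : μ = B (T (k • w)) u + τ k := by
      have := congrArg (fun v => B v u) hμ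
      simp only [hTkx, map_add, map_smul, LinearMap.add_apply, LinearMap.smul_apply, smul_eq_mul, hu0,
        hu'u, hxu, mul_zero, mul_one, zero_add] at this
      exact this.symm
    have h2 : P (T (k • w)) = μ • w := by
      have := congrArg P hμ
      rw [hTkx, hPadd, hPadd, hPsmul, hPsmul, hPsmul, hPu, hPu', hPx, smul_zero, smul_zero, zero_add,
        add_zero] at this
      exact this
    rw [h2, h1]
  -- `C = 0`
  have hC : ∀ (w : V), B w u = 0 → B w u' = 0 → ∀ k : K, B (T (k • w)) u = 0 := by
    intro w hwu hwu' k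
    by_cases hw : w = 0
    · rw [hw, smul_zero, map_zero, map_zero, LinearMap.zero_apply]
    · have e1 := hE1 w hwu hwu' k
      have hwwu : B (w + w) u = 0 := by rw [map_add, LinearMap.add_apply, hwu, add_zero]
      have hwwu' : B (w + w) u' = 0 := by rw [map_add, LinearMap.add_apply, hwu', add_zero]
      have e2 := hE1 (w + w) hwwu hwwu' k
      rw [smul_add, map_add, hPadd, map_add, LinearMap.add_apply, e1, smul_add] at e2
      have e3 : ((2 : K) * B (T (k • w)) u) • w = 0 := by
        have : ((B (T (k • w)) u + τ k) + (B (T (k • w)) u + τ k)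
            - ((B (T (k • w)) u + B (T (k • w)) u + τ k) + (B (T (k • w)) u + B (T (k • w)) u + τ k))) • w
            = 0 := by
          have e2' := e2
          rw [← add_smul, ← add_smul] at e2'
          rw [sub_smul, e2', sub_self]
        have h3 : ((2 : K) * B (T (k • w)) u) • w = -(((B (T (k • w)) u + τ k) + (B (T (k • w)) u + τ k)
            - ((B (T (k • w)) u + B (T (k • w)) u + τ k) + (B (T (k • w)) u + B (T (k • w)) u + τ k))) • w) := by
          rw [← neg_smul]
          congr 1
          ring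
        rw [h3, this, neg_zero]
      rcases smul_eq_zero.mp e3 with h | h
      · rcases mul_eq_zero.mp h with h' | h'
        · exact (h2K h').elim
        · exact h'
      · exact (hw h).elim
  have hM : ∀ (w : V), B w u = 0 → B w u' = 0 → ∀ k : K, P (T (k • w)) = τ k • w := by
    intro w hwu hwu' k
    rw [hE1 w hwu hwu' k, hC w hwu hwu' k, zero_add]
  have hM1 : ∀ (w : V), B w u = 0 → B w u' = 0 → P (T w) = τ 1 • w := by
    intro w hwu hwu'
    have := hM w hwu hwu' 1
    rwa [one_smul] at this
  have hτ1 : ∀ k : K, τ k = τ 1 * k := by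
    intro k
    have e1 := hM w₀ hw₀u hw₀u' k
    have hk1 : B (k • w₀) u = 0 := by rw [map_smul, LinearMap.smul_apply, hw₀u, smul_zero]
    have hk2 : B (k • w₀) u' = 0 := by rw [map_smul, LinearMap.smul_apply, hw₀u', smul_zero]
    have e2 := hM1 (k • w₀) hk1 hk2
    rw [e1, smul_smul] at e2
    have e3 : (τ k - τ 1 * k) • w₀ = 0 := by rw [sub_smul, e2, sub_self]
    rcases smul_eq_zero.mp e3 with h | h
    · exact sub_eq_zero.mp h
    · exact (hw₀ h).elim
  refine ⟨τ 1, fun k => ?_, fun y hyu hyu' => ?_⟩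
  · rw [hτ, hτ1 k]
  · have hCy : B (T y) u = 0 := by
      have := hC y hyu hyu' 1
      rwa [one_smul] at this
    refine ⟨hCy, ?_⟩
    have := hM1 y hyu hyu'
    simp only [hP, hCy, zero_smul, sub_zero] at this
    exact this

theorem ksc_lemma [FiniteDimensional K V] (h2 : (2 : F) ≠ 0) (B : V →ₗ[K] V →ₗ[K] K)
    (hBs : ∀ x y, B x y = B y x) (hBn : ∀ x, x ≠ 0 → ∃ y, B x y ≠ 0) (hd : 3 ≤ finrank K V) {u : V}
    (hu : u ≠ 0) (hu0 : B u u = 0) (T : V →ₗ[F] V)
    (hT : ∀ x : V, B x x = 0 → ∀ c : K, ∃ c' : K, T (c • x) = c' • x) : ∃ a : K, ∀ x : V, T x = a • x := by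
  have h2K : (2 : K) ≠ 0 := c3ohyp_two_ne h2
  obtain ⟨u', hu'0, huu'⟩ := hyp_ex h2 B hBs hBn hu hu0
  have hu'u : B u' u = 1 := by rw [hBs, huu']
  -- a non-zero vector of `⟨u, u'⟩^⊥`
  have hex : ∃ w₀ : V, w₀ ≠ 0 ∧ B w₀ u = 0 ∧ B w₀ u' = 0 := by
    by_contra hcon
    push Not at hcon
    have hall : ∀ x : V, x = B x u' • u + B x u • u' := by
      intro x
      by_contra hx
      have hne : x - B x u' • u - B x u • u' ≠ 0 := by
        intro h
        apply hx
        have h' := sub_eq_zero.mp h
        rw [sub_eq_iff_eq_add] at h'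
        rw [add_comm]
        exact h'
      apply hcon _ hne
      · simp only [map_sub, map_smul, LinearMap.sub_apply, LinearMap.smul_apply, smul_eq_mul, hu0, hu'u]
        ring
      · simp only [map_sub, map_smul, LinearMap.sub_apply, LinearMap.smul_apply, smul_eq_mul, huu', hu'0]
        ring
    have htop : (⊤ : Submodule K V) ≤ Submodule.span K ({u, u'} : Set V) := by
      intro x _
      rw [hall x]
      apply Submodule.add_mem
      · exact Submodule.smul_mem _ _ (Submodule.subset_span (by simp))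
      · exact Submodule.smul_mem _ _ (Submodule.subset_span (by simp))
    have h1 : finrank K V ≤ 2 := by
      classical
      have h3 : finrank K (Submodule.span K (({u, u'} : Finset V) : Set V)) ≤ ({u, u'} : Finset V).card :=
        finrank_span_finset_le_card _
      have h4 : ({u, u'} : Finset V).card ≤ 2 := Finset.card_le_two
      have h5 : finrank K V = finrank K (⊤ : Submodule K V) := (finrank_top K V).symm
      have h6 : finrank K (⊤ : Submodule K V) ≤ finrank K (Submodule.span K (({u, u'} : Finset V) : Set V)) := by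
        apply Submodule.finrank_mono
        simpa using htop
      omega
    omega
  obtain ⟨w₀, hw₀, hw₀u, hw₀u'⟩ := hex
  obtain ⟨l, hl1, hl2⟩ := c3oksc_half h2K B hBs hu0 hu'0 huu' T hT hw₀ hw₀u hw₀u'
  obtain ⟨l', hl'1, hl'2⟩ := c3oksc_half h2K B hBs hu'0 hu0 hu'u T hT hw₀ hw₀u' hw₀u
  have hW : ∀ y : V, B y u = 0 → B y u' = 0 → T y = l • y ∧ T y = l' • y := by
    intro y hyu hyu'
    obtain ⟨a1, a2⟩ := hl2 y hyu hyu'
    obtain ⟨b1, b2⟩ := hl'2 y hyu' hyu
    rw [b1, zero_smul, sub_zero] at a2
    rw [a1, zero_smul, sub_zero] at b2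
    exact ⟨a2, b2⟩
  have hll' : l = l' := by
    obtain ⟨a, b⟩ := hW w₀ hw₀u hw₀u'
    have : (l - l') • w₀ = 0 := by rw [sub_smul, ← a, ← b, sub_self]
    rcases smul_eq_zero.mp this with h | h
    · exact sub_eq_zero.mp h
    · exact (hw₀ h).elim
  refine ⟨l, fun x => ?_⟩
  have hx : x = B x u' • u + B x u • u' + (x - B x u' • u - B x u • u') := by abel
  have h1 : B (x - B x u' • u - B x u • u') u = 0 := by
    simp only [map_sub, map_smul, LinearMap.sub_apply, LinearMap.smul_apply, smul_eq_mul, hu0, hu'u]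
    ring
  have h2' : B (x - B x u' • u - B x u • u') u' = 0 := by
    simp only [map_sub, map_smul, LinearMap.sub_apply, LinearMap.smul_apply, smul_eq_mul, huu', hu'0]
    ring
  have h3 := (hW _ h1 h2').1
  calc T x = T (B x u' • u + B x u • u' + (x - B x u' • u - B x u • u')) := by rw [← hx]
    _ = T (B x u' • u) + T (B x u • u') + T (x - B x u' • u - B x u • u') := by
        rw [map_add, map_add]
    _ = (l' * B x u') • u + (l * B x u) • u' + l • (x - B x u' • u - B x u • u') := by
        rw [hl'1, hl1, h3]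
    _ = l • (B x u' • u + B x u • u' + (x - B x u' • u - B x u • u')) := by
        rw [← hll', smul_add, smul_add, smul_smul, smul_smul]
    _ = l • x := by rw [← hx]

end Cfsg.Agent.Lib.Helper10.C3O
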