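import Mathlib
import Cfsg.Agent.Lib.Helper10.C3Q.Defs
import Cfsg.Agent.Lib.Helper16.SpinAdjust2
import Cfsg.Agent.Lib.Helper16.CDG

set_option autoImplicit false
set_option linter.unusedVariables false
set_option linter.unusedSectionVars false

/-!
# Project C3Q (designer helper10), row SNEG, core: the case `x² = -1`, with the statements of SPLNEG and SGEN as hypotheses.
-/

namespace Cfsg.Agent.Lib.Helper10.C3Q

open Matrix Module Cfsg.Agent.Lib.Helper13.OTS Cfsg.Agent.Lib.Helper16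

universe u

variable {F : Type u} [Field F] {ι : Type} [Fintype ι] [DecidableEq ι]

open Polynomial in
/-- every element of a finite field of odd characteristic is a sum of two squares -/
theorem c3qsneg_two_sq [Fintype F] (h2 : (2 : F) ≠ 0) (c : F) : ∃ s t : F, s ^ 2 + t ^ 2 = c := by
  classical
  have hch : ringChar F ≠ 2 := by
    intro h
    apply h2
    have h3 := CharP.cast_eq_zero F (ringChar F)
    rw [h] at h3
    exact_mod_cast h3
  have hF : Fintype.card F % 2 = 1 := FiniteField.odd_card_of_char_ne_two hch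
  have hf : ((X : F[X]) ^ 2).degree = 2 := by
    rw [Polynomial.degree_X_pow]
    rfl
  have hg : ((X : F[X]) ^ 2 - C c : F[X]).degree = 2 := by
    rw [Polynomial.degree_sub_eq_left_of_degree_lt]
    · rw [Polynomial.degree_X_pow]
      rfl
    · rw [Polynomial.degree_X_pow]
      exact lt_of_le_of_lt Polynomial.degree_C_le (by norm_num)
  obtain ⟨s, t, h⟩ := FiniteField.exists_root_sum_quadratic hf hg hF
  refine ⟨s, t, ?_⟩
  simp only [eval_pow, eval_X, eval_sub, eval_C] at h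
  linear_combination h

/-- matrices agreeing on a spanning family are equal -/
theorem c3qsneg_ext {κ : Type*} (g : κ → (ι → F)) (hspan : ⊤ ≤ Submodule.span F (Set.range g))
    (M N : Matrix ι ι F) (h : ∀ p, M *ᵥ g p = N *ᵥ g p) : M = N := by
  apply Matrix.toLin'.injective
  apply LinearMap.ext_on (top_le_iff.mp hspan)
  rintro _ ⟨p, rfl⟩
  rw [Matrix.toLin'_apply, Matrix.toLin'_apply]
  exact h p

section iso

variable (Q : QuadraticForm F (ι → F)) (X : Matrix ι ι F)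

/-- an isometry preserves the polar form -/
theorem c3qsneg_polar_pres (hiso : ∀ v, Q (X *ᵥ v) = Q v) (u v : ι → F) :
    QuadraticMap.polar (⇑Q) (X *ᵥ u) (X *ᵥ v) = QuadraticMap.polar (⇑Q) u v := by
  unfold QuadraticMap.polar
  rw [← Matrix.mulVec_add, hiso, hiso, hiso]

/-- `B(v, x v) = 0` when `x² = -1` -/
theorem c3qsneg_perp (h2 : (2 : F) ≠ 0) (hiso : ∀ v, Q (X *ᵥ v) = Q v) (hsq : ∀ v, X *ᵥ (X *ᵥ v) = -v)
    (v : ι → F) : QuadraticMap.polar (⇑Q) v (X *ᵥ v) = 0 := by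
  have h1 := c3qsneg_polar_pres Q X hiso v (X *ᵥ v)
  rw [hsq, QuadraticMap.polar_neg_right, QuadraticMap.polar_comm] at h1
  have h3 : (2 : F) * QuadraticMap.polar (⇑Q) v (X *ᵥ v) = 0 := by linear_combination (-1 : F) * h1
  rcases mul_eq_zero.mp h3 with h | h
  · exact absurd h h2
  · exact h

/-- the value of `Q` on the plane `⟨v, x v⟩` -/
theorem c3qsneg_Q_comb (h2 : (2 : F) ≠ 0) (hiso : ∀ v, Q (X *ᵥ v) = Q v) (hsq : ∀ v, X *ᵥ (X *ᵥ v) = -v)
    (v : ι → F) (α β : F) : Q (α • v + β • (X *ᵥ v)) = (α ^ 2 + β ^ 2) * Q v := by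
  rw [QuadraticMap.map_add (⇑Q), QuadraticMap.map_smul, QuadraticMap.map_smul, hiso,
    QuadraticMap.polar_smul_left, QuadraticMap.polar_smul_right, c3qsneg_perp Q X h2 hiso hsq v]
  simp only [smul_eq_mul]
  ring

end iso

section planes

variable (Q : QuadraticForm F (ι → F)) (X : Matrix ι ι F) {d : ℕ} (e : Fin d → (ι → F))

/-- the new family `f j = s e j + t x e j` again gives planes -/
theorem c3qsneg_planes (hiso : ∀ v, Q (X *ᵥ v) = Q v) (hsq : ∀ v, X *ᵥ (X *ᵥ v) = -v)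
    (hp : IsPlanes (⇑Q) e (fun j => X *ᵥ e j)) (s t : F) (ht : t ≠ 0) :
    IsPlanes (⇑Q) e (fun j => s • e j + t • (X *ᵥ e j)) where
  li := by
    rw [Fintype.linearIndependent_iff]
    intro c hc
    have hsum : ∑ p : Fin d × Fin 2,
        (if p.2 = 0 then c (p.1, 0) + s * c (p.1, 1) else t * c (p.1, 1)) •
          (if p.2 = 0 then e p.1 else X *ᵥ e p.1) = 0 := by
      rw [Fintype.sum_prod_type] at hc ⊢
      rw [← hc]
      apply Finset.sum_congr rfl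
      intro j _
      rw [Fin.sum_univ_two, Fin.sum_univ_two]
      simp only [Fin.isValue, ↓reduceIte, one_ne_zero]
      module
    have hold := Fintype.linearIndependent_iff.mp hp.li _ hsum
    intro p
    obtain ⟨j, k⟩ := p
    have h0 := hold (j, 0)
    have h1 := hold (j, 1)
    simp only [Fin.isValue, ↓reduceIte, one_ne_zero] at h0 h1
    have hc1 : c (j, 1) = 0 := (mul_eq_zero.mp h1).resolve_left ht
    have hc0 : c (j, 0) = 0 := by
      rw [hc1, mul_zero, add_zero] at h0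
      exact h0
    fin_cases k
    · exact hc0
    · exact hc1
  span := by
    refine le_trans hp.span (Submodule.span_le.mpr ?_)
    rintro _ ⟨⟨j, k⟩, rfl⟩
    have hm0 : e j ∈ Submodule.span F (Set.range
        (fun p : Fin d × Fin 2 => if p.2 = 0 then e p.1 else s • e p.1 + t • (X *ᵥ e p.1))) :=
      Submodule.subset_span ⟨(j, 0), by simp⟩
    have hm1 : s • e j + t • (X *ᵥ e j) ∈ Submodule.span F (Set.range
        (fun p : Fin d × Fin 2 => if p.2 = 0 then e p.1 else s • e p.1 + t • (X *ᵥ e p.1))) :=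
      Submodule.subset_span ⟨(j, 1), by simp⟩
    fin_cases k
    · simpa using hm0
    · have h3 : X *ᵥ e j = t⁻¹ • ((s • e j + t • (X *ᵥ e j)) - s • e j) := by
        rw [add_sub_cancel_left, smul_smul, inv_mul_cancel₀ ht, one_smul]
      have h4 := Submodule.smul_mem _ t⁻¹ (Submodule.sub_mem _ hm1 (Submodule.smul_mem _ s hm0))
      rw [← h3] at h4
      simpa using h4
  orth := by
    intro i j hij
    obtain ⟨h1, h2', h3⟩ := hp.orth i j hij
    obtain ⟨h4, h5, h6⟩ := hp.orth j i (Ne.symm hij)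
    have h7 : QuadraticMap.polar (⇑Q) (X *ᵥ e i) (e j) = 0 := by
      rw [QuadraticMap.polar_comm]; exact h5
    refine ⟨h1, ?_, ?_⟩
    · rw [QuadraticMap.polar_add_right, QuadraticMap.polar_smul_right, QuadraticMap.polar_smul_right, h1, h2']
      simp
    · rw [QuadraticMap.polar_add_right, QuadraticMap.polar_add_left, QuadraticMap.polar_add_left]
      simp only [QuadraticMap.polar_smul_right, QuadraticMap.polar_smul_left, h1, h2', h3, h7]
      simp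

theorem c3qsneg_gram (h2 : (2 : F) ≠ 0) (hiso : ∀ v, Q (X *ᵥ v) = Q v) (hsq : ∀ v, X *ᵥ (X *ᵥ v) = -v)
    (s t : F) (j : Fin d) :
    QuadraticMap.polar (⇑Q) (s • e j + t • (X *ᵥ e j)) (s • e j + t • (X *ᵥ e j)) =
      (s ^ 2 + t ^ 2) * QuadraticMap.polar (⇑Q) (e j) (e j) := by
  rw [QuadraticMap.polar_self, QuadraticMap.polar_self, c3qsneg_Q_comb Q X h2 hiso hsq]
  simp only [nsmul_eq_mul, Nat.cast_ofNat]
  ring

end planes

section act

variable (Q : QuadraticForm F (ι → F)) (X : Matrix ι ι F) {d : ℕ} (e : Fin d → (ι → F))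

/-- membership in the `j`-th plane `⟨e j, x e j⟩` -/
def c3qsneg_InPl (j : Fin d) (w : ι → F) : Prop := ∃ α β : F, w = α • e j + β • (X *ᵥ e j)

theorem c3qsneg_InPl_X (hsq : ∀ v, X *ᵥ (X *ᵥ v) = -v) {j : Fin d} {w : ι → F}
    (h : c3qsneg_InPl X e j w) : c3qsneg_InPl X e j (X *ᵥ w) := by
  obtain ⟨α, β, rfl⟩ := h
  refine ⟨-β, α, ?_⟩
  rw [Matrix.mulVec_add, Matrix.mulVec_smul, Matrix.mulVec_smul, hsq]
  module

theorem c3qsneg_InPl_orth (hp : IsPlanes (⇑Q) e (fun j => X *ᵥ e j)) {i j : Fin d} (hij : i ≠ j)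
    {u w : ι → F} (hu : c3qsneg_InPl X e i u) (hw : c3qsneg_InPl X e j w) :
    QuadraticMap.polar (⇑Q) u w = 0 := by
  obtain ⟨α, β, rfl⟩ := hu
  obtain ⟨α', β', rfl⟩ := hw
  obtain ⟨h1, h2', h3⟩ := hp.orth i j hij
  obtain ⟨h4, h5, h6⟩ := hp.orth j i (Ne.symm hij)
  have h7 : QuadraticMap.polar (⇑Q) (X *ᵥ e i) (e j) = 0 := by
    rw [QuadraticMap.polar_comm]; exact h5
  rw [QuadraticMap.polar_add_right, QuadraticMap.polar_add_left, QuadraticMap.polar_add_left]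
  simp only [QuadraticMap.polar_smul_right, QuadraticMap.polar_smul_left, h1, h2', h3, h7]
  simp

/-- `Y` acts on the `j`-th plane as `ε j • x` -/
def c3qsneg_ActsAs (Y : Matrix ι ι F) (ε : Fin d → F) : Prop :=
  ∀ j w, c3qsneg_InPl X e j w → Y *ᵥ w = ε j • (X *ᵥ w)

variable (A' : Matrix ι ι F) (s t δ : F)

theorem c3qsneg_A_Xe (ht : t ≠ 0) (hst : s ^ 2 + t ^ 2 = δ)
    (hA1 : ∀ j, A' *ᵥ e j = s • e j + t • (X *ᵥ e j))
    (hA2 : ∀ j, A' *ᵥ (s • e j + t • (X *ᵥ e j)) = δ • e j) (j : Fin d) :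
    A' *ᵥ (X *ᵥ e j) = t • e j + (-s) • (X *ᵥ e j) := by
  have h := hA2 j
  rw [Matrix.mulVec_add, Matrix.mulVec_smul, Matrix.mulVec_smul, hA1, ← hst] at h
  have h5 : t • (A' *ᵥ (X *ᵥ e j)) = t • (t • e j + (-s) • (X *ᵥ e j)) := by
    linear_combination (norm := module) h
  exact smul_right_injective _ ht h5

theorem c3qsneg_InPl_A (ht : t ≠ 0) (hst : s ^ 2 + t ^ 2 = δ)
    (hA1 : ∀ j, A' *ᵥ e j = s • e j + t • (X *ᵥ e j))
    (hA2 : ∀ j, A' *ᵥ (s • e j + t • (X *ᵥ e j)) = δ • e j) {j : Fin d} {w : ι → F}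
    (h : c3qsneg_InPl X e j w) : c3qsneg_InPl X e j (A' *ᵥ w) := by
  obtain ⟨α, β, rfl⟩ := h
  refine ⟨α * s + β * t, α * t - β * s, ?_⟩
  rw [Matrix.mulVec_add, Matrix.mulVec_smul, Matrix.mulVec_smul, hA1,
    c3qsneg_A_Xe X e A' s t δ ht hst hA1 hA2]
  module

theorem c3qsneg_anti (hsq : ∀ v, X *ᵥ (X *ᵥ v) = -v) (ht : t ≠ 0) (hst : s ^ 2 + t ^ 2 = δ)
    (hA1 : ∀ j, A' *ᵥ e j = s • e j + t • (X *ᵥ e j))
    (hA2 : ∀ j, A' *ᵥ (s • e j + t • (X *ᵥ e j)) = δ • e j) {j : Fin d} {w : ι → F}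
    (h : c3qsneg_InPl X e j w) : X *ᵥ (A' *ᵥ w) = -(A' *ᵥ (X *ᵥ w)) := by
  obtain ⟨α, β, rfl⟩ := h
  have hAX := c3qsneg_A_Xe X e A' s t δ ht hst hA1 hA2
  simp only [Matrix.mulVec_add, Matrix.mulVec_smul, hA1, hAX, hsq, Matrix.mulVec_neg]
  module

/-- a matrix acting as `± x` on every plane anticommutes with `A'` -/
theorem c3qsneg_acts_anti (hsq : ∀ v, X *ᵥ (X *ᵥ v) = -v)
    (hp : IsPlanes (⇑Q) e (fun j => X *ᵥ e j)) (ht : t ≠ 0) (hst : s ^ 2 + t ^ 2 = δ)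
    (hA1 : ∀ j, A' *ᵥ e j = s • e j + t • (X *ᵥ e j))
    (hA2 : ∀ j, A' *ᵥ (s • e j + t • (X *ᵥ e j)) = δ • e j)
    (Y : Matrix ι ι F) (ε : Fin d → F) (hY : c3qsneg_ActsAs X e Y ε) : Y * A' = -(A' * Y) := by
  apply c3qsneg_ext _ hp.span
  rintro ⟨j, k⟩
  have hin : c3qsneg_InPl X e j (if (j, k).2 = 0 then e (j, k).1 else X *ᵥ e (j, k).1) := by
    by_cases hk : k = 0
    · exact ⟨1, 0, by simp [hk]⟩
    · exact ⟨0, 1, by simp [hk]⟩
  generalize (if (j, k).2 = 0 then e (j, k).1 else X *ᵥ e (j, k).1) = w at hin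
  rw [← Matrix.mulVec_mulVec, Matrix.neg_mulVec, ← Matrix.mulVec_mulVec,
    hY j _ (c3qsneg_InPl_A X e A' s t δ ht hst hA1 hA2 hin), hY j w hin, Matrix.mulVec_smul,
    c3qsneg_anti X e A' s t δ hsq ht hst hA1 hA2 hin, smul_neg]

/-- conjugating by the reflection in a vector `c` of the plane `j0` changes the sign on that plane only -/
theorem c3qsneg_refl_conj (h2 : (2 : F) ≠ 0) (hiso : ∀ v, Q (X *ᵥ v) = Q v) (hsq : ∀ v, X *ᵥ (X *ᵥ v) = -v)
    (hp : IsPlanes (⇑Q) e (fun j => X *ᵥ e j)) (j0 : Fin d) (c : ι → F) (hc : c3qsneg_InPl X e j0 c)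
    (hQc : Q c ≠ 0) (Y : Matrix ι ι F) (ε : Fin d → F) (hY : c3qsneg_ActsAs X e Y ε) :
    c3qsneg_ActsAs X e (Cfsg.reflectionMatrix (⇑Q) c * Y * Cfsg.reflectionMatrix (⇑Q) c)
      (Function.update ε j0 (-ε j0)) := by
  intro j w hw
  by_cases hj : j = j0
  · subst hj
    rw [Function.update_self]
    -- `w` is a combination of `c` and `x c`
    obtain ⟨α, β, hcdef⟩ := hc
    obtain ⟨α1, β1, hwdef⟩ := hw
    have hQ := c3qsneg_Q_comb Q X h2 hiso hsq (e j) α β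
    rw [← hcdef] at hQ
    have hN : α ^ 2 + β ^ 2 ≠ 0 := by
      intro h0
      apply hQc
      rw [hQ, h0, zero_mul]
    have hNi : (α ^ 2 + β ^ 2)⁻¹ * (α ^ 2 + β ^ 2) = 1 := inv_mul_cancel₀ hN
    have hXc : X *ᵥ c = (-β) • e j + α • (X *ᵥ e j) := by
      rw [hcdef, Matrix.mulVec_add, Matrix.mulVec_smul, Matrix.mulVec_smul, hsq]
      module
    have hw2 : w = ((α ^ 2 + β ^ 2)⁻¹ * (α1 * α + β1 * β)) • c +
        ((α ^ 2 + β ^ 2)⁻¹ * (β1 * α - α1 * β)) • (X *ᵥ c) := by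
      rw [hwdef, hXc, hcdef]
      linear_combination (norm := module) (-α1) • (hNi • e j) + (-β1) • (hNi • (X *ᵥ e j))
    have hcin : c3qsneg_InPl X e j c := ⟨α, β, hcdef⟩
    have hXcin : c3qsneg_InPl X e j (X *ᵥ c) := c3qsneg_InPl_X X e hsq hcin
    have hperp : QuadraticMap.polar (⇑Q) c (X *ᵥ c) = 0 := c3qsneg_perp Q X h2 hiso hsq c
    have hRc : Cfsg.reflectionMatrix (⇑Q) c *ᵥ c = -c := CDG.refl_self' Q c hQc
    have hRXc : Cfsg.reflectionMatrix (⇑Q) c *ᵥ (X *ᵥ c) = X *ᵥ c := CDG.refl_fix_polar Q c _ hperp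
    have h1 : (Cfsg.reflectionMatrix (⇑Q) c * Y * Cfsg.reflectionMatrix (⇑Q) c) *ᵥ c = -ε j • (X *ᵥ c) := by
      rw [← Matrix.mulVec_mulVec, ← Matrix.mulVec_mulVec, hRc, Matrix.mulVec_neg, hY j c hcin,
        Matrix.mulVec_neg, Matrix.mulVec_smul, hRXc, neg_smul]
    have h3 : (Cfsg.reflectionMatrix (⇑Q) c * Y * Cfsg.reflectionMatrix (⇑Q) c) *ᵥ (X *ᵥ c) =
        -ε j • (X *ᵥ (X *ᵥ c)) := by
      rw [← Matrix.mulVec_mulVec, ← Matrix.mulVec_mulVec, hRXc, hY j _ hXcin, hsq, Matrix.mulVec_smul,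
        Matrix.mulVec_neg, hRc]
      module
    rw [hw2, Matrix.mulVec_add, Matrix.mulVec_smul, Matrix.mulVec_smul, h1, h3, Matrix.mulVec_add,
      Matrix.mulVec_smul, Matrix.mulVec_smul]
    module
  · rw [Function.update_of_ne hj]
    have hfix : ∀ v, c3qsneg_InPl X e j v → Cfsg.reflectionMatrix (⇑Q) c *ᵥ v = v := by
      intro v hv
      exact CDG.refl_fix_polar Q c v (c3qsneg_InPl_orth Q X e hp (Ne.symm hj) hc hv)
    have hXw := c3qsneg_InPl_X X e hsq hw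
    rw [← Matrix.mulVec_mulVec, ← Matrix.mulVec_mulVec, hfix w hw, hY j w hw, Matrix.mulVec_smul,
      hfix _ hXw]

end act

/-- SNEG, core: the statements of SPLNEG (`s_planes_neg`) and SGEN (`s_gen`, at `n = d`) are hypotheses -/
theorem s_local_neg_core [Fintype F] (h2 : (2 : F) ≠ 0) (Q : QuadraticForm F (ι → F))
    (hQ : (QuadraticMap.polarBilin Q).Nondegenerate) (d : ℕ) (hcard : Fintype.card ι = 2 * d)
    (hd : 1 ≤ d) (δ : F) (hns : ¬ IsSquare δ) (x : GL ι F) (hx : x ∈ Cfsg.isometryGroup F (⇑Q))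
    (hx2 : ((x ^ 2 : GL ι F) : Matrix ι ι F) = (-1 : F) • (1 : Matrix ι ι F))
    (hSPLNEG : ∃ e : Fin d → (ι → F), IsPlanes (⇑Q) e (fun j => (x : Matrix ι ι F) *ᵥ e j) ∧ ∀ j, Q (e j) ≠ 0)
    (hSGEN : ∀ (e f : Fin d → (ι → F)), IsPlanes (⇑Q) e f →
      (∀ j, QuadraticMap.polar (⇑Q) (f j) (f j) = δ * QuadraticMap.polar (⇑Q) (e j) (e j)) →
      ∃ A' : Matrix ι ι F, Gen (⇑Q) δ A' ∧ ∀ j, A' *ᵥ e j = f j ∧ A' *ᵥ f j = δ • e j) :
    ∃ (A' : Matrix ι ι F) (a b : ι → F) (ha : Q a ≠ 0) (hb : Q b ≠ 0), Gen (⇑Q) δ A' ∧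
      IsSquare (Q a) ∧ ¬ IsSquare (Q b) ∧
      ∀ ρ : GL ι F, (ρ = 1 ∨ ρ = ((reflG Q a ha : ↥(Cfsg.isometryGroup F (⇑Q))) : GL ι F) ∨
          ρ = ((reflG Q b hb : ↥(Cfsg.isometryGroup F (⇑Q))) : GL ι F) ∨
          ρ = ((reflG Q a ha * reflG Q b hb : ↥(Cfsg.isometryGroup F (⇑Q))) : GL ι F)) →
        NrmA A' (ρ⁻¹ * x * ρ) := by
  classical
  obtain ⟨X, hX⟩ : ∃ X : Matrix ι ι F, X = (x : Matrix ι ι F) := ⟨_, rfl⟩
  rw [← hX] at hSPLNEG
  have hiso : ∀ v, Q (X *ᵥ v) = Q v := by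
    rw [hX]
    exact (mem_iso_iff _ _).mp hx
  have hXX : X * X = (-1 : F) • (1 : Matrix ι ι F) := by
    rw [hX, ← hx2, Units.val_pow_eq_pow_val, pow_two]
  have hsq : ∀ v, X *ᵥ (X *ᵥ v) = -v := by
    intro v
    rw [Matrix.mulVec_mulVec, hXX, Matrix.smul_mulVec, Matrix.one_mulVec, neg_one_smul]
  obtain ⟨e, hp, hQe⟩ := hSPLNEG
  obtain ⟨s, t, hst⟩ := c3qsneg_two_sq h2 δ
  have ht : t ≠ 0 := by
    intro h0
    apply hns
    rw [h0, zero_pow two_ne_zero, add_zero] at hst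
    exact ⟨s, by rw [← hst, sq]⟩
  have hp' := c3qsneg_planes Q X e hiso hsq hp s t ht
  have hgram : ∀ j, QuadraticMap.polar (⇑Q) (s • e j + t • (X *ᵥ e j)) (s • e j + t • (X *ᵥ e j)) =
      δ * QuadraticMap.polar (⇑Q) (e j) (e j) := fun j => by
    rw [c3qsneg_gram Q X e h2 hiso hsq s t j, hst]
  obtain ⟨A', hGen, hA⟩ := hSGEN e (fun j => s • e j + t • (X *ᵥ e j)) hp' hgram
  have hA1 : ∀ j, A' *ᵥ e j = s • e j + t • (X *ᵥ e j) := fun j => (hA j).1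
  have hA2 : ∀ j, A' *ᵥ (s • e j + t • (X *ᵥ e j)) = δ • e j := fun j => (hA j).2
  -- the vectors `a, b` of the first plane
  obtain ⟨j0, hj0⟩ : ∃ j0 : Fin d, j0 = ⟨0, hd⟩ := ⟨_, rfl⟩
  have hq0 := hQe j0
  obtain ⟨α, β, hαβ⟩ := c3qsneg_two_sq h2 (Q (e j0))⁻¹
  obtain ⟨α', β', hαβ'⟩ := c3qsneg_two_sq h2 (δ * (Q (e j0))⁻¹)
  obtain ⟨a, hadef⟩ : ∃ a : ι → F, a = α • e j0 + β • (X *ᵥ e j0) := ⟨_, rfl⟩
  obtain ⟨b, hbdef⟩ : ∃ b : ι → F, b = α' • e j0 + β' • (X *ᵥ e j0) := ⟨_, rfl⟩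
  have hQa : Q a = 1 := by
    rw [hadef, c3qsneg_Q_comb Q X h2 hiso hsq, hαβ, inv_mul_cancel₀ hq0]
  have hQb : Q b = δ := by
    rw [hbdef, c3qsneg_Q_comb Q X h2 hiso hsq, hαβ', mul_assoc, inv_mul_cancel₀ hq0, mul_one]
  have hδ0 : δ ≠ 0 := by
    intro h0
    apply hns
    rw [h0]
    exact ⟨0, by simp⟩
  have ha : Q a ≠ 0 := by rw [hQa]; exact one_ne_zero
  have hb : Q b ≠ 0 := by rw [hQb]; exact hδ0
  refine ⟨A', a, b, ha, hb, hGen, by rw [hQa]; exact ⟨1, by simp⟩, by rw [hQb]; exact hns, ?_⟩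
  have hY0 : c3qsneg_ActsAs X e X (fun _ => 1) := fun j w _ => by rw [one_smul]
  have hain : c3qsneg_InPl X e j0 a := ⟨α, β, hadef⟩
  have hbin : c3qsneg_InPl X e j0 b := ⟨α', β', hbdef⟩
  have hYa := c3qsneg_refl_conj Q X e h2 hiso hsq hp j0 a hain ha X _ hY0
  have hYb := c3qsneg_refl_conj Q X e h2 hiso hsq hp j0 b hbin hb X _ hY0
  have hYab := c3qsneg_refl_conj Q X e h2 hiso hsq hp j0 b hbin hb _ _ hYa
  have anti := c3qsneg_acts_anti Q X e A' s t δ hsq hp ht hst hA1 hA2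
  have hRainv : (((reflG Q a ha : ↥(Cfsg.isometryGroup F (⇑Q))) : GL ι F))⁻¹ =
      ((reflG Q a ha : ↥(Cfsg.isometryGroup F (⇑Q))) : GL ι F) := by
    rw [← Subgroup.coe_inv, reflG_inv]
  have hRbinv : (((reflG Q b hb : ↥(Cfsg.isometryGroup F (⇑Q))) : GL ι F))⁻¹ =
      ((reflG Q b hb : ↥(Cfsg.isometryGroup F (⇑Q))) : GL ι F) := by
    rw [← Subgroup.coe_inv, reflG_inv]
  intro ρ hρ
  unfold NrmA
  right
  rcases hρ with rfl | rfl | rfl | rfl
  · rw [inv_one, one_mul, mul_one, ← hX]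
    exact anti X _ hY0
  · rw [hRainv, Units.val_mul, Units.val_mul, reflG_coe, ← hX]
    exact anti _ _ hYa
  · rw [hRbinv, Units.val_mul, Units.val_mul, reflG_coe, ← hX]
    exact anti _ _ hYb
  · rw [Subgroup.coe_mul, _root_.mul_inv_rev, hRainv, hRbinv]
    simp only [Units.val_mul]
    rw [reflG_coe, reflG_coe, ← hX]
    have hmat : Cfsg.reflectionMatrix (⇑Q) b * Cfsg.reflectionMatrix (⇑Q) a * X *
        (Cfsg.reflectionMatrix (⇑Q) a * Cfsg.reflectionMatrix (⇑Q) b) =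
        Cfsg.reflectionMatrix (⇑Q) b * (Cfsg.reflectionMatrix (⇑Q) a * X * Cfsg.reflectionMatrix (⇑Q) a) *
          Cfsg.reflectionMatrix (⇑Q) b := by
      simp only [Matrix.mul_assoc]
    rw [hmat]
    exact anti _ _ hYab

end Cfsg.Agent.Lib.Helper10.C3Q
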