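import Mathlib
import Cfsg.Agent.Lib.Helper10.C3Q.Defs
import Cfsg.Agent.Lib.Helper16.SpinAdjust2
import Cfsg.Agent.Lib.helper6.C3QSGEN
import Cfsg.Agent.Lib.helper17.C3QSPLNEG
import Cfsg.Agent.Lib.Helper21.C3QSNEGcore

set_option autoImplicit false
set_option linter.unusedVariables false
set_option linter.unusedSectionVars false

/-!
# Project C3Q (designer helper10), row SNEG (verbatim): `s_local_neg` = `s_local_neg_core` + SPLNEG (helper17) + SGEN (helper6).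
-/

namespace Cfsg.Agent.Lib.Helper10.C3Q

open Matrix Module Cfsg.Agent.Lib.Helper13.OTS Cfsg.Agent.Lib.Helper16

universe u

variable {F : Type u} [Field F] {ι : Type} [Fintype ι] [DecidableEq ι]

theorem s_local_neg [Fintype F] (h2 : (2 : F) ≠ 0) (Q : QuadraticForm F (ι → F))
    (hQ : (QuadraticMap.polarBilin Q).Nondegenerate) (d : ℕ) (hcard : Fintype.card ι = 2 * d)
    (hd : 1 ≤ d) (δ : F) (hns : ¬ IsSquare δ) (x : GL ι F) (hx : x ∈ Cfsg.isometryGroup F (⇑Q))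
    (hx2 : ((x ^ 2 : GL ι F) : Matrix ι ι F) = (-1 : F) • (1 : Matrix ι ι F)) :
    ∃ (A' : Matrix ι ι F) (a b : ι → F) (ha : Q a ≠ 0) (hb : Q b ≠ 0), Gen (⇑Q) δ A' ∧
      IsSquare (Q a) ∧ ¬ IsSquare (Q b) ∧
      ∀ ρ : GL ι F, (ρ = 1 ∨ ρ = ((reflG Q a ha : ↥(Cfsg.isometryGroup F (⇑Q))) : GL ι F) ∨
          ρ = ((reflG Q b hb : ↥(Cfsg.isometryGroup F (⇑Q))) : GL ι F) ∨
          ρ = ((reflG Q a ha * reflG Q b hb : ↥(Cfsg.isometryGroup F (⇑Q))) : GL ι F)) →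
        NrmA A' (ρ⁻¹ * x * ρ) :=
  s_local_neg_core h2 Q hQ d hcard hd δ hns x hx hx2
    (s_planes_neg h2 Q hQ d hcard x hx hx2)
    (fun e f hp hf => s_gen Q δ hns e f hp hf)

end Cfsg.Agent.Lib.Helper10.C3Q
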