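import Mathlib
import Cfsg.Agent.Lib.Helper13.OTS.Defs
import Cfsg.Agent.Lib.Helper24.S5972SPLIT
import Cfsg.Agent.Lib.Helper24.S5972RESTRICT
import Cfsg.Agent.Lib.helper23.ONECYCLADDER
import Cfsg.Agent.Lib.helper23.ONETYARITH
import Cfsg.Agent.Lib.helper17.OTSQOCTX
import Cfsg.Agent.Lib.helper17.OTSTYSUM
import Cfsg.Agent.Lib.Helper21.OTSTYCLASS
import Cfsg.Agent.Lib.Helper21.OTSTYFPF

/-!
# Project OTS, row FIXTY (helper21): the types of `fixS` and `cycS`.
-/

set_option autoImplicit false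
set_option linter.unusedVariables false

namespace Cfsg.Agent.Lib.Helper13.OTS

open Polynomial Module Cfsg.Agent.Lib.Helper13.S5955 Cfsg.Agent.Lib.helper15.S5972
open Cfsg.Agent.Lib.Helper16.OSemi

/-- a non-degenerate even-dimensional subspace has a type `±1` -/
theorem otsfixty_type {F : Type*} [Field F] [Fintype F] {V : Type*} [AddCommGroup V] [Module F V]
    [FiniteDimensional F V] (Q : QuadraticForm F V) (W : Submodule F V) (hW : SND (qB Q) W)
    (hev : Even (finrank F W)) : ∃ s : ℤ, (s = 1 ∨ s = -1) ∧ QTy Q W s := by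
  rcases q_ty_class Q W hW hev with ⟨_, h⟩ | ⟨_, h, _⟩
  · exact ⟨1, Or.inl rfl, h⟩
  · exact ⟨-1, Or.inr rfl, h⟩

/-- FIXTY [M-L]: the types of `fixS` and `cycS`. -/
theorem q_fix_ty {F : Type*} [Field F] [Fintype F] {p : ℕ} [Fact p.Prime] [CharP F p]
    {V : Type*} [AddCommGroup V] [Module F V] [FiniteDimensional F V]
    {r : ℕ} [Fact r.Prime] (hrp : r ≠ p) (hr2 : r ≠ 2) {Q : QuadraticForm F V} {x : Module.End F V}
    (h : QCtx r Q x) (d : ℕ) (hV : finrank F V = 2 * d) (ε : ℤ) (hε : ε = 1 ∨ ε = -1)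
    (hty : QTy Q ⊤ ε) (i : ℕ) (hi : i = orderOf ((Fintype.card F : ℕ) : ZMod r)) :
    Even (finrank F (fixS x)) ∧ Even (finrank F (cycS r x)) ∧
      QTy Q (cycS r x) (SCy i (finrank F (cycS r x))) ∧
      QTy Q (fixS x) (ε * SCy i (finrank F (cycS r x))) := by
  classical
  have h' : OCtx r (qB Q) x := q_octx h
  obtain ⟨hOrth, hCompl, hFnd, hCnd⟩ := o_split (p := p) hrp h'
  set c : ℕ := if Even i then i else 2 * i with hc
  have hcinv : SInv x (cycS r x) := Cfsg.Agent.Lib.helper15.S5972.s5972restrict_cyc_inv r x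
  have hdvd : c ∣ finrank F (cycS r x) :=
    Cfsg.Agent.Lib.Helper18.ONE.o_cyc_nd_dvd hrp hr2 h' i c hi hc (cycS r x) hcinv le_rfl hCnd
  have hce : Even c := by
    rw [hc]; split_ifs with h0
    · exact h0
    · exact even_two_mul i
  have hgev : Even (finrank F (cycS r x)) := hce.trans_dvd hdvd
  have hsum : finrank F (fixS x) + finrank F (cycS r x) = 2 * d := by
    rw [Submodule.finrank_add_eq_of_isCompl hCompl, hV]
  have hfev : Even (finrank F (fixS x)) := by
    obtain ⟨k, hk⟩ := hgev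
    exact ⟨d - k, by omega⟩
  obtain ⟨sc, hsc1, hsc⟩ := otsfixty_type Q (cycS r x) hCnd hgev
  obtain ⟨sf, hsf1, hsf⟩ := otsfixty_type Q (fixS x) hFnd hfev
  -- the product of the types
  have hprod : sf * sc = ε := by
    have h1 := q_ty_sum Q (fixS x) (cycS r x) hFnd hCnd hOrth hfev hgev sf sc hsf hsc
    rw [hCompl.sup_eq_top] at h1
    rcases hsf1 with rfl | rfl <;> rcases hsc1 with rfl | rfl <;> rcases hε with rfl | rfl <;>
      first
        | rfl
        | (norm_num at h1 ⊢; exact (q_ty_uniq Q ⊤ h1 hty).elim)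
        | (norm_num at h1 ⊢; exact (q_ty_uniq Q ⊤ hty h1).elim)
  -- the type of `cycS`
  have hscy : sc = SCy i (finrank F (cycS r x)) := by
    by_cases hbot : cycS r x = ⊥
    · have h0 : finrank F (cycS r x) = 0 := by rw [hbot]; exact finrank_bot F V
      have h1 : sc = 1 := by
        rw [hbot] at hsc
        exact (q_ty_bot Q sc).mp hsc
      rw [h1, h0]
      unfold SCy
      rw [if_pos (Or.inr (by simp))]
    · have hg0 : 0 < finrank F (cycS r x) := by
        apply Nat.pos_of_ne_zero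
        intro h0
        exact hbot (Submodule.finrank_eq_zero.mp h0)
      have hq := q_ty_fpf (p := p) hrp h (cycS r x) hcinv hCnd le_rfl hbot hgev sc hsc
      have h1 := Cfsg.Agent.Lib.Helper18.ONE.ty_arith r hr2 (Fintype.card F) i c (finrank F (cycS r x)) hi hc
        hdvd hg0 sc hsc1 hq
      unfold SCy
      by_cases h2 : Odd i ∨ Even (finrank F (cycS r x) / i)
      · rw [if_pos h2]; exact h1.mpr h2
      · rw [if_neg h2]
        rcases hsc1 with rfl | rfl
        · exact absurd (h1.mp rfl) h2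
        · rfl
  have hsf' : sf = ε * SCy i (finrank F (cycS r x)) := by
    rw [← hscy, ← hprod]
    rcases hsc1 with rfl | rfl <;> ring
  refine ⟨hfev, hgev, ?_, ?_⟩
  · rw [← hscy]; exact hsc
  · rw [← hsf']; exact hsf

end Cfsg.Agent.Lib.Helper13.OTS
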