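import Mathlib
import Cfsg.Agent.Lib.Helper13.OTS.Defs
import Cfsg.Agent.Lib.Helper21.OTSTYCLASS
import Cfsg.Agent.Lib.Helper5.S5955T6

/-!
# Project OTS, rows WITT and WITTLE (helper21): totally singular subspaces of a non-degenerate even-dimensional
subspace `N` of type `s` exist exactly up to the Witt index `(dim N - (1 - s)) / 2`.
-/

set_option autoImplicit false
set_option linter.unusedVariables false

namespace Cfsg.Agent.Lib.Helper13.OTS

open Polynomial Module Cfsg.Agent.Lib.Helper13.S5955 Cfsg.Agent.Lib.helper15.S5972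
open Cfsg.Agent.Lib.Helper16.OSemi

/-- a subspace of every smaller dimension -/
theorem otswitt_sub {F : Type*} [Field F] {V : Type*} [AddCommGroup V] [Module F V]
    [FiniteDimensional F V] (U : Submodule F V) (j : ℕ) (hj : j ≤ finrank F U) :
    ∃ T : Submodule F V, T ≤ U ∧ finrank F T = j := by
  let b : Basis (Fin (finrank F U)) F U := Module.finBasisOfFinrankEq F U rfl
  have hli : LinearIndependent F (fun i : Fin j => ((b (Fin.castLE hj i) : U) : V)) := by
    have h1 : LinearIndependent F (fun i : Fin j => b (Fin.castLE hj i)) :=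
      b.linearIndependent.comp _ (Fin.castLE_injective hj)
    exact h1.map' U.subtype (Submodule.ker_subtype U)
  refine ⟨Submodule.span F (Set.range fun i : Fin j => ((b (Fin.castLE hj i) : U) : V)), ?_, ?_⟩
  · apply Submodule.span_le.mpr
    rintro _ ⟨i, rfl⟩
    exact (b (Fin.castLE hj i)).2
  · rw [finrank_span_eq_card hli, Fintype.card_fin]

/-- WITT [M]: t.s. subspaces of every dimension up to the Witt index `(dim N - (1 - s)) / 2`. -/
theorem q_witt {F : Type*} [Field F] [Fintype F] {V : Type*} [AddCommGroup V] [Module F V]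
    [FiniteDimensional F V] (Q : QuadraticForm F V) (N : Submodule F V) (hN : SND (qB Q) N)
    (hev : Even (finrank F N)) (s : ℤ) (hs : QTy Q N s) (hs1 : s = 1 ∨ s = -1) (j : ℕ)
    (hj : (2 * j : ℤ) + (1 - s) ≤ finrank F N) :
    ∃ T : Submodule F V, T ≤ N ∧ QTS Q T ∧ finrank F T = j := by
  rcases q_ty_class Q N hN hev with ⟨⟨U, hUN, hUts, hUd⟩, hty⟩ | ⟨hno, hty, U, hUN, hUts, hUd⟩
  · -- hyperbolic
    rcases hs1 with rfl | rfl
    · have hjU : j ≤ finrank F U := by
        have : (2 * j : ℤ) ≤ finrank F N := by linarith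
        have : 2 * j ≤ finrank F N := by exact_mod_cast this
        omega
      obtain ⟨T, hTU, hTd⟩ := otswitt_sub U j hjU
      exact ⟨T, hTU.trans hUN, fun t ht => hUts t (hTU ht), hTd⟩
    · exact (q_ty_uniq Q N hty hs).elim
  · rcases hs1 with rfl | rfl
    · exact (q_ty_uniq Q N hs hty).elim
    · have hjU : j ≤ finrank F U := by
        have : (2 * j : ℤ) + 2 ≤ finrank F N := by linarith
        have : 2 * j + 2 ≤ finrank F N := by exact_mod_cast this
        omega
      obtain ⟨T, hTU, hTd⟩ := otswitt_sub U j hjU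
      exact ⟨T, hTU.trans hUN, fun t ht => hUts t (hTU ht), hTd⟩

/-- WITTLE [M]: the converse bound. -/
theorem q_witt_le {F : Type*} [Field F] [Fintype F] {V : Type*} [AddCommGroup V] [Module F V]
    [FiniteDimensional F V] (Q : QuadraticForm F V) (N : Submodule F V) (hN : SND (qB Q) N)
    (hev : Even (finrank F N)) (s : ℤ) (hs : QTy Q N s) (hs1 : s = 1 ∨ s = -1)
    (T : Submodule F V) (hT : T ≤ N) (hTs : QTS Q T) :
    (2 * finrank F T : ℤ) + (1 - s) ≤ finrank F N := by
  have hTi : STI (qB Q) T := by
    intro u hu v hv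
    show QuadraticMap.polar Q u v = 0
    unfold QuadraticMap.polar
    rw [hTs _ (T.add_mem hu hv), hTs u hu, hTs v hv]; ring
  have h1 : 2 * finrank F T ≤ finrank F N := ti_le_half (qB Q) N T hN hT hTi
  rcases hs1 with rfl | rfl
  · have : (2 * finrank F T : ℤ) ≤ finrank F N := by exact_mod_cast h1
    linarith
  · -- `s = -1`: equality is impossible
    have h2 : 2 * finrank F T ≠ finrank F N := by
      intro heq
      rcases q_ty_class Q N hN hev with ⟨_, hty⟩ | ⟨hno, _, _⟩
      · exact q_ty_uniq Q N hty hs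
      · exact hno ⟨T, hT, hTs, heq⟩
    obtain ⟨k, hk⟩ := hev
    have h3 : 2 * finrank F T + 2 ≤ finrank F N := by omega
    have : (2 * finrank F T : ℤ) + 2 ≤ finrank F N := by exact_mod_cast h3
    linarith

end Cfsg.Agent.Lib.Helper13.OTS
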