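import Mathlib
import Cfsg.Agent.Lib.Helper19.G2V.Defs
import Cfsg.Agent.Lib.helper8.ChevBN2

/-!
# Project G2V (helper19, S2461), row N2 (`nrho_hb`), VERBATIM.

`hb c * nrho * (hb c)⁻¹ = n_ρ(c) = h_ρ(c) * nrho` (torus action on `X 11`, `X 0`), and
`h_ρ(c) = h_a(c) * h_b(c)²` (diagonal matrices; `h8K 11 v = h8K 7 v + 2 * h8K 6 v`).
-/

set_option autoImplicit false

namespace Cfsg.Agent.Lib.Helper19.G2V

open Cfsg.Lie Cfsg.Lie.ChevalleyDatum Matrix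
open Cfsg.Agent.Lib.helper8
open Cfsg.Agent.Lib.helper23.P4V

universe u

variable {F : Type u} [Field F]

/-- torus action on a root element (as `h8hU_conj`, in the form `h * x = x' * h`). -/
theorem g2vn2_conj (s r : ℕ) (hs : s < 12) (hr : r < 12) (c : F) (hc : c ≠ 0) (t : F) :
    h8hU chevG2 hB s c * X r t = X r (c ^ (h8K chevG2 s r) * t) * h8hU chevG2 hB s c := by
  apply Units.ext
  unfold X
  rw [Units.val_mul, Units.val_mul, h8hU_val, h8xU_val, h8xU_val]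
  exact h8hMat_conj_x chevG2 hB.{u}.ca s r hr c hc t (hB.hdiag F s hs c hc)

theorem g2vn2_nrho_eq : (nrho : GG F) = X 11 1 * X 0 (-1⁻¹) * X 11 1 := by
  unfold nrho X
  rw [h8nU_eq]
  rfl

theorem g2vn2_nU_eq (c : F) : h8nU chevG2 hB 11 c = X 11 c * X 0 (-c⁻¹) * X 11 c := by
  unfold X
  rw [h8nU_eq]
  rfl

/-- `hb c * nrho = h_ρ(c) * nrho * hb c`. -/
theorem g2vn2_hb_nrho (c : F) (hc : c ≠ 0) :
    hb c * nrho = h8hU chevG2 hB 11 c * nrho * hb c := by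
  have e11 : ∀ t : F, hb c * X 11 t = X 11 (c * t) * hb c := by
    intro t
    have h := g2vn2_conj 6 11 (by decide) (by decide) c hc t
    have hk : h8K chevG2 6 11 = 1 := by decide
    rw [hk, zpow_one] at h
    exact h
  have e0 : ∀ t : F, hb c * X 0 t = X 0 (c⁻¹ * t) * hb c := by
    intro t
    have h := g2vn2_conj 6 0 (by decide) (by decide) c hc t
    have hk : h8K chevG2 6 0 = -1 := by decide
    rw [hk, _root_.zpow_neg_one] at h
    exact h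
  have h1 : h8hU chevG2 hB 11 c * (nrho : GG F) = h8nU chevG2 hB 11 c := by
    unfold nrho
    rw [← h8nU_eq_hU]
  rw [h1, g2vn2_nU_eq, g2vn2_nrho_eq]
  calc hb c * (X 11 1 * X 0 (-1⁻¹) * X 11 1)
      = (hb c * X 11 1) * X 0 (-1⁻¹) * X 11 1 := by group
    _ = X 11 (c * 1) * (hb c * X 0 (-1⁻¹)) * X 11 1 := by rw [e11]; group
    _ = X 11 (c * 1) * X 0 (c⁻¹ * -1⁻¹) * (hb c * X 11 1) := by rw [e0]; group
    _ = X 11 (c * 1) * X 0 (c⁻¹ * -1⁻¹) * X 11 (c * 1) * hb c := by rw [e11]; group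
    _ = X 11 c * X 0 (-c⁻¹) * X 11 c * hb c := by
        have : c⁻¹ * -(1 : F)⁻¹ = -c⁻¹ := by simp
        rw [mul_one, this]

theorem g2vn2_K : ∀ v : Fin 12, h8K chevG2 11 v.val = h8K chevG2 7 v.val + 2 * h8K chevG2 6 v.val := by
  decide

/-- `h_b(c) = h_ρ(c) * h_a(c⁻¹) * h_b(c⁻¹)` (diagonal matrices). -/
theorem g2vn2_diag (c : F) (hc : c ≠ 0) :
    hb c = h8hU chevG2 hB 11 c * (ha c⁻¹ * hb c⁻¹) := by
  have hc' : c⁻¹ ≠ 0 := inv_ne_zero hc
  apply Units.ext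
  unfold ha hb
  rw [Units.val_mul, Units.val_mul, h8hU_val, h8hU_val, h8hU_val, h8hU_val,
    hB.hdiag F 6 (by decide) c hc, hB.hdiag F 11 (by decide) c hc,
    hB.hdiag F 7 (by decide) c⁻¹ hc', hB.hdiag F 6 (by decide) c⁻¹ hc',
    Matrix.diagonal_mul_diagonal, Matrix.diagonal_mul_diagonal]
  congr 1
  funext i
  rcases i with i | v
  · simp [h8dvec]
  · have hK := g2vn2_K v
    simp only [h8dvec, Sum.elim_inr]
    rw [hK, zpow_add₀ hc, _root_.inv_zpow, _root_.inv_zpow, two_mul, zpow_add₀ hc]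
    have h7 : c ^ h8K chevG2 7 v.val ≠ 0 := zpow_ne_zero _ hc
    have h6 : c ^ h8K chevG2 6 v.val ≠ 0 := zpow_ne_zero _ hc
    field_simp

theorem nrho_hb (c : F) (hc : c ≠ 0) : nrho * hb c * nrho⁻¹ = ha c⁻¹ * hb c⁻¹ := by
  have h1 := g2vn2_hb_nrho c hc
  have h2 := g2vn2_diag c hc
  -- nrho * hb c * nrho⁻¹ = h_ρ(c)⁻¹ * hb c
  have h3 : nrho * hb c * nrho⁻¹ = (h8hU chevG2 hB 11 c)⁻¹ * hb c := by
    have : nrho * hb c = (h8hU chevG2 hB 11 c)⁻¹ * (hb c * nrho) := by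
      rw [h1]; group
    rw [this]; group
  rw [h3]
  nth_rewrite 1 [h2]
  group

end Cfsg.Agent.Lib.Helper19.G2V
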