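import Mathlib
import Cfsg.Agent.Lib.Helper19.G2V.Defs

/-!
# Project G2V (helper19, S2461), row M1: memberships in `Gp F`, VERBATIM.
-/

set_option autoImplicit false

namespace Cfsg.Agent.Lib.Helper19.G2V

open Cfsg.Lie Cfsg.Lie.ChevalleyDatum Matrix
open Cfsg.Agent.Lib.helper8
open Cfsg.Agent.Lib.helper23.P4V

universe u

variable {F : Type u} [Field F]

theorem X_mem_Gp (r : ℕ) (t : F) : X r t ∈ Gp F := by
  have h := h8wordU_mem_group (F := F) chevG2 hB [(r, t)]
  have e : h8wordU (F := F) chevG2 hB [(r, t)] = X r t := by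
    unfold h8wordU X
    simp
  rwa [e] at h

theorem na_mem_Gp : (na : GG F) ∈ Gp F := by
  unfold na h8nU
  exact h8wordU_mem_group chevG2 hB _

theorem nb_mem_Gp : (nb : GG F) ∈ Gp F := by
  unfold nb h8nU
  exact h8wordU_mem_group chevG2 hB _

theorem nrho_mem_Gp : (nrho : GG F) ∈ Gp F := by
  unfold nrho h8nU
  exact h8wordU_mem_group chevG2 hB _

theorem hb_mem_Gp (c : F) : hb c ∈ Gp F := by
  unfold hb h8hU
  exact h8wordU_mem_group chevG2 hB _

end Cfsg.Agent.Lib.Helper19.G2V
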