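import Mathlib
import Cfsg.Agent.Lib.Helper24.Taussky

set_option autoImplicit false

namespace Cfsg.Agent.Lib.Helper21

universe u

open scoped commutatorElement

/-- Cardinality of the center quotient. -/
theorem mc_card_center_mul {X : Type*} [Group X] [Finite X] :
    Nat.card (Subgroup.center X) * Nat.card (X ⧸ Subgroup.center X) = Nat.card X := by
  rw [← Subgroup.index_eq_card]
  exact Subgroup.card_mul_index _

/-- If `X / Z(X)` is cyclic then it is trivial. -/
theorem mc_center_top_of_cyclic {X : Type*} [Group X] (h : IsCyclic (X ⧸ Subgroup.center X)) :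
    Subgroup.center X = ⊤ := by
  rw [eq_top_iff]
  intro a _
  rw [Subgroup.mem_center_iff]
  intro b
  exact commutative_of_cyclic_center_quotient (QuotientGroup.mk' (Subgroup.center X))
    (by rw [QuotientGroup.ker_mk']) b a

/-- A `p`-group of order `p ^ m`, `m ≥ 2`, has class at most `m - 1`. -/
theorem mc_class_le (p : ℕ) [hp : Fact p.Prime] : ∀ (m : ℕ) (X : Type u) [Group X] [Finite X],
    Nat.card X = p ^ m → 2 ≤ m → Group.nilpotencyClass X ≤ m - 1 := by
  intro m
  induction m using Nat.strong_induction_on with
  | _ m ih =>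
    intro X _ _ hX hm
    have hpg : IsPGroup p X := IsPGroup.of_card hX
    haveI : Group.IsNilpotent X := hpg.isNilpotent
    haveI : Nontrivial X := by
      rw [← Finite.one_lt_card_iff_nontrivial, hX]
      exact Nat.one_lt_pow (by omega) hp.out.one_lt
    haveI := hpg.center_nontrivial
    obtain ⟨k, hk⟩ := (hpg.to_subgroup (Subgroup.center X)).exists_card_eq
    have hk1 : 1 ≤ k := by
      rcases Nat.eq_zero_or_pos k with h0 | h0
      · subst h0
        rw [pow_zero] at hk
        have := Finite.one_lt_card_iff_nontrivial.mpr ‹Nontrivial (Subgroup.center X)›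
        omega
      · exact h0
    have hmul := mc_card_center_mul (X := X)
    have hkm : k ≤ m := by
      have : p ^ k ∣ p ^ m := by rw [← hk, ← hX]; exact Subgroup.card_subgroup_dvd_card _
      exact (Nat.pow_dvd_pow_iff_le_right hp.out.one_lt).mp this
    have hq : Nat.card (X ⧸ Subgroup.center X) = p ^ (m - k) := by
      rw [hk, hX] at hmul
      have h2 : p ^ k * p ^ (m - k) = p ^ m := by rw [← pow_add]; congr 1; omega
      exact Nat.eq_of_mul_eq_mul_left (pow_pos hp.out.pos k) (hmul.trans h2.symm)
    rw [Group.nilpotencyClass_eq_quotient_center_plus_one]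
    by_cases h2 : 2 ≤ m - k
    · have := ih (m - k) (by omega) (X ⧸ Subgroup.center X) hq h2
      omega
    · -- quotient is cyclic, hence trivial
      have hcyc : IsCyclic (X ⧸ Subgroup.center X) := by
        have hmk : m - k = 0 ∨ m - k = 1 := by omega
        rcases hmk with h0 | h1
        · rw [h0, pow_zero] at hq
          haveI : Subsingleton (X ⧸ Subgroup.center X) := (Nat.card_eq_one_iff_unique.mp hq).1
          infer_instance
        · rw [h1, pow_one] at hq
          exact isCyclic_of_prime_card hq
      have htop := mc_center_top_of_cyclic hcyc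
      haveI : Subsingleton (X ⧸ Subgroup.center X) := by
        rw [htop]; exact QuotientGroup.subsingleton_quotient_top
      have : Group.nilpotencyClass (X ⧸ Subgroup.center X) = 0 :=
        Group.nilpotencyClass_zero_iff_subsingleton.mpr inferInstance
      omega


/-- A group of maximal class has centre of order `p`, and its central quotient has maximal class. -/
theorem mc_center_card (p : ℕ) [hp : Fact p.Prime] (n : ℕ) (hn : 3 ≤ n) (X : Type u) [Group X]
    [Finite X] (hX : Nat.card X = p ^ n) (hc : Group.nilpotencyClass X = n - 1) :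
    Nat.card (Subgroup.center X) = p ∧ Nat.card (X ⧸ Subgroup.center X) = p ^ (n - 1) ∧
      Group.nilpotencyClass (X ⧸ Subgroup.center X) = n - 2 := by
  have hpg : IsPGroup p X := IsPGroup.of_card hX
  haveI : Group.IsNilpotent X := hpg.isNilpotent
  haveI : Nontrivial X := by
    rw [← Finite.one_lt_card_iff_nontrivial, hX]
    exact Nat.one_lt_pow (by omega) hp.out.one_lt
  haveI := hpg.center_nontrivial
  obtain ⟨k, hk⟩ := (hpg.to_subgroup (Subgroup.center X)).exists_card_eq
  have hk1 : 1 ≤ k := by
    rcases Nat.eq_zero_or_pos k with h0 | h0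
    · subst h0
      rw [pow_zero] at hk
      have := Finite.one_lt_card_iff_nontrivial.mpr ‹Nontrivial (Subgroup.center X)›
      omega
    · exact h0
  have hmul := mc_card_center_mul (X := X)
  have hkm : k ≤ n := by
    have : p ^ k ∣ p ^ n := by rw [← hk, ← hX]; exact Subgroup.card_subgroup_dvd_card _
    exact (Nat.pow_dvd_pow_iff_le_right hp.out.one_lt).mp this
  have hq : Nat.card (X ⧸ Subgroup.center X) = p ^ (n - k) := by
    rw [hk, hX] at hmul
    have h2 : p ^ k * p ^ (n - k) = p ^ n := by rw [← pow_add]; congr 1; omega
    exact Nat.eq_of_mul_eq_mul_left (pow_pos hp.out.pos k) (hmul.trans h2.symm)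
  have hcq : Group.nilpotencyClass (X ⧸ Subgroup.center X) = n - 2 := by
    rw [Group.nilpotencyClass_quotient_center, hc]; omega
  have hk_eq : k = 1 := by
    by_cases h2 : 2 ≤ n - k
    · have := mc_class_le p (n - k) (X ⧸ Subgroup.center X) hq h2
      omega
    · exfalso
      have hcyc : IsCyclic (X ⧸ Subgroup.center X) := by
        have hmk : n - k = 0 ∨ n - k = 1 := by omega
        rcases hmk with h0 | h1
        · rw [h0, pow_zero] at hq
          haveI : Subsingleton (X ⧸ Subgroup.center X) := (Nat.card_eq_one_iff_unique.mp hq).1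
          infer_instance
        · rw [h1, pow_one] at hq
          exact isCyclic_of_prime_card hq
      have htop := mc_center_top_of_cyclic hcyc
      haveI : Subsingleton (X ⧸ Subgroup.center X) := by
        rw [htop]; exact QuotientGroup.subsingleton_quotient_top
      have : Group.nilpotencyClass (X ⧸ Subgroup.center X) = 0 :=
        Group.nilpotencyClass_zero_iff_subsingleton.mpr inferInstance
      omega
  subst hk_eq
  refine ⟨by rw [hk, pow_one], hq, hcq⟩

/-- A group of order 4 that is not cyclic has exponent two. -/
theorem mc_sq_of_card_four {Y : Type*} [Group Y] (hY : Nat.card Y = 4) (hnc : ¬ IsCyclic Y)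
    (y : Y) : y * y = 1 := by
  haveI : Finite Y := Nat.finite_of_card_ne_zero (by omega)
  have hdvd : orderOf y ∣ 4 := by rw [← hY]; exact orderOf_dvd_natCard y
  have hle : orderOf y ≤ 4 := Nat.le_of_dvd (by norm_num) hdvd
  have hpos : 0 < orderOf y := orderOf_pos y
  have h4 : orderOf y ≠ 4 := by
    intro h
    exact hnc (isCyclic_of_orderOf_eq_card y (by rw [h, hY]))
  have h3 : orderOf y ≠ 3 := by
    intro h; rw [h] at hdvd; omega
  have : orderOf y ∣ 2 := by
    interval_cases (orderOf y) <;> simp_all
  rw [← pow_two]
  exact orderOf_dvd_iff_pow_eq_one.mp this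

/-- Non-commutative groups have nontrivial commutator subgroup; contrapositive form for centre. -/
theorem mc_commutator_ne_bot {X : Type*} [Group X] (h : Subgroup.center X ≠ ⊤) :
    commutator X ≠ ⊥ := by
  intro hbot
  apply h
  rw [eq_top_iff]
  intro a _
  rw [Subgroup.mem_center_iff]
  intro b
  have : ⁅b, a⁆ ∈ commutator X := by
    rw [commutator_def]
    exact Subgroup.commutator_mem_commutator (Subgroup.mem_top _) (Subgroup.mem_top _)
  rw [hbot, Subgroup.mem_bot, commutatorElement_eq_one_iff_mul_comm] at this
  exact this

/-- In a nilpotent group whose centre has prime order, every nontrivial normal subgroup contains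
the centre. -/
theorem mc_center_le_of_prime {X : Type*} [Group X] [Finite X] [Group.IsNilpotent X] (p : ℕ)
    [hp : Fact p.Prime] (hZ : Nat.card (Subgroup.center X) = p) (N : Subgroup X) [N.Normal]
    (hN : N ≠ ⊥) : Subgroup.center X ≤ N := by
  have h1 := Cfsg.Agent.Lib.Helper1.normal_inf_center_ne_bot N hN
  have hle : N ⊓ Subgroup.center X ≤ Subgroup.center X := inf_le_right
  have hdvd : Nat.card ↥(N ⊓ Subgroup.center X) ∣ p := by
    rw [← hZ]; exact Subgroup.card_dvd_of_le hle
  have hne1 : Nat.card ↥(N ⊓ Subgroup.center X) ≠ 1 := by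
    intro h; exact h1 (Subgroup.card_eq_one.mp h)
  have hcard : Nat.card ↥(N ⊓ Subgroup.center X) = p := by
    rcases (Nat.dvd_prime hp.out).mp hdvd with h | h
    · exact absurd h hne1
    · exact h
  have heq : N ⊓ Subgroup.center X = Subgroup.center X :=
    Subgroup.eq_of_le_of_card_ge hle (by rw [hcard, hZ])
  rw [← heq]; exact inf_le_left

/-- Commutator subgroup of the quotient by a central subgroup contained in the commutator. -/
theorem mc_commutator_quotient {X : Type*} [Group X] (Z : Subgroup X) [Z.Normal] :
    commutator (X ⧸ Z) = (commutator X).map (QuotientGroup.mk' Z) := by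
  rw [commutator_def, commutator_def, Subgroup.map_commutator,
    Subgroup.map_top_of_surjective _ (QuotientGroup.mk'_surjective Z)]

theorem mc_index_commutator_quotient {X : Type*} [Group X] (Z : Subgroup X) [Z.Normal]
    (hZ : Z ≤ commutator X) : (commutator (X ⧸ Z)).index = (commutator X).index := by
  rw [mc_commutator_quotient]
  exact Subgroup.index_map_eq _ (QuotientGroup.mk'_surjective Z) (by rw [QuotientGroup.ker_mk']; exact hZ)

/-- A 2-group of maximal class has commutator quotient of order four and exponent two. -/
theorem mc_two_index : ∀ (n : ℕ) (X : Type u) [Group X] [Finite X], 3 ≤ n →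
    Nat.card X = 2 ^ n → Group.nilpotencyClass X = n - 1 →
    (commutator X).index = 4 ∧ ∀ x : X, x * x ∈ commutator X := by
  haveI : Fact (Nat.Prime 2) := ⟨Nat.prime_two⟩
  intro n
  induction n using Nat.strong_induction_on with
  | _ n ih =>
    intro X _ _ hn hX hc
    have hpg : IsPGroup 2 X := IsPGroup.of_card hX
    haveI : Group.IsNilpotent X := hpg.isNilpotent
    obtain ⟨hZ, hq, hcq⟩ := mc_center_card 2 n hn X hX hc
    have hZtop : Subgroup.center X ≠ ⊤ := by
      intro h
      have : Nat.card (Subgroup.center X) = Nat.card X := by rw [h, Subgroup.card_top]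
      rw [hZ, hX] at this
      have : 2 ^ 3 ≤ 2 ^ n := Nat.pow_le_pow_right (by norm_num) hn
      omega
    have hne := mc_commutator_ne_bot hZtop
    have hZle : Subgroup.center X ≤ commutator X := mc_center_le_of_prime 2 hZ _ hne
    have hidx := mc_index_commutator_quotient (Subgroup.center X) hZle
    by_cases h3 : n = 3
    · subst h3
      -- quotient has order 4, is not cyclic
      have hq4 : Nat.card (X ⧸ Subgroup.center X) = 4 := by rw [hq]; norm_num
      have hnc : ¬ IsCyclic (X ⧸ Subgroup.center X) := fun h => hZtop (mc_center_top_of_cyclic h)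
      have hsq := mc_sq_of_card_four hq4 hnc
      -- commutator ≤ centre
      have hcomm : IsMulCommutative (X ⧸ Subgroup.center X) :=
        IsPGroup.isMulCommutative_of_card_eq_prime_sq (p := 2) (by rw [hq4]; norm_num)
      have hle : commutator X ≤ Subgroup.center X := by
        rw [commutator_def, Subgroup.commutator_le]
        intro a _ b _
        rw [← QuotientGroup.eq_one_iff, ← QuotientGroup.mk'_apply, map_commutatorElement,
          commutatorElement_eq_one_iff_mul_comm]
        exact hcomm.is_comm.comm _ _
      have heq : commutator X = Subgroup.center X := le_antisymm hle hZle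
      refine ⟨?_, ?_⟩
      · rw [heq, Subgroup.index_eq_card, hq4]
      · intro x
        rw [heq, ← QuotientGroup.eq_one_iff]
        exact hsq (x : X ⧸ Subgroup.center X)
    · have hn4 : 4 ≤ n := by omega
      obtain ⟨hi, hs⟩ := ih (n - 1) (by omega) (X ⧸ Subgroup.center X) (by omega) hq
        (by rw [hcq]; omega)
      refine ⟨by rw [← hidx]; exact hi, ?_⟩
      intro x
      have := hs (x : X ⧸ Subgroup.center X)
      rw [mc_commutator_quotient] at this
      obtain ⟨y, hy, hyx⟩ := this
      rw [QuotientGroup.mk'_apply, ← QuotientGroup.mk_mul, QuotientGroup.eq] at hyx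
      have h1 : y⁻¹ * (x * x) ∈ commutator X := hZle hyx
      have := (commutator X).mul_mem hy h1
      simpa using this


/-- Elements of a cyclic subgroup commute. -/
theorem mc_cyclic_comm {X : Type*} [Group X] (C : Subgroup X) (hC : IsCyclic C) :
    ∀ x ∈ C, ∀ y ∈ C, x * y = y * x := by
  intro x hx y hy
  obtain ⟨g, hg⟩ := hC.exists_generator
  obtain ⟨i, hi⟩ := Subgroup.mem_zpowers_iff.mp (hg ⟨x, hx⟩)
  obtain ⟨j, hj⟩ := Subgroup.mem_zpowers_iff.mp (hg ⟨y, hy⟩)
  have hi' : (g : X) ^ i = x := by
    have := congrArg Subtype.val hi; simpa using this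
  have hj' : (g : X) ^ j = y := by
    have := congrArg Subtype.val hj; simpa using this
  rw [← hi', ← hj']
  exact ((Commute.refl (g : X)).zpow_zpow i j).eq

/-- Structure of a 2-group with commutator quotient of order four: a cyclic maximal subgroup
containing the centre, which has order two. -/
theorem mc_structure {X : Type u} [Group X] [Finite X] (n : ℕ) (hn : 3 ≤ n)
    (hX : Nat.card X = 2 ^ n) (hidx : (commutator X).index = 4) :
    Nat.card (Subgroup.center X) = 2 ∧ Subgroup.center X ≤ commutator X ∧
    ∃ C : Subgroup X, IsCyclic C ∧ C.index = 2 ∧ Subgroup.center X ≤ C ∧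
      ∀ g : X, g ∉ C → ∀ u ∈ C, u * g = g * u → u ∈ Subgroup.center X := by
  haveI : Fact (Nat.Prime 2) := ⟨Nat.prime_two⟩
  have hpg : IsPGroup 2 X := IsPGroup.of_card hX
  haveI : Group.IsNilpotent X := hpg.isNilpotent
  have h8 : 8 ≤ 2 ^ n := by
    have : 2 ^ 3 ≤ 2 ^ n := Nat.pow_le_pow_right (by norm_num) hn
    omega
  haveI : Nontrivial X := by
    rw [← Finite.one_lt_card_iff_nontrivial, hX]; omega
  haveI := hpg.center_nontrivial
  obtain ⟨C, hCc, hCi⟩ := Cfsg.Agent.Lib.Helper24.tk_exists_cyclic (2 ^ n) X hX hpg hidx h8
  have hCab := mc_cyclic_comm C hCc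
  have hCcard : Nat.card C * 2 = Nat.card X := by rw [← hCi]; exact Subgroup.card_mul_index _
  have hZC : Subgroup.center X ≤ C := by
    intro z hz
    by_contra hzC
    have h1 := Cfsg.Agent.Lib.Helper24.tk_centralizer_card_le C hCab hCi z hzC hidx
    have h2 : Subgroup.centralizer ({z} : Set X) = ⊤ := by
      rw [eq_top_iff]
      intro a _
      rw [Subgroup.mem_centralizer_singleton_iff]
      exact (Subgroup.mem_center_iff.mp hz a)
    rw [h2, inf_top_eq] at h1
    omega
  have hCne : ∃ g : X, g ∉ C := by
    by_contra h
    push Not at h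
    have : C = ⊤ := by rw [eq_top_iff]; intro a _; exact h a
    rw [this, Subgroup.index_top] at hCi
    omega
  obtain ⟨g0, hg0⟩ := hCne
  have hZcard : Nat.card (Subgroup.center X) = 2 := by
    have h1 := Cfsg.Agent.Lib.Helper24.tk_centralizer_card_le C hCab hCi g0 hg0 hidx
    have h2 : Subgroup.center X ≤ C ⊓ Subgroup.centralizer ({g0} : Set X) :=
      le_inf hZC (Subgroup.center_le_centralizer _)
    have h3 := Subgroup.card_le_of_le h2
    have h4 := Finite.one_lt_card_iff_nontrivial.mpr ‹Nontrivial (Subgroup.center X)›
    omega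
  have hZtop : Subgroup.center X ≠ ⊤ := by
    intro h
    have : Nat.card (Subgroup.center X) = Nat.card X := by rw [h, Subgroup.card_top]
    omega
  have hne := mc_commutator_ne_bot hZtop
  have hZle : Subgroup.center X ≤ commutator X := mc_center_le_of_prime 2 hZcard _ hne
  refine ⟨hZcard, hZle, C, hCc, hCi, hZC, ?_⟩
  intro g hg u hu hug
  rw [Subgroup.mem_center_iff]
  intro b
  have htop := Cfsg.Agent.Lib.Helper24.tk_sup_top C hCi g hg
  have hb : b ∈ C ⊔ Subgroup.zpowers g := by rw [htop]; exact Subgroup.mem_top _
  have hcen : C ⊔ Subgroup.zpowers g ≤ Subgroup.centralizer ({u} : Set X) := by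
    apply sup_le
    · intro c hc
      rw [Subgroup.mem_centralizer_singleton_iff]
      exact hCab c hc u hu
    · rw [Subgroup.zpowers_le, Subgroup.mem_centralizer_singleton_iff]
      exact hug.symm
  have := hcen hb
  rw [Subgroup.mem_centralizer_singleton_iff] at this
  exact this

/-- A 2-group with commutator quotient of order four has maximal class. -/
theorem mc_class_of_index_four : ∀ (n : ℕ) (X : Type u) [Group X] [Finite X], 2 ≤ n →
    Nat.card X = 2 ^ n → (commutator X).index = 4 → Group.nilpotencyClass X = n - 1 := by
  haveI : Fact (Nat.Prime 2) := ⟨Nat.prime_two⟩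
  intro n
  induction n using Nat.strong_induction_on with
  | _ n ih =>
    intro X _ _ hn hX hidx
    have hpg : IsPGroup 2 X := IsPGroup.of_card hX
    haveI : Group.IsNilpotent X := hpg.isNilpotent
    haveI : Nontrivial X := by
      rw [← Finite.one_lt_card_iff_nontrivial, hX]
      exact Nat.one_lt_pow (by omega) (by norm_num)
    rw [Group.nilpotencyClass_eq_quotient_center_plus_one]
    by_cases h2 : n = 2
    · subst h2
      have hcomm : IsMulCommutative X :=
        IsPGroup.isMulCommutative_of_card_eq_prime_sq (p := 2) hX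
      have htop : Subgroup.center X = ⊤ := by
        rw [eq_top_iff]; intro a _
        rw [Subgroup.mem_center_iff]; intro b
        exact hcomm.is_comm.comm _ _
      haveI : Subsingleton (X ⧸ Subgroup.center X) := by
        rw [htop]; exact QuotientGroup.subsingleton_quotient_top
      have : Group.nilpotencyClass (X ⧸ Subgroup.center X) = 0 :=
        Group.nilpotencyClass_zero_iff_subsingleton.mpr inferInstance
      omega
    · have hn3 : 3 ≤ n := by omega
      obtain ⟨hZ, hZle, -⟩ := mc_structure n hn3 hX hidx
      have hmul := mc_card_center_mul (X := X)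
      have hq : Nat.card (X ⧸ Subgroup.center X) = 2 ^ (n - 1) := by
        rw [hZ, hX] at hmul
        have h2 : 2 * 2 ^ (n - 1) = 2 ^ n := by rw [← pow_succ']; congr 1; omega
        omega
      have hi := mc_index_commutator_quotient (Subgroup.center X) hZle
      have := ih (n - 1) (by omega) (X ⧸ Subgroup.center X) (by omega) hq (by rw [hi]; exact hidx)
      omega

end Cfsg.Agent.Lib.Helper21
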