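import Mathlib
import Cfsg.Agent.Lib.Helper21.MaxClassTwo

set_option autoImplicit false

namespace Cfsg.Agent.Lib.Helper21

universe u

open scoped commutatorElement

/-- A group of order `p²` that is not cyclic has exponent `p`. -/
theorem mc_pow_of_card_sq {Y : Type*} [Group Y] (p : ℕ) [hp : Fact p.Prime]
    (hY : Nat.card Y = p ^ 2) (hnc : ¬ IsCyclic Y) (y : Y) : y ^ p = 1 := by
  haveI : Finite Y := Nat.finite_of_card_ne_zero (by rw [hY]; exact pow_ne_zero _ hp.out.ne_zero)
  have hdvd : orderOf y ∣ p ^ 2 := by rw [← hY]; exact orderOf_dvd_natCard y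
  obtain ⟨k, hk2, hk⟩ := (Nat.dvd_prime_pow hp.out).mp hdvd
  have hk2' : k ≠ 2 := by
    intro h
    exact hnc (isCyclic_of_orderOf_eq_card y (by rw [hk, h, hY]))
  have : orderOf y ∣ p := by
    rw [hk]
    have : k ≤ 1 := by omega
    calc p ^ k ∣ p ^ 1 := pow_dvd_pow p this
      _ = p := pow_one p
  exact orderOf_dvd_iff_pow_eq_one.mp this

/-- A `p`-group of maximal class has commutator quotient of order `p²` and exponent `p`. -/
theorem mc_p_index (p : ℕ) [hp : Fact p.Prime] : ∀ (n : ℕ) (X : Type u) [Group X] [Finite X],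
    3 ≤ n → Nat.card X = p ^ n → Group.nilpotencyClass X = n - 1 →
    (commutator X).index = p ^ 2 ∧ ∀ x : X, x ^ p ∈ commutator X := by
  intro n
  induction n using Nat.strong_induction_on with
  | _ n ih =>
    intro X _ _ hn hX hc
    have hpg : IsPGroup p X := IsPGroup.of_card hX
    haveI : Group.IsNilpotent X := hpg.isNilpotent
    obtain ⟨hZ, hq, hcq⟩ := mc_center_card p n hn X hX hc
    have hZtop : Subgroup.center X ≠ ⊤ := by
      intro h
      have h1 : Nat.card (Subgroup.center X) = Nat.card X := by rw [h, Subgroup.card_top]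
      rw [hZ, hX] at h1
      have h2 : p ^ 1 < p ^ n := Nat.pow_lt_pow_right hp.out.one_lt (by omega)
      rw [pow_one] at h2
      omega
    have hne := mc_commutator_ne_bot hZtop
    have hZle : Subgroup.center X ≤ commutator X := mc_center_le_of_prime p hZ _ hne
    have hidx := mc_index_commutator_quotient (Subgroup.center X) hZle
    by_cases h3 : n = 3
    · subst h3
      have hq4 : Nat.card (X ⧸ Subgroup.center X) = p ^ 2 := by rw [hq]
      have hnc : ¬ IsCyclic (X ⧸ Subgroup.center X) := fun h => hZtop (mc_center_top_of_cyclic h)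
      have hsq := mc_pow_of_card_sq p hq4 hnc
      have hcomm : IsMulCommutative (X ⧸ Subgroup.center X) :=
        IsPGroup.isMulCommutative_of_card_eq_prime_sq (p := p) hq4
      have hle : commutator X ≤ Subgroup.center X := by
        rw [commutator_def, Subgroup.commutator_le]
        intro a _ b _
        rw [← QuotientGroup.eq_one_iff, ← QuotientGroup.mk'_apply, map_commutatorElement,
          commutatorElement_eq_one_iff_mul_comm]
        exact hcomm.is_comm.comm _ _
      have heq : commutator X = Subgroup.center X := le_antisymm hle hZle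
      refine ⟨?_, ?_⟩
      · rw [heq, Subgroup.index_eq_card, hq4]
      · intro x
        rw [heq, ← QuotientGroup.eq_one_iff]
        exact hsq (x : X ⧸ Subgroup.center X)
    · have hn4 : 4 ≤ n := by omega
      obtain ⟨hi, hs⟩ := ih (n - 1) (by omega) (X ⧸ Subgroup.center X) (by omega) hq
        (by rw [hcq]; omega)
      refine ⟨by rw [← hidx]; exact hi, ?_⟩
      intro x
      have := hs (x : X ⧸ Subgroup.center X)
      rw [mc_commutator_quotient] at this
      obtain ⟨y, hy, hyx⟩ := this
      rw [QuotientGroup.mk'_apply, ← QuotientGroup.mk_pow, QuotientGroup.eq] at hyx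
      have h1 : y⁻¹ * x ^ p ∈ commutator X := hZle hyx
      have := (commutator X).mul_mem hy h1
      simpa using this


/-- A group of order `p²` and exponent `p` has exactly `p + 1` subgroups of order `p`. -/
theorem card_subgroups_prime_order {Q : Type*} [Group Q] [Finite Q] (p : ℕ) [hp : Fact p.Prime]
    (hQ : Nat.card Q = p ^ 2) (hexp : ∀ q : Q, q ^ p = 1) :
    Nat.card {M : Subgroup Q // Nat.card M = p} = p + 1 := by
  classical
  haveI : Fintype Q := Fintype.ofFinite Q
  haveI : Fintype (Subgroup Q) := Fintype.ofFinite _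
  set 𝒮 : Finset (Subgroup Q) := Finset.univ.filter (fun M => Nat.card M = p) with h𝒮
  set f : Subgroup Q → Finset Q := fun M => Finset.univ.filter (fun x => x ∈ M ∧ x ≠ 1) with hf
  have hgen : ∀ M : Subgroup Q, Nat.card M = p → ∀ x ∈ M, x ≠ 1 → Subgroup.zpowers x = M := by
    intro M hM x hx hx1
    apply Subgroup.eq_of_le_of_card_ge (by rw [Subgroup.zpowers_le]; exact hx)
    rw [hM, Nat.card_zpowers, orderOf_eq_prime (hexp x) hx1]
  have hdisj : (𝒮 : Set (Subgroup Q)).PairwiseDisjoint f := by
    intro M hM M' hM' hne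
    rw [Function.onFun, Finset.disjoint_left]
    intro x hx hx'
    apply hne
    simp only [hf, Finset.mem_filter, Finset.mem_univ, true_and] at hx hx'
    simp only [h𝒮, Finset.coe_filter, Finset.mem_univ, true_and, Set.mem_setOf_eq] at hM hM'
    rw [← hgen M hM x hx.1 hx.2, ← hgen M' hM' x hx'.1 hx'.2]
  have hunion : 𝒮.biUnion f = Finset.univ.filter (fun x : Q => x ≠ 1) := by
    ext x
    simp only [Finset.mem_biUnion, hf, Finset.mem_filter, Finset.mem_univ, true_and, h𝒮]
    constructor
    · rintro ⟨M, -, -, hx1⟩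
      exact hx1
    · intro hx1
      refine ⟨Subgroup.zpowers x, ?_, Subgroup.mem_zpowers x, hx1⟩
      rw [Nat.card_zpowers, orderOf_eq_prime (hexp x) hx1]
  have hfib : ∀ M ∈ 𝒮, (f M).card = p - 1 := by
    intro M hM
    simp only [h𝒮, Finset.mem_filter, Finset.mem_univ, true_and] at hM
    have h1 : (Finset.univ.filter (fun x : Q => x ∈ M)).card = p := by
      rw [← hM, Nat.card_eq_fintype_card, Fintype.card_subtype]
    have h2 : f M = (Finset.univ.filter (fun x : Q => x ∈ M)).erase 1 := by
      ext x
      simp only [hf, Finset.mem_filter, Finset.mem_univ, true_and, Finset.mem_erase]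
      tauto
    rw [h2, Finset.card_erase_of_mem (by simp [Subgroup.one_mem]), h1]
  have hcount := Finset.card_biUnion hdisj
  rw [hunion, Finset.sum_congr rfl hfib, Finset.sum_const, smul_eq_mul] at hcount
  have htot : (Finset.univ.filter (fun x : Q => x ≠ 1)).card = p ^ 2 - 1 := by
    rw [Finset.filter_ne' Finset.univ (1 : Q), Finset.card_erase_of_mem (Finset.mem_univ _),
      Finset.card_univ, ← Nat.card_eq_fintype_card, hQ]
  rw [htot] at hcount
  have hp2 : 2 ≤ p := hp.out.two_le
  have hcard : 𝒮.card = p + 1 := by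
    have h3 : p ^ 2 - 1 = (p + 1) * (p - 1) := by
      obtain ⟨q, rfl⟩ : ∃ q, p = q + 1 := ⟨p - 1, by omega⟩
      simp only [Nat.add_sub_cancel]
      ring_nf
      omega
    rw [h3] at hcount
    exact (Nat.eq_of_mul_eq_mul_right (by omega) hcount).symm
  rw [Nat.card_eq_fintype_card, Fintype.card_subtype, ← hcard]

end Cfsg.Agent.Lib.Helper21
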