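import Mathlib

/-!
# Generic change of generators for finite presentations (helper21; for project SAP = S2284 / S2285 / S2297)

If `G ≅ ⟨α | R⟩` and `d : β → G` generates `G`, then `G ≅ ⟨β | φ(R) ∪ {(of i)⁻¹ φ(v i)}⟩` with the letter
`i` going to `d i` (`w j` = a word in `d` for the old generator `j`, `φ = lift w`, `v i` = a word in the old
generators for `d i`).  Counting: `|R| + |β|` relators; a new generator that IS an old generator costs none.
-/

set_option autoImplicit false

namespace Cfsg.Agent.Lib.Helper21.SAPT

open PresentedGroup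

universe u v w

/-- the relator set of the new presentation -/
def newRels {α : Type u} {β : Type v} (R : Set (FreeGroup α)) (w : α → FreeGroup β) (v : β → FreeGroup α) :
    Set (FreeGroup β) :=
  (FreeGroup.lift w) '' R ∪ Set.range (fun i => (FreeGroup.of i)⁻¹ * FreeGroup.lift w (v i))

/-- **Tietze change of generators**, explicit form. -/
theorem tietze {α : Type u} {β : Type v} (R : Set (FreeGroup α)) {G : Type w} [Group G]
    (e : PresentedGroup R ≃* G) (d : β → G) (w : α → FreeGroup β) (v : β → FreeGroup α)
    (hw : ∀ j, FreeGroup.lift d (w j) = e (PresentedGroup.of j))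
    (hv : ∀ i, e (PresentedGroup.mk R (v i)) = d i) :
    ∃ e' : PresentedGroup (newRels R w v) ≃* G, ∀ i, e' (PresentedGroup.of i) = d i := by
  classical
  -- `lift d ∘ lift w = e ∘ mk`
  have hcomp : ∀ x : FreeGroup α, FreeGroup.lift d (FreeGroup.lift w x) = e (PresentedGroup.mk R x) := by
    intro x
    have : (FreeGroup.lift d).comp (FreeGroup.lift w) = (e.toMonoidHom).comp (PresentedGroup.mk R) := by
      ext j
      simp only [MonoidHom.comp_apply, FreeGroup.lift_apply_of]
      exact hw j
    exact DFunLike.congr_fun this x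
  -- the map `⟨β | R'⟩ → G`
  have hα : ∀ r ∈ newRels R w v, FreeGroup.lift d r = 1 := by
    intro r hr
    rcases hr with ⟨x, hx, rfl⟩ | ⟨i, rfl⟩
    · rw [hcomp x]
      have : PresentedGroup.mk R x = 1 := (PresentedGroup.mk_eq_one_iff).2 (Subgroup.subset_normalClosure hx)
      rw [this, map_one]
    · simp only [map_mul, map_inv, FreeGroup.lift_apply_of]
      rw [hcomp (v i), hv i, inv_mul_cancel]
  let a : PresentedGroup (newRels R w v) →* G := PresentedGroup.toGroup hα
  -- the map `⟨α | R⟩ → ⟨β | R'⟩`
  have hβ : ∀ r ∈ R, FreeGroup.lift (fun j => PresentedGroup.mk (newRels R w v) (w j)) r = 1 := by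
    intro r hr
    have h1 : FreeGroup.lift (fun j => PresentedGroup.mk (newRels R w v) (w j)) r
        = PresentedGroup.mk (newRels R w v) (FreeGroup.lift w r) := by
      have : FreeGroup.lift (fun j => PresentedGroup.mk (newRels R w v) (w j))
          = (PresentedGroup.mk (newRels R w v)).comp (FreeGroup.lift w) := by
        ext j
        simp only [MonoidHom.comp_apply, FreeGroup.lift_apply_of]
      exact DFunLike.congr_fun this r
    rw [h1]
    exact (PresentedGroup.mk_eq_one_iff).2 (Subgroup.subset_normalClosure (Or.inl ⟨r, hr, rfl⟩))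
  let b0 : PresentedGroup R →* PresentedGroup (newRels R w v) := PresentedGroup.toGroup hβ
  have hb0 : ∀ x : FreeGroup α, b0 (PresentedGroup.mk R x)
      = PresentedGroup.mk (newRels R w v) (FreeGroup.lift w x) := by
    intro x
    have : b0.comp (PresentedGroup.mk R) = (PresentedGroup.mk (newRels R w v)).comp (FreeGroup.lift w) := by
      ext j
      simp only [MonoidHom.comp_apply, FreeGroup.lift_apply_of]
      exact PresentedGroup.toGroup.of hβ
    exact DFunLike.congr_fun this x
  have ha : ∀ y : FreeGroup β, a (PresentedGroup.mk (newRels R w v) y) = FreeGroup.lift d y := by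
    intro y
    rfl
  -- `a ∘ b0 = e`
  have hab : ∀ x : PresentedGroup R, a (b0 x) = e x := by
    intro x
    obtain ⟨x, rfl⟩ := PresentedGroup.mk_surjective R x
    rw [hb0, ha, hcomp]
  -- `b0 ∘ e⁻¹ ∘ a = id`
  have hrel : ∀ i, PresentedGroup.mk (newRels R w v) (FreeGroup.lift w (v i))
      = PresentedGroup.mk (newRels R w v) (FreeGroup.of i) := by
    intro i
    have h1 : PresentedGroup.mk (newRels R w v) ((FreeGroup.of i)⁻¹ * FreeGroup.lift w (v i)) = 1 :=
      (PresentedGroup.mk_eq_one_iff).2 (Subgroup.subset_normalClosure (Or.inr ⟨i, rfl⟩))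
    rw [map_mul, map_inv, inv_mul_eq_one] at h1
    exact h1.symm
  have hba : ∀ y : PresentedGroup (newRels R w v), b0 (e.symm (a y)) = y := by
    intro y
    have : (b0.comp (e.symm.toMonoidHom.comp a)) = MonoidHom.id _ := by
      apply PresentedGroup.ext
      intro i
      simp only [MonoidHom.comp_apply, MonoidHom.id_apply]
      have h2 : a (PresentedGroup.of i) = d i := by
        show FreeGroup.lift d (FreeGroup.of i) = d i
        rw [FreeGroup.lift_apply_of]
      rw [h2, ← hv i]
      show b0 (e.symm (e (PresentedGroup.mk R (v i)))) = _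
      rw [e.symm_apply_apply, hb0, hrel i]
      rfl
    exact DFunLike.congr_fun this y
  refine ⟨MulEquiv.ofBijective a ⟨?_, ?_⟩, ?_⟩
  · intro y1 y2 h
    rw [← hba y1, ← hba y2, h]
  · intro g
    refine ⟨b0 (e.symm g), ?_⟩
    rw [hab, e.apply_symm_apply]
  · intro i
    show FreeGroup.lift d (FreeGroup.of i) = d i
    rw [FreeGroup.lift_apply_of]


/-- two relator sets with the same normal closure present the same group, letters to letters -/
theorem equiv_of_normalClosure_eq {β : Type v} (R R' : Set (FreeGroup β))
    (h : Subgroup.normalClosure R = Subgroup.normalClosure R') :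
    ∃ e : PresentedGroup R ≃* PresentedGroup R', ∀ i, e (PresentedGroup.of i) = PresentedGroup.of i :=
  ⟨QuotientGroup.quotientMulEquivOfEq h, fun _ => rfl⟩

/-- the relator `1` can be dropped -/
theorem normalClosure_diff_one {β : Type v} (R : Set (FreeGroup β)) :
    Subgroup.normalClosure (R \ {1}) = Subgroup.normalClosure R := by
  apply le_antisymm
  · exact Subgroup.normalClosure_mono Set.sdiff_subset
  · apply Subgroup.normalClosure_le_normal
    intro x hx
    by_cases h1 : x = 1
    · rw [h1]; exact Subgroup.one_mem _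
    · exact Subgroup.subset_normalClosure ⟨hx, h1⟩

/-- words for the old generators in the new ones, and conversely, exist when `d` generates -/
theorem exists_words {α : Type u} {β : Type v} (R : Set (FreeGroup α)) {G : Type w} [Group G]
    (e : PresentedGroup R ≃* G) (d : β → G) (hd : Subgroup.closure (Set.range d) = ⊤) :
    ∃ (w : α → FreeGroup β) (v : β → FreeGroup α),
      (∀ j, FreeGroup.lift d (w j) = e (PresentedGroup.of j)) ∧
      (∀ i, e (PresentedGroup.mk R (v i)) = d i) := by
  have hsurj : Function.Surjective (FreeGroup.lift d) := by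
    rw [← MonoidHom.range_eq_top, FreeGroup.range_lift_eq_closure, hd]
  have hv : ∀ i, ∃ x : FreeGroup α, e (PresentedGroup.mk R x) = d i := by
    intro i
    obtain ⟨y, hy⟩ := PresentedGroup.mk_surjective R (e.symm (d i))
    exact ⟨y, by rw [hy, e.apply_symm_apply]⟩
  exact ⟨fun j => (hsurj (e (PresentedGroup.of j))).choose, fun i => (hv i).choose,
    fun j => (hsurj (e (PresentedGroup.of j))).choose_spec, fun i => (hv i).choose_spec⟩

/-- **Change of generators, counting form**: from `m` generators and the relators `R` to ANY generating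
family `d : Fin k → G`, with at most `|R| + k` relators. -/
theorem change_gens {m k : ℕ} (R : Finset (FreeGroup (Fin m))) {G : Type w} [Group G]
    (e : PresentedGroup (↑R : Set (FreeGroup (Fin m))) ≃* G) (d : Fin k → G)
    (hd : Subgroup.closure (Set.range d) = ⊤) :
    ∃ rels : Finset (FreeGroup (Fin k)), rels.card ≤ R.card + k ∧
      ∃ e' : PresentedGroup (↑rels : Set (FreeGroup (Fin k))) ≃* G, ∀ i, e' (PresentedGroup.of i) = d i := by
  classical
  obtain ⟨w, v, hw, hv⟩ := exists_words (↑R : Set (FreeGroup (Fin m))) e d hd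
  obtain ⟨e', he'⟩ := tietze (↑R : Set (FreeGroup (Fin m))) e d w v hw hv
  refine ⟨R.image (FreeGroup.lift w) ∪
    Finset.univ.image (fun i => (FreeGroup.of i)⁻¹ * FreeGroup.lift w (v i)), ?_, ?_⟩
  · refine (Finset.card_union_le _ _).trans (Nat.add_le_add Finset.card_image_le ?_)
    exact Finset.card_image_le.trans (by simp)
  · have hset : (↑(R.image (FreeGroup.lift w) ∪
        Finset.univ.image (fun i => (FreeGroup.of i)⁻¹ * FreeGroup.lift w (v i))) : Set (FreeGroup (Fin k)))
        = newRels (↑R : Set (FreeGroup (Fin m))) w v := by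
      unfold newRels
      push_cast
      simp
    rw [hset]
    exact ⟨e', he'⟩

/-- **Change of generators keeping some letters**: the new generators `d i`, `i ∈ T`, ARE old generators
`e (of (j i))` (`j` injective on `T`): at most `|R| + (k - |T|)` relators. -/
theorem change_gens_keep {m k : ℕ} (R : Finset (FreeGroup (Fin m))) {G : Type w} [Group G]
    (e : PresentedGroup (↑R : Set (FreeGroup (Fin m))) ≃* G) (d : Fin k → G)
    (hd : Subgroup.closure (Set.range d) = ⊤) (T : Finset (Fin k)) (j : Fin k → Fin m)
    (hj : ∀ i ∈ T, d i = e (PresentedGroup.of (j i))) (hinj : Set.InjOn j (↑T : Set (Fin k))) :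
    ∃ rels : Finset (FreeGroup (Fin k)), rels.card ≤ R.card + (k - T.card) ∧
      ∃ e' : PresentedGroup (↑rels : Set (FreeGroup (Fin k))) ≃* G, ∀ i, e' (PresentedGroup.of i) = d i := by
  classical
  obtain ⟨w0, v0, hw0, hv0⟩ := exists_words (↑R : Set (FreeGroup (Fin m))) e d hd
  -- modify the words on `T`
  let w : Fin m → FreeGroup (Fin k) := fun l =>
    if h : ∃ i ∈ T, j i = l then FreeGroup.of h.choose else w0 l
  let v : Fin k → FreeGroup (Fin m) := fun i => if i ∈ T then FreeGroup.of (j i) else v0 i
  have hwT : ∀ i ∈ T, w (j i) = FreeGroup.of i := by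
    intro i hi
    have h : ∃ i' ∈ T, j i' = j i := ⟨i, hi, rfl⟩
    have hc := h.choose_spec
    have : h.choose = i := hinj hc.1 hi hc.2
    simp only [w, dif_pos h, this]
  have hw : ∀ l, FreeGroup.lift d (w l) = e (PresentedGroup.of l) := by
    intro l
    by_cases h : ∃ i ∈ T, j i = l
    · have hc := h.choose_spec
      simp only [w, dif_pos h, FreeGroup.lift_apply_of]
      rw [hj _ hc.1, hc.2]
    · simp only [w, dif_neg h]
      exact hw0 l
  have hv : ∀ i, e (PresentedGroup.mk (↑R : Set (FreeGroup (Fin m))) (v i)) = d i := by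
    intro i
    by_cases hi : i ∈ T
    · simp only [v, if_pos hi]
      rw [hj i hi]
      rfl
    · simp only [v, if_neg hi]
      exact hv0 i
  obtain ⟨e', he'⟩ := tietze (↑R : Set (FreeGroup (Fin m))) e d w v hw hv
  -- the relators of `T` are trivial
  have htriv : ∀ i ∈ T, (FreeGroup.of i)⁻¹ * FreeGroup.lift w (v i) = 1 := by
    intro i hi
    simp only [v, if_pos hi, FreeGroup.lift_apply_of]
    rw [hwT i hi, inv_mul_cancel]
  let rels : Finset (FreeGroup (Fin k)) := R.image (FreeGroup.lift w) ∪
    (Finset.univ \ T).image (fun i => (FreeGroup.of i)⁻¹ * FreeGroup.lift w (v i))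
  refine ⟨rels, ?_, ?_⟩
  · refine (Finset.card_union_le _ _).trans (Nat.add_le_add Finset.card_image_le ?_)
    refine Finset.card_image_le.trans ?_
    rw [Finset.card_sdiff_of_subset (Finset.subset_univ T)]
    simp
  · have hnc : Subgroup.normalClosure (↑rels : Set (FreeGroup (Fin k)))
        = Subgroup.normalClosure (newRels (↑R : Set (FreeGroup (Fin m))) w v) := by
      apply le_antisymm
      · apply Subgroup.normalClosure_mono
        intro x hx
        simp only [rels, Finset.coe_union, Finset.coe_image, Set.mem_union, Set.mem_image,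
          Finset.mem_coe, Finset.mem_sdiff, Finset.mem_univ, true_and] at hx
        rcases hx with ⟨r, hr, rfl⟩ | ⟨i, -, rfl⟩
        · exact Or.inl ⟨r, hr, rfl⟩
        · exact Or.inr ⟨i, rfl⟩
      · apply Subgroup.normalClosure_le_normal
        intro x hx
        rcases hx with ⟨r, hr, rfl⟩ | ⟨i, rfl⟩
        · apply Subgroup.subset_normalClosure
          simp only [rels, Finset.coe_union, Finset.coe_image, Set.mem_union, Set.mem_image, Finset.mem_coe]
          exact Or.inl ⟨r, hr, rfl⟩
        · by_cases hi : i ∈ T
          · simp only [htriv i hi]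
            exact Subgroup.one_mem _
          · apply Subgroup.subset_normalClosure
            simp only [rels, Finset.coe_union, Finset.coe_image, Set.mem_union, Set.mem_image,
              Finset.mem_coe, Finset.mem_sdiff, Finset.mem_univ, true_and]
            exact Or.inr ⟨i, hi, rfl⟩
    obtain ⟨e1, he1⟩ := equiv_of_normalClosure_eq _ _ hnc
    exact ⟨e1.trans e', fun i => by rw [MulEquiv.trans_apply, he1 i, he' i]⟩

/-- the shape of S2297: a generating PAIR `a b`, from `m` generators and `|R|` relators: `|R| + 2`. -/
theorem change_gens_pair {m : ℕ} (R : Finset (FreeGroup (Fin m))) {G : Type w} [Group G]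
    (e : PresentedGroup (↑R : Set (FreeGroup (Fin m))) ≃* G) (a b : G)
    (hab : Subgroup.closure ({a, b} : Set G) = ⊤) :
    ∃ rels : Finset (FreeGroup (Fin 2)), rels.card ≤ R.card + 2 ∧
      ∃ e' : PresentedGroup (↑rels : Set (FreeGroup (Fin 2))) ≃* G,
        e' (PresentedGroup.of 0) = a ∧ e' (PresentedGroup.of 1) = b := by
  have hr : Set.range (![a, b] : Fin 2 → G) = {a, b} := by
    ext x
    simp only [Set.mem_range, Set.mem_insert_iff, Set.mem_singleton_iff]
    constructor
    · rintro ⟨i, rfl⟩
      fin_cases i
      · left; rfl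
      · right; rfl
    · rintro (rfl | rfl)
      · exact ⟨0, rfl⟩
      · exact ⟨1, rfl⟩
  obtain ⟨rels, hc, e', he'⟩ := change_gens R e ![a, b] (by rw [hr]; exact hab)
  exact ⟨rels, hc, e', he' 0, he' 1⟩

end Cfsg.Agent.Lib.Helper21.SAPT
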