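import Mathlib
import Cfsg.Agent.Lib.Helper18.SDM.Defs

/-!
# Project SDM, row R3a (helper21): `root_rank_one_A`, verbatim.
Rank one computation at a node of type `A`: for `1 ≠ u = x_a(t) ∈ U_k`, `s u s⁻¹ = b s u'` with `u' = x_a(t⁻¹)` and
`b = s u s u'⁻¹ s ∈ B` (in coordinates `b x_a = -t⁻¹ x_a`, `b x_c = x_a + t x_c`).  Self-contained: no other SDM row is used.
-/

set_option autoImplicit false
set_option linter.unusedSectionVars false
set_option linter.unusedVariables false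
set_option linter.unusedSimpArgs false

namespace Cfsg.Agent.Lib.Helper18.QBN

open Cfsg.Agent.Lib.helper14.UBN QuadraticMap

universe u v

variable {F : Type u} [Field F] {W : Type v} [AddCommGroup W] [Module F W] {n : ℕ}

/-- side condition of the long root element -/
theorem sdmr3a_h1 (k : Fin (n / 2)) (x : F) :
    (x • xv W (rv (pc k)) : QV F n W).1 (rv (pa k)) = 0 := by
  rw [Prod.smul_fst, Pi.smul_apply, xv_fst, if_neg, smul_zero]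
  intro e
  exact pa_ne_pc k (rv_inj e)

/-- the long root element `x_c ↦ x_c + x • x_a`, `x_{rv a} ↦ x_{rv a} - x • x_{rv c}` -/
noncomputable def sdmr3a_L (hn : Even n) (Q₀ : QuadraticForm F W) (k : Fin (n / 2)) (x : F) :
    GQ n Q₀ :=
  sgX hn Q₀ (pa k) (x • xv W (rv (pc k))) (sdmr3a_h1 k x)

theorem sdmr3a_L_apply (hn : Even n) (Q₀ : QuadraticForm F W) (k : Fin (n / 2)) (x : F)
    (v : QV F n W) :
    le (sdmr3a_L hn Q₀ k x) v =
      v + (x * v.1 (pc k)) • xv W (pa k) - (x * v.1 (rv (pa k))) • xv W (rv (pc k)) := by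
  unfold sdmr3a_L
  rw [sgX_apply, polar_smul_right, polar_xv hn, rv_rv, QuadraticMap.map_smul, frQ_xv Q₀ hn,
    smul_zero, zero_smul, add_zero, smul_smul, smul_eq_mul, mul_comm (v.1 (rv (pa k))) x]

theorem sdmr3a_L_fst (hn : Even n) (Q₀ : QuadraticForm F W) (k : Fin (n / 2)) (x : F)
    (v : QV F n W) (i : Fin n) :
    (le (sdmr3a_L hn Q₀ k x) v).1 i =
      v.1 i + x * v.1 (pc k) * (if i = pa k then 1 else 0) -
        x * v.1 (rv (pa k)) * (if i = rv (pc k) then 1 else 0) := by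
  rw [sdmr3a_L_apply]
  simp only [Prod.fst_add, Prod.fst_sub, Prod.smul_fst, Pi.add_apply, Pi.sub_apply,
    Pi.smul_apply, xv_fst, smul_eq_mul]

theorem sdmr3a_L_snd (hn : Even n) (Q₀ : QuadraticForm F W) (k : Fin (n / 2)) (x : F)
    (v : QV F n W) : (le (sdmr3a_L hn Q₀ k x) v).2 = v.2 := by
  rw [sdmr3a_L_apply]
  simp only [Prod.snd_add, Prod.snd_sub, Prod.smul_snd, xv_snd, smul_zero, add_zero, sub_zero]

theorem sdmr3a_s_fst (hn : Even n) (Q₀ : QuadraticForm F W) (k : Fin (n / 2)) (v : QV F n W)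
    (i : Fin n) : (le (sQ hn Q₀ k) v).1 i = v.1 (tauS k i) := rfl

theorem sdmr3a_s_snd (hn : Even n) (Q₀ : QuadraticForm F W) (k : Fin (n / 2)) (v : QV F n W) :
    (le (sQ hn Q₀ k) v).2 = v.2 := rfl

/-- `s * s = 1` -/
theorem sdmr3a_s_mul_s (hn : Even n) (Q₀ : QuadraticForm F W) (k : Fin (n / 2)) :
    sQ hn Q₀ k * sQ hn Q₀ k = 1 := by
  apply GQ_ext
  intro v
  rw [le_mul, le_one]
  apply Prod.ext
  · funext i
    rw [sdmr3a_s_fst, sdmr3a_s_fst, tauS_tauS]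
  · rfl

/-- `L x * L (-x) = 1` -/
theorem sdmr3a_L_mul_neg (hn : Even n) (Q₀ : QuadraticForm F W) (k : Fin (n / 2))
    (hk : pc k ≠ rv (pa k)) (x : F) :
    sdmr3a_L hn Q₀ k x * sdmr3a_L hn Q₀ k (-x) = 1 := by
  have h1 : pc k ≠ pa k := (pa_ne_pc k).symm
  have h2 : pc k ≠ rv (pc k) := (rv_pc_ne k).symm
  have h3 : rv (pa k) ≠ pa k := rv_pa_ne k
  have h4 : rv (pa k) ≠ rv (pc k) := fun e => pa_ne_pc k (rv_inj e)
  apply GQ_ext
  intro v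
  rw [le_mul, le_one]
  apply Prod.ext
  · funext i
    rw [sdmr3a_L_fst, sdmr3a_L_fst, sdmr3a_L_fst, sdmr3a_L_fst, if_neg h1, if_neg h2, if_neg h3,
      if_neg h4]
    ring
  · rw [sdmr3a_L_snd, sdmr3a_L_snd]

/-- the values of `tauS k` at a node of type `A` -/
theorem sdmr3a_tau_rva (k : Fin (n / 2)) (hk : pc k ≠ rv (pa k)) :
    tauS k (rv (pa k)) = rv (pc k) := by
  rw [tauS_apply]
  exact tauF_rv_left (rv_pa_ne k) hk

theorem sdmr3a_tau_rvc (k : Fin (n / 2)) (hk : pc k ≠ rv (pa k)) :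
    tauS k (rv (pc k)) = rv (pa k) := by
  rw [tauS_apply]
  exact tauF_rv_right (pa_ne_pc k) (rv_pc_ne k) hk

theorem sdmr3a_tau_other (k : Fin (n / 2)) {i : Fin n} (h1 : i ≠ pa k) (h2 : i ≠ pc k)
    (h3 : i ≠ rv (pa k)) (h4 : i ≠ rv (pc k)) : tauS k i = i := by
  rw [tauS_apply]
  exact tauF_of_ne h1 h2 h3 h4

/-- the element `b = s L(t) s L(-t') s` -/
noncomputable def sdmr3a_B (hn : Even n) (Q₀ : QuadraticForm F W) (k : Fin (n / 2)) (t t' : F) :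
    GQ n Q₀ :=
  sQ hn Q₀ k * sdmr3a_L hn Q₀ k t * sQ hn Q₀ k * sdmr3a_L hn Q₀ k (-t') * sQ hn Q₀ k

theorem sdmr3a_B_snd (hn : Even n) (Q₀ : QuadraticForm F W) (k : Fin (n / 2)) (t t' : F)
    (v : QV F n W) : (le (sdmr3a_B hn Q₀ k t t') v).2 = v.2 := by
  unfold sdmr3a_B
  rw [le_mul, le_mul, le_mul, le_mul, sdmr3a_s_snd, sdmr3a_L_snd, sdmr3a_s_snd, sdmr3a_L_snd,
    sdmr3a_s_snd]

/-- the coordinates of `b v` -/
theorem sdmr3a_B_fst (hn : Even n) (Q₀ : QuadraticForm F W) (k : Fin (n / 2))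
    (hk : pc k ≠ rv (pa k)) (t t' : F) (v : QV F n W) (i : Fin n) :
    (le (sdmr3a_B hn Q₀ k t t') v).1 i =
      v.1 (tauS k i) - t' * v.1 (pa k) * (if i = pa k then 1 else 0)
        + t' * v.1 (rv (pc k)) * (if i = rv (pc k) then 1 else 0)
        + t * (v.1 (pc k) - t' * v.1 (pa k)) * (if i = pc k then 1 else 0)
        - t * (v.1 (rv (pa k)) + t' * v.1 (rv (pc k))) * (if i = rv (pa k) then 1 else 0) := by
  have hac : pa k ≠ pc k := pa_ne_pc k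
  have hca : pc k ≠ pa k := hac.symm
  have hara : pa k ≠ rv (pa k) := (rv_pa_ne k).symm
  have hraa : rv (pa k) ≠ pa k := rv_pa_ne k
  have hcrc : pc k ≠ rv (pc k) := (rv_pc_ne k).symm
  have hrcc : rv (pc k) ≠ pc k := rv_pc_ne k
  have hrac : rv (pa k) ≠ pc k := hk.symm
  have harc : pa k ≠ rv (pc k) := fun e => hk (by rw [e, rv_rv])
  have hrca : rv (pc k) ≠ pa k := harc.symm
  have hrarc : rv (pa k) ≠ rv (pc k) := fun e => hac (rv_inj e)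
  have hrcra : rv (pc k) ≠ rv (pa k) := hrarc.symm
  have hτa := tauS_pa k
  have hτc := tauS_pc k
  have hτra := sdmr3a_tau_rva k hk
  have hτrc := sdmr3a_tau_rvc k hk
  unfold sdmr3a_B
  simp only [le_mul, sdmr3a_s_fst, sdmr3a_L_fst]
  by_cases hia : i = pa k
  · rw [hia]
    simp only [hτa, hτc, hτra, hτrc, hac, hca, hara, hraa, hcrc, hrcc, hrac, hk, harc, hrca,
      hrarc, hrcra, if_true, if_false]
    ring
  by_cases hic : i = pc k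
  · rw [hic]
    simp only [hτa, hτc, hτra, hτrc, hac, hca, hara, hraa, hcrc, hrcc, hrac, hk, harc, hrca,
      hrarc, hrcra, if_true, if_false]
    ring
  by_cases hira : i = rv (pa k)
  · rw [hira]
    simp only [hτa, hτc, hτra, hτrc, hac, hca, hara, hraa, hcrc, hrcc, hrac, hk, harc, hrca,
      hrarc, hrcra, if_true, if_false]
    ring
  by_cases hirc : i = rv (pc k)
  · rw [hirc]
    simp only [hτa, hτc, hτra, hτrc, hac, hca, hara, hraa, hcrc, hrcc, hrac, hk, harc, hrca,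
      hrarc, hrcra, if_true, if_false]
    ring
  · have hτi := sdmr3a_tau_other k hia hic hira hirc
    simp only [hτi, hτa, hτc, hτra, hτrc, hia, hic, hira, hirc, hac, hca, hara, hraa, hcrc, hrcc,
      hrac, hk, harc, hrca, hrarc, hrcra, if_true, if_false]
    ring

/-- `b` stabilises the flag -/
theorem sdmr3a_B_up (hn : Even n) (Q₀ : QuadraticForm F W) (k : Fin (n / 2))
    (hk : pc k ≠ rv (pa k)) (t t' : F) (htt : t * t' = 1) : IsUpQ (sdmr3a_B hn Q₀ k t t') := by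
  intro j hj v hv
  rw [mem_Vfl] at hv ⊢
  obtain ⟨hv2, hv1⟩ := hv
  refine ⟨by rw [sdmr3a_B_snd, hv2], ?_⟩
  intro i hi
  have hkn : k.val < n / 2 := k.2
  have hrka : rk (pa k) = k.val := rk_pa k
  have hrkc : rk (pc k) = k.val + 1 := by
    rcases pc_cases k with ⟨_, h⟩ | ⟨_, h, _⟩
    · exact h
    · exact absurd h hk
  have hlt : k.val + 1 < n / 2 := by
    rcases pc_cases k with ⟨h, _⟩ | ⟨_, h, _⟩
    · exact h
    · exact absurd h hk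
  have hrkra : rk (rv (pa k)) = n - 1 - k.val := by
    have := rk_add_rv (pa k)
    omega
  have hrkrc : rk (rv (pc k)) = n - 1 - (k.val + 1) := by
    have := rk_add_rv (pc k)
    omega
  have hnn : n / 2 + n / 2 = n := by
    obtain ⟨m, hm⟩ := hn
    omega
  have hvra : v.1 (rv (pa k)) = 0 := hv1 _ (by omega)
  have hvrc : v.1 (rv (pc k)) = 0 := hv1 _ (by omega)
  rw [sdmr3a_B_fst hn Q₀ k hk, hvra, hvrc]
  by_cases hia : i = pa k
  · have hva : v.1 (pa k) = 0 := hv1 _ (by rw [← hia]; exact hi)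
    have hvc : v.1 (pc k) = 0 := hv1 _ (by rw [hia] at hi; omega)
    rw [hia, tauS_pa, hva, hvc]
    simp
  by_cases hic : i = pc k
  · have hvc : v.1 (pc k) = 0 := hv1 _ (by rw [← hic]; exact hi)
    rw [hic, tauS_pc, hvc, if_neg (pa_ne_pc k).symm, if_neg (rv_pc_ne k).symm, if_pos rfl,
      if_neg hk]
    linear_combination (-(v.1 (pa k))) * htt
  by_cases hira : i = rv (pa k)
  · rw [hira, sdmr3a_tau_rva k hk, hvrc, if_neg (rv_pa_ne k), if_neg hk.symm]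
    simp
  by_cases hirc : i = rv (pc k)
  · have harc : rv (pc k) ≠ pa k := fun e => hk (by rw [← e, rv_rv])
    rw [hirc, sdmr3a_tau_rvc k hk, hvra, if_neg harc, if_neg (rv_pc_ne k)]
    simp
  · rw [sdmr3a_tau_other k hia hic hira hirc, hv1 i hi, if_neg hia, if_neg hic, if_neg hira,
      if_neg hirc]
    simp

/-- `b(t, t') * b(t', t) = 1` -/
theorem sdmr3a_B_mul (hn : Even n) (Q₀ : QuadraticForm F W) (k : Fin (n / 2))
    (hk : pc k ≠ rv (pa k)) (t t' : F) :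
    sdmr3a_B hn Q₀ k t t' * sdmr3a_B hn Q₀ k t' t = 1 := by
  have hs := sdmr3a_s_mul_s hn Q₀ k
  have h1 := sdmr3a_L_mul_neg hn Q₀ k hk t
  have h2 : sdmr3a_L hn Q₀ k (-t') * sdmr3a_L hn Q₀ k t' = 1 := by
    have := sdmr3a_L_mul_neg hn Q₀ k hk (-t')
    rwa [neg_neg] at this
  unfold sdmr3a_B
  have e1 : sQ hn Q₀ k * sdmr3a_L hn Q₀ k t * sQ hn Q₀ k * sdmr3a_L hn Q₀ k (-t') * sQ hn Q₀ k *
        (sQ hn Q₀ k * sdmr3a_L hn Q₀ k t' * sQ hn Q₀ k * sdmr3a_L hn Q₀ k (-t) * sQ hn Q₀ k)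
      = sQ hn Q₀ k * sdmr3a_L hn Q₀ k t * sQ hn Q₀ k * (sdmr3a_L hn Q₀ k (-t') *
          (sQ hn Q₀ k * sQ hn Q₀ k) * sdmr3a_L hn Q₀ k t') * sQ hn Q₀ k *
            sdmr3a_L hn Q₀ k (-t) * sQ hn Q₀ k := by group
  rw [e1, hs, mul_one, h2]
  have e2 : sQ hn Q₀ k * sdmr3a_L hn Q₀ k t * sQ hn Q₀ k * 1 * sQ hn Q₀ k *
        sdmr3a_L hn Q₀ k (-t) * sQ hn Q₀ k
      = sQ hn Q₀ k * (sdmr3a_L hn Q₀ k t * (sQ hn Q₀ k * sQ hn Q₀ k) *
          sdmr3a_L hn Q₀ k (-t)) * sQ hn Q₀ k := by group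
  rw [e2, hs, mul_one, h1, mul_one, hs]

/-- `b ∈ B` -/
theorem sdmr3a_B_mem (hn : Even n) (Q₀ : QuadraticForm F W) (k : Fin (n / 2))
    (hk : pc k ≠ rv (pa k)) (t t' : F) (htt : t * t' = 1) : sdmr3a_B hn Q₀ k t t' ∈ BQ n Q₀ := by
  refine ⟨sdmr3a_B_up hn Q₀ k hk t t' htt, ?_⟩
  have h : (sdmr3a_B hn Q₀ k t t')⁻¹ = sdmr3a_B hn Q₀ k t' t :=
    inv_eq_of_mul_eq_one_right (sdmr3a_B_mul hn Q₀ k hk t t')
  rw [h]
  exact sdmr3a_B_up hn Q₀ k hk t' t (by rw [mul_comm]; exact htt)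

/-- `L 0 = 1` -/
theorem sdmr3a_L_zero (hn : Even n) (Q₀ : QuadraticForm F W) (k : Fin (n / 2)) :
    sdmr3a_L hn Q₀ k 0 = 1 := by
  apply GQ_ext
  intro v
  rw [sdmr3a_L_apply, le_one, zero_mul, zero_mul, zero_smul, zero_smul, add_zero, sub_zero]

/-- [ROW R3a] rank one: `s u s⁻¹ = b s u'`, node of type `A` (`u = sgX a (t x_{rv c})`, `u' = sgX a (t⁻¹ x_{rv c})`) -/
theorem root_rank_one_A (hn : Even n) (Q₀ : QuadraticForm F W) (k : Fin (n / 2))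
    (hk : pc k ≠ rv (pa k)) (u : GQ n Q₀) (hu : u ∈ Uk hn Q₀ k) (hu1 : u ≠ 1) :
    ∃ b ∈ BQ n Q₀, ∃ u' ∈ Uk hn Q₀ k, sQ hn Q₀ k * u * (sQ hn Q₀ k)⁻¹ = b * sQ hn Q₀ k * u' := by
  obtain ⟨y, hy, rfl⟩ := hu
  obtain ⟨t, rfl⟩ := hy.1 hk
  have hu_eq : sgX hn Q₀ (pa k) (t • xv W (rv (pc k))) (Yk_perp hn k hy) = sdmr3a_L hn Q₀ k t := rfl
  rw [hu_eq] at hu1 ⊢
  have ht : t ≠ 0 := by
    intro h
    apply hu1
    rw [h]
    exact sdmr3a_L_zero hn Q₀ k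
  have hs := sdmr3a_s_mul_s hn Q₀ k
  have hsinv : (sQ hn Q₀ k)⁻¹ = sQ hn Q₀ k := inv_eq_of_mul_eq_one_right hs
  have h2 : sdmr3a_L hn Q₀ k (-t⁻¹) * sdmr3a_L hn Q₀ k t⁻¹ = 1 := by
    have := sdmr3a_L_mul_neg hn Q₀ k hk (-t⁻¹)
    rwa [neg_neg] at this
  refine ⟨sdmr3a_B hn Q₀ k t t⁻¹, sdmr3a_B_mem hn Q₀ k hk t t⁻¹ (mul_inv_cancel₀ ht),
    sdmr3a_L hn Q₀ k t⁻¹, ?_, ?_⟩
  · have hy' : t⁻¹ • xv W (rv (pc k)) ∈ Yk F W k :=
      ⟨fun _ => ⟨t⁻¹, rfl⟩, fun h => absurd h hk⟩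
    exact ⟨t⁻¹ • xv W (rv (pc k)), hy', rfl⟩
  · rw [hsinv]
    unfold sdmr3a_B
    calc sQ hn Q₀ k * sdmr3a_L hn Q₀ k t * sQ hn Q₀ k
        = sQ hn Q₀ k * sdmr3a_L hn Q₀ k t * sQ hn Q₀ k * 1 := by rw [mul_one]
      _ = sQ hn Q₀ k * sdmr3a_L hn Q₀ k t * sQ hn Q₀ k *
            (sdmr3a_L hn Q₀ k (-t⁻¹) * ((sQ hn Q₀ k * sQ hn Q₀ k) * sdmr3a_L hn Q₀ k t⁻¹)) := by
          rw [hs, one_mul, h2]
      _ = sQ hn Q₀ k * sdmr3a_L hn Q₀ k t * sQ hn Q₀ k * sdmr3a_L hn Q₀ k (-t⁻¹) * sQ hn Q₀ k *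
            sQ hn Q₀ k * sdmr3a_L hn Q₀ k t⁻¹ := by group

end Cfsg.Agent.Lib.Helper18.QBN
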