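import Mathlib
import Cfsg.Prelude.Def_Blocks
import Cfsg.Agent.Lib.Helper16.AP3
import Cfsg.Agent.Lib.Helper10.SLB.Defs

/-!
# SLB row A04 (`uW_isPGroup`): `uW W` has exponent dividing `p`.
-/

set_option autoImplicit false

open Polynomial

namespace Cfsg.Agent.Lib.Helper10.SLB

open Cfsg.Agent.Lib.Helper16.AP

universe u

section A

variable {F : Type u} [Field F]

/-- `ν = g - 1` squares to zero for `g ∈ uW W`. -/
theorem slba04_nu_sq (n : ℕ) (W : Submodule F (Fin n → F))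
    (g : Matrix.SpecialLinearGroup (Fin n) F) (hg : g ∈ uW W) :
    ((g : Matrix (Fin n) (Fin n) F) - 1) * ((g : Matrix (Fin n) (Fin n) F) - 1) = 0 := by
  rw [mem_uW] at hg
  rw [Matrix.ext_iff_mulVec]
  intro v
  rw [← Matrix.mulVec_mulVec, Matrix.zero_mulVec]
  have h1 : ((g : Matrix (Fin n) (Fin n) F) - 1).mulVec v ∈ W := by
    rw [Matrix.sub_mulVec, Matrix.one_mulVec]
    exact hg.2 v
  have h2 := hg.1 _ h1
  rw [Matrix.sub_mulVec ((g : Matrix (Fin n) (Fin n) F)) 1, Matrix.one_mulVec, h2, sub_self]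

/-- `(1 + ν)^k = 1 + k • ν` when `ν * ν = 0`. -/
theorem slba04_pow {R : Type*} [Ring R] (ν : R) (h : ν * ν = 0) (k : ℕ) :
    (1 + ν) ^ k = 1 + k • ν := by
  induction k with
  | zero => simp
  | succ k ih =>
    rw [pow_succ, ih, mul_add, mul_one, add_mul, one_mul, smul_mul_assoc, h, smul_zero, add_zero,
      succ_nsmul]
    abel

/-- elements of `uW W` have `p`-th power `1`. -/
theorem slba04_pow_p (p : ℕ) [Fact p.Prime] [CharP F p] (n : ℕ) (W : Submodule F (Fin n → F))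
    (g : Matrix.SpecialLinearGroup (Fin n) F) (hg : g ∈ uW W) : g ^ p = 1 := by
  apply Subtype.ext
  rw [Matrix.SpecialLinearGroup.coe_pow, Matrix.SpecialLinearGroup.coe_one]
  have h := slba04_pow ((g : Matrix (Fin n) (Fin n) F) - 1) (slba04_nu_sq n W g hg) p
  rw [add_sub_cancel] at h
  rw [h]
  have hp : (p : ℕ) • ((g : Matrix (Fin n) (Fin n) F) - 1) = 0 := by
    rw [← Nat.cast_smul_eq_nsmul F, CharP.cast_eq_zero F p, zero_smul]
  rw [hp, add_zero]

/-- A04. -/
theorem uW_isPGroup (p : ℕ) [Fact p.Prime] [CharP F p] (n : ℕ) (W : Submodule F (Fin n → F)) :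
    IsPGroup p (uW W) := by
  intro g
  refine ⟨1, ?_⟩
  rw [pow_one]
  apply Subtype.ext
  rw [Subgroup.coe_pow, Subgroup.coe_one]
  exact slba04_pow_p p n W g.1 g.2

end A

end Cfsg.Agent.Lib.Helper10.SLB
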