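import Mathlib
import Cfsg.Prelude.Def_Blocks
import Cfsg.Agent.Lib.Helper16.AP3
import Cfsg.Agent.Lib.Helper10.SLB.Defs

/-!
# SLB row A05 (`uW_conj`): an element of `SL_n(F)` mapping `W` into `W` normalises `uW W` (one inclusion).
-/

set_option autoImplicit false

open Polynomial

namespace Cfsg.Agent.Lib.Helper10.SLB

open Cfsg.Agent.Lib.Helper16.AP

universe u

section A

variable {F : Type u} [Field F]

/-- `g⁻¹ (g v) = v`. -/
theorem slba05_inv_mulVec (n : ℕ) (g : Matrix.SpecialLinearGroup (Fin n) F) (v : Fin n → F) :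
    ((g⁻¹ : Matrix.SpecialLinearGroup (Fin n) F) : Matrix (Fin n) (Fin n) F).mulVec
      ((g : Matrix (Fin n) (Fin n) F).mulVec v) = v := by
  rw [Matrix.mulVec_mulVec, ← Matrix.SpecialLinearGroup.coe_mul, inv_mul_cancel,
    Matrix.SpecialLinearGroup.coe_one, Matrix.one_mulVec]

/-- `g (g⁻¹ v) = v`. -/
theorem slba05_mulVec_inv (n : ℕ) (g : Matrix.SpecialLinearGroup (Fin n) F) (v : Fin n → F) :
    (g : Matrix (Fin n) (Fin n) F).mulVec
      (((g⁻¹ : Matrix.SpecialLinearGroup (Fin n) F) : Matrix (Fin n) (Fin n) F).mulVec v) = v := by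
  rw [Matrix.mulVec_mulVec, ← Matrix.SpecialLinearGroup.coe_mul, mul_inv_cancel,
    Matrix.SpecialLinearGroup.coe_one, Matrix.one_mulVec]

/-- if `g W ⊆ W` then `g⁻¹ W ⊆ W` (finite dimension). -/
theorem slba05_inv_mem (n : ℕ) (W : Submodule F (Fin n → F))
    (g : Matrix.SpecialLinearGroup (Fin n) F)
    (hg : ∀ w ∈ W, (g : Matrix (Fin n) (Fin n) F).mulVec w ∈ W) (w : Fin n → F) (hw : w ∈ W) :
    ((g⁻¹ : Matrix.SpecialLinearGroup (Fin n) F) : Matrix (Fin n) (Fin n) F).mulVec w ∈ W := by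
  set f : (Fin n → F) →ₗ[F] (Fin n → F) := Matrix.toLin' (g : Matrix (Fin n) (Fin n) F) with hf
  have hfa : ∀ v, f v = (g : Matrix (Fin n) (Fin n) F).mulVec v := fun v => by
    rw [hf, Matrix.toLin'_apply]
  have hinj : Function.Injective f := by
    intro a b hab
    rw [hfa, hfa] at hab
    have := congrArg (fun x => ((g⁻¹ : Matrix.SpecialLinearGroup (Fin n) F) :
      Matrix (Fin n) (Fin n) F).mulVec x) hab
    simp only [slba05_inv_mulVec] at this
    exact this
  have hle : W.map f ≤ W := by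
    rintro x ⟨w', hw', rfl⟩
    rw [hfa]
    exact hg w' hw'
  have hrank : Module.finrank F (W.map f) = Module.finrank F W :=
    (LinearEquiv.finrank_eq (Submodule.equivMapOfInjective f hinj W)).symm
  have heq : W.map f = W := Submodule.eq_of_le_of_finrank_eq hle hrank
  have hw' : w ∈ W.map f := by rw [heq]; exact hw
  obtain ⟨w', hw'W, hw'e⟩ := hw'
  rw [← hw'e, hfa, slba05_inv_mulVec]
  exact hw'W

/-- A05. -/
theorem uW_conj (n : ℕ) (W : Submodule F (Fin n → F)) (g : Matrix.SpecialLinearGroup (Fin n) F)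
    (hg : ∀ w ∈ W, (g : Matrix (Fin n) (Fin n) F).mulVec w ∈ W)
    (u : Matrix.SpecialLinearGroup (Fin n) F) (hu : u ∈ uW W) : g * u * g⁻¹ ∈ uW W := by
  rw [mem_uW] at hu ⊢
  have hcoe : ∀ v : Fin n → F, ((g * u * g⁻¹ : Matrix.SpecialLinearGroup (Fin n) F) :
      Matrix (Fin n) (Fin n) F).mulVec v =
      (g : Matrix (Fin n) (Fin n) F).mulVec ((u : Matrix (Fin n) (Fin n) F).mulVec
        (((g⁻¹ : Matrix.SpecialLinearGroup (Fin n) F) : Matrix (Fin n) (Fin n) F).mulVec v)) := by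
    intro v
    rw [Matrix.SpecialLinearGroup.coe_mul, Matrix.SpecialLinearGroup.coe_mul,
      ← Matrix.mulVec_mulVec, ← Matrix.mulVec_mulVec]
  refine ⟨?_, ?_⟩
  · intro w hw
    rw [hcoe, hu.1 _ (slba05_inv_mem n W g hg w hw), slba05_mulVec_inv]
  · intro v
    rw [hcoe]
    set v' := ((g⁻¹ : Matrix.SpecialLinearGroup (Fin n) F) : Matrix (Fin n) (Fin n) F).mulVec v
      with hv'
    have h1 : (g : Matrix (Fin n) (Fin n) F).mulVec v' = v := by
      rw [hv', slba05_mulVec_inv]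
    have h2 := hg _ (hu.2 v')
    rw [Matrix.mulVec_sub, h1] at h2
    exact h2

end A

end Cfsg.Agent.Lib.Helper10.SLB
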