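import Mathlib
import Cfsg.Prelude.Def_Blocks
import Cfsg.Agent.Lib.Helper16.AP3
import Cfsg.Agent.Lib.Helper10.SLB.Defs

/-!
# SLB row G02 (`cnt_mul`): `cnt S K` is constant on double cosets `S g S` for conjugation-closed `K`.
-/

set_option autoImplicit false

open Polynomial

namespace Cfsg.Agent.Lib.Helper10.SLB

open Cfsg.Agent.Lib.Helper16.AP

universe u

/-- the bijection `t ↦ s' * t * s`. -/
def slbg02_equiv {G : Type*} [Group G] (S : Subgroup G) (K : Set G)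
    (hK : ∀ x y : G, y ∈ K → x * y * x⁻¹ ∈ K) (s s' g : G) (hs : s ∈ S) (hs' : s' ∈ S) :
    {t : S // (t : G) * (s * g * s') ∈ K} ≃ {t : S // (t : G) * g ∈ K} where
  toFun t := ⟨⟨s' * (t.1 : G) * s, S.mul_mem (S.mul_mem hs' t.1.2) hs⟩, by
    have h := hK s' _ t.2
    have e : s' * ((t.1 : G) * (s * g * s')) * s'⁻¹ = s' * (t.1 : G) * s * g := by group
    rw [e] at h
    exact h⟩
  invFun u := ⟨⟨s'⁻¹ * (u.1 : G) * s⁻¹, S.mul_mem (S.mul_mem (S.inv_mem hs') u.1.2) (S.inv_mem hs)⟩, by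
    have h := hK s'⁻¹ _ u.2
    have e : s'⁻¹ * ((u.1 : G) * g) * s'⁻¹⁻¹ = s'⁻¹ * (u.1 : G) * s⁻¹ * (s * g * s') := by group
    rw [e] at h
    exact h⟩
  left_inv t := by
    apply Subtype.ext
    apply Subtype.ext
    show s'⁻¹ * (s' * (t.1 : G) * s) * s⁻¹ = (t.1 : G)
    group
  right_inv u := by
    apply Subtype.ext
    apply Subtype.ext
    show s' * (s'⁻¹ * (u.1 : G) * s⁻¹) * s = (u.1 : G)
    group

/-- G02. -/
theorem cnt_mul {G : Type*} [Group G] [Finite G] (S : Subgroup G) (K : Set G)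
    (hK : ∀ x y : G, y ∈ K → x * y * x⁻¹ ∈ K) (s s' g : G) (hs : s ∈ S) (hs' : s' ∈ S) :
    cnt S K (s * g * s') = cnt S K g := by
  unfold cnt
  exact Nat.card_congr (slbg02_equiv S K hK s s' g hs hs')

end Cfsg.Agent.Lib.Helper10.SLB
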