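import Mathlib
import Cfsg.Agent.Lib.helper3.SuzukiPartition
import Cfsg.Agent.Lib.helper3.SuzukiCN

/-!
# Project SZC (S4775), row B1: the Borel subgroup of `Sz F m`

`Qs ≤ H`, `K ≤ H`, `Qs ⊴ H`, `H / Qs` abelian, for `H` the stabilizer of the point at infinity
and `K` the diagonal torus.
-/

set_option autoImplicit false
open scoped ComplexConjugate

namespace Cfsg.Agent.Lib.Helper10.SZC

open Cfsg Cfsg.Agent.Lib.helper3

section Bridge
variable {F : Type*} [Field F] [Fintype F] {m : ℕ}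

/-- two torus elements commute -/
theorem h21_szcB1_gD_comm (hF : Fintype.card F = 2 ^ (2 * m + 1)) (k k' : Fˣ) :
    gD hF k * gD hF k' = gD hF k' * gD hF k := by
  rw [← gD_mul, ← gD_mul, mul_comm]

/-- B1 -/
theorem sz_borel (hF : Fintype.card F = 2 ^ (2 * m + 1)) (hm : 1 ≤ m) :
    Qs hF ≤ MulAction.stabilizer (Sz F m) (oInf F m) ∧
    (gDhom hF : Fˣ →* Sz F m).range ≤ MulAction.stabilizer (Sz F m) (oInf F m) ∧
    (∀ h ∈ MulAction.stabilizer (Sz F m) (oInf F m), ∀ x ∈ Qs hF, h * x * h⁻¹ ∈ Qs hF) ∧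
    (∀ h ∈ MulAction.stabilizer (Sz F m) (oInf F m),
      ∀ h' ∈ MulAction.stabilizer (Sz F m) (oInf F m), h * h' * h⁻¹ * h'⁻¹ ∈ Qs hF) := by
  refine ⟨?_, ?_, ?_, ?_⟩
  · intro x hx
    obtain ⟨a, b, rfl⟩ := (mem_Qs hF).1 hx
    exact MulAction.mem_stabilizer_iff.2 (gT_oInf hF a b)
  · rintro _ ⟨k, rfl⟩
    exact MulAction.mem_stabilizer_iff.2 (gD_oInf hF k)
  · intro h hh x hx
    exact conj_mem_Qs hF hm (MulAction.mem_stabilizer_iff.1 hh) hx
  · intro h hh h' hh'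
    obtain ⟨a, b, k, rfl⟩ := stab_decomp hF hm (MulAction.mem_stabilizer_iff.1 hh)
    obtain ⟨a', b', k', rfl⟩ := stab_decomp hF hm (MulAction.mem_stabilizer_iff.1 hh')
    have hc : gD hF k * gD hF k' * (gD hF k)⁻¹ * (gD hF k')⁻¹ = 1 := by
      rw [h21_szcB1_gD_comm hF k k']
      group
    have e : gT hF a b * gD hF k * (gT hF a' b' * gD hF k') * (gT hF a b * gD hF k)⁻¹ *
        (gT hF a' b' * gD hF k')⁻¹ =
        gT hF a b * (gD hF k * gT hF a' b' * (gD hF k)⁻¹) *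
          (gD hF k * gD hF k' * (gD hF k)⁻¹ * (gD hF k')⁻¹) *
          (gD hF k' * (gT hF a b)⁻¹ * (gD hF k')⁻¹) * (gT hF a' b')⁻¹ := by
      group
    rw [e, hc, mul_one]
    refine (Qs hF).mul_mem ((Qs hF).mul_mem ((Qs hF).mul_mem (gT_mem_Qs hF a b) ?_) ?_)
      ((Qs hF).inv_mem (gT_mem_Qs hF a' b'))
    · exact conj_mem_Qs hF hm (gD_oInf hF k) (gT_mem_Qs hF a' b')
    · exact conj_mem_Qs hF hm (gD_oInf hF k') ((Qs hF).inv_mem (gT_mem_Qs hF a b))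

end Bridge

end Cfsg.Agent.Lib.Helper10.SZC
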