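import Mathlib
import Cfsg.Agent.Lib.helper3.SuzukiPartition
import Cfsg.Agent.Lib.helper3.SuzukiCN

/-!
# Project SZC (S4775), row B2: `Qs` is a TI subgroup with normalizer the Borel subgroup, and the
diagonal torus acts freely on `Qs`.
-/

set_option autoImplicit false
open scoped ComplexConjugate

namespace Cfsg.Agent.Lib.Helper10.SZC

open Cfsg Cfsg.Agent.Lib.helper3

section Bridge
variable {F : Type*} [Field F] [Fintype F] {m : ℕ}

/-- a translation that is not the identity has a nonzero parameter -/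
theorem h21_szcB2_ne_one (hF : Fintype.card F = 2 ^ (2 * m + 1)) {a b : F}
    (h : gT hF a b ≠ 1) : ¬ (a = 0 ∧ b = 0) := by
  rintro ⟨rfl, rfl⟩
  exact h (gT_zero hF)

/-- B2 -/
theorem sz_borel_ti (hF : Fintype.card F = 2 ^ (2 * m + 1)) (hm : 1 ≤ m) :
    (∀ g : Sz F m, g ∉ MulAction.stabilizer (Sz F m) (oInf F m) →
      ∀ x ∈ Qs hF, x ≠ 1 → g * x * g⁻¹ ∉ Qs hF) ∧
    (∀ k ∈ (gDhom hF : Fˣ →* Sz F m).range, k ≠ 1 → ∀ x ∈ Qs hF, k * x = x * k → x = 1) := by
  refine ⟨?_, ?_⟩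
  · intro g hg x hx hx1 hgx
    apply hg
    obtain ⟨a, b, rfl⟩ := (mem_Qs hF).1 hx
    obtain ⟨a', b', e⟩ := (mem_Qs hF).1 hgx
    have hab := h21_szcB2_ne_one hF hx1
    -- `gT a b` fixes `g⁻¹ • ∞`
    have hfix : gT hF a b • (g⁻¹ • oInf F m) = g⁻¹ • oInf F m := by
      have e2 : gT hF a b = g⁻¹ * gT hF a' b' * g := by
        rw [← e]; group
      rw [e2, mul_smul, mul_smul, smul_inv_smul, gT_oInf]
    have h1 := gT_fixed hF hab hfix
    rw [MulAction.mem_stabilizer_iff]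
    have h2 : g • (g⁻¹ • oInf F m) = g • oInf F m := by rw [h1]
    rw [smul_inv_smul] at h2
    exact h2.symm
  · rintro _ ⟨κ, rfl⟩ hk1 x hx hcomm
    obtain ⟨a, b, rfl⟩ := (mem_Qs hF).1 hx
    change gD hF κ * gT hF a b = gT hF a b * gD hF κ at hcomm
    have hκ : κ ≠ 1 := by
      rintro rfl
      exact hk1 (gD_one hF)
    -- `gD κ` fixes `gT a b • 0 = oPt a b`
    have hfix : gD hF κ • oPt m a b = oPt m a b := by
      rw [← gT_oZero hF a b, ← mul_smul, hcomm, mul_smul, gD_oZero]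
    rcases gD_fixed hF hκ hfix with h | h
    · exact absurd h (oPt_ne_oInf a b)
    · obtain ⟨rfl, rfl⟩ := szPt_inj m (congrArg Subtype.val h)
      exact gT_zero hF

end Bridge

end Cfsg.Agent.Lib.Helper10.SZC
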