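import Mathlib
import Cfsg.Agent.Lib.Helper10.SZC.Defs
import Cfsg.Agent.Lib.helper3.SuzukiPartition
import Cfsg.Agent.Lib.helper3.SuzukiZass
import Cfsg.Agent.S0157
import Cfsg.Agent.S0190

/-!
# Project SZC (S4775), row B4: `X = Ind_H^G 1 - 1` is irreducible for `G = Sz F m`, `H` the
stabilizer of the point at infinity of the Suzuki ovoid (2-transitivity).
-/

set_option autoImplicit false
open scoped ComplexConjugate

namespace Cfsg.Agent.Lib.Helper10.SZC

open Cfsg Cfsg.Agent.Lib.helper3

section Bridge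
variable {F : Type*} [Field F] [Fintype F] {m : ℕ}

/-- the Suzuki ovoid is finite -/
theorem h21_szcB4_finite_ovoid (hF : Fintype.card F = 2 ^ (2 * m + 1)) :
    Finite (suzukiOvoid F m) := by
  apply Nat.finite_of_card_ne_zero
  rw [card_ovoid hF]
  positivity

/-- B4 -/
theorem sz_X_irr [Fintype (Sz F m)] (hF : Fintype.card F = 2 ^ (2 * m + 1)) (hm : 1 ≤ m) :
    Cfsg.IsIrrCharacter (Sz F m) (Xf (MulAction.stabilizer (Sz F m) (oInf F m))) := by
  have h2 : MulAction.IsMultiplyPretransitive (Sz F m) (suzukiOvoid F m) 2 :=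
    (Sz_isZassenhaus hm hF).2.1
  have : MulAction.IsPretransitive (Sz F m) (suzukiOvoid F m) :=
    MulAction.isPretransitive_of_is_two_pretransitive
  have : Finite (suzukiOvoid F m) := h21_szcB4_finite_ovoid hF
  have hX : 2 ≤ Nat.card (suzukiOvoid F m) := by
    rw [card_ovoid hF]
    have : 0 < (2 ^ (2 * m + 1)) ^ 2 := by positivity
    omega
  have h1 := (Cfsg.Agent.S0157.result (G := Sz F m) (suzukiOvoid F m) hX).2 h2
  have h3 := Cfsg.Agent.S0190.result (G := Sz F m) (suzukiOvoid F m) (oInf F m)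
  have e : Xf (MulAction.stabilizer (Sz F m) (oInf F m)) =
      fun g => (Nat.card (MulAction.fixedBy (suzukiOvoid F m) g) : ℂ) - 1 := by
    funext g
    unfold Xf
    rw [← h3]
  rw [e]
  exact h1

end Bridge

end Cfsg.Agent.Lib.Helper10.SZC
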