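import Mathlib
import Cfsg.Agent.Lib.Helper10.SZC.Defs

/-!
# Project SZC (S4775), row B6: a self-centralizing abelian subgroup `A` with `|N(A) : A| = 4`
is a `Torus A N(A)`.
-/

set_option autoImplicit false
open scoped ComplexConjugate

namespace Cfsg.Agent.Lib.Helper10.SZC

open Cfsg

/-- B6 -/
theorem torus_of_self_centralizing {G : Type*} [Group G] [Finite G] (A : Subgroup G)
    (hcomm : ∀ a ∈ A, ∀ b ∈ A, a * b = b * a)
    (hC : ∀ u ∈ A, u ≠ 1 → Subgroup.centralizer ({u} : Set G) = A)
    (hN : Nat.card (Subgroup.normalizer (A : Set G)) = 4 * Nat.card A) :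
    Torus A (Subgroup.normalizer (A : Set G)) := by
  refine ⟨Subgroup.le_normalizer, hcomm, ?_, ?_, ?_, hN⟩
  · intro n hn a ha
    exact (Subgroup.mem_normalizer_iff.1 hn a).1 ha
  · intro g hg a ha ha1 hga
    apply hg
    have hb1 : g * a * g⁻¹ ≠ 1 := by
      intro h
      apply ha1
      have : a = g⁻¹ * (g * a * g⁻¹) * g := by group
      rw [this, h]; group
    have hCa := hC a ha ha1
    have hCb := hC _ hga hb1
    -- `x ∈ A ↔ g x g⁻¹ ∈ A`
    have key : ∀ x : G, x ∈ A ↔ g * x * g⁻¹ ∈ A := by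
      intro x
      have h1 : x ∈ A ↔ x ∈ Subgroup.centralizer ({a} : Set G) := by rw [hCa]
      have h2 : g * x * g⁻¹ ∈ A ↔
          g * x * g⁻¹ ∈ Subgroup.centralizer ({g * a * g⁻¹} : Set G) := by rw [hCb]
      rw [h1, h2, Subgroup.mem_centralizer_singleton_iff,
        Subgroup.mem_centralizer_singleton_iff]
      constructor
      · intro h
        have : g * x * g⁻¹ * (g * a * g⁻¹) = g * (x * a) * g⁻¹ := by group
        rw [this, h]; group
      · intro h
        have e1 : x * a = g⁻¹ * (g * x * g⁻¹ * (g * a * g⁻¹)) * g := by group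
        rw [e1, h]; group
    rw [Subgroup.mem_normalizer_iff]
    exact key
  · intro n _ hnA a ha hna
    by_contra ha1
    apply hnA
    rw [← hC a ha ha1, Subgroup.mem_centralizer_singleton_iff]
    exact hna

end Cfsg.Agent.Lib.Helper10.SZC
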