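import Mathlib
import Cfsg.Agent.Lib.Helper10.SZC.Defs
import Cfsg.Agent.Lib.helper3.SuzukiPartition
import Cfsg.Agent.Lib.helper3.SuzukiTori
import Cfsg.Agent.Lib.Helper21.SZCB1
import Cfsg.Agent.Lib.Helper21.SZCB2
import Cfsg.Agent.Lib.Helper5.SZCB3
import Cfsg.Agent.Lib.Helper21.SZCB4
import Cfsg.Agent.Lib.helper4.SZCB5
import Cfsg.Agent.Lib.Helper21.SZCB6
import Cfsg.Agent.Lib.Helper16.SZCB7

/-!
# Project SZC (S4775), row B8: the Suzuki group carries Suzuki-type data.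
-/

set_option autoImplicit false
open scoped ComplexConjugate

namespace Cfsg.Agent.Lib.Helper10.SZC

open Cfsg Cfsg.Agent.Lib.helper3

section Bridge
variable {F : Type*} [Field F] [Fintype F] {m : ℕ}

/-- B8 -/
theorem sz_data [Fintype (Sz F m)] (hF : Fintype.card F = 2 ^ (2 * m + 1)) (hm : 1 ≤ m) :
    Nonempty (SzcData (Sz F m) (2 ^ (2 * m + 1)) (2 ^ (m + 1))) := by
  obtain ⟨U1, hU1c, hU1k, hU1C, hU1N⟩ :=
    sz_tori hF hm (2 ^ (2 * m + 1) + 2 ^ (m + 1) + 1) (Or.inl rfl)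
  obtain ⟨U2, hU2c, hU2k, hU2C, hU2N⟩ :=
    sz_tori hF hm (2 ^ (2 * m + 1) - 2 ^ (m + 1) + 1) (Or.inr rfl)
  obtain ⟨b1, b2, b3, b4⟩ := sz_borel hF hm
  obtain ⟨t1, t2⟩ := sz_borel_ti hF hm
  obtain ⟨c1, c2, c3, c4⟩ := sz_cards hF hm
  have hcomm : ∀ U : Subgroup (Sz F m), IsCyclic U → ∀ a ∈ U, ∀ b ∈ U, a * b = b * a := by
    intro U hU a ha b hb
    let _ : CommGroup U := IsCyclic.commGroup
    exact congrArg Subtype.val (mul_comm (⟨a, ha⟩ : U) ⟨b, hb⟩)
  have hfin : Finite (Sz F m) := finite_Sz hF hm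
  have T1 : Torus U1 (Subgroup.normalizer (U1 : Set (Sz F m))) :=
    torus_of_self_centralizing U1 (hcomm U1 hU1c) hU1C (by rw [hU1N, hU1k])
  have T2 : Torus U2 (Subgroup.normalizer (U2 : Set (Sz F m))) :=
    torus_of_self_centralizing U2 (hcomm U2 hU2c) hU2C (by rw [hU2N, hU2k])
  refine ⟨{
    hq := ?_
    hr := ?_
    card_G := c1
    H := MulAction.stabilizer (Sz F m) (oInf F m)
    Q := Qs hF
    K := (gDhom hF : Fˣ →* Sz F m).range
    A := fun i => if i then U2 else U1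
    N := fun i => if i then Subgroup.normalizer (U2 : Set (Sz F m))
      else Subgroup.normalizer (U1 : Set (Sz F m))
    Q_le := b1
    K_le := b2
    Q_norm := b3
    H_comm := b4
    card_Q := c2
    card_H := c3
    card_K := c4
    Q_ti := t1
    K_free := t2
    X_irr := sz_X_irr hF hm
    ind_irr := fun μ hμQ hμ => sz_ind_irr hF hm μ hμQ hμ
    tor := ?_
    card_A := ?_
    cover := ?_ }⟩
  · have : 2 ^ 3 ≤ 2 ^ (2 * m + 1) := Nat.pow_le_pow_right (by norm_num) (by omega)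
    omega
  · ring
  · intro i
    cases i
    · simpa using T1
    · simpa using T2
  · intro i
    cases i
    · simpa [aN] using hU1k
    · simpa [aN] using hU2k
  · intro g hg
    simpa using sz_cover hF hm U1 U2 hU1k hU1C hU2k hU2C g hg

end Bridge

end Cfsg.Agent.Lib.Helper10.SZC
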