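import Mathlib
import Cfsg.Agent.Lib.Helper10.TEM.Defs
import Cfsg.Agent.Lib.helper8.ChevTwU3
import Cfsg.Agent.Lib.Helper21.TEMC5
import Cfsg.Agent.Lib.Helper26.TEMR1

/-!
# Project TEM = S2191 (designer helper10), row P4 `dec_Q`: CORE (helper21, second writer), own names `temp4h21_*`.

`temp4h21_core hF hP0 hP3 hG3X hG3XS hR2` has the conclusion of `dec_Q`; the hypotheses are the STATEMENTS of
P0 `Ub_nine`, P3 `one_rat`, G3 `X_mem_G1` / `XS_mem_G1`, R2 `rat_X`.  C5 `Q_comm` (`Helper21/TEMC5.lean`) and R1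
`rat_mul` (`Helper26/TEMR1.lean`) are imported.

* `temp4h21_iter`: iterated `h8Ub_step` + `h8Sig_fix_split` over the blocks `i … 23` (per-block coordinate functions).
* `temp4h21_perm`: the products of two permuted lists of elements of `UPsi K Psi1` differ by an element of `UPsi K [71]`.
* `temp4h21_short` / `temp4h21_long`: fixed two-root / one-root block products.
-/

set_option autoImplicit false
set_option linter.unusedSectionVars false
set_option linter.unusedVariables false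

namespace Cfsg.Agent.Lib.Helper10.TEM

open Cfsg.Lie Cfsg.Lie.ChevalleyDatum Matrix
open Cfsg.Agent.Lib.helper8

universe u

variable {K : Type u} [Field K] {q : ℕ} {f : K ≃+* K} {M H : Subgroup (GG K)}

/-- iterated block decomposition of a fixed element of a term of the filtration -/
theorem temp4h21_iter (f : K ≃+* K) : ∀ n i, i + n = 24 → ∀ g ∈ h8Ub chevE6 K posi i, Sg f g = g →
    ∃ T : ℕ → ℕ → K,
      (∀ j, i ≤ j → ∀ k ∈ h8Lb chevE6 posi j, h8tS h8tE6 h8eE6 f (T j) k = T j k) ∧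
      g = ((List.range' i n).map fun j => h8Pb chevE6 hB (h8Lb chevE6 posi j) (T j)).prod := by
  intro n
  induction n with
  | zero =>
    intro i hi g hg _
    have hi' : i = 24 := by omega
    subst hi'
    rw [h8Ub_top chevE6 posi 24 posi_lt, Subgroup.mem_bot] at hg
    refine ⟨fun _ _ => 0, ?_, ?_⟩
    · intro j hj k hk
      have := (h8Lb_mem chevE6 posi j k).mp hk
      have h2 := posi_lt k this.1
      omega
    · rw [hg]
      rfl
  | succ n ih =>
    intro i hi g hg hfix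
    obtain ⟨t0, v, hv, hgv⟩ := h8Ub_step chevE6 hB hC hBN hO2 posi blk i g hg
    have hfix' : h8Sig chevE6 h8sE6 h8tE6 h8pE6 h8qE6 h8eE6 hAut f
        (h8Pb chevE6 hB (h8Lb chevE6 posi i) t0 * v) = h8Pb chevE6 hB (h8Lb chevE6 posi i) t0 * v := by
      rw [← hgv]
      exact hfix
    obtain ⟨h1, h2⟩ := h8Sig_fix_split chevE6 hB hC hBN hO2 posi blk blkRead h8sE6 h8tE6 h8pE6 h8qE6 h8eE6
      hAut f sigp i t0 v hv hfix'
    obtain ⟨T1, hT1, hv1⟩ := ih (i + 1) (by omega) v hv h2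
    refine ⟨fun j => if j = i then t0 else T1 j, ?_, ?_⟩
    · intro j hj k hk
      by_cases hji : j = i
      · subst hji
        simp only [if_true]
        exact h1 k hk
      · simp only [if_neg hji]
        exact hT1 j (by omega) k hk
    · rw [hgv, hv1, List.range'_succ, List.map_cons, List.prod_cons]
      simp only [if_true]
      congr 2
      apply List.map_congr_left
      intro j hj
      rw [List.mem_range'_1] at hj
      have : j ≠ i := by omega
      simp only [if_neg this]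

/-- `UPsi K Psi1` centralizes `UPsi K [71]` -/
theorem temp4h21_central : ∀ g ∈ UPsi K Psi1, ∀ z ∈ UPsi K [71], Commute g z := by
  intro g hg z hz
  unfold UPsi at hg
  induction hg using Subgroup.closure_induction with
  | mem x hx =>
    obtain ⟨r, hr, t, rfl⟩ := hx
    exact temc5_central r hr t z hz
  | one => exact Commute.one_left z
  | mul x y _ _ hx hy => exact hx.mul_left hy
  | inv x _ hx => exact hx.inv_left

/-- the products of two permuted lists of elements of `UPsi K Psi1` differ by an element of `UPsi K [71]` -/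
theorem temp4h21_perm {l l' : List (GG K)} (hp : l.Perm l') (hl : ∀ x ∈ l, x ∈ UPsi K Psi1) :
    l.prod * (l'.prod)⁻¹ ∈ UPsi K [71] := by
  induction hp with
  | nil => simp
  | @cons a l1 l2 hp ih =>
    have hz := ih (fun x hx => hl x (List.mem_cons_of_mem _ hx))
    have ha := hl a List.mem_cons_self
    have hc := temp4h21_central a ha _ hz
    rw [List.prod_cons, List.prod_cons]
    have e : a * l1.prod * (a * l2.prod)⁻¹ = a * (l1.prod * l2.prod⁻¹) * a⁻¹ := by group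
    rw [e, hc.eq, mul_inv_cancel_right]
    exact hz
  | swap a b l =>
    rw [List.prod_cons, List.prod_cons, List.prod_cons, List.prod_cons]
    have e : b * (a * l.prod) * (a * (b * l.prod))⁻¹ = b * a * b⁻¹ * a⁻¹ := by group
    rw [e]
    exact Q_comm b (hl b List.mem_cons_self) a (hl a (List.mem_cons_of_mem _ List.mem_cons_self))
  | @trans l1 l2 l3 h1 h2 ih1 ih2 =>
    have e : l1.prod * l3.prod⁻¹ = (l1.prod * l2.prod⁻¹) * (l2.prod * l3.prod⁻¹) := by group
    rw [e]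
    exact Subgroup.mul_mem _ (ih1 hl) (ih2 (fun x hx => hl x (h1.mem_iff.mpr hx)))

set_option synthInstance.maxSize 1024 in
theorem temp4h21_data :
    (∀ p ∈ [(9, 46), (10, 47), (13, 51), (15, 53), (17, 63), (19, 65), (21, 69), (22, 70), (23, 71)],
      h8Lb chevE6 posi p.1 = [p.2] ∧ h8tE6 p.2 = p.2 ∧ h8eE6 p.2 = 1 ∧ h8sE6 p.2 = p.2 ∧ p.2 < 72) ∧
    (∀ p ∈ [(11, 48, 50), (12, 49, 61), (14, 52, 62), (16, 54, 64), (18, 55, 67), (20, 66, 68)],
      h8Lb chevE6 posi p.1 = [p.2.1, p.2.2] ∧ h8sE6 p.2.1 = p.2.2 ∧ h8tE6 p.2.2 = p.2.1 ∧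
        h8sE6 p.2.1 ≠ p.2.1 ∧ p.2.1 < 72 ∧ posi p.2.1 = p.1) := by decide +kernel

/-- a fixed two-root block product is a short root element -/
theorem temp4h21_short (hF : Frob q f) (j r r' : ℕ) (hL : h8Lb chevE6 posi j = [r, r']) (hs : h8sE6 r = r')
    (ht : h8tE6 r' = r) (T : ℕ → K)
    (hfix : ∀ k ∈ h8Lb chevE6 posi j, h8tS h8tE6 h8eE6 f T k = T k) :
    h8Pb chevE6 hB (h8Lb chevE6 posi j) T = XS q r (T r) := by
  have h1 := hfix r' (by rw [hL]; simp)
  unfold h8tS at h1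
  rw [ht, hF.pow] at h1
  rw [hL, h8Pb_cons, h8Pb_cons, h8Pb_nil, mul_one]
  unfold XS X
  rw [hs, h1]

/-- a fixed one-root block product is a long root element with rational parameter -/
theorem temp4h21_long (hF : Frob q f) (j r : ℕ) (hL : h8Lb chevE6 posi j = [r]) (ht : h8tE6 r = r)
    (he : h8eE6 r = 1) (T : ℕ → K)
    (hfix : ∀ k ∈ h8Lb chevE6 posi j, h8tS h8tE6 h8eE6 f T k = T k) :
    h8Pb chevE6 hB (h8Lb chevE6 posi j) T = X r (T r) ∧ (T r) ^ q = T r := by
  have h1 := hfix r (by rw [hL]; simp)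
  unfold h8tS at h1
  rw [ht, hF.pow, he] at h1
  simp only [Int.cast_one, one_mul] at h1
  refine ⟨?_, h1⟩
  rw [hL, h8Pb_cons, h8Pb_nil, mul_one]
  rfl

theorem temp4h21_UPsi_mono (L L' : List ℕ) (h : ∀ r ∈ L, r ∈ L') : UPsi K L ≤ UPsi K L' := by
  apply Subgroup.closure_mono
  rintro g ⟨r, hr, t, rfl⟩
  exact ⟨r, h r hr, t, rfl⟩

/-- **core of P4 `dec_Q`** on the statements of P0, P3, G3, R2 -/
theorem temp4h21_core (hF : Frob q f)
    (hP0 : h8Ub chevE6 K posi 9 = UPsi K Psi1)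
    (hP3 : ∀ r ∈ [39, 71, 32, 0], ∀ g ∈ UPsi K [r] ⊓ twistedE6 K q, Rat q g)
    (hG3X : ∀ r < 72, h8sE6 r = r → ∀ t : K, t ^ q = t → X r t ∈ twistedE6 K q)
    (hG3XS : ∀ r < 72, h8sE6 r ≠ r → ∀ t : K, XS q r t ∈ twistedE6 K q)
    (hR2 : ∀ (r : ℕ) (t : K), t ^ q = t → Rat q (X r t))
    (u : GG K) (hu : u ∈ UPsi K Psi1 ⊓ twistedE6 K q) :
    ∃ t : ℕ → K, ∃ ℓ : GG K, ℓ ∈ UPsi K Psi1 ∧ ℓ ∈ twistedE6 K q ∧ Rat q ℓ ∧ u = QS q t * ℓ := by
  obtain ⟨huQ, huG⟩ := hu
  have hu9 : u ∈ h8Ub chevE6 K posi 9 := by rw [hP0]; exact huQ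
  obtain ⟨T, hT, huT⟩ := temp4h21_iter f 15 9 (by norm_num) u hu9 (sig_fix hF u huG)
  obtain ⟨hdL, hdS⟩ := temp4h21_data
  -- the block products
  set E : ℕ → GG K := fun j => h8Pb chevE6 hB (h8Lb chevE6 posi j) (T j) with hE
  have hEmem : ∀ j, 9 ≤ j → E j ∈ UPsi K Psi1 := by
    intro j hj
    rw [← hP0]
    apply h8Pb_mem_Ub
    intro r hr
    obtain ⟨h1, h2⟩ := (h8Lb_mem chevE6 posi j r).mp hr
    exact ⟨h1, by omega⟩
  have hrange : List.range' 9 15 = [9, 10, 11, 12, 13, 14, 15, 16, 17, 18, 19, 20, 21, 22, 23] := by decide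
  have hu1 : u = ([9, 10, 11, 12, 13, 14, 15, 16, 17, 18, 19, 20, 21, 22, 23].map E).prod := by
    rw [huT, hrange]
  -- long blocks
  have hl := fun (j r : ℕ) (h : (j, r) ∈ [(9, 46), (10, 47), (13, 51), (15, 53), (17, 63), (19, 65), (21, 69), (22, 70), (23, 71)]) =>
    temp4h21_long hF j r (hdL (j, r) h).1 (hdL (j, r) h).2.1 (hdL (j, r) h).2.2.1 (T j) (hT j (by
      simp only [List.mem_cons, Prod.mk.injEq, List.not_mem_nil, or_false] at h
      omega))
  have hs := fun (j r r' : ℕ) (h : (j, r, r') ∈ [(11, 48, 50), (12, 49, 61), (14, 52, 62), (16, 54, 64), (18, 55, 67), (20, 66, 68)]) =>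
    temp4h21_short hF j r r' (hdS (j, r, r') h).1 (hdS (j, r, r') h).2.1 (hdS (j, r, r') h).2.2.1 (T j) (hT j (by
      simp only [List.mem_cons, Prod.mk.injEq, List.not_mem_nil, or_false] at h
      omega))
  obtain ⟨e9, k9⟩ := hl 9 46 (by simp)
  obtain ⟨e10, k10⟩ := hl 10 47 (by simp)
  obtain ⟨e13, k13⟩ := hl 13 51 (by simp)
  obtain ⟨e15, k15⟩ := hl 15 53 (by simp)
  obtain ⟨e17, k17⟩ := hl 17 63 (by simp)
  obtain ⟨e19, k19⟩ := hl 19 65 (by simp)
  obtain ⟨e21, k21⟩ := hl 21 69 (by simp)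
  obtain ⟨e22, k22⟩ := hl 22 70 (by simp)
  obtain ⟨e23, k23⟩ := hl 23 71 (by simp)
  have e11 := hs 11 48 50 (by simp)
  have e12 := hs 12 49 61 (by simp)
  have e14 := hs 14 52 62 (by simp)
  have e16 := hs 16 54 64 (by simp)
  have e18 := hs 18 55 67 (by simp)
  have e20 := hs 20 66 68 (by simp)
  -- the coordinates
  let t : ℕ → K := fun r => T (posi r) r
  have hQS : QS q t = E 11 * E 12 * E 14 * E 16 * E 18 * E 20 := by
    simp only [hE]
    rw [e11, e12, e14, e16, e18, e20]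
    rfl
  set Long : GG K := E 9 * E 10 * E 13 * E 15 * E 17 * E 19 * E 21 * E 22 * E 23 with hLong
  have hLongQ : Long ∈ UPsi K Psi1 := by
    rw [hLong]
    exact Subgroup.mul_mem _ (Subgroup.mul_mem _ (Subgroup.mul_mem _ (Subgroup.mul_mem _ (Subgroup.mul_mem _
      (Subgroup.mul_mem _ (Subgroup.mul_mem _ (Subgroup.mul_mem _ (hEmem 9 (by norm_num)) (hEmem 10 (by norm_num)))
      (hEmem 13 (by norm_num))) (hEmem 15 (by norm_num))) (hEmem 17 (by norm_num))) (hEmem 19 (by norm_num)))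
      (hEmem 21 (by norm_num))) (hEmem 22 (by norm_num))) (hEmem 23 (by norm_num))
  have hQSQ : QS q t ∈ UPsi K Psi1 := by
    rw [hQS]
    exact Subgroup.mul_mem _ (Subgroup.mul_mem _ (Subgroup.mul_mem _ (Subgroup.mul_mem _ (Subgroup.mul_mem _
      (hEmem 11 (by norm_num)) (hEmem 12 (by norm_num))) (hEmem 14 (by norm_num))) (hEmem 16 (by norm_num)))
      (hEmem 18 (by norm_num))) (hEmem 20 (by norm_num))
  -- rationality and membership of the long part
  have hXG : ∀ (j r : ℕ), (j, r) ∈ [(9, 46), (10, 47), (13, 51), (15, 53), (17, 63), (19, 65), (21, 69), (22, 70), (23, 71)] →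
      ∀ a : K, a ^ q = a → X r a ∈ twistedE6 K q := fun j r h a ha =>
    hG3X r (hdL (j, r) h).2.2.2.2 (hdL (j, r) h).2.2.2.1 a ha
  have hLongG : Long ∈ twistedE6 K q := by
    simp only [hLong, hE]
    rw [e9, e10, e13, e15, e17, e19, e21, e22, e23]
    exact Subgroup.mul_mem _ (Subgroup.mul_mem _ (Subgroup.mul_mem _ (Subgroup.mul_mem _ (Subgroup.mul_mem _
      (Subgroup.mul_mem _ (Subgroup.mul_mem _ (Subgroup.mul_mem _ (hXG 9 46 (by simp) _ k9) (hXG 10 47 (by simp) _ k10))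
      (hXG 13 51 (by simp) _ k13)) (hXG 15 53 (by simp) _ k15)) (hXG 17 63 (by simp) _ k17)) (hXG 19 65 (by simp) _ k19))
      (hXG 21 69 (by simp) _ k21)) (hXG 22 70 (by simp) _ k22)) (hXG 23 71 (by simp) _ k23)
  have hLongR : Rat q Long := by
    simp only [hLong, hE]
    rw [e9, e10, e13, e15, e17, e19, e21, e22, e23]
    exact rat_mul hF (rat_mul hF (rat_mul hF (rat_mul hF (rat_mul hF (rat_mul hF (rat_mul hF (rat_mul hF
      (hR2 _ _ k9) (hR2 _ _ k10)) (hR2 _ _ k13)) (hR2 _ _ k15)) (hR2 _ _ k17)) (hR2 _ _ k19)) (hR2 _ _ k21))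
      (hR2 _ _ k22)) (hR2 _ _ k23)
  have hQSG : QS q t ∈ twistedE6 K q := by
    unfold QS
    have hx : ∀ (j r r' : ℕ), (j, r, r') ∈ [(11, 48, 50), (12, 49, 61), (14, 52, 62), (16, 54, 64), (18, 55, 67), (20, 66, 68)] →
        ∀ a : K, XS q r a ∈ twistedE6 K q := fun j r r' h a =>
      hG3XS r (hdS (j, r, r') h).2.2.2.2.1 (hdS (j, r, r') h).2.2.2.1 a
    exact Subgroup.mul_mem _ (Subgroup.mul_mem _ (Subgroup.mul_mem _ (Subgroup.mul_mem _ (Subgroup.mul_mem _
      (hx 11 48 50 (by simp) _) (hx 12 49 61 (by simp) _)) (hx 14 52 62 (by simp) _)) (hx 16 54 64 (by simp) _))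
      (hx 18 55 67 (by simp) _)) (hx 20 66 68 (by simp) _)
  -- the permutation
  have hperm : ([9, 10, 11, 12, 13, 14, 15, 16, 17, 18, 19, 20, 21, 22, 23] : List ℕ).Perm
      [11, 12, 14, 16, 18, 20, 9, 10, 13, 15, 17, 19, 21, 22, 23] := by decide
  have hz := temp4h21_perm (hperm.map E) (by
    intro x hx
    rw [List.mem_map] at hx
    obtain ⟨j, hj, rfl⟩ := hx
    apply hEmem
    simp only [List.mem_cons, List.not_mem_nil, or_false] at hj
    omega)
  rw [← hu1] at hz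
  have hprod : ([11, 12, 14, 16, 18, 20, 9, 10, 13, 15, 17, 19, 21, 22, 23].map E).prod = QS q t * Long := by
    rw [hQS, hLong]
    simp only [List.map_cons, List.map_nil, List.prod_cons, List.prod_nil, mul_one, mul_assoc]
  rw [hprod] at hz
  set z : GG K := u * (QS q t * Long)⁻¹ with hzdef
  have hcz : Commute (QS q t * Long) z := temp4h21_central _ (Subgroup.mul_mem _ hQSQ hLongQ) z hz
  have hueq : u = QS q t * (Long * z) := by
    have : u = z * (QS q t * Long) := by rw [hzdef]; group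
    rw [this, ← hcz.eq, mul_assoc]
  have hzQ : z ∈ UPsi K Psi1 := temp4h21_UPsi_mono [71] Psi1 (by decide) hz
  have hzG : z ∈ twistedE6 K q := by
    rw [hzdef]
    exact Subgroup.mul_mem _ huG (Subgroup.inv_mem _ (Subgroup.mul_mem _ hQSG hLongG))
  refine ⟨t, Long * z, Subgroup.mul_mem _ hLongQ hzQ, Subgroup.mul_mem _ hLongG hzG, ?_, hueq⟩
  exact rat_mul hF hLongR (hP3 71 (by simp) z ⟨hz, hzG⟩)

/-- the old name of `temp4h21_core` (cited by `Helper28/TEMA7.lean`); no other `temp4_*` name is declared here -/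
theorem temp4_core (hF : Frob q f)
    (hP0 : h8Ub chevE6 K posi 9 = UPsi K Psi1)
    (hP3 : ∀ r ∈ [39, 71, 32, 0], ∀ g ∈ UPsi K [r] ⊓ twistedE6 K q, Rat q g)
    (hG3X : ∀ r < 72, h8sE6 r = r → ∀ t : K, t ^ q = t → X r t ∈ twistedE6 K q)
    (hG3XS : ∀ r < 72, h8sE6 r ≠ r → ∀ t : K, XS q r t ∈ twistedE6 K q)
    (hR2 : ∀ (r : ℕ) (t : K), t ^ q = t → Rat q (X r t))
    (u : GG K) (hu : u ∈ UPsi K Psi1 ⊓ twistedE6 K q) :
    ∃ t : ℕ → K, ∃ ℓ : GG K, ℓ ∈ UPsi K Psi1 ∧ ℓ ∈ twistedE6 K q ∧ Rat q ℓ ∧ u = QS q t * ℓ :=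
  temp4h21_core hF hP0 hP3 hG3X hG3XS hR2 u hu

end Cfsg.Agent.Lib.Helper10.TEM
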