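import Mathlib
import Cfsg.Prelude.Def_GeometricClasses
import Cfsg.Agent.Lib.Helper27.ASC.Defs
import Cfsg.Agent.Lib.helper23.ASCO.Defs
import Cfsg.Agent.Lib.Lead.Reindex

/-! Project ASCO, piece PLANE3: over `F_3` the stabiliser of a plus-type plane stabilises a non-degenerate
hyperplane. -/

set_option autoImplicit false
set_option linter.unusedVariables false
set_option linter.unusedSectionVars false

namespace Cfsg.Agent.Lib.helper23.ASCO

open Cfsg Cfsg.Geo Cfsg.Agent.Lib.Helper27.ASC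
open scoped MatrixGroups Matrix

variable {n : ℕ} {F : Type*} [Field F] [Fintype F]

theorem ascoplane3_polar_iso (Q : QuadraticForm F (Fin n → F)) (g : GL (Fin n) F)
    (hg : g ∈ isometryGroup F (⇑Q)) (u v : Fin n → F) :
    QuadraticMap.polar (⇑Q) ((g : Matrix (Fin n) (Fin n) F) *ᵥ u)
      ((g : Matrix (Fin n) (Fin n) F) *ᵥ v) = QuadraticMap.polar (⇑Q) u v := by
  have h : ∀ x, Q ((g : Matrix (Fin n) (Fin n) F) *ᵥ x) = Q x := fun x => hg x x
  unfold QuadraticMap.polar
  rw [← Matrix.mulVec_add, h, h, h]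

theorem ascoplane3_f3 (hq : Fintype.card F = 3) (a : F) : a = 0 ∨ a = 1 ∨ a = -1 := by
  have h := FiniteField.pow_card a
  rw [hq] at h
  have : a * (a - 1) * (a + 1) = 0 := by linear_combination h
  rcases mul_eq_zero.1 this with h1 | h1
  · rcases mul_eq_zero.1 h1 with h2 | h2
    · exact Or.inl h2
    · exact Or.inr (Or.inl (sub_eq_zero.1 h2))
  · exact Or.inr (Or.inr (eq_neg_of_add_eq_zero_left h1))

theorem ascoplane3_two_ne (hq : Fintype.card F = 3) : (2 : F) ≠ 0 := by
  intro h2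
  have h3 : ((Fintype.card F : ℕ) : F) = 0 := Nat.cast_card_eq_zero F
  rw [hq] at h3
  push_cast at h3
  have : (1 : F) = 0 := by linear_combination h3 - h2
  exact one_ne_zero this

theorem ascoplane3_stab_of_maps (H : Subgroup (GL (Fin n) F)) (W : Submodule F (Fin n → F))
    (hW : ∀ g ∈ H, ∀ v ∈ W, (g : Matrix (Fin n) (Fin n) F) *ᵥ v ∈ W) : H ≤ subspaceStabilizer W := by
  intro g hg
  show ∀ v, v ∈ (W : Set (Fin n → F)) ↔ (glToMat (Fin n) F g) *ᵥ v ∈ (W : Set (Fin n → F))
  intro v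
  constructor
  · intro hv
    exact hW g hg v hv
  · intro hv
    have h2 := hW g⁻¹ (H.inv_mem hg) _ hv
    have e : ((g⁻¹ : GL (Fin n) F) : Matrix (Fin n) (Fin n) F) *ᵥ ((glToMat (Fin n) F g) *ᵥ v) = v := by
      rw [Matrix.mulVec_mulVec]
      have : ((g⁻¹ : GL (Fin n) F) : Matrix (Fin n) (Fin n) F) * (glToMat (Fin n) F g) = 1 := by
        show ((g⁻¹ : GL (Fin n) F) : Matrix (Fin n) (Fin n) F) * (g : Matrix (Fin n) (Fin n) F) = 1
        rw [← Units.val_mul, inv_mul_cancel, Units.val_one]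
      rw [this, Matrix.one_mulVec]
    rw [e] at h2
    exact h2

/-- PLANE3 -/
theorem plus_plane_q3 (hodd : Odd n) (hn : 5 ≤ n) (Q : QuadraticForm F (Fin n → F))
    (hQ : (QuadraticMap.polarBilin Q).Nondegenerate) (hq : Fintype.card F = 3)
    {H : Subgroup (GL (Fin n) F)} (hHO : H ≤ isometryGroup F (⇑Q))
    (W : Submodule F (Fin n → F)) (hW : IsNondegenerateOn (QuadraticMap.polar (⇑Q)) W)
    (hd : Module.finrank F W = 2) (hp : IsPlusTypeOn (⇑Q) W) (hHW : H ≤ subspaceStabilizer W) :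
    ∃ W' : Submodule F (Fin n → F), W' ≠ ⊥ ∧ W' ≠ ⊤ ∧ Even (Module.finrank F W') ∧
      IsNondegenerateOn (QuadraticMap.polar (⇑Q)) W' ∧ Module.finrank F W' ≠ 2 ∧
      H ≤ subspaceStabilizer W' := by
  classical
  have h2 := ascoplane3_two_ne hq
  obtain ⟨U, hUW, hUs, hUd⟩ := hp
  have hU1 : Module.finrank F U = 1 := by omega
  have hUne : U ≠ ⊥ := by
    intro hb
    rw [hb, finrank_bot] at hU1
    omega
  obtain ⟨u, huU, hu0⟩ := Submodule.exists_mem_ne_zero_of_ne_bot hUne
  have huW : u ∈ W := hUW huU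
  have hQu : Q u = 0 := hUs u huU
  obtain ⟨⟨x, hxW, hxu⟩, _⟩ := hW u huW hu0
  -- the bilinear form
  set B := QuadraticMap.polarBilin Q with hB
  have hBp : ∀ a b, B a b = QuadraticMap.polar (⇑Q) a b := fun a b => rfl
  have hBsymm : ∀ a b, B a b = B b a := fun a b => by rw [hBp, hBp, QuadraticMap.polar_comm]
  have hBself : ∀ a, B a a = 2 * Q a := by
    intro a
    rw [hBp, QuadraticMap.polar_self]
    simp
  have hQadd : ∀ a b, Q (a + b) = Q a + Q b + B a b := by
    intro a b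
    rw [hBp]
    exact QuadraticMap.map_add Q a b
  have hQsmul : ∀ (c : F) a, Q (c • a) = c * c * Q a := by
    intro c a
    rw [QuadraticMap.map_smul]
    rfl
  have hux : B u x ≠ 0 := by rw [hBsymm, hBp]; exact hxu
  -- v₀, v
  obtain ⟨v₀, hv₀⟩ : ∃ v₀ : Fin n → F, v₀ = (B u x)⁻¹ • x := ⟨_, rfl⟩
  have hv₀W : v₀ ∈ W := by rw [hv₀]; exact W.smul_mem _ hxW
  have huv₀ : B u v₀ = 1 := by
    rw [hv₀, map_smul, smul_eq_mul, inv_mul_cancel₀ hux]
  obtain ⟨v, hv⟩ : ∃ v : Fin n → F, v = v₀ + (-(Q v₀)) • u := ⟨_, rfl⟩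
  have hvW : v ∈ W := by rw [hv]; exact W.add_mem hv₀W (W.smul_mem _ huW)
  have huu : B u u = 0 := by rw [hBself, hQu, mul_zero]
  have huv : B u v = 1 := by
    rw [hv, map_add, map_smul, huv₀, huu, smul_zero, add_zero]
  have hQv : Q v = 0 := by
    rw [hv, hQadd, hQsmul, hQu, map_smul, hBsymm v₀ u, huv₀]
    simp
  -- W = span {u, v}
  have hli : LinearIndependent F ![u, v] := by
    rw [LinearIndependent.pair_iff]
    intro s t hst
    have h1 : B u (s • u + t • v) = 0 := by rw [hst, map_zero]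
    rw [map_add, map_smul, map_smul, huu, huv, smul_zero, zero_add, smul_eq_mul, mul_one] at h1
    rw [h1, zero_smul, add_zero] at hst
    rcases smul_eq_zero.1 hst with h | h
    · exact ⟨h, h1⟩
    · exact absurd h hu0
  have hspan : Submodule.span F ({u, v} : Set (Fin n → F)) = W := by
    apply Submodule.eq_of_le_of_finrank_eq
    · rw [Submodule.span_le]
      intro z hz
      rcases hz with rfl | rfl
      · exact huW
      · exact hvW
    · have := finrank_span_eq_card hli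
      rw [Fintype.card_fin] at this
      have hr : Set.range ![u, v] = ({u, v} : Set (Fin n → F)) := by
        ext z
        simp [eq_comm]
        exact or_comm
      rw [hr] at this
      rw [hd, this]
  have hrepr : ∀ w ∈ W, ∃ a b : F, w = a • u + b • v := by
    intro w hw
    rw [← hspan, Submodule.mem_span_pair] at hw
    obtain ⟨a, b, h⟩ := hw
    exact ⟨a, b, h.symm⟩
  have hQab : ∀ a b : F, Q (a • u + b • v) = a * b := by
    intro a b
    rw [hQadd, hQsmul, hQsmul, hQu, hQv, map_smul, map_smul, LinearMap.smul_apply, huv]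
    simp
    ring
  -- w₁
  obtain ⟨w₁, hw₁⟩ : ∃ w₁ : Fin n → F, w₁ = u + v := ⟨_, rfl⟩
  have hw₁W : w₁ ∈ W := by rw [hw₁]; exact W.add_mem huW hvW
  have hQw₁ : Q w₁ = 1 := by
    have := hQab 1 1
    rwa [one_smul, one_smul, mul_one, ← hw₁] at this
  have hone : ∀ w ∈ W, Q w = 1 → w = w₁ ∨ w = -w₁ := by
    intro w hw hQw
    obtain ⟨a, b, rfl⟩ := hrepr w hw
    rw [hQab] at hQw
    rcases ascoplane3_f3 hq a with rfl | rfl | rfl
    · rw [zero_mul] at hQw
      exact absurd hQw.symm one_ne_zero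
    · left
      rw [one_mul] at hQw
      rw [hQw, one_smul, one_smul, hw₁]
    · right
      have hb : b = -1 := by linear_combination -hQw
      rw [hb, hw₁]
      simp
      abel
  have hgw : ∀ g ∈ H, (g : Matrix (Fin n) (Fin n) F) *ᵥ w₁ = w₁ ∨
      (g : Matrix (Fin n) (Fin n) F) *ᵥ w₁ = -w₁ := by
    intro g hg
    apply hone
    · exact ((hHW hg) w₁).1 hw₁W
    · rw [← hQw₁]
      exact (hHO hg) w₁ w₁
  have hBw : B w₁ w₁ ≠ 0 := by
    rw [hBself, hQw₁, mul_one]
    exact h2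
  have hfne : B w₁ ≠ 0 := by
    intro h
    apply hBw
    rw [h]
    rfl
  have hker : Module.finrank F (LinearMap.ker (B w₁)) + 1 = n := by
    have := Module.Dual.finrank_ker_add_one_of_ne_zero hfne
    rwa [Module.finrank_fin_fun] at this
  obtain ⟨m, hm⟩ := hodd
  refine ⟨LinearMap.ker (B w₁), ?_, ?_, ?_, ?_, ?_, ?_⟩
  · intro hb
    rw [hb, finrank_bot] at hker
    omega
  · intro ht
    rw [ht, finrank_top, Module.finrank_fin_fun] at hker
    omega
  · exact ⟨m, by omega⟩
  · intro w' hw' hw'0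
    rw [LinearMap.mem_ker] at hw'
    have key : ∃ y ∈ LinearMap.ker (B w₁), B y w' ≠ 0 := by
      by_contra hcon
      push Not at hcon
      apply hw'0
      apply hQ.2 w'
      intro y
      -- y = a w₁ + y'
      obtain ⟨a, ha⟩ : ∃ a : F, a = B w₁ y / B w₁ w₁ := ⟨_, rfl⟩
      have hy' : y - a • w₁ ∈ LinearMap.ker (B w₁) := by
        rw [LinearMap.mem_ker, map_sub, map_smul, ha, smul_eq_mul, div_mul_cancel₀ _ hBw, sub_self]
      have h3 := hcon _ hy'
      rw [map_sub, LinearMap.sub_apply, map_smul, LinearMap.smul_apply, hw', smul_zero, sub_zero] at h3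
      exact h3
    obtain ⟨y, hy, hy0⟩ := key
    refine ⟨⟨y, hy, ?_⟩, ⟨y, hy, ?_⟩⟩
    · rw [← hBp]; exact hy0
    · rw [← hBp, hBsymm]; exact hy0
  · omega
  · apply ascoplane3_stab_of_maps
    intro g hg z hz
    rw [LinearMap.mem_ker] at hz ⊢
    have hiso := ascoplane3_polar_iso Q g (hHO hg) w₁ z
    rw [← hBp, ← hBp, hz] at hiso
    rcases hgw g hg with h | h
    · rw [h] at hiso
      exact hiso
    · rw [h, map_neg, LinearMap.neg_apply, neg_eq_zero] at hiso
      exact hiso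

end Cfsg.Agent.Lib.helper23.ASCO
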