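import Mathlib
import Cfsg.Prelude.Def_GeometricClasses
import Cfsg.Agent.Lib.Helper27.ASC.Defs
import Cfsg.Agent.Lib.Helper19.ASG.Defs
import Cfsg.Agent.Lib.Helper18.ASP.Defs
import Cfsg.Agent.Lib.Lead.Reindex
import Cfsg.Agent.Lib.Helper11.ASCRED

set_option autoImplicit false
set_option linter.unusedVariables false
set_option linter.unusedSectionVars false

/-!
# Project ASP (helper18), piece RED : a reducible subgroup of the isometry group of a symplectic form
lies in a member of class 1 or class 2.
-/

namespace Cfsg.Agent.Lib.Helper18.ASP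

open Cfsg Cfsg.Geo Cfsg.Agent.Lib.Helper27.ASC Cfsg.Agent.Lib.Helper19.ASG
open scoped MatrixGroups Matrix

variable {n : ℕ} {F : Type*} [Field F] [Fintype F]

section generic

variable {f : (Fin n → F) → (Fin n → F) → F}

/-- the linear functional `w ↦ f w v` -/
def aspred_L (hf : IsSymplecticForm f) (v : Fin n → F) : (Fin n → F) →ₗ[F] F where
  toFun w := f w v
  map_add' x y := hf.bilinear.add_left x y v
  map_smul' c x := by simpa using hf.bilinear.smul_left c x v

theorem aspred_swap (hf : IsSymplecticForm f) {u v : Fin n → F} (h : f u v = 0) : f v u = 0 := by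
  rw [hf.skew, h, neg_zero]

theorem aspred_zero_left (hf : IsSymplecticForm f) (w : Fin n → F) : f 0 w = 0 := by
  have := hf.bilinear.smul_left 0 0 w
  simpa using this

/-- the orthogonal complement -/
def aspred_perp (hf : IsSymplecticForm f) (W : Submodule F (Fin n → F)) : Submodule F (Fin n → F) where
  carrier := {v | ∀ w ∈ W, f v w = 0}
  add_mem' := by
    intro a b ha hb w hw
    rw [hf.bilinear.add_left, ha w hw, hb w hw, add_zero]
  zero_mem' := by
    intro w hw
    exact aspred_zero_left hf w
  smul_mem' := by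
    intro c v hv w hw
    rw [hf.bilinear.smul_left, hv w hw, mul_zero]

theorem aspred_mem_perp (hf : IsSymplecticForm f) (W : Submodule F (Fin n → F)) (v : Fin n → F) :
    v ∈ aspred_perp hf W ↔ ∀ w ∈ W, f v w = 0 := Iff.rfl

theorem aspred_finrank (hf : IsSymplecticForm f) (W : Submodule F (Fin n → F)) :
    n ≤ Module.finrank F W + Module.finrank F (aspred_perp hf W) := by
  classical
  let b := Module.finBasis F W
  let Ψ : (Fin n → F) →ₗ[F] (Fin (Module.finrank F W) → F) :=
    LinearMap.pi (fun i => aspred_L hf ((b i : W) : Fin n → F))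
  have hker : LinearMap.ker Ψ ≤ aspred_perp hf W := by
    intro v hv
    rw [LinearMap.mem_ker] at hv
    have hv' : ∀ i, f v ((b i : W) : Fin n → F) = 0 := by
      intro i
      have := congrFun hv i
      simpa [Ψ, aspred_L] using this
    have hz : (aspred_L hf v).domRestrict W = 0 := by
      apply b.ext
      intro i
      simp only [LinearMap.domRestrict_apply, LinearMap.zero_apply]
      exact aspred_swap hf (hv' i)
    intro w hw
    have : (aspred_L hf v).domRestrict W ⟨w, hw⟩ = 0 := by rw [hz]; rfl
    exact aspred_swap hf this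
  have h1 := LinearMap.finrank_range_add_finrank_ker Ψ
  have h2 : Module.finrank F (LinearMap.range Ψ) ≤ Module.finrank F W := by
    have := Submodule.finrank_le (LinearMap.range Ψ)
    rwa [Module.finrank_fin_fun] at this
  have h3 := Submodule.finrank_mono hker
  rw [Module.finrank_fin_fun] at h1
  omega

end generic

theorem aspred_stab_of_maps (H : Subgroup (GL (Fin n) F)) (W : Submodule F (Fin n → F))
    (hW : ∀ g ∈ H, ∀ v ∈ W, (g : Matrix (Fin n) (Fin n) F) *ᵥ v ∈ W) : H ≤ subspaceStabilizer W := by
  intro g hg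
  show ∀ v, v ∈ (W : Set (Fin n → F)) ↔ (glToMat (Fin n) F g) *ᵥ v ∈ (W : Set (Fin n → F))
  intro v
  constructor
  · intro hv
    exact hW g hg v hv
  · intro hv
    have h2 := hW g⁻¹ (H.inv_mem hg) _ hv
    have e : ((g⁻¹ : GL (Fin n) F) : Matrix (Fin n) (Fin n) F) *ᵥ ((glToMat (Fin n) F g) *ᵥ v) = v := by
      rw [Matrix.mulVec_mulVec]
      have : ((g⁻¹ : GL (Fin n) F) : Matrix (Fin n) (Fin n) F) * (glToMat (Fin n) F g) = 1 := by
        show ((g⁻¹ : GL (Fin n) F) : Matrix (Fin n) (Fin n) F) * (g : Matrix (Fin n) (Fin n) F) = 1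
        rw [← Units.val_mul, inv_mul_cancel, Units.val_one]
      rw [this, Matrix.one_mulVec]
    rw [e] at h2
    exact h2

theorem aspred_maps_of_stab (H : Subgroup (GL (Fin n) F)) (W : Submodule F (Fin n → F))
    (hW : H ≤ subspaceStabilizer W) : ∀ g ∈ H, ∀ v ∈ W, (g : Matrix (Fin n) (Fin n) F) *ᵥ v ∈ W := by
  intro g hg v hv
  exact ((hW hg) v).1 hv

/-- an invariant subspace is mapped ONTO itself -/
theorem aspred_map_eq (H : Subgroup (GL (Fin n) F)) (W : Submodule F (Fin n → F))
    (hW : ∀ g ∈ H, ∀ v ∈ W, (g : Matrix (Fin n) (Fin n) F) *ᵥ v ∈ W) (g : GL (Fin n) F) (hg : g ∈ H) :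
    W.map (Matrix.toLin' (g : Matrix (Fin n) (Fin n) F)) = W := by
  apply le_antisymm
  · rintro _ ⟨v, hv, rfl⟩
    rw [Matrix.toLin'_apply]
    exact hW g hg v hv
  · intro w hw
    refine ⟨((g⁻¹ : GL (Fin n) F) : Matrix (Fin n) (Fin n) F) *ᵥ w, hW g⁻¹ (H.inv_mem hg) w hw, ?_⟩
    rw [Matrix.toLin'_apply, Matrix.mulVec_mulVec, ← Units.val_mul, mul_inv_cancel, Units.val_one,
      Matrix.one_mulVec]

/-- SP-RED -/
theorem sp_red_case {m : ℕ} (hm : 2 ≤ m) (hn : n = 2 * m) (f : (Fin n → F) → (Fin n → F) → F)
    (hf : IsSymplecticForm f) {H : Subgroup (GL (Fin n) F)} (hI : H ≤ isoGL f) (hH : ¬ Irr H) :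
    InSp m f H := by
  classical
  obtain ⟨W, h0, h1, hWst⟩ := red_case H hH
  have hWm := aspred_maps_of_stab H W hWst
  have hGU : ∀ g ∈ H, ∀ u v, f ((g : Matrix (Fin n) (Fin n) F) *ᵥ u)
      ((g : Matrix (Fin n) (Fin n) F) *ᵥ v) = f u v := fun g hg => (mem_isoGL_iff f g).1 (hI hg)
  have hginv : ∀ g : GL (Fin n) F, ∀ w : Fin n → F, (g : Matrix (Fin n) (Fin n) F) *ᵥ
      (((g⁻¹ : GL (Fin n) F) : Matrix (Fin n) (Fin n) F) *ᵥ w) = w := by
    intro g w
    rw [Matrix.mulVec_mulVec, ← Units.val_mul, mul_inv_cancel, Units.val_one, Matrix.one_mulVec]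
  -- perp is invariant
  have hPm : ∀ g ∈ H, ∀ v ∈ aspred_perp hf W,
      (g : Matrix (Fin n) (Fin n) F) *ᵥ v ∈ aspred_perp hf W := by
    intro g hg v hv w hw
    have h2 := hWm g⁻¹ (H.inv_mem hg) w hw
    have h3 := hGU g hg v (((g⁻¹ : GL (Fin n) F) : Matrix (Fin n) (Fin n) F) *ᵥ w)
    rw [hginv] at h3
    rw [h3]
    exact hv _ h2
  by_cases hR : W ⊓ aspred_perp hf W = ⊥
  · -- W is non-degenerate
    have hnd : IsNondegenerateOn f W := by
      intro w hw hw0
      have hnot : w ∉ aspred_perp hf W := by
        intro hwp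
        have : w ∈ W ⊓ aspred_perp hf W := ⟨hw, hwp⟩
        rw [hR] at this
        exact hw0 ((Submodule.mem_bot F).1 this)
      rw [aspred_mem_perp] at hnot
      push Not at hnot
      obtain ⟨x, hx, hx0⟩ := hnot
      refine ⟨⟨x, hx, fun hc => hx0 (aspred_swap hf hc)⟩, ⟨x, hx, hx0⟩⟩
    have hfr := aspred_finrank hf W
    have hsi := Submodule.finrank_sup_add_finrank_inf_eq W (aspred_perp hf W)
    rw [hR, finrank_bot, add_zero] at hsi
    have hle : Module.finrank F (W ⊔ aspred_perp hf W : Submodule F (Fin n → F)) ≤ n := by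
      have := Submodule.finrank_le (W ⊔ aspred_perp hf W)
      rwa [Module.finrank_fin_fun] at this
    have hWlt : Module.finrank F W < n := by
      have := Submodule.finrank_lt h1
      rwa [Module.finrank_fin_fun] at this
    have hWpos : 0 < Module.finrank F W := by
      rcases Nat.eq_zero_or_pos (Module.finrank F W) with hz | hp
      · exact absurd (Submodule.finrank_eq_zero.1 hz) h0
      · exact hp
    have hsup : W ⊔ aspred_perp hf W = ⊤ := by
      apply Submodule.eq_top_of_finrank_eq
      rw [Module.finrank_fin_fun]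
      omega
    have hPdim : Module.finrank F (aspred_perp hf W) = n - Module.finrank F W := by omega
    have hP0 : aspred_perp hf W ≠ ⊥ := by
      intro hb
      rw [hb, finrank_bot] at hPdim
      omega
    have hPnd : IsNondegenerateOn f (aspred_perp hf W) := by
      intro w' hw' hw'0
      have key : ∃ x ∈ aspred_perp hf W, f x w' ≠ 0 := by
        by_contra hcon
        push Not at hcon
        have hall : ∀ v, f v w' = 0 := by
          intro v
          have hv : v ∈ W ⊔ aspred_perp hf W := by rw [hsup]; exact Submodule.mem_top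
          obtain ⟨a, ha, b, hb, rfl⟩ := Submodule.mem_sup.1 hv
          rw [hf.bilinear.add_left, hcon b hb, add_zero]
          exact aspred_swap hf (hw' a ha)
        obtain ⟨⟨x, hx⟩, _⟩ := hf.nondegenerate w' hw'0
        exact hx (hall x)
      obtain ⟨x, hx, hx0⟩ := key
      refine ⟨⟨x, hx, hx0⟩, ⟨x, hx, fun hc => hx0 (aspred_swap hf hc)⟩⟩
    rcases lt_trichotomy (Module.finrank F W) m with hlt | heq | hgt
    · exact inSp_of_nd hI W h0 hnd hlt hWst
    · -- the decomposition `![W, W^⊥]`
      have hPeq : Module.finrank F (aspred_perp hf W) = m := by omega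
      let D : Fin 2 → Submodule F (Fin n → F) := ![W, aspred_perp hf W]
      have hD0 : D 0 = W := rfl
      have hD1 : D 1 = aspred_perp hf W := rfl
      have hdec : IsMDecomposition m D := by
        refine ⟨le_refl 2, by omega, ?_, ?_, ?_⟩
        · intro i
          fin_cases i
          · exact heq
          · exact hPeq
        · rw [iSupIndep_pair (i := (0 : Fin 2)) (j := 1) (by decide) (by decide)]
          rw [hD0, hD1, disjoint_iff]
          exact hR
        · apply le_antisymm le_top
          rw [← hsup]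
          exact sup_le (le_iSup D 0) (le_iSup D 1)
      have hND : IsNondegenerateMDecomposition f m D := by
        refine ⟨hdec, ?_, ?_⟩
        · intro i
          fin_cases i
          · exact hnd
          · exact hPnd
        · intro i j hij
          fin_cases i <;> fin_cases j
          · exact absurd rfl hij
          · intro u hu v hv
            exact aspred_swap hf (hv u hu)
          · intro u hu v hv
            exact hu v hv
          · exact absurd rfl hij
      refine inSp_of_nddec hI D hND ?_
      intro g hg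
      refine ⟨1, fun i => ?_⟩
      fin_cases i
      · exact aspred_map_eq H W hWm g hg
      · exact aspred_map_eq H _ hPm g hg
    · exact inSp_of_nd hI (aspred_perp hf W) hP0 hPnd (by omega) (aspred_stab_of_maps H _ hPm)
  · refine inSp_of_ts hI (W ⊓ aspred_perp hf W) hR ?_ ?_
    · intro u hu v hv
      exact hu.2 v hv.1
    · apply aspred_stab_of_maps
      intro g hg v hv
      exact ⟨hWm g hg v hv.1, hPm g hg v hv.2⟩

end Cfsg.Agent.Lib.Helper18.ASP
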