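import Mathlib
import Cfsg.Prelude.Def_Involutions
import Cfsg.Prelude.Def_LieExceptional
import Cfsg.Agent.Lib.helper6.AbCent.Defs
import Cfsg.Agent.Lib.helper2.AbCentB
import Cfsg.Agent.Lib.helper2.AbCentK
import Cfsg.Agent.Lib.helper17.AbCentT

/-!
# AbCent, piece R: the regular action of `N(P)/C(P)` on the involutions of `P`, inverted elements
(project of helper6 for S2202; statements verbatim from the project skeleton)
-/

set_option autoImplicit false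

namespace Cfsg.Agent.Lib.Helper21.AbCent
open Cfsg.Agent.Lib.helper6.AbCent
open Cfsg.Agent.Lib.helper2.AbCent
open Cfsg.Agent.Lib.helper17.AbCent

universe u
variable {G : Type u} [Group G] [Finite G]

theorem r_mem_NN_iff (P : Sylow 2 G) (g : G) : g ∈ NN P ↔ g • P = P :=
  Sylow.smul_eq_iff_mem_normalizer.symm

theorem r_exists_invol (hS : Setup G) (P : Sylow 2 G) : ∃ t : G, t ∈ P ∧ orderOf t = 2 := by
  have h3 := three_le_nI hS P
  have hpos : 0 < Nat.card {t : G // t ∈ (P : Subgroup G) ∧ orderOf t = 2} := by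
    unfold nI at h3; omega
  obtain ⟨⟨t, ht⟩⟩ := (Nat.card_pos_iff.mp hpos).1
  exact ⟨t, ht.1, ht.2⟩

theorem r_exists_ne (hS : Setup G) (P : Sylow 2 G) : ∃ Q : Sylow 2 G, P ≠ Q := by
  by_contra hcon
  push Not at hcon
  apply hS.nn P
  have h1 : Subgroup.normalizer ((P : Subgroup G) : Set G) = ⊤ := by
    rw [eq_top_iff]
    intro g _
    exact (r_mem_NN_iff P g).mpr (hcon (g • P)).symm
  exact Subgroup.normalizer_eq_top_iff.mp h1

theorem r_conj_mem (P : Sylow 2 G) {n : G} (hn : n ∈ NN P) {x : G} (hx : x ∈ P) :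
    n * x * n⁻¹ ∈ P :=
  (Subgroup.mem_normalizer_iff.mp hn x).mp hx

theorem r_orderOf_conj (n x : G) : orderOf (n * x * n⁻¹) = orderOf x := by
  have := (MulAut.conj n).orderOf_eq x
  rwa [MulAut.conj_apply] at this

theorem r_CC_le_NN (P : Sylow 2 G) : CC P ≤ NN P :=
  Subgroup.centralizer_le_normalizer _

/-- orbit-stabilizer for a subgroup of `N(P)` transitive on the involutions of `P` -/
theorem r_card_trans (hS : Setup G) (P : Sylow 2 G) (H : Subgroup G) (hH : H ≤ NN P)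
    (htr : ∀ s t : G, orderOf s = 2 → s ∈ P → orderOf t = 2 → t ∈ P → ∃ d ∈ H, d * s * d⁻¹ = t) :
    Nat.card H = nI (P : Subgroup G) * Nat.card ↥(H ⊓ CC P) := by
  obtain ⟨t₀, ht₀P, ht₀⟩ := r_exists_invol hS P
  letI : MulAction ↥H G := MulAction.compHom G ((MulAut.conj : G →* MulAut G).comp H.subtype)
  have hsmul : ∀ (h : ↥H) (g : G), h • g = (h : G) * g * (h : G)⁻¹ := fun h g => rfl
  have horb : MulAction.orbit ↥H t₀ = {t : G | t ∈ (P : Subgroup G) ∧ orderOf t = 2} := by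
    ext t
    constructor
    · rintro ⟨h, rfl⟩
      refine ⟨?_, ?_⟩
      · exact r_conj_mem P (hH h.2) ht₀P
      · show orderOf ((h : G) * t₀ * (h : G)⁻¹) = 2
        rw [r_orderOf_conj, ht₀]
    · rintro ⟨htP, ht⟩
      obtain ⟨d, hd, hdt⟩ := htr t₀ t ht₀ ht₀P ht htP
      exact ⟨⟨d, hd⟩, hdt⟩
  have hcent := cent_invol hS.ac P ht₀ ht₀P
  have hstab : MulAction.stabilizer ↥H t₀ = (H ⊓ CC P).subgroupOf H := by
    ext h
    rw [MulAction.mem_stabilizer_iff, Subgroup.mem_subgroupOf, hsmul, Subgroup.mem_inf, ← hcent,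
      Subgroup.mem_centralizer_singleton_iff]
    constructor
    · intro h1
      refine ⟨h.2, ?_⟩
      calc (h : G) * t₀ = (h : G) * t₀ * (h : G)⁻¹ * (h : G) := by group
        _ = t₀ * (h : G) := by rw [h1]
    · rintro ⟨-, h1⟩
      rw [h1]; group
  have hcs : Nat.card (MulAction.stabilizer ↥H t₀) = Nat.card ↥(H ⊓ CC P) := by
    rw [hstab]
    exact Nat.card_congr (Subgroup.subgroupOfEquivOfLe inf_le_left).toEquiv
  have hmain := Subgroup.card_mul_index (MulAction.stabilizer ↥H t₀)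
  have hidx : (MulAction.stabilizer ↥H t₀).index = nI (P : Subgroup G) := by
    rw [MulAction.index_stabilizer, horb, ← Nat.card_coe_set_eq]
    rfl
  rw [hcs, hidx] at hmain
  rw [← hmain, mul_comm]

theorem relIndex_CC (hS : Setup G) (P : Sylow 2 G) :
    (CC P).relIndex (NN P) = nI (P : Subgroup G) := by
  obtain ⟨Q, hPQ⟩ := r_exists_ne hS P
  have h1 := r_card_trans hS P (NN P) le_rfl (fun s t hs hsP ht htP => by
    obtain ⟨d, hd, hdt⟩ := D_trans hS P Q hPQ hs hsP ht htP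
    exact ⟨d, hd.1, hdt⟩)
  have h2 : NN P ⊓ CC P = CC P := inf_eq_right.mpr (r_CC_le_NN P)
  rw [h2] at h1
  have h3 := Subgroup.relIndex_mul_relIndex ⊥ (CC P) (NN P) bot_le (r_CC_le_NN P)
  rw [Subgroup.relIndex_bot_left, Subgroup.relIndex_bot_left, h1] at h3
  have hpos : 0 < Nat.card (CC P) := Nat.card_pos
  have h4 : Nat.card (CC P) * (CC P).relIndex (NN P) = Nat.card (CC P) * nI (P : Subgroup G) := by
    rw [h3, mul_comm]
  exact Nat.eq_of_mul_eq_mul_left hpos h4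

theorem r_odd_of_mem_D (hS : Setup G) (P Q : Sylow 2 G) (hPQ : P ≠ Q) {x : G}
    (hx : x ∈ NN P ⊓ NN Q) : Odd (orderOf x) :=
  Odd.of_dvd_nat (odd_inf_normalizer hS.ac P Q hPQ) (Subgroup.orderOf_dvd_natCard _ hx)

theorem r_D_inf_CC (hS : Setup G) (P Q : Sylow 2 G) (hPQ : P ≠ Q) :
    NN P ⊓ NN Q ⊓ CC P = NN P ⊓ NN Q ⊓ KK P := by
  ext x
  rw [Subgroup.mem_inf, Subgroup.mem_inf (p' := KK P), mem_KK hS P]
  constructor
  · rintro ⟨h1, h2⟩
    exact ⟨h1, h2, r_odd_of_mem_D hS P Q hPQ h1⟩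
  · rintro ⟨h1, h2, -⟩
    exact ⟨h1, h2⟩

theorem card_D (hS : Setup G) (P Q : Sylow 2 G) (hPQ : P ≠ Q) :
    Nat.card ↥(NN P ⊓ NN Q) = nI (P : Subgroup G) * Nat.card ↥(NN P ⊓ NN Q ⊓ KK P) := by
  have h1 := r_card_trans hS P (NN P ⊓ NN Q) inf_le_left (fun s t hs hsP ht htP =>
    D_trans hS P Q hPQ hs hsP ht htP)
  rwa [r_D_inf_CC hS P Q hPQ] at h1

theorem NN_eq_D_mul_CC (hS : Setup G) (P Q : Sylow 2 G) (hPQ : P ≠ Q) {n : G} (hn : n ∈ NN P) :
    ∃ d ∈ NN P ⊓ NN Q, ∃ c ∈ CC P, n = d * c := by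
  obtain ⟨t₀, ht₀P, ht₀⟩ := r_exists_invol hS P
  have h1 : n * t₀ * n⁻¹ ∈ P := r_conj_mem P hn ht₀P
  have h2 : orderOf (n * t₀ * n⁻¹) = 2 := by rw [r_orderOf_conj, ht₀]
  obtain ⟨d, hd, hdt⟩ := D_trans hS P Q hPQ ht₀ ht₀P h2 h1
  refine ⟨d, hd, d⁻¹ * n, ?_, by group⟩
  rw [← cent_invol hS.ac P ht₀ ht₀P, Subgroup.mem_centralizer_singleton_iff]
  have h3 : t₀ = d⁻¹ * (n * t₀ * n⁻¹) * d := by rw [← hdt]; group
  calc d⁻¹ * n * t₀ = d⁻¹ * (n * t₀ * n⁻¹) * d * (d⁻¹ * n) := by group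
    _ = t₀ * (d⁻¹ * n) := by rw [← h3]

theorem r_invol_sq {u : G} (hu : orderOf u = 2) : u * u = 1 := by
  rw [← pow_two, ← hu, pow_orderOf_eq_one]

theorem r_invol_inv {u : G} (hu : orderOf u = 2) : u⁻¹ = u :=
  inv_eq_of_mul_eq_one_left (r_invol_sq hu)

theorem r_orderOf_two {i : G} (h1 : i * i = 1) (h2 : i ≠ 1) : orderOf i = 2 := by
  haveI : Fact (Nat.Prime 2) := ⟨Nat.prime_two⟩
  exact orderOf_eq_prime (by rw [pow_two, h1]) h2

theorem r_eq_one_of_sq_of_odd {k : G} (hkk : k * k = 1) (hodd : Odd (orderOf k)) : k = 1 := by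
  have hdvd : orderOf k ∣ 2 := orderOf_dvd_of_pow_eq_one (by rw [pow_two, hkk])
  rcases (Nat.dvd_prime Nat.prime_two).mp hdvd with h | h
  · exact orderOf_eq_one_iff.mp h
  · rw [h] at hodd; exact absurd hodd (by decide)

theorem r_conj_mem_CC (P : Sylow 2 G) {n c : G} (hn : n ∈ NN P) (hc : c ∈ CC P) :
    n * c * n⁻¹ ∈ CC P := by
  rw [Subgroup.mem_centralizer_iff]
  intro h hh
  have h1 : n⁻¹ * h * n ∈ P := by
    have := r_conj_mem P (Subgroup.inv_mem _ hn) hh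
    rwa [inv_inv] at this
  have h2 := (Subgroup.mem_centralizer_iff.mp hc) _ h1
  calc h * (n * c * n⁻¹) = n * ((n⁻¹ * h * n) * c) * n⁻¹ := by group
    _ = n * (c * (n⁻¹ * h * n)) * n⁻¹ := by rw [h2]
    _ = n * c * n⁻¹ * h := by group

/-- an element `y` of `D` inverted by `u` gives the involution `u * y` mapping `P` to `Q` -/
theorem r_invol_of_inverted (P Q : Sylow 2 G) (hPQ : P ≠ Q) {u : G} (hu : orderOf u = 2)
    (huP : u • P = Q) {y : G} (hy : y ∈ NN P) (hyi : u * y * u⁻¹ = y⁻¹) :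
    orderOf (u * y) = 2 ∧ (u * y) • P = Q := by
  have huinv := r_invol_inv hu
  have hP : (u * y) • P = Q := by
    rw [mul_smul, (r_mem_NN_iff P y).mp hy, huP]
  refine ⟨r_orderOf_two ?_ ?_, hP⟩
  · have h1 : u * y * (u * y) = (u * y * u⁻¹) * y := by rw [huinv]; group
    rw [h1, hyi, inv_mul_cancel]
  · intro h1
    rw [h1, one_smul] at hP
    exact hPQ hP

theorem inverted_unique (hS : Setup G) (P Q : Sylow 2 G) (hPQ : P ≠ Q) {u : G} (hu : orderOf u = 2)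
    (huP : u • P = Q) {y y' : G} (hy : y ∈ NN P ⊓ NN Q) (hy' : y' ∈ NN P ⊓ NN Q)
    (hyi : u * y * u⁻¹ = y⁻¹) (hyi' : u * y' * u⁻¹ = y'⁻¹) (hc : y⁻¹ * y' ∈ CC P) : y = y' := by
  have huinv := r_invol_inv hu
  obtain ⟨hi2, hiP⟩ := r_invol_of_inverted P Q hPQ hu huP hy.1 hyi
  set i := u * y with hi
  have hii : i * i = 1 := r_invol_sq hi2
  have hinv : i⁻¹ = i := r_invol_inv hi2
  have hiN : i ∉ NN P := by
    intro h
    rw [r_mem_NN_iff, hiP] at h
    exact hPQ h.symm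
  set k := y⁻¹ * y' with hk
  have hiki : i * k * i = k⁻¹ := by
    have h1 : i * k * i = (u * y' * u⁻¹) * y := by rw [huinv, hi, hk]; group
    rw [h1, hyi', hk]; group
  obtain ⟨t, htP, ht⟩ := r_exists_invol hS P
  have hkt : Commute k t := ((Subgroup.mem_centralizer_iff.mp hc) t htP).symm
  -- `k` commutes with `t' = i t i`
  have hkt' : Commute k (i * t * i) := by
    have h1 : Commute k⁻¹ (i * t * i) := by
      show k⁻¹ * (i * t * i) = i * t * i * k⁻¹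
      rw [← hiki]
      calc i * k * i * (i * t * i) = i * (k * (i * i) * t) * i := by group
        _ = i * (k * t) * i := by rw [hii, mul_one]
        _ = i * (t * k) * i := by rw [hkt.eq]
        _ = i * (t * (i * i) * k) * i := by rw [hii, mul_one]
        _ = i * t * i * (i * k * i) := by group
    have := h1.inv_left
    rwa [inv_inv] at this
  have hsq : (t * i) ^ 2 = t * (i * t * i) := by rw [pow_two]; group
  have hk2 : Commute k ((t * i) ^ 2) := by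
    rw [hsq]; exact hkt.mul_right hkt'
  obtain ⟨j, hj⟩ := odd_orderOf_mul hS.ac P ht htP hi2 hiN
  have hti : ((t * i) ^ 2) ^ (j + 1) = t * i := by
    rw [← pow_mul, show 2 * (j + 1) = (2 * j + 1) + 1 by ring, ← hj, pow_succ, pow_orderOf_eq_one,
      one_mul]
  have hkti : Commute k (t * i) := by
    rw [← hti]; exact hk2.pow_right _
  have hki : Commute k i := by
    have h1 : i = t⁻¹ * (t * i) := by group
    rw [h1]; exact hkt.inv_right.mul_right hkti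
  have hkk : k * k = 1 := by
    have h1 : k⁻¹ = k := by
      rw [← hiki, ← hki.eq, mul_assoc, hii, mul_one]
    calc k * k = k⁻¹ * k := by rw [h1]
      _ = 1 := inv_mul_cancel k
  have hkD : k ∈ NN P ⊓ NN Q := Subgroup.mul_mem _ (Subgroup.inv_mem _ hy) hy'
  have hodd := r_odd_of_mem_D hS P Q hPQ hkD
  have hdvd : orderOf k ∣ 2 := orderOf_dvd_of_pow_eq_one (by rw [pow_two, hkk])
  have hk1 : k = 1 := by
    rcases (Nat.dvd_prime Nat.prime_two).mp hdvd with h | h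
    · exact orderOf_eq_one_iff.mp h
    · rw [h] at hodd; exact absurd hodd (by decide)
  have : y' = y * k := by rw [hk]; group
  rw [this, hk1, mul_one]

theorem card_inverted (hS : Setup G) (P Q : Sylow 2 G) (hPQ : P ≠ Q) {u : G} (hu : orderOf u = 2)
    (huP : u • P = Q) :
    Nat.card {y : G // y ∈ NN P ⊓ NN Q ∧ u * y * u⁻¹ = y⁻¹} = nI (P : Subgroup G) := by
  rw [← swap_count hS P Q hPQ]
  have huinv := r_invol_inv hu
  have huu := r_invol_sq hu
  have huQ : u • Q = P := by rw [← huP, ← mul_smul, huu, one_smul]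
  refine Nat.card_congr (Equiv.subtypeEquiv (Equiv.mulLeft u) (fun y => ?_))
  show _ ↔ orderOf (u * y) = 2 ∧ (u * y) • P = Q
  constructor
  · rintro ⟨hy, hyi⟩
    exact r_invol_of_inverted P Q hPQ hu huP hy.1 hyi
  · rintro ⟨hi2, hiP⟩
    have hii := r_invol_sq hi2
    have hiQ : (u * y) • Q = P := by rw [← hiP, ← mul_smul, hii, one_smul]
    have hy : y = u * (u * y) := by rw [← mul_assoc, huu, one_mul]
    refine ⟨Subgroup.mem_inf.mpr ⟨?_, ?_⟩, ?_⟩
    · rw [r_mem_NN_iff, hy, mul_smul, hiP, huQ]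
    · rw [r_mem_NN_iff, hy, mul_smul, hiQ, huP]
    · rw [huinv]
      calc u * y * u = u * y * u * y * y⁻¹ := by group
        _ = (u * y * (u * y)) * y⁻¹ := by group
        _ = y⁻¹ := by rw [hii, one_mul]

theorem exists_inverted (hS : Setup G) (P Q : Sylow 2 G) (hPQ : P ≠ Q) {u : G} (hu : orderOf u = 2)
    (huP : u • P = Q) {d : G} (hd : d ∈ NN P ⊓ NN Q) :
    ∃ y ∈ NN P ⊓ NN Q, u * y * u⁻¹ = y⁻¹ ∧ d⁻¹ * y ∈ KK P := by
  let f : {y : G // y ∈ NN P ⊓ NN Q ∧ u * y * u⁻¹ = y⁻¹} × ↥(NN P ⊓ NN Q ⊓ KK P) →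
      ↥(NN P ⊓ NN Q) :=
    fun p => ⟨p.1.1 * p.2.1, Subgroup.mul_mem _ p.1.2.1 p.2.2.1⟩
  have hinj : Function.Injective f := by
    rintro ⟨⟨y, hy, hyi⟩, ⟨c, hc⟩⟩ ⟨⟨y', hy', hyi'⟩, ⟨c', hc'⟩⟩ h
    have h1 : y * c = y' * c' := congrArg Subtype.val h
    have h2 : y⁻¹ * y' = c * c'⁻¹ := by
      have : y' = y * c * c'⁻¹ := by rw [h1]; group
      rw [this]; group
    have hcC : c ∈ CC P := ((mem_KK hS P).mp hc.2).1
    have hcC' : c' ∈ CC P := ((mem_KK hS P).mp hc'.2).1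
    have h3 : y = y' := inverted_unique hS P Q hPQ hu huP hy hy' hyi hyi'
      (h2 ▸ Subgroup.mul_mem _ hcC (Subgroup.inv_mem _ hcC'))
    subst h3
    have h4 : c = c' := mul_left_cancel h1
    subst h4
    rfl
  have hcard : Nat.card ↥(NN P ⊓ NN Q) ≤
      Nat.card ({y : G // y ∈ NN P ⊓ NN Q ∧ u * y * u⁻¹ = y⁻¹} × ↥(NN P ⊓ NN Q ⊓ KK P)) := by
    rw [Nat.card_prod, card_inverted hS P Q hPQ hu huP, ← card_D hS P Q hPQ]
  have hbij := hinj.bijective_of_nat_card_le hcard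
  obtain ⟨⟨⟨y, hy, hyi⟩, ⟨c, hc⟩⟩, hyc⟩ := hbij.2 ⟨d, hd⟩
  refine ⟨y, hy, hyi, ?_⟩
  have h1 : y * c = d := congrArg Subtype.val hyc
  have h2 : d⁻¹ * y = c⁻¹ := by rw [← h1]; group
  rw [h2]
  exact Subgroup.inv_mem _ hc.2

end Cfsg.Agent.Lib.Helper21.AbCent
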