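import Mathlib
import Cfsg.Agent.Lib.Lead.BCS.Defs
import Cfsg.Agent.Lib.Helper11.BCSA5
import Cfsg.Agent.Lib.Helper5.S5955T7
import Cfsg.Agent.Lib.Helper24.ElR
import Cfsg.Agent.Lib.Helper24.S5972SPLIT

set_option autoImplicit false
set_option linter.unusedVariables false
set_option linter.unusedSectionVars false

/-!
# Project BCS (designer lead), row A6b, second copy by helper21 (seat-prefixed names): core with the statements of A3 and A4 as hypotheses.
-/

namespace Cfsg.Agent.Lib.Lead.BCS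

open Polynomial Module Matrix Cfsg.Agent.Lib.Helper13.S5955 Cfsg.Agent.Lib.helper15.S5972
  Cfsg.Agent.Lib.Helper18.ONE

/-- A6b, core: A3 (`bcs_comm_inv`) and A4 (`bcs_inv_dvd`, at `y`) as hypotheses -/
theorem bcsa6b_h21_core {F : Type*} [Field F] [Fintype F] {p : ℕ} [Fact p.Prime] [CharP F p]
    (h2 : (2 : F) ≠ 0) {V : Type*} [AddCommGroup V] [Module F V] [FiniteDimensional F V]
    {ℓ : ℕ} [Fact ℓ.Prime] (hℓp : ℓ ≠ p) {B : LinearMap.BilinForm F V}
    {y u : Module.End F V} (h : OCtx ℓ B y) (hu : OCtx p B u) (hc : Commute u y) (m : ℕ)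
    (hmo : Odd m) (hord : orderOf ((Fintype.card F : ℕ) : ZMod ℓ) = m)
    (hdim : finrank F (cycS ℓ y) = 2 * m)
    (hA3 : ∀ (g z : Module.End F V), Commute g z → ∀ r : ℕ, SInv g (fixS z) ∧ SInv g (cycS r z))
    (hA4 : ∀ K : Submodule F V, SInv y K → K ≤ cycS ℓ y →
      orderOf ((Fintype.card F : ℕ) : ZMod ℓ) ∣ finrank F K) :
    ∀ w ∈ cycS ℓ y, u w = w := by
  classical
  obtain ⟨W, hWdef⟩ : ∃ W : Submodule F V, W = cycS ℓ y := ⟨_, rfl⟩
  rw [← hWdef] at hdim hA4 ⊢
  have hWu : SInv u W := by rw [hWdef]; exact (hA3 u y hc ℓ).2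
  have hWy : SInv y W := by rw [hWdef]; exact (hA3 y y (Commute.refl y) ℓ).2
  have hFy : SInv y (fixS u) := (hA3 y u hc.symm 0).1
  have hnil : (u - 1) ^ p = 0 := by
    rw [Cfsg.Agent.Lib.Helper24.el_sub_one_pow_char, hu.pow, sub_self]
  have hm1 : 1 ≤ m := hmo.pos
  have hWnd : SND B W := by
    rw [hWdef]
    exact (o_split hℓp h).2.2.2
  have hN : ∀ v, (u - 1) v = u v - v := fun v => by
    rw [LinearMap.sub_apply, Module.End.one_apply]
  have hcomm : ∀ v, y (u v) = u (y v) := fun v => by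
    have h1 := congrArg (fun f : Module.End F V => f v) hc.eq
    simp only [Module.End.mul_apply] at h1
    exact h1.symm
  -- key claim
  have hkey : ∀ R : Submodule F V, SInv y R → SInv u R → R ≤ W → R ≠ ⊥ → finrank F R ≤ m →
      R ≤ fixS u := by
    intro R hRy hRu hRW hR0 hRm
    have h1 := bcs_unip_fix u p hnil R hRu hR0
    have hinv : SInv y (R ⊓ fixS u) := fun w hw => ⟨hRy w hw.1, hFy w hw.2⟩
    have hdvd := hA4 (R ⊓ fixS u) hinv (le_trans inf_le_left hRW)
    rw [hord] at hdvd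
    have hpos : 0 < finrank F ↥(R ⊓ fixS u) := by
      rw [Module.finrank_pos_iff_exists_ne_zero]
      obtain ⟨w, hw, hw0⟩ := Submodule.exists_mem_ne_zero_of_ne_bot h1
      exact ⟨⟨w, hw⟩, fun h0 => hw0 (congrArg Subtype.val h0)⟩
    have hle : finrank F ↥(R ⊓ fixS u) ≤ finrank F R := Submodule.finrank_mono inf_le_left
    have hge := Nat.le_of_dvd hpos hdvd
    have heq : finrank F ↥(R ⊓ fixS u) = finrank F R := by omega
    have h3 := Submodule.eq_of_le_of_finrank_eq (inf_le_left : R ⊓ fixS u ≤ R) heq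
    rw [← h3]
    exact inf_le_right
  by_contra hcon
  simp only [not_forall] at hcon
  obtain ⟨w0, hw0W, hw0⟩ := hcon
  -- `K = W ⊓ fixS u` has dimension `m`
  have hW0 : W ≠ ⊥ := by
    intro h0
    rw [h0, finrank_bot] at hdim
    omega
  have hK0 := bcs_unip_fix u p hnil W hWu hW0
  have hKinv : SInv y (W ⊓ fixS u) := fun w hw => ⟨hWy w hw.1, hFy w hw.2⟩
  have hKdvd := hA4 (W ⊓ fixS u) hKinv inf_le_left
  rw [hord] at hKdvd
  have hKpos : 0 < finrank F ↥(W ⊓ fixS u) := by
    rw [Module.finrank_pos_iff_exists_ne_zero]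
    obtain ⟨w, hw, hw0'⟩ := Submodule.exists_mem_ne_zero_of_ne_bot hK0
    exact ⟨⟨w, hw⟩, fun h0 => hw0' (congrArg Subtype.val h0)⟩
  have hKlt : finrank F ↥(W ⊓ fixS u) < finrank F W := by
    apply Submodule.finrank_lt_finrank_of_lt
    refine lt_of_le_of_ne inf_le_left ?_
    intro heq
    apply hw0
    have : w0 ∈ W ⊓ fixS u := by rw [heq]; exact hw0W
    exact (bcs_mem_fixS u w0).mp this.2
  have hKm : finrank F ↥(W ⊓ fixS u) = m := by
    obtain ⟨k, hk⟩ := hKdvd
    rw [hdim] at hKlt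
    have hk1 : k = 1 := by
      rcases k with _ | _ | k
      · rw [hk] at hKpos; simp at hKpos
      · rfl
      · rw [hk] at hKlt
        nlinarith
    rw [hk, hk1, mul_one]
  -- the map `n = (u - 1)|W`
  let n : ↥W →ₗ[F] V := (u - 1) ∘ₗ W.subtype
  have hn : ∀ a : ↥W, n a = u a - a := fun a => hN a
  have hkern : (LinearMap.ker n).map W.subtype = W ⊓ fixS u := by
    ext v
    constructor
    · rintro ⟨a, ha, rfl⟩
      refine ⟨a.2, (bcs_mem_fixS u _).mpr ?_⟩
      have h1 : n a = 0 := ha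
      rw [hn] at h1
      exact sub_eq_zero.mp h1
    · rintro ⟨hvW, hvF⟩
      refine ⟨⟨v, hvW⟩, ?_, rfl⟩
      show n ⟨v, hvW⟩ = 0
      rw [hn]
      exact sub_eq_zero.mpr ((bcs_mem_fixS u v).mp hvF)
  have hkerdim : finrank F ↥(LinearMap.ker n) = m := by
    rw [← Submodule.finrank_map_subtype_eq W (LinearMap.ker n), hkern, hKm]
  have hrn := LinearMap.finrank_range_add_finrank_ker n
  rw [hkerdim, hdim] at hrn
  have hRdim : finrank F ↥(LinearMap.range n) = m := by omega
  have hRW : LinearMap.range n ≤ W := by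
    rintro _ ⟨a, rfl⟩
    rw [hn]
    exact W.sub_mem (hWu a a.2) a.2
  have hRy : SInv y (LinearMap.range n) := by
    rintro _ ⟨a, rfl⟩
    refine ⟨⟨y a, hWy a a.2⟩, ?_⟩
    rw [hn, hn, map_sub, hcomm]
  have hRu : SInv u (LinearMap.range n) := by
    rintro _ ⟨a, rfl⟩
    refine ⟨⟨u a, hWu a a.2⟩, ?_⟩
    rw [hn, hn, map_sub]
  have hR0 : LinearMap.range n ≠ ⊥ := by
    intro h0
    rw [h0, finrank_bot] at hRdim
    omega
  have hRfix := hkey _ hRy hRu hRW hR0 (le_of_eq hRdim)
  have hNN : ∀ v ∈ W, u (u v - v) = u v - v := by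
    intro v hv
    have h1 : n ⟨v, hv⟩ ∈ fixS u := hRfix ⟨⟨v, hv⟩, rfl⟩
    rw [hn] at h1
    exact (bcs_mem_fixS u _).mp h1
  -- the isometry identity
  have hiso : ∀ v w, B (u v - v) w + B v (u w - w) + B (u v - v) (u w - w) = 0 := by
    intro v w
    have h1 := hu.pres v w
    simp only [map_sub, LinearMap.sub_apply]
    linear_combination h1
  have hBNN : ∀ v ∈ W, ∀ w ∈ W, B (u v - v) (u w - w) = 0 := by
    intro v hv w hw
    have h1 := hiso v (u w - w)
    rw [hNN w hw, sub_self, map_zero, add_zero, map_zero, add_zero] at h1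
    exact h1
  have hskew : ∀ v ∈ W, ∀ w ∈ W, B (u v - v) w = -B (u w - w) v := by
    intro v hv w hw
    have h1 := hiso v w
    rw [hBNN v hv w hw, add_zero, hu.symm v (u w - w)] at h1
    linear_combination h1
  have halt : ∀ v ∈ W, B (u v - v) v = 0 := by
    intro v hv
    have h1 := hskew v hv v hv
    have h3 : (2 : F) * B (u v - v) v = 0 := by linear_combination h1
    rcases mul_eq_zero.mp h3 with h4 | h4
    · exact absurd h4 h2
    · exact h4
  have hrad : ∀ v ∈ W, (∀ w ∈ W, B (u v - v) w = 0) → u v - v = 0 := by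
    intro v hv hall
    exact hWnd (u v - v) (W.sub_mem (hWu v hv) hv) hall
  -- the alternating form on `W`
  let γ : LinearMap.BilinForm F ↥W := B.compl₁₂ n W.subtype
  have hγ : ∀ a b : ↥W, γ a b = B (u a - a) b := by
    intro a b
    show B (n a) (W.subtype b) = _
    rw [hn]
    rfl
  have hγalt : ∀ a : ↥W, γ a a = 0 := fun a => by rw [hγ]; exact halt a a.2
  obtain ⟨C, hC⟩ := Submodule.exists_isCompl (LinearMap.ker n)
  have hCdim : finrank F ↥C = m := by
    have h1 := Submodule.finrank_add_eq_of_isCompl hC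
    rw [hkerdim, hdim] at h1
    omega
  have hCnd : SND γ C := by
    intro c hcC hall
    have hcker : c ∈ LinearMap.ker n := by
      show n c = 0
      rw [hn]
      apply hrad c c.2
      intro w hw
      have htop : (⟨w, hw⟩ : ↥W) ∈ LinearMap.ker n ⊔ C := by rw [hC.sup_eq_top]; trivial
      obtain ⟨k, hk, c', hc', hkc⟩ := Submodule.mem_sup.mp htop
      have h1 : γ c ⟨w, hw⟩ = 0 := by
        rw [← hkc, map_add, hall c' hc', add_zero, hγ, hskew c c.2 k k.2]
        have h3 : n k = 0 := hk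
        rw [hn] at h3
        rw [h3, map_zero, LinearMap.zero_apply, neg_zero]
      rw [hγ] at h1
      exact h1
    have : c ∈ LinearMap.ker n ⊓ C := ⟨hcker, hcC⟩
    rw [hC.inf_eq_bot] at this
    exact (Submodule.mem_bot F).mp this
  have hev := Cfsg.Agent.Lib.Helper13.S5955.nd_even γ hγalt C hCnd
  rw [hCdim] at hev
  exact (Nat.not_even_iff_odd.mpr hmo) hev

end Cfsg.Agent.Lib.Lead.BCS
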