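import Mathlib
import Cfsg.Agent.Lib.Lead.BCS.Defs
import Cfsg.Agent.Lib.helper7.BCSA3
import Cfsg.Agent.Lib.helper17.BCSA4
import Cfsg.Agent.Lib.Helper21.BCSA6Bh21

set_option autoImplicit false
set_option linter.unusedVariables false
set_option linter.unusedSectionVars false

/-!
# Project BCS (designer lead), row A6b, second copy by helper21: the full statement of `bcs_unip_cyc_split` under the seat-prefixed name `bcsa6b_h21`
(= `bcsa6b_h21_core` + helper7 `bcs_comm_inv` (A3) + helper17 `bcs_inv_dvd` (A4)).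
-/

namespace Cfsg.Agent.Lib.Lead.BCS

open Polynomial Module Matrix Cfsg.Agent.Lib.Helper13.S5955 Cfsg.Agent.Lib.helper15.S5972
  Cfsg.Agent.Lib.Helper18.ONE

theorem bcsa6b_h21 {F : Type*} [Field F] [Fintype F] {p : ℕ} [Fact p.Prime] [CharP F p]
    (h2 : (2 : F) ≠ 0) {V : Type*} [AddCommGroup V] [Module F V] [FiniteDimensional F V]
    {ℓ : ℕ} [Fact ℓ.Prime] (hℓp : ℓ ≠ p) {B : LinearMap.BilinForm F V}
    {y u : Module.End F V} (h : OCtx ℓ B y) (hu : OCtx p B u) (hc : Commute u y) (m : ℕ)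
    (hmo : Odd m) (hord : orderOf ((Fintype.card F : ℕ) : ZMod ℓ) = m)
    (hdim : finrank F (cycS ℓ y) = 2 * m) :
    ∀ w ∈ cycS ℓ y, u w = w :=
  bcsa6b_h21_core h2 hℓp h hu hc m hmo hord hdim
    (fun g z hgz r => bcs_comm_inv g z hgz r)
    (fun K hK hKc => bcs_inv_dvd hℓp y K hK hKc)

end Cfsg.Agent.Lib.Lead.BCS
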