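import Mathlib
import Cfsg.Prelude.Def_GeometricClasses
import Cfsg.Agent.Lib.Helper27.ASC.Defs

set_option autoImplicit false
set_option linter.unusedVariables false

namespace Cfsg.Agent.Lib.Helper27.ASC

open Cfsg Cfsg.Geo
open scoped MatrixGroups Matrix

variable {n : ℕ} {F : Type*} [Field F] [Fintype F]

/-- a commutative subgroup that is scalar-or-absolutely-irreducible is scalar -/
theorem asces3_comm_scalar {A : Subgroup (GL (Fin n) F)}
    (hcomm : ∀ a ∈ A, ∀ b ∈ A, a * b = b * a)
    (h : A ≤ scalars (Fin n) F ∨ AbsIrr A) : A ≤ scalars (Fin n) F := by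
  rcases h with h | h
  · exact h
  · intro a ha
    rw [mem_scalars_iff]
    by_cases hn : n = 0
    · subst hn
      exact ⟨1, Subsingleton.elim _ _⟩
    obtain ⟨c, hc⟩ := h.2 (a : Matrix (Fin n) (Fin n) F) (by
      rintro s ⟨b, hb, rfl⟩
      have := hcomm a ha b hb
      have h2 := congrArg (fun g : GL (Fin n) F => (g : Matrix (Fin n) (Fin n) F)) this
      simpa using h2)
    have hc0 : c ≠ 0 := by
      intro h0
      have hdet : (a : Matrix (Fin n) (Fin n) F).det ≠ 0 := by
        have := (Matrix.GeneralLinearGroup.det a).ne_zero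
        simpa using this
      apply hdet
      rw [hc, h0, zero_smul]
      haveI : Nonempty (Fin n) := ⟨⟨0, Nat.pos_of_ne_zero hn⟩⟩
      exact Matrix.det_zero
    exact ⟨Units.mk0 c hc0, by simpa using hc⟩

/-- ES3 -/
theorem heis_char_cyclic {r : ℕ} (hr : r.Prime) {H N : Subgroup (GL (Fin r) F)} (hD : AllNormalAbsIrr H)
    (hN : NormalIn N H) (hc : Nat.card (Subgroup.center N) = r) :
    ∀ A : Subgroup N, A.Characteristic → IsMulCommutative A → IsCyclic A := by
  classical
  intro A hAchar hAcomm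
  -- conjugation by h ∈ H as an automorphism of N
  have hinv : ∀ h ∈ H, ∀ x ∈ N, h⁻¹ * x * h ∈ N := by
    intro h hh x hx
    have := hN.2 h⁻¹ (H.inv_mem hh) x hx
    simpa using this
  let conjN : ∀ h : GL (Fin r) F, h ∈ H → (N ≃* N) := fun h hh =>
    { toFun := fun x => ⟨h * x * h⁻¹, hN.2 h hh x x.2⟩
      invFun := fun x => ⟨h⁻¹ * x * h, hinv h hh x x.2⟩
      left_inv := fun x => by
        apply Subtype.ext
        show h⁻¹ * (h * x * h⁻¹) * h = x
        group
      right_inv := fun x => by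
        apply Subtype.ext
        show h * (h⁻¹ * x * h) * h⁻¹ = x
        group
      map_mul' := fun x y => by
        apply Subtype.ext
        show h * (x * y) * h⁻¹ = (h * x * h⁻¹) * (h * y * h⁻¹)
        group }
  -- the image of A in GL
  set A' : Subgroup (GL (Fin r) F) := A.map N.subtype with hA'
  have hA'N : A' ≤ N := by
    rintro _ ⟨a, _, rfl⟩
    exact a.2
  have hnorm : NormalIn A' H := by
    refine ⟨hA'N.trans hN.1, ?_⟩
    rintro h hh _ ⟨a, ha, rfl⟩
    refine ⟨conjN h hh a, ?_, rfl⟩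
    have hfix := hAchar.fixed (conjN h hh)
    have : a ∈ A.comap (conjN h hh).toMonoidHom := by rw [hfix]; exact ha
    exact this
  have hcomm' : ∀ a ∈ A', ∀ b ∈ A', a * b = b * a := by
    rintro _ ⟨a, ha, rfl⟩ _ ⟨b, hb, rfl⟩
    have := hAcomm.is_comm.comm ⟨a, ha⟩ ⟨b, hb⟩
    have h2 := congrArg (fun z : A => ((z : N) : GL (Fin r) F)) this
    simpa using h2
  have hsc : A' ≤ scalars (Fin r) F := asces3_comm_scalar hcomm' (hD A' hnorm)
  -- A ≤ center N
  have hAZ : A ≤ Subgroup.center N := by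
    intro a ha
    rw [Subgroup.mem_center_iff]
    intro x
    apply Subtype.ext
    show (x : GL (Fin r) F) * (a : GL (Fin r) F) = (a : GL (Fin r) F) * (x : GL (Fin r) F)
    have hs : (a : GL (Fin r) F) ∈ scalars (Fin r) F := hsc ⟨a, ha, rfl⟩
    obtain ⟨c, hcc⟩ := (mem_scalars_iff _).mp hs
    apply Units.ext
    show (((x : N) : GL (Fin r) F) : Matrix (Fin r) (Fin r) F) * (((a : N) : GL (Fin r) F) : Matrix (Fin r) (Fin r) F) = (((a : N) : GL (Fin r) F) : Matrix (Fin r) (Fin r) F) * (((x : N) : GL (Fin r) F) : Matrix (Fin r) (Fin r) F)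
    rw [hcc]
    simp
  -- cardinality
  haveI : Fact r.Prime := ⟨hr⟩
  have hdvd : Nat.card A ∣ r := by
    have := Subgroup.card_dvd_of_le hAZ
    rwa [hc] at this
  rcases (Nat.dvd_prime hr).mp hdvd with h1 | h1
  · haveI : Subsingleton A := (Nat.card_eq_one_iff_unique.mp h1).1
    exact isCyclic_of_subsingleton
  · exact isCyclic_of_prime_card h1

end Cfsg.Agent.Lib.Helper27.ASC
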