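import Mathlib
import Cfsg.Prelude.Def_ChevStructure
import Cfsg.Prelude.Def_ChevG2
import Cfsg.Agent.S1026
import Cfsg.Agent.S1024

/-!
# Project G2T (S2371), row B5: a unipotent element fixed by a regular diagonal element is trivial.
-/

set_option autoImplicit false

namespace Cfsg.Agent.Lib.helper14.G2T

open Cfsg.Lie Cfsg.Lie.ChevalleyDatum Matrix

universe u v

section B

variable {E : Type u} [Field E]

/-- moving `h` through a word in root elements multiplies the parameters by `χ` -/
theorem g2tB5_word_conj (h : Matrix chevG2.Idx chevG2.Idx E) (χ : ℕ → E)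
    (hact : ∀ r < 12, ∀ t : E, h * chevG2.x E r t = chevG2.x E r (χ r * t) * h)
    (w : List (ℕ × E)) (hw : ∀ p ∈ w, p.1 < 12) :
    h * chevG2.wordMat E w = chevG2.wordMat E (w.map fun p => (p.1, χ p.1 * p.2)) * h := by
  induction w with
  | nil => simp [wordMat]
  | cons p w ih =>
    have ih' := ih (fun q hq => hw q (List.mem_cons_of_mem _ hq))
    unfold wordMat at ih' ⊢
    simp only [List.map_cons, List.prod_cons]
    rw [← mul_assoc, hact p.1 (hw p List.mem_cons_self) p.2, mul_assoc, ih', ← mul_assoc]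

/-- the positive roots of `G₂` are below `12` -/
theorem g2tB5_pos_lt {r : ℕ} (hr : r ∈ chevG2.posRoots) : r < 12 := by
  unfold posRoots at hr
  rw [List.mem_filter, List.mem_range] at hr
  exact hr.1

/-- a word with all parameters zero is the identity -/
theorem g2tB5_word_zero (l : List ℕ) (hl : ∀ r ∈ l, r < 12) :
    chevG2.wordMat E (l.map fun r => (r, (0 : E))) = 1 := by
  have hD : chevG2 ∈ [chevG2, chevB2, chevD4, chevF4, chevE6, chevE7, chevE8] := by simp
  unfold wordMat
  apply List.prod_eq_one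
  intro m hm
  rw [List.map_map, List.mem_map] at hm
  obtain ⟨r, hr, rfl⟩ := hm
  exact (Cfsg.Agent.S1024.result (F := E) chevG2 hD r (hl r hr) 0).2 rfl

/-- B5 [M]. -/
theorem U_fixed (h : GL chevG2.Idx E) (χ : ℕ → E)
    (hact : ∀ r < 12, ∀ t : E, (h : Matrix chevG2.Idx chevG2.Idx E) * chevG2.x E r t =
      chevG2.x E r (χ r * t) * (h : Matrix chevG2.Idx chevG2.Idx E))
    (hχ1 : ∀ r < 12, χ r ≠ 1) (u : GL chevG2.Idx E) (hu : u ∈ chevG2.posUnipotent E)
    (hcomm : h * u = u * h) : u = 1 := by
  have hD : chevG2 ∈ [chevG2, chevB2, chevD4, chevF4, chevE6, chevE7, chevE8] := by simp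
  obtain ⟨t, ⟨ht0, htu⟩, huniq⟩ := (Cfsg.Agent.S1026.result (F := E) chevG2 hD).1 u hu
  have hconj := g2tB5_word_conj (h : Matrix chevG2.Idx chevG2.Idx E) χ hact
    (chevG2.posRoots.map fun r => (r, t r)) (by
      intro p hp
      rw [List.mem_map] at hp
      obtain ⟨r, hr, rfl⟩ := hp
      exact g2tB5_pos_lt hr)
  rw [List.map_map] at hconj
  have hc : (h : Matrix chevG2.Idx chevG2.Idx E) * (u : Matrix chevG2.Idx chevG2.Idx E) =
      (u : Matrix chevG2.Idx chevG2.Idx E) * (h : Matrix chevG2.Idx chevG2.Idx E) := by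
    have := congrArg (fun g : GL chevG2.Idx E => (g : Matrix chevG2.Idx chevG2.Idx E)) hcomm
    simpa using this
  have hinv : (h : Matrix chevG2.Idx chevG2.Idx E) *
      ((h⁻¹ : GL chevG2.Idx E) : Matrix chevG2.Idx chevG2.Idx E) = 1 := by
    rw [← Units.val_mul, mul_inv_cancel, Units.val_one]
  have hu' : (u : Matrix chevG2.Idx chevG2.Idx E) =
      chevG2.wordMat E (chevG2.posRoots.map fun r => (r, χ r * t r)) := by
    have e1 : (u : Matrix chevG2.Idx chevG2.Idx E) * (h : Matrix chevG2.Idx chevG2.Idx E) =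
        chevG2.wordMat E (chevG2.posRoots.map fun r => (r, χ r * t r)) *
          (h : Matrix chevG2.Idx chevG2.Idx E) := by
      rw [← hc, htu]
      exact hconj
    calc (u : Matrix chevG2.Idx chevG2.Idx E)
        = (u : Matrix chevG2.Idx chevG2.Idx E) * ((h : Matrix chevG2.Idx chevG2.Idx E) *
            ((h⁻¹ : GL chevG2.Idx E) : Matrix chevG2.Idx chevG2.Idx E)) := by
          rw [hinv, mul_one]
      _ = chevG2.wordMat E (chevG2.posRoots.map fun r => (r, χ r * t r)) *
            (h : Matrix chevG2.Idx chevG2.Idx E) *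
            ((h⁻¹ : GL chevG2.Idx E) : Matrix chevG2.Idx chevG2.Idx E) := by
          rw [← mul_assoc, e1]
      _ = chevG2.wordMat E (chevG2.posRoots.map fun r => (r, χ r * t r)) := by
          rw [mul_assoc, hinv, mul_one]
  have ht' : (fun r => χ r * t r) = t := by
    apply huniq
    refine ⟨fun r hr => ?_, hu'⟩
    rw [ht0 r hr, mul_zero]
  have htz : ∀ r, t r = 0 := by
    intro r
    by_cases hr : chevG2.IsPosRoot r
    · have hr12 : r < 12 := hr.1
      have e : χ r * t r = t r := congrFun ht' r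
      have e2 : (χ r - 1) * t r = 0 := by rw [sub_mul, e, one_mul, sub_self]
      rcases mul_eq_zero.1 e2 with h0 | h0
      · exact absurd (sub_eq_zero.1 h0) (hχ1 r hr12)
      · exact h0
    · exact ht0 r hr
  have ht_eq : t = fun _ => 0 := funext htz
  apply Units.ext
  rw [htu, ht_eq, Units.val_one]
  exact g2tB5_word_zero chevG2.posRoots (fun r hr => g2tB5_pos_lt hr)

end B

end Cfsg.Agent.Lib.helper14.G2T
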