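import Mathlib
import Cfsg.Agent.Lib.Helper19.SO8.Defs

set_option autoImplicit false

/-!
# Project SO8, row C4 (helper21): `irr_self_dvd`, verbatim.
An irreducible self-reciprocal polynomial `f ≠ X + 1` over a finite field of characteristic `2` has even degree `2 e`
and divides `X ^ (q ^ e + 1) - 1`.
-/

namespace Cfsg.Agent.Lib.Helper19.SO8

open Polynomial Cfsg.Agent.Lib.Helper13.OTS

/-- in a finite field `K` of dimension `d` over `F`, the exponent of the Frobenius can be reduced mod `d` -/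
theorem so8c4_pow_mod {F K : Type*} [Field F] [Fintype F] [Field K] [Algebra F K] [Finite K]
    (d : ℕ) (hd : Module.finrank F K = d) (x : K) (i : ℕ) :
    x ^ (Fintype.card F ^ i) = x ^ (Fintype.card F ^ (i % d)) := by
  have hcard : ∀ y : K, y ^ (Fintype.card F ^ d) = y := by
    intro y
    have := Fintype.ofFinite K
    have h1 : Fintype.card K = Fintype.card F ^ d := by
      rw [← hd]
      exact Module.card_eq_pow_finrank
    rw [← h1, FiniteField.pow_card]
  have hk : ∀ k : ℕ, ∀ y : K, y ^ (Fintype.card F ^ (d * k)) = y := by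
    intro k
    induction k with
    | zero => intro y; rw [mul_zero, pow_zero, pow_one]
    | succ k ih =>
      intro y
      rw [Nat.mul_succ, pow_add, pow_mul, ih, hcard]
  conv_lhs => rw [← Nat.div_add_mod i d, pow_add, pow_mul, hk]

/-- C4 [M-L] -/
theorem irr_self_dvd {F : Type*} [Field F] [Fintype F] [CharP F 2] (f : F[X]) (hf : Irreducible f)
    (h0 : f.coeff 0 ≠ 0) (hr : f.reverse = f) (h1 : f.eval 1 ≠ 0) :
    ∃ e : ℕ, 1 ≤ e ∧ f.natDegree = 2 * e ∧ f ∣ (X ^ (Fintype.card F ^ e + 1) - 1 : F[X]) := by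
  classical
  have : Fact (Irreducible f) := ⟨hf⟩
  have hdpos : 0 < f.natDegree := hf.natDegree_pos
  have hfinrank : Module.finrank F (AdjoinRoot f) = f.natDegree :=
    finrank_quotient_span_eq_natDegree
  have : Module.Finite F (AdjoinRoot f) := (AdjoinRoot.powerBasis hf.ne_zero).finite
  have : Finite (AdjoinRoot f) := Module.finite_of_finite F
  have hroot : aeval (AdjoinRoot.root f) f = 0 := by
    rw [AdjoinRoot.aeval_eq, AdjoinRoot.mk_self]
  -- the root is not zero
  have hα0 : AdjoinRoot.root f ≠ 0 := by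
    intro h
    rw [h, ← coeff_zero_eq_aeval_zero'] at hroot
    exact h0 ((map_eq_zero _).mp hroot)
  -- the inverse is a root
  have hinv : eval₂ (algebraMap F (AdjoinRoot f)) (AdjoinRoot.root f)⁻¹ f = 0 := by
    let _ : Invertible (AdjoinRoot.root f) := invertibleOfNonzero hα0
    have h2 := (eval₂_reverse_eq_zero_iff (algebraMap F (AdjoinRoot f)) (AdjoinRoot.root f) f).mpr
      (by rw [← aeval_def]; exact hroot)
    rw [hr, invOf_eq_inv] at h2
    exact h2
  -- the automorphism
  have hinv' : eval₂ ((Algebra.ofId F (AdjoinRoot f) : F →ₐ[F] AdjoinRoot f) : F →+* AdjoinRoot f)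
      (AdjoinRoot.root f)⁻¹ f = 0 := hinv
  let τ₀ : AdjoinRoot f →ₐ[F] AdjoinRoot f :=
    AdjoinRoot.liftAlgHom f (Algebra.ofId F (AdjoinRoot f)) (AdjoinRoot.root f)⁻¹ hinv'
  have hτ₀ : τ₀ (AdjoinRoot.root f) = (AdjoinRoot.root f)⁻¹ :=
    AdjoinRoot.liftAlgHom_root f (Algebra.ofId F (AdjoinRoot f)) (AdjoinRoot.root f)⁻¹ hinv'
  let τ : AdjoinRoot f ≃ₐ[F] AdjoinRoot f :=
    AlgEquiv.ofBijective τ₀ (Algebra.IsAlgebraic.algHom_bijective τ₀)
  obtain ⟨i, hi⟩ := FiniteField.exists_forall_apply_eq_pow F 2 (AdjoinRoot f) τ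
  have hi' : (AdjoinRoot.root f)⁻¹ = (AdjoinRoot.root f) ^ (Fintype.card F ^ (i % f.natDegree)) := by
    rw [← so8c4_pow_mod f.natDegree hfinrank, ← Nat.card_eq_fintype_card, ← hi]
    exact hτ₀.symm
  have hjlt : i % f.natDegree < f.natDegree := Nat.mod_lt _ hdpos
  -- α ^ (q ^ j + 1) = 1
  have hone : (AdjoinRoot.root f) ^ (Fintype.card F ^ (i % f.natDegree) + 1) = 1 := by
    rw [pow_succ, ← hi', inv_mul_cancel₀ hα0]
  have hdvd : f ∣ (X ^ (Fintype.card F ^ (i % f.natDegree) + 1) - 1 : F[X]) := by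
    rw [← hf.dvd_iff_aeval_eq_zero hroot]
    rw [map_sub, map_pow, aeval_X, map_one, hone, sub_self]
  -- α ^ (q ^ (2 j)) = α
  have htwo : (AdjoinRoot.root f) ^ (Fintype.card F ^ (2 * (i % f.natDegree))) = AdjoinRoot.root f := by
    rw [two_mul, pow_add, pow_mul, ← hi', inv_pow, ← hi', inv_inv]
  have hdvd2 : f ∣ (X ^ (Nat.card F) ^ (2 * (i % f.natDegree)) - X : F[X]) := by
    rw [← hf.dvd_iff_aeval_eq_zero hroot]
    rw [map_sub, map_pow, aeval_X, Nat.card_eq_fintype_card, htwo, sub_self]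
  have hdd : f.natDegree ∣ 2 * (i % f.natDegree) :=
    hf.natDegree_dvd_of_dvd_X_pow_card_pow_sub_X hdvd2
  -- j ≠ 0
  have hj0 : i % f.natDegree ≠ 0 := by
    intro hj
    rw [hj, pow_zero, pow_one] at hi'
    have h3 : AdjoinRoot.root f * AdjoinRoot.root f = 1 := by
      nth_rewrite 1 [← hi']
      exact inv_mul_cancel₀ hα0
    have h4 : (AdjoinRoot.root f - 1) * (AdjoinRoot.root f - 1) = 0 := by
      have h2 : (2 : AdjoinRoot f) = 0 := by
        have : CharP (AdjoinRoot f) 2 := charP_of_injective_algebraMap (algebraMap F (AdjoinRoot f)).injective 2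
        exact CharTwo.two_eq_zero
      linear_combination h3 + (1 - AdjoinRoot.root f) * h2
    have h5 : AdjoinRoot.root f = 1 := by
      rcases mul_self_eq_zero.mp h4 with h
      exact sub_eq_zero.mp h
    apply h1
    have h6 : aeval (AdjoinRoot.root f) f = algebraMap F (AdjoinRoot f) (f.eval 1) := by
      rw [h5, aeval_def, eval₂_at_one]
    rw [hroot] at h6
    exact ((map_eq_zero _).mp h6.symm)
  obtain ⟨c, hc⟩ := hdd
  have hc1 : c = 1 := by
    have hjpos : 0 < i % f.natDegree := Nat.pos_of_ne_zero hj0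
    rcases Nat.lt_or_ge c 1 with h | h
    · have : c = 0 := by omega
      rw [this, mul_zero] at hc
      omega
    · rcases Nat.lt_or_ge c 2 with h' | h'
      · omega
      · have : f.natDegree * 2 ≤ f.natDegree * c := Nat.mul_le_mul_left _ h'
        omega
  refine ⟨i % f.natDegree, Nat.pos_of_ne_zero hj0, ?_, hdvd⟩
  rw [hc, hc1, mul_one]

end Cfsg.Agent.Lib.Helper19.SO8
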