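import Mathlib
import Cfsg.Prelude.Def_Characters
import Cfsg.Prelude.Def_Blocks
import Cfsg.Agent.Lib.Helper25.CharLinear
import Cfsg.Agent.Lib.Helper29.LeoOrbit
import Cfsg.Agent.Lib.helper7.BR.Defs
import Cfsg.Agent.Lib.Helper13.BT.Defs

set_option autoImplicit false
set_option linter.unusedVariables false
set_option linter.unusedSectionVars false

namespace Cfsg.Agent.Lib.Helper13.BT

open Classical
open scoped ComplexConjugate
open Cfsg.Agent.Lib.Helper25 Cfsg.Agent.Lib.Helper29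
open Cfsg.Agent.Lib.helper7.BR

universe u

/-- NCFIN : the last inequality of the new case -/
theorem nc_final (p f b c : ℕ) (hpf : 2 * f + 1 = p) (hf2 : 2 ≤ f) (hc1 : 1 ≤ c) (hdvd : 2 ^ b ∣ c)
    (hle : 2 * c ^ 2 ≤ 2 ^ b * (p + c)) : p * 2 ^ b * (f + 1) < p ^ 3 := by
  obtain ⟨m, rfl⟩ := hdvd
  have hB : 0 < 2 ^ b := by positivity
  set B := 2 ^ b with hBdef
  have hm : 1 ≤ m := by
    rcases Nat.eq_zero_or_pos m with h | h
    · subst h; simp at hc1
    · exact h
  -- cancel B
  have h1 : 2 * B * m ^ 2 ≤ p + B * m := by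
    have : B * (2 * B * m ^ 2) ≤ B * (p + B * m) := by nlinarith [hle]
    exact Nat.le_of_mul_le_mul_left this hB
  have hBp : B ≤ p := by nlinarith [Nat.mul_le_mul hm hm, Nat.mul_le_mul_left B hm]
  have hfp : f + 1 < p := by omega
  have hp0 : 0 < p := by omega
  have h2 : B * (f + 1) < p * p := by
    calc B * (f + 1) ≤ p * (f + 1) := Nat.mul_le_mul_right _ hBp
      _ < p * p := Nat.mul_lt_mul_of_pos_left hfp hp0
  calc p * B * (f + 1) = p * (B * (f + 1)) := by ring
    _ < p * (p * p) := Nat.mul_lt_mul_of_pos_left h2 hp0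
    _ = p ^ 3 := by ring

end Cfsg.Agent.Lib.Helper13.BT
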