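import Mathlib
import Cfsg.Prelude.Def_Characters
import Cfsg.Agent.Lib.helper7.PM2.Defs
import Cfsg.Agent.S4701
import Cfsg.Agent.Lib.Helper28.P2Card

/-!
# Project PM2 (S4705) : piece QF, core (`pm2qf_core` = Theorem A from S4701 with the pieces CNT, QC, QS, QP as
hypotheses)
-/

set_option autoImplicit false
set_option linter.unusedVariables false
set_option linter.unusedSectionVars false

namespace Cfsg.Agent.Lib.helper7.PM2

open scoped ComplexConjugate

universe u

/-- a normal subgroup of order two is central -/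
theorem pm2qf_two_central {H : Type*} [Group H] (N : Subgroup H) (hN : N.Normal)
    (h2 : Nat.card N = 2) : N ≤ Subgroup.center H := by
  obtain ⟨t, ht, huniq⟩ := (Nat.card_eq_two_iff' (1 : N)).mp h2
  intro n hn
  rw [Subgroup.mem_center_iff]
  intro g
  by_cases hn1 : n = 1
  · rw [hn1, mul_one, one_mul]
  · have h1 : (⟨n, hn⟩ : N) = t := huniq _ (fun h => hn1 (congrArg Subtype.val h))
    have hmem : g * n * g⁻¹ ∈ N := hN.conj_mem n hn g
    have hne : (⟨g * n * g⁻¹, hmem⟩ : N) ≠ 1 := by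
      intro h
      apply hn1
      have h3 : g * n * g⁻¹ = 1 := congrArg Subtype.val h
      have : n = g⁻¹ * (g * n * g⁻¹) * g := by group
      rw [this, h3]
      group
    have h4 : (⟨g * n * g⁻¹, hmem⟩ : N) = t := huniq _ hne
    have h5 : g * n * g⁻¹ = n := by
      have := h4.trans h1.symm
      exact congrArg Subtype.val this
    calc g * n = g * n * g⁻¹ * g := by group
      _ = n * g := by rw [h5]

/-- QF (core) : Theorem A -/
theorem pm2qf_core {G : Type u} [Group G] [Fintype G] (p : ℕ) (hp : p.Prime) (hp5 : 5 < p)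
    (hcard : Nat.card G = Nat.card (Subgroup.center G) * (p * (p - 1) * (p - 2)))
    (hQC : Subgroup.center (G ⧸ Subgroup.center G) = ⊥)
    (hQS : ∀ [Fact p.Prime] (Q : Sylow p (G ⧸ Subgroup.center G)),
      ¬ (Q : Subgroup (G ⧸ Subgroup.center G)).Normal)
    (hQP : commutator (G ⧸ Subgroup.center G) = ⊤) :
    ∃ (a : ℕ) (F : Type) (_ : Field F) (_ : Fintype F), p = 2 ^ a + 1 ∧ Fintype.card F = 2 ^ a ∧
      Nonempty (G ⧸ Subgroup.center G ≃* Matrix.SpecialLinearGroup (Fin 2) F) := by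
  have : Fact p.Prime := ⟨hp⟩
  obtain ⟨q, rfl⟩ : ∃ q, p = q + 6 := ⟨p - 6, by omega⟩
  have hZpos : 0 < Nat.card (Subgroup.center G) := Nat.card_pos
  have hquot : Nat.card (G ⧸ Subgroup.center G) = (q + 6) * (q + 5) * (q + 4) := by
    have h1 := Subgroup.card_eq_card_quotient_mul_card_subgroup (Subgroup.center G)
    rw [hcard] at h1
    have h2 : (q + 6) * (q + 6 - 1) * (q + 6 - 2) = (q + 6) * (q + 5) * (q + 4) := by
      congr 2
    rw [h2, mul_comm] at h1
    exact (Nat.eq_of_mul_eq_mul_right hZpos h1).symm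
  have hdvd : (q + 6) ∣ Nat.card (G ⧸ Subgroup.center G) := by
    rw [hquot, mul_assoc]
    exact Dvd.intro _ rfl
  have hbig : Nat.card (G ⧸ Subgroup.center G) < (q + 6) ^ 3 := by
    rw [hquot]
    nlinarith [sq_nonneg q]
  have hno2 : ∀ N : Subgroup (G ⧸ Subgroup.center G), N.Normal → Nat.card N ≠ 2 := by
    intro N hN h2
    have h1 := pm2qf_two_central N hN h2
    rw [hQC] at h1
    have h3 : N = ⊥ := le_bot_iff.mp h1
    rw [h3, Subgroup.card_bot] at h2
    omega
  have Q : Sylow (q + 6) (G ⧸ Subgroup.center G) := default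
  rcases Cfsg.Agent.S4701.result hQP (q + 6) hdvd hbig Q (hQS Q) hno2 with
    ⟨F, hF, hFt, hFc, -, ⟨e⟩⟩ | ⟨m, F, hF, hFt, hFc, hpm, -, ⟨e⟩⟩
  · exfalso
    let _ := hF
    let _ := hFt
    have h1 := Cfsg.Agent.Lib.Helper28.P2.card_psl2 (F := F)
    rw [hFc, ← Nat.card_congr e.toEquiv, hquot] at h1
    have hodd : Odd (q + 6) := hp.odd_of_ne_two (by omega)
    have hg : Nat.gcd 2 (q + 6 - 1) = 2 := by
      obtain ⟨t, ht⟩ := hodd
      have : q + 6 - 1 = 2 * t := by omega
      rw [this]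
      exact Nat.gcd_eq_left (Dvd.intro _ rfl)
    have h3 : (q + 6) ^ 2 - 1 = (q + 5) * (q + 7) := by
      have : (q + 6) ^ 2 = (q + 5) * (q + 7) + 1 := by ring
      omega
    rw [h3, hg] at h1
    nlinarith [sq_nonneg q]
  · exact ⟨m, F, hF, hFt, hpm, hFc, ⟨e⟩⟩

end Cfsg.Agent.Lib.helper7.PM2
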