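import Mathlib
import Cfsg.Prelude.Def_Characters
import Cfsg.Prelude.Def_Blocks
import Cfsg.Agent.Lib.Helper25.CharLinear
import Cfsg.Agent.Lib.Helper29.LeoOrbit
import Cfsg.Agent.Lib.helper7.BR.Defs
import Cfsg.Agent.Lib.helper6.BTPERF
import Cfsg.Agent.Lib.helper2.CharInt
import Cfsg.Agent.S4500

set_option autoImplicit false
set_option linter.unusedVariables false
set_option linter.unusedSectionVars false

namespace Cfsg.Agent.Lib.Helper13.BT3

open Classical
open scoped ComplexConjugate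
open Cfsg.Agent.Lib.Helper25 Cfsg.Agent.Lib.Helper29
open Cfsg.Agent.Lib.helper7.BR

universe u

variable {G : Type u} [Group G] [Fintype G]

theorem bt3chi3_charDegree (χ : Cfsg.IrrCharacter G) :
    Cfsg.charDegree (χ : G → ℂ) = leoDeg χ := by
  unfold Cfsg.charDegree
  rw [leoDeg_spec]
  simp

/-- CHI3 -/
theorem exists_deg_three [IsSimpleGroup G] (hnc : ¬ ∀ x y : G, x * y = y * x) (p q a b : ℕ)
    (hp : p.Prime) (hq : q.Prime) (hpq : p ≠ q) (hp3 : p ≠ 3) (hq3 : q ≠ 3) (ha : a ≤ 2)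
    (hcard : Nat.card G = 3 * p ^ a * q ^ b) : ∃ χ : Cfsg.IrrCharacter G, leoDeg χ = 3 := by
  have hG : Nat.card G = p ^ a * 3 ^ 1 * q ^ b := by rw [hcard]; ring
  obtain ⟨⟨χ, hχ1, k, hk⟩, -⟩ := Cfsg.Agent.S4500.result (G := G) p 3 q a 1 b hp Nat.prime_three hq
    hp3 hpq (Ne.symm hq3) ha hG
  rw [bt3chi3_charDegree] at hk
  refine ⟨χ, ?_⟩
  obtain ⟨n, hn0, hn1, hnd⟩ := Cfsg.Agent.Lib.helper2.irr_degree_dvd_card χ
  have hn : n = leoDeg χ := by
    have := leoDeg_spec χ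
    rw [hn1] at this
    exact_mod_cast this
  rw [hn, hk, hcard] at hnd
  have hcop : Nat.Coprime (3 ^ k) (p ^ a * q ^ b) := by
    apply Nat.Coprime.pow_left
    apply Nat.Coprime.mul_right
    · exact Nat.Coprime.pow_right _ ((Nat.coprime_primes Nat.prime_three hp).mpr (Ne.symm hp3))
    · exact Nat.Coprime.pow_right _ ((Nat.coprime_primes Nat.prime_three hq).mpr (Ne.symm hq3))
  have h3 : 3 ^ k ∣ 3 ^ 1 := by
    rw [mul_assoc] at hnd
    simpa using hcop.dvd_of_dvd_mul_right hnd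
  have hk1 : k ≤ 1 := (Nat.pow_dvd_pow_iff_le_right (by norm_num)).mp h3
  have hk0 : k ≠ 0 := by
    rintro rfl
    apply hχ1
    have h1 : (χ : G → ℂ) 1 = 1 := by rw [leoDeg_spec, hk]; simp
    funext g
    exact irr_linear_commutator χ h1
      (by rw [Cfsg.Agent.Lib.Helper13.BT.perfect_of_simple hnc]; exact Subgroup.mem_top g)
  have : k = 1 := by omega
  rw [hk, this, pow_one]

end Cfsg.Agent.Lib.Helper13.BT3
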