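import Mathlib
import Cfsg.Agent.Lib.Helper20.Wielandt

set_option autoImplicit false

namespace Cfsg.Agent.Lib.Helper21

open scoped Pointwise

variable {G : Type*} [Group G]

theorem conj_smul_eq_iff_mem_normalizer (A : Subgroup G) (x : G) :
    MulAut.conj x • A = A ↔ x ∈ Subgroup.normalizer (A : Set G) := by
  constructor
  · intro h
    rw [Subgroup.mem_normalizer_iff]
    intro a
    constructor
    · intro ha
      rw [← h]
      exact ⟨a, ha, rfl⟩
    · intro ha
      rw [← h] at ha
      obtain ⟨b, hb, hba⟩ := ha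
      have hba' : x * b * x⁻¹ = x * a * x⁻¹ := hba
      have : b = a := by
        have h1 := mul_right_cancel hba'
        exact mul_left_cancel h1
      rw [← this]; exact hb
  · intro h
    ext a
    rw [Subgroup.mem_normalizer_iff''] at h
    rw [Subgroup.mem_pointwise_smul_iff_inv_smul_mem]
    have : (MulAut.conj x)⁻¹ • a = x⁻¹ * a * x := by
      rw [← map_inv]; simp [MulAut.smul_def]
    rw [this]
    exact (h a).symm

/-- A subnormal non-normal subgroup has a conjugate different from it which normalizes it. -/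
theorem exists_conj_of_isSubnormal_aux (B : Subgroup G) (hB : B.IsSubnormal) :
    ∀ A : Subgroup G, A ≤ B → B ≤ Subgroup.normalizer (A : Set G) →
      A.Normal ∨ ∃ x : G, MulAut.conj x • A ≠ A ∧
        MulAut.conj x • A ≤ Subgroup.normalizer (A : Set G) := by
  induction hB with
  | top =>
    intro A _ hN
    left
    exact Subgroup.normalizer_eq_top_iff.mp (top_le_iff.mp hN)
  | step B C hBC hC hN ih =>
    intro A hAB hBN
    by_cases hCN : C ≤ Subgroup.normalizer (A : Set G)
    · exact ih A (hAB.trans hBC) hCN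
    · right
      obtain ⟨x, hxC, hxN⟩ := SetLike.not_le_iff_exists.mp hCN
      refine ⟨x, ?_, ?_⟩
      · intro h
        exact hxN ((conj_smul_eq_iff_mem_normalizer A x).mp h)
      · have hCB : C ≤ Subgroup.normalizer (B : Set G) :=
          (Subgroup.normal_subgroupOf_iff_le_normalizer hBC).mp hN
        have h1 : MulAut.conj x • B = B :=
          (conj_smul_eq_iff_mem_normalizer B x).mpr (hCB hxC)
        calc MulAut.conj x • A ≤ MulAut.conj x • B := Subgroup.pointwise_smul_le_pointwise_smul_iff.mpr hAB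
          _ = B := h1
          _ ≤ _ := hBN

theorem exists_conj_of_isSubnormal (A : Subgroup G) (hA : A.IsSubnormal) (hn : ¬ A.Normal) :
    ∃ x : G, MulAut.conj x • A ≠ A ∧ MulAut.conj x • A ≤ Subgroup.normalizer (A : Set G) := by
  rcases exists_conj_of_isSubnormal_aux A hA A le_rfl Subgroup.le_normalizer with h | h
  · exact absurd h hn
  · exact h

/-- relative version -/
theorem exists_conj_of_isSubnormal_subgroupOf (S K : Subgroup G) (hSK : S ≤ K)
    (hsn : (S.subgroupOf K).IsSubnormal) (hn : ¬ K ≤ Subgroup.normalizer (S : Set G)) :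
    ∃ x ∈ K, MulAut.conj x • S ≠ S ∧ MulAut.conj x • S ≤ Subgroup.normalizer (S : Set G) := by
  have hn' : ¬ (S.subgroupOf K).Normal := by
    rw [Subgroup.normal_subgroupOf_iff_le_normalizer hSK]; exact hn
  obtain ⟨x, hx1, hx2⟩ := exists_conj_of_isSubnormal _ hsn hn'
  rw [Subgroup.conj_smul_subgroupOf hSK] at hx1 hx2
  have hxS : MulAut.conj (x : G) • S ≤ K := Subgroup.conj_smul_le_of_le hSK x
  refine ⟨x, x.2, ?_, ?_⟩
  · intro h
    apply hx1
    rw [h]
  · intro y hy
    have hyK : y ∈ K := hxS hy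
    have h1 : (⟨y, hyK⟩ : K) ∈ (MulAut.conj (x : G) • S).subgroupOf K := hy
    have h2 := hx2 h1
    rw [Subgroup.mem_normalizer_iff] at h2 ⊢
    intro s
    constructor
    · intro hs
      have := (h2 ⟨s, hSK hs⟩).mp hs
      exact this
    · intro hs
      have hsK : s ∈ K := by
        have h3 : y * s * y⁻¹ ∈ K := hSK hs
        have : s = y⁻¹ * (y * s * y⁻¹) * y := by group
        rw [this]
        exact K.mul_mem (K.mul_mem (K.inv_mem hyK) h3) hyK
      have := (h2 ⟨s, hsK⟩).mpr hs
      exact this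

/-- conjugation transports relative subnormality -/
theorem isSubnormal_subgroupOf_conj (S H : Subgroup G) (x : G)
    (hsn : (S.subgroupOf H).IsSubnormal) :
    ((MulAut.conj x • S).subgroupOf (MulAut.conj x • H)).IsSubnormal := by
  let e : H ≃* (MulAut.conj x • H : Subgroup G) := Subgroup.equivSMul (MulAut.conj x) H
  have h1 := Subgroup.IsSubnormal.map (f := e.toMonoidHom) e.surjective hsn
  have h2 : (S.subgroupOf H).map e.toMonoidHom =
      (MulAut.conj x • S).subgroupOf (MulAut.conj x • H) := by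
    ext ⟨y, hy⟩
    constructor
    · rintro ⟨⟨z, hz⟩, hzS, hzy⟩
      have hzy' : x * z * x⁻¹ = y := congrArg Subtype.val hzy
      show y ∈ MulAut.conj x • S
      rw [← hzy']
      exact ⟨z, hzS, rfl⟩
    · intro hyS
      have hyS' : y ∈ MulAut.conj x • S := hyS
      obtain ⟨z, hzS, hzy⟩ := hyS'
      have hzy' : x * z * x⁻¹ = y := hzy
      have hzH : z ∈ H := by
        obtain ⟨w, hwH, hwy⟩ := hy
        have hwy' : x * w * x⁻¹ = y := hwy
        have : w = z := by
          have h3 : x * w * x⁻¹ = x * z * x⁻¹ := by rw [hwy', hzy']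
          exact mul_left_cancel (mul_right_cancel h3)
        rw [← this]; exact hwH
      refine ⟨⟨z, hzH⟩, hzS, ?_⟩
      apply Subtype.ext
      exact hzy'
  rwa [h2] at h1

theorem card_conj_smul (S : Subgroup G) (x : G) :
    Nat.card (MulAut.conj x • S : Subgroup G) = Nat.card S :=
  (Nat.card_congr (Subgroup.equivSMul (MulAut.conj x) S).toEquiv).symm

theorem conj_smul_conj_inv_smul (H : Subgroup G) (x : G) :
    MulAut.conj x • (MulAut.conj x⁻¹ • H) = H := by
  rw [smul_smul, ← map_mul, mul_inv_cancel, map_one, one_smul]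

theorem conj_smul_ne_top (H : Subgroup G) (x : G) (hH : H ≠ ⊤) : MulAut.conj x • H ≠ ⊤ := by
  intro h
  apply hH
  rw [eq_top_iff]
  intro y _
  have h1 : x * y * x⁻¹ ∈ MulAut.conj x • H := by rw [h]; exact Subgroup.mem_top _
  obtain ⟨z, hz, hzy⟩ := h1
  have hzy' : x * z * x⁻¹ = x * y * x⁻¹ := hzy
  have : z = y := mul_left_cancel (mul_right_cancel hzy')
  rw [← this]; exact hz

/-- the hypothesis of the zipper lemma passes to `S ⊔ S^x` -/
theorem zipper_hyp_sup [Finite G] (S : Subgroup G) (x : G)
    (h1 : ∀ H : Subgroup G, S ≤ H → H ≠ ⊤ → (S.subgroupOf H).IsSubnormal) :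
    ∀ H : Subgroup G, S ⊔ MulAut.conj x • S ≤ H → H ≠ ⊤ →
      ((S ⊔ MulAut.conj x • S).subgroupOf H).IsSubnormal := by
  intro H hTH hH
  have hSH : S ≤ H := le_sup_left.trans hTH
  have hxSH : MulAut.conj x • S ≤ H := le_sup_right.trans hTH
  have ha := h1 H hSH hH
  have hb : ((MulAut.conj x • S).subgroupOf H).IsSubnormal := by
    have hSH' : S ≤ MulAut.conj x⁻¹ • H := by
      rw [Subgroup.subset_pointwise_smul_iff, ← map_inv, inv_inv]
      exact hxSH
    have hH'top : MulAut.conj x⁻¹ • H ≠ ⊤ := conj_smul_ne_top H x⁻¹ hH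
    have h3 := isSubnormal_subgroupOf_conj S (MulAut.conj x⁻¹ • H) x (h1 _ hSH' hH'top)
    rwa [conj_smul_conj_inv_smul] at h3
  rw [Subgroup.subgroupOf_sup hSH hxSH]
  exact Cfsg.Agent.Lib.Helper20.isSubnormal_sup ha hb

theorem lt_sup_conj_smul [Finite G] (S : Subgroup G) (x : G) (hx : MulAut.conj x • S ≠ S) :
    Nat.card S < Nat.card (S ⊔ MulAut.conj x • S : Subgroup G) := by
  have hlt : S < S ⊔ MulAut.conj x • S := by
    refine lt_of_le_of_ne le_sup_left ?_
    intro h
    apply hx
    have hle : MulAut.conj x • S ≤ S := by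
      have h3 : MulAut.conj x • S ≤ S ⊔ MulAut.conj x • S := le_sup_right
      rwa [← h] at h3
    exact Subgroup.eq_of_le_of_card_ge hle (card_conj_smul S x).ge
  by_contra hge
  push Not at hge
  exact hlt.ne (Subgroup.eq_of_le_of_card_ge hlt.le hge)

/-- **Wielandt's zipper lemma**: if `S` is subnormal in every proper subgroup containing it but not
subnormal in the finite group `G`, then `S` lies in a unique maximal subgroup. -/
theorem zipper_aux [Finite G] : ∀ (n : ℕ) (S : Subgroup G), Nat.card G - Nat.card S = n →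
    (∀ H : Subgroup G, S ≤ H → H ≠ ⊤ → (S.subgroupOf H).IsSubnormal) → ¬ S.IsSubnormal →
    ∀ M K : Subgroup G, IsCoatom M → IsCoatom K → S ≤ M → S ≤ K → M = K := by
  intro n
  induction n using Nat.strong_induction_on with
  | _ n ih =>
    intro S hn h1 h2
    have hNtop : Subgroup.normalizer (S : Set G) ≠ ⊤ := by
      intro h
      exact h2 (Subgroup.normalizer_eq_top_iff.mp h).isSubnormal
    obtain ⟨M0, hM0, hNM0⟩ :=
      (eq_top_or_exists_le_coatom (Subgroup.normalizer (S : Set G))).resolve_left hNtop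
    have key : ∀ K : Subgroup G, IsCoatom K → S ≤ K → K = M0 := by
      intro K hK hSK
      by_cases hKN : K ≤ Subgroup.normalizer (S : Set G)
      · exact ((hK.le_iff_eq hM0.1).mp (hKN.trans hNM0)).symm
      · obtain ⟨x, hxK, hx1, hx2⟩ :=
          exists_conj_of_isSubnormal_subgroupOf S K hSK (h1 K hSK hK.1) hKN
        have hTK : S ⊔ MulAut.conj x • S ≤ K :=
          sup_le hSK (Subgroup.conj_smul_le_of_le hSK ⟨x, hxK⟩)
        have hTN : S ⊔ MulAut.conj x • S ≤ Subgroup.normalizer (S : Set G) :=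
          sup_le Subgroup.le_normalizer hx2
        have hcardlt := lt_sup_conj_smul S x hx1
        have hTle : Nat.card (S ⊔ MulAut.conj x • S : Subgroup G) ≤ Nat.card G :=
          Subgroup.card_le_card_group _
        have hT1 := zipper_hyp_sup S x h1
        have hT2 : ¬ (S ⊔ MulAut.conj x • S).IsSubnormal := by
          intro hTsn
          apply h2
          exact Subgroup.IsSubnormal.step S _ le_sup_left hTsn
            ((Subgroup.normal_subgroupOf_iff_le_normalizer le_sup_left).mpr hTN)
        have := ih (Nat.card G - Nat.card (S ⊔ MulAut.conj x • S : Subgroup G)) (by omega)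
          (S ⊔ MulAut.conj x • S) rfl hT1 hT2 M0 K hM0 hK (hTN.trans hNM0) hTK
        exact this.symm
    intro M K hM hK hSM hSK
    rw [key M hM hSM, key K hK hSK]

theorem zipper [Finite G] (S : Subgroup G)
    (h1 : ∀ H : Subgroup G, S ≤ H → H ≠ ⊤ → (S.subgroupOf H).IsSubnormal) (h2 : ¬ S.IsSubnormal) :
    ∃ M : Subgroup G, IsCoatom M ∧ S ≤ M ∧ ∀ K : Subgroup G, IsCoatom K → S ≤ K → K = M := by
  have hStop : S ≠ ⊤ := by
    rintro rfl
    exact h2 Subgroup.IsSubnormal.top
  obtain ⟨M, hM, hSM⟩ := (eq_top_or_exists_le_coatom S).resolve_left hStop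
  exact ⟨M, hM, hSM, fun K hK hSK => zipper_aux _ S rfl h1 h2 K M hK hM hSK hSM⟩

end Cfsg.Agent.Lib.Helper21
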