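import Mathlib
import Cfsg.Prelude.Def_Characters
import Cfsg.Prelude.Def_Blocks
import Cfsg.Agent.Lib.Helper25.CharLinear
import Cfsg.Agent.Lib.Helper29.LeoOrbit
import Cfsg.Agent.Lib.helper7.BR.Defs
import Cfsg.Agent.Lib.Helper21.BTFAITH
import Cfsg.Agent.Lib.helper2.CharNat
import Cfsg.Agent.Lib.helper8.SimpleEmbed
import Cfsg.Agent.S4465

set_option autoImplicit false
set_option linter.unusedVariables false
set_option linter.unusedSectionVars false

namespace Cfsg.Agent.Lib.Helper13.BT3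

open Classical
open scoped ComplexConjugate
open Cfsg.Agent.Lib.Helper25 Cfsg.Agent.Lib.Helper29
open Cfsg.Agent.Lib.helper7.BR

universe u

variable {G : Type u} [Group G] [Fintype G]

theorem bt3hall_charDegree (χ : Cfsg.IrrCharacter G) :
    Cfsg.charDegree (χ : G → ℂ) = leoDeg χ := by
  unfold Cfsg.charDegree
  rw [leoDeg_spec]
  simp

theorem bt3hall_leoDeg_triv : leoDeg (trivIrr G) = 1 := by
  have := leoDeg_spec (trivIrr G)
  rw [trivIrr_apply] at this
  exact_mod_cast this.symm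

/-- a non-commutative simple group has no subgroup of index `3` -/
theorem bt3hall_no_index_three [IsSimpleGroup G] (hnc : ¬ ∀ x y : G, x * y = y * x)
    (A : Subgroup G) (hA : A.index = 3) : False := by
  have hne : A ≠ ⊤ := by
    rintro rfl
    rw [Subgroup.index_top] at hA
    omega
  have hnc' : ¬ IsMulCommutative G := fun h => hnc (fun x y => h.is_comm.comm x y)
  have h1 := Cfsg.Agent.Lib.helper8.h8_simple_two_mul_card_dvd_factorial hnc' A hne
  rw [hA] at h1
  have h2 : Nat.card G ∣ 3 := by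
    have : (2 : ℕ) * Nat.card G ∣ 2 * 3 := by simpa [Nat.factorial] using h1
    exact Nat.dvd_of_mul_dvd_mul_left (by norm_num) this
  have h3 : Nat.card G = 1 ∨ Nat.card G = 3 := (Nat.dvd_prime Nat.prime_three).mp h2
  apply hnc
  rcases h3 with h3 | h3
  · have : Subsingleton G := (Nat.card_eq_one_iff_unique.mp h3).1
    intro x y
    exact Subsingleton.elim _ _
  · have : Fact (Nat.Prime 3) := ⟨Nat.prime_three⟩
    have : IsCyclic G := isCyclic_of_prime_card h3
    intro x y
    exact (IsCyclic.commGroup (α := G)).mul_comm x y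

/-- HALL -/
theorem two_mem [IsSimpleGroup G] (hnc : ¬ ∀ x y : G, x * y = y * x) (χ : Cfsg.IrrCharacter G)
    (hχ : leoDeg χ = 3) (p q a b : ℕ) (hp : p.Prime) (hq : q.Prime) (hp3 : p ≠ 3) (hq3 : q ≠ 3)
    (hcard : Nat.card G = 3 * p ^ a * q ^ b) : p = 2 ∨ q = 2 := by
  by_contra hcon
  push Not at hcon
  obtain ⟨hp2, hq2⟩ := hcon
  have hp5 : 5 ≤ p := hp.five_le_of_ne_two_of_ne_three hp2 hp3
  have hq5 : 5 ≤ q := hq.five_le_of_ne_two_of_ne_three hq2 hq3
  have hχ1 : χ ≠ trivIrr G := by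
    rintro rfl
    rw [bt3hall_leoDeg_triv] at hχ
    omega
  obtain ⟨A, hAab, hA1, hA2⟩ := Cfsg.Agent.S4465.result (G := G) (χ : G → ℂ)
    (Cfsg.Agent.Lib.helper2.isCharacter_of_irr χ)
    (fun g hg => Cfsg.Agent.Lib.Helper13.BT.faithful_of_simple χ hχ1 g hg) 3
    (by rw [bt3hall_charDegree, hχ])
  have hidx0 : A.index ≠ 0 := Subgroup.index_ne_zero_of_finite
  have hidvd : A.index ∣ 3 * p ^ a * q ^ b := by
    rw [← hcard]; exact Subgroup.index_dvd_card A
  have hpr : ∀ {d : ℕ}, d.Prime → d ∣ A.index → d = 3 := by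
    intro d hd hdi
    have hd4 : d ≤ 4 := hA2 d hd hdi
    have hdG : d ∣ 3 * p ^ a * q ^ b := dvd_trans hdi hidvd
    rcases (Nat.Prime.dvd_mul hd).mp hdG with h | h
    · rcases (Nat.Prime.dvd_mul hd).mp h with h | h
      · exact (Nat.prime_dvd_prime_iff_eq hd Nat.prime_three).mp h
      · have := (Nat.prime_dvd_prime_iff_eq hd hp).mp (hd.dvd_of_dvd_pow h)
        omega
    · have := (Nat.prime_dvd_prime_iff_eq hd hq).mp (hd.dvd_of_dvd_pow h)
      omega
  have hpow := Nat.eq_prime_pow_of_unique_prime_dvd hidx0 hpr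
  set j := A.index.primeFactorsList.length with hj
  have hcop : Nat.Coprime (3 ^ j) (p ^ a * q ^ b) := by
    apply Nat.Coprime.pow_left
    apply Nat.Coprime.mul_right
    · exact Nat.Coprime.pow_right _ ((Nat.coprime_primes Nat.prime_three hp).mpr (Ne.symm hp3))
    · exact Nat.Coprime.pow_right _ ((Nat.coprime_primes Nat.prime_three hq).mpr (Ne.symm hq3))
  have h3 : 3 ^ j ∣ 3 ^ 1 := by
    rw [hpow, mul_assoc] at hidvd
    simpa using hcop.dvd_of_dvd_mul_right hidvd
  have hj1 : j ≤ 1 := (Nat.pow_dvd_pow_iff_le_right (by norm_num)).mp h3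
  rcases Nat.le_one_iff_eq_zero_or_eq_one.mp hj1 with h0 | h1
  · rw [h0, pow_zero] at hpow
    have htop : A = ⊤ := Subgroup.index_eq_one.mp hpow
    apply hnc
    intro x y
    exact hAab x (by rw [htop]; exact Subgroup.mem_top x) y (by rw [htop]; exact Subgroup.mem_top y)
  · rw [h1, pow_one] at hpow
    exact bt3hall_no_index_three hnc A hpow

end Cfsg.Agent.Lib.Helper13.BT3
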