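import Mathlib
import Cfsg.Agent.Lib.helper17.SLP.Defs
import Cfsg.Agent.Lib.helper3.SP4.Defs
import Cfsg.Agent.Lib.helper2.SLPM1
import Cfsg.Agent.Lib.Helper29.SP4C1

/-!
# Project SP4 (helper3, S2293), rows C3 (`comm_ad`) and C4 (`comm_bd`): the cores, on the landed C1
(`comm_span`), with the statements of T3 (`sq_span`) and of the additivity of `xd` (T9) as hypotheses.
-/

set_option autoImplicit false

namespace Cfsg.Agent.Lib.helper3.SP4

open Cfsg.Agent.Lib.helper17.SLP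

universe u v

section C

variable {F : Type u} [Field F] [Fintype F] {G : Type v} [Group G]

omit [Fintype F] in
theorem sp4c3_rx_add (φ : Matrix.SpecialLinearGroup (Fin 2) F →* G) (s t : F) :
    rx φ (s + t) = rx φ s * rx φ t := by
  unfold rx
  rw [← map_mul, xM_mul]

omit [Fintype F] in
theorem sp4c3_rx_zero (φ : Matrix.SpecialLinearGroup (Fin 2) F →* G) : rx φ 0 = 1 := by
  unfold rx
  rw [xM_zero, map_one]

omit [Fintype F] in
/-- conjugation by `h_a(σ) h_b(ρ)` of a root element on which both act. -/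
theorem sp4c3_conj (φa φb : Matrix.SpecialLinearGroup (Fin 2) F →* G) (X : F → G) (σ ρ : Fˣ) (ca cb : F)
    (ha : Act (rh φa σ) X ca) (hb : Act (rh φb ρ) X cb) (t : F) :
    (rh φa σ * rh φb ρ) * X t * (rh φa σ * rh φb ρ)⁻¹ = X (ca * (cb * t)) := by
  have e : (rh φa σ * rh φb ρ) * X t * (rh φa σ * rh φb ρ)⁻¹ =
      rh φa σ * (rh φb ρ * X t * (rh φb ρ)⁻¹) * (rh φa σ)⁻¹ := by group
  rw [e, hb t, ha]

omit [Fintype F] in
theorem sp4c3_commute_conj {a b : G} (g : G) (h : Commute a b) :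
    Commute (g * a * g⁻¹) (g * b * g⁻¹) := by
  unfold Commute SemiconjBy at *
  have e1 : g * a * g⁻¹ * (g * b * g⁻¹) = g * (a * b) * g⁻¹ := by group
  have e2 : g * b * g⁻¹ * (g * a * g⁻¹) = g * (b * a) * g⁻¹ := by group
  rw [e1, e2, h]

/-- **C3 core**. -/
theorem sp4c3_core (ζ : Fˣ) (φa φb : Matrix.SpecialLinearGroup (Fin 2) F →* G) (H : Hyp ζ φa φb)
    (R : Tor4 φa φb)
    (hT3 : AddSubgroup.closure (Set.range fun s : Fˣ => ((s : F)) ^ 2) = ⊤)
    (hxd : ∀ s t, xd φa φb (s + t) = xd φa φb s * xd φa φb t) :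
    ∀ s t, Commute (rx φa s) (xd φa φb t) := by
  intro s
  by_cases hs : s = 0
  · intro t
    rw [hs, sp4c3_rx_zero]
    exact Commute.one_left _
  · apply comm_span (xd φa φb) hxd (rx φa s) _ hT3
    rintro t ⟨σ, rfl⟩
    set su : Fˣ := Units.mk0 s hs with hsu
    set ρ : Fˣ := σ ^ 2 * su⁻¹ with hρ
    have h1 := sp4c3_conj φa φb (rx φa) σ ρ _ _ (R.aa σ) (R.ab ρ) 1
    have h2 := sp4c3_conj φa φb (xd φa φb) σ ρ _ _ (R.da σ) (R.db ρ) 1
    have hc := sp4c3_commute_conj (rh φa σ * rh φb ρ) H.C11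
    rw [h1, h2] at hc
    have e1 : (σ : F) ^ 2 * (((ρ⁻¹ : Fˣ) : F) * 1) = s := by
      rw [hρ, mul_one, mul_inv_rev, inv_inv, Units.val_mul, Units.val_inv_eq_inv_val, Units.val_pow_eq_pow_val]
      have hσ : (σ : F) ≠ 0 := σ.ne_zero
      show (σ : F) ^ 2 * (s * ((σ : F) ^ 2)⁻¹) = s
      field_simp
    have e2 : (σ : F) ^ 2 * ((1 : F) * 1) = (σ : F) ^ 2 := by ring
    rw [e1, e2] at hc
    exact hc

/-- **C4 core**. -/
theorem sp4c4_core (ζ : Fˣ) (φa φb : Matrix.SpecialLinearGroup (Fin 2) F →* G) (H : Hyp ζ φa φb)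
    (R : Tor4 φa φb)
    (hT3 : AddSubgroup.closure (Set.range fun s : Fˣ => ((s : F)) ^ 2) = ⊤)
    (hxd : ∀ s t, xd φa φb (s + t) = xd φa φb s * xd φa φb t) :
    ∀ s t, Commute (rx φb s) (xd φa φb t) := by
  -- pairs of squares
  have hsq : ∀ r σ : Fˣ, Commute (rx φb ((r : F) ^ 2)) (xd φa φb ((σ : F) ^ 2)) := by
    intro r σ
    set ρ : Fˣ := σ * r with hρ
    have h1 := sp4c3_conj φa φb (rx φb) σ ρ _ _ (R.ba σ) (R.bb ρ) 1
    have h2 := sp4c3_conj φa φb (xd φa φb) σ ρ _ _ (R.da σ) (R.db ρ) 1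
    have hc := sp4c3_commute_conj (rh φa σ * rh φb ρ) H.C12
    rw [h1, h2] at hc
    have e1 : ((σ⁻¹ : Fˣ) : F) ^ 2 * ((ρ : F) ^ 2 * 1) = (r : F) ^ 2 := by
      rw [hρ, Units.val_mul, Units.val_inv_eq_inv_val]
      have hσ : (σ : F) ≠ 0 := σ.ne_zero
      field_simp
    have e2 : (σ : F) ^ 2 * ((1 : F) * 1) = (σ : F) ^ 2 := by ring
    rw [e1, e2] at hc
    exact hc
  -- all `t`, `s` a square
  have h1 : ∀ (r : Fˣ) (t : F), Commute (rx φb ((r : F) ^ 2)) (xd φa φb t) := by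
    intro r
    apply comm_span (xd φa φb) hxd _ _ hT3
    rintro t ⟨σ, rfl⟩
    exact hsq r σ
  intro s t
  have h2 : ∀ s, Commute (xd φa φb t) (rx φb s) := by
    apply comm_span (rx φb) (sp4c3_rx_add φb) _ _ hT3
    rintro s ⟨r, rfl⟩
    exact (h1 r t).symm
  exact (h2 s).symm

end C

end Cfsg.Agent.Lib.helper3.SP4
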