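import Mathlib
import Cfsg.Agent.Lib.helper17.SLP.Defs
import Cfsg.Agent.Lib.helper3.SP4.Defs
import Cfsg.Agent.Lib.Helper18.SP4T3
import Cfsg.Agent.Lib.Helper29.SP4T9
import Cfsg.Agent.Lib.Helper21.SP4C3core

/-!
# Project SP4 (helper3, S2293), rows C3 (`comm_ad`) and C4 (`comm_bd`), VERBATIM: the cores on the landed
T3 (`sq_span`) and T9 (`xcd_add`).
-/

set_option autoImplicit false

namespace Cfsg.Agent.Lib.helper3.SP4

open Cfsg.Agent.Lib.helper17.SLP

universe u v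

section C

variable {F : Type u} [Field F] [Fintype F] {G : Type v} [Group G]

theorem comm_ad (ζ : Fˣ) (φa φb : Matrix.SpecialLinearGroup (Fin 2) F →* G) (H : Hyp ζ φa φb)
    (R : Tor4 φa φb) : ∀ s t, Commute (rx φa s) (xd φa φb t) :=
  sp4c3_core ζ φa φb H R sq_span (xcd_add φa φb).2.1

theorem comm_bd (ζ : Fˣ) (φa φb : Matrix.SpecialLinearGroup (Fin 2) F →* G) (H : Hyp ζ φa φb)
    (R : Tor4 φa φb) : ∀ s t, Commute (rx φb s) (xd φa φb t) :=
  sp4c4_core ζ φa φb H R sq_span (xcd_add φa φb).2.1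

end C

end Cfsg.Agent.Lib.helper3.SP4
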