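import Mathlib
import Cfsg.Prelude.Def_LieTypeChar
import Cfsg.Agent.Lib.helper14.SQD.Defs
import Cfsg.Agent.Lib.helper14.SQD.DefsU
import Cfsg.Agent.Lib.Helper24.SQD.DefsO

/-!
# Project SQD (helper14, S4625; part O by helper24), row OA4 (`alt_mem_closure`), VERBATIM.
-/

set_option autoImplicit false

namespace Cfsg.Agent.Lib.helper14.SQD

open Cfsg Cfsg.Lie Matrix

universe u v

section OA
variable {k : ℕ} {R : Type u} [CommRing R]

/-- the strictly upper triangular part -/
def sqdoa4_up (S : Matrix (Fin k) (Fin k) R) : Matrix (Fin k) (Fin k) R :=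
  Matrix.of fun i j => if i < j then S i j else 0

theorem sqdoa4_split (S : Matrix (Fin k) (Fin k) R) (hS : S ∈ altAdd k R) :
    S = sqdoa4_up S + (sqdoa4_up S)ᵀ := by
  obtain ⟨hsym, hdiag⟩ := hS
  ext a b
  simp only [sqdoa4_up, Matrix.add_apply, Matrix.transpose_apply, Matrix.of_apply]
  rcases lt_trichotomy a b with h | h | h
  · rw [if_pos h, if_neg (not_lt.mpr h.le), add_zero]
  · subst h
    rw [if_neg (lt_irrefl a), add_zero, hdiag]
  · rw [if_neg (not_lt.mpr h.le), if_pos h, zero_add]
    have := congrFun (congrFun hsym a) b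
    rw [Matrix.transpose_apply] at this
    exact this.symm

theorem alt_mem_closure (S : Matrix (Fin k) (Fin k) R) (hS : S ∈ altAdd k R) :
    S ∈ AddSubgroup.closure {T : Matrix (Fin k) (Fin k) R |
      ∃ i j : Fin k, i ≠ j ∧ ∃ c : R, T = Matrix.single i j c + Matrix.single j i c} := by
  have hU : sqdoa4_up S = ∑ i, ∑ j, Matrix.single i j (sqdoa4_up S i j) :=
    Matrix.matrix_eq_sum_single (sqdoa4_up S)
  have hUt : (sqdoa4_up S)ᵀ = ∑ i, ∑ j, Matrix.single j i (sqdoa4_up S i j) := by
    conv_lhs => rw [hU]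
    rw [Matrix.transpose_sum]
    apply Finset.sum_congr rfl
    intro i _
    rw [Matrix.transpose_sum]
    apply Finset.sum_congr rfl
    intro j _
    rw [Matrix.transpose_single]
  have hS' : S = ∑ i, ∑ j, (Matrix.single i j (sqdoa4_up S i j) + Matrix.single j i (sqdoa4_up S i j)) := by
    have h1 : S = (∑ i, ∑ j, Matrix.single i j (sqdoa4_up S i j)) +
        ∑ i, ∑ j, Matrix.single j i (sqdoa4_up S i j) :=
      (sqdoa4_split S hS).trans (congrArg₂ (· + ·) hU hUt)
    rw [← Finset.sum_add_distrib] at h1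
    refine h1.trans ?_
    apply Finset.sum_congr rfl
    intro i _
    rw [← Finset.sum_add_distrib]
  rw [hS']
  apply AddSubgroup.sum_mem
  intro i _
  apply AddSubgroup.sum_mem
  intro j _
  by_cases hij : i < j
  · apply AddSubgroup.subset_closure
    exact ⟨i, j, hij.ne, sqdoa4_up S i j, rfl⟩
  · have h0 : sqdoa4_up S i j = 0 := by
      simp only [sqdoa4_up, Matrix.of_apply]
      rw [if_neg hij]
    rw [h0, Matrix.single_zero, Matrix.single_zero, add_zero]
    exact AddSubgroup.zero_mem _

end OA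

end Cfsg.Agent.Lib.helper14.SQD
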