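import Mathlib
import Cfsg.Agent.Lib.helper17.T3.Defs
import Cfsg.Agent.Lib.Helper19.T3A.Defs
import Cfsg.Agent.Lib.Helper19.T3A.Comb

/-!
# Project T3A (sub-designer helper19; family T3 / S2110), rows B5 `rank_one_cell` and B6 `cell_up`: CORES (helper21).

`t3ab5h21_core` / `t3ab6h21_core` have the conclusions of B5 / B6; the hypotheses are the STATEMENTS of the cited rows
(B1 `Tor_le_Bor` `U_le_Bor`, U2 `Us_le_U` `Xs_le_U`, B2 `Bor_decomp`, T5 `cj_nS_Tor`, T6 `nS_sq_mem_Tor`, B3 `nS_Us` `nS_Xs`,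
B4 `Ys_rank_one`; D7 `isMon_nw`, D3 `IsMon.inv`, D9 `IsMon.cj_mem_UU`).
-/

set_option autoImplicit false
set_option linter.unusedSectionVars false
set_option linter.unusedVariables false

namespace Cfsg.Agent.Lib.helper17.T3

open Matrix Cfsg.Agent.Lib.helper15.St2 Cfsg.Agent.Lib.helper7.Ce Cfsg.Agent.Lib.Helper19.T3A

variable {F K : Type*} [Field F] [Field K] [Algebra F K]

namespace SysT

variable {C : Cub F K} {Γ : Type*} [Group Γ] (Q : SysT C Γ)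

/-- core of B5 `rank_one_cell` -/
theorem t3ab5h21_core (s : Bool)
    (hTB : Q.Tor ≤ Q.Bor) (hUB : Q.U ≤ Q.Bor) (hUsU : Q.Us s ≤ Q.U) (hXsU : Q.Xs s ≤ Q.U)
    (hB2 : ∀ {g : Γ}, g ∈ Q.Bor → ∃ h ∈ Q.Tor, ∃ v ∈ Q.Us s, ∃ x ∈ Q.Xs s, g = h * v * x)
    (hT5 : ∀ {h : Γ}, h ∈ Q.Tor → cj (Q.nS s) h ∈ Q.Tor)
    (hT6 : Q.nS s * Q.nS s ∈ Q.Tor)
    (hB3a : ∀ v ∈ Q.Us s, cj (Q.nS s) v ∈ Q.Us s)
    (hB3b : ∀ x ∈ Q.Xs s, cj (Q.nS s) x ∈ Q.Ys s)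
    (hB4 : ∀ y ∈ Q.Ys s, y = 1 ∨ ∃ x ∈ Q.Xs s, ∃ h ∈ Q.Tor, ∃ x' ∈ Q.Xs s, y = x * h * Q.nS s * x')
    {b : Γ} (hb : b ∈ Q.Bor) :
    Q.nS s * b * Q.nS s ∈ Q.Bor ∨ ∃ b1 ∈ Q.Bor, ∃ b2 ∈ Q.Bor, Q.nS s * b * Q.nS s = b1 * Q.nS s * b2 := by
  obtain ⟨h, hh, v, hv, x, hx, rfl⟩ := hB2 hb
  have e : Q.nS s * (h * v * x) * Q.nS s =
      cj (Q.nS s) h * cj (Q.nS s) v * cj (Q.nS s) x * (Q.nS s * Q.nS s) := by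
    unfold cj
    group
  have h1 : cj (Q.nS s) h ∈ Q.Bor := hTB (hT5 hh)
  have h2 : cj (Q.nS s) v ∈ Q.Bor := hUB (hUsU (hB3a v hv))
  have h3 : Q.nS s * Q.nS s ∈ Q.Bor := hTB hT6
  rcases hB4 _ (hB3b x hx) with h4 | ⟨x1, hx1, h', hh', x2, hx2, h4⟩
  · left
    rw [e, h4, mul_one]
    exact Subgroup.mul_mem _ (Subgroup.mul_mem _ h1 h2) h3
  · right
    refine ⟨cj (Q.nS s) h * cj (Q.nS s) v * x1 * h', ?_, x2 * (Q.nS s * Q.nS s), ?_, ?_⟩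
    · exact Subgroup.mul_mem _ (Subgroup.mul_mem _ (Subgroup.mul_mem _ h1 h2) (hUB (hXsU hx1))) (hTB hh')
    · exact Subgroup.mul_mem _ (hUB (hXsU hx2)) h3
    · rw [e, h4]
      group

/-- core of B6 `cell_up` -/
theorem t3ab6h21_core (s : Bool) (w : List Bool) (hw : simplePos s (wdW w))
    (hTB : Q.Tor ≤ Q.Bor) (hUB : Q.U ≤ Q.Bor) (hUsU : Q.Us s ≤ Q.U)
    (hB2 : ∀ {g : Γ}, g ∈ Q.Bor → ∃ h ∈ Q.Tor, ∃ v ∈ Q.Us s, ∃ x ∈ Q.Xs s, g = h * v * x)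
    (hT5 : ∀ {h : Γ}, h ∈ Q.Tor → cj (Q.nS s) h ∈ Q.Tor)
    (hB3a : ∀ v ∈ Q.Us s, cj (Q.nS s) v ∈ Q.Us s)
    (hD7 : Q.IsMon (Q.nw w) (wdW w))
    (hD3 : ∀ {g : Γ} {w : W}, Q.IsMon g w → Q.IsMon g⁻¹ (W.inv w))
    (hD9 : ∀ {g : Γ} {w : W}, Q.IsMon g w → ∀ {Ps Pl Ps' Pl' : ZMod 6 → Prop},
      (∀ k, Ps k → Ps' (actS w k)) → (∀ k, Pl k → Pl' (actL w k)) → ∀ x ∈ Q.UU Ps Pl, cj g x ∈ Q.UU Ps' Pl')
    {b : Γ} (hb : b ∈ Q.Bor) :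
    ∃ b1 ∈ Q.Bor, ∃ b2 ∈ Q.Bor, Q.nS s * b * Q.nw w = b1 * Q.nw (s :: w) * b2 := by
  obtain ⟨h, hh, v, hv, x, hx, rfl⟩ := hB2 hb
  have hnw : Q.nw (s :: w) = Q.nS s * Q.nw w := by
    unfold nw
    rw [List.map_cons, List.prod_cons]
  have hxU : cj (Q.nw w)⁻¹ x ∈ Q.U := by
    have hm := hD3 hD7
    unfold U
    unfold Xs at hx
    refine hD9 hm ?_ ?_ x hx
    · rintro k ⟨hs, rfl⟩
      subst hs
      exact (simplePos_true _).mp hw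
    · rintro k ⟨hs, rfl⟩
      subst hs
      exact (simplePos_false _).mp hw
  refine ⟨cj (Q.nS s) h * cj (Q.nS s) v, ?_, cj (Q.nw w)⁻¹ x, hUB hxU, ?_⟩
  · exact Subgroup.mul_mem _ (hTB (hT5 hh)) (hUB (hUsU (hB3a v hv)))
  · rw [hnw]
    unfold cj
    group

end SysT

end Cfsg.Agent.Lib.helper17.T3
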