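import Cfsg.Agent.Lib.helper7.TP.Defs

/-!
# Project TP (S5637), piece CLASS (helper21): abstract core.

`P` = membership in an `SL_a`-conjugation-invariant unital subalgebra `Λ` of `M_a(F)`.
Key lemma: `P x`, `i ≠ j`, `x j i ≠ 0` give `P (E_ij)`.
-/

set_option autoImplicit false
set_option linter.unusedVariables false
set_option linter.unusedSimpArgs false

namespace Cfsg.Agent.Lib.helper7.TP

open Matrix

variable {a : ℕ} {F : Type*} [Field F]

/-- the closure properties of `Λ`. -/
structure tpclass_Alg (P : Matrix (Fin a) (Fin a) F → Prop) : Prop where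
  add : ∀ x y, P x → P y → P (x + y)
  neg : ∀ x, P x → P (-x)
  scal : ∀ c : F, P (c • (1 : Matrix (Fin a) (Fin a) F))
  mul : ∀ x y, P x → P y → P (x * y)
  conj : ∀ α : Matrix (Fin a) (Fin a) F, α.det = 1 → ∀ x, P x → P (α * x * α⁻¹)

variable {P : Matrix (Fin a) (Fin a) F → Prop}

theorem tpclass_sub (H : tpclass_Alg P) {x y : Matrix (Fin a) (Fin a) F} (hx : P x) (hy : P y) :
    P (x - y) := by
  rw [sub_eq_add_neg]
  exact H.add _ _ hx (H.neg _ hy)

theorem tpclass_smul (H : tpclass_Alg P) (c : F) {x : Matrix (Fin a) (Fin a) F} (hx : P x) :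
    P (c • x) := by
  have h := H.mul _ _ (H.scal c) hx
  rwa [Matrix.smul_mul, Matrix.one_mul] at h

theorem tpclass_zero (H : tpclass_Alg P) : P 0 := by
  have h := H.scal 0
  rwa [zero_smul] at h

theorem tpclass_single_mul_apply (i j p q : Fin a) (M : Matrix (Fin a) (Fin a) F) :
    (Matrix.single i j (1 : F) * M) p q = if p = i then M j q else 0 := by
  by_cases h : p = i
  · subst h
    simp
  · rw [Matrix.single_mul_apply_of_ne _ _ _ _ _ h, if_neg h]

theorem tpclass_mul_single_apply (i j p q : Fin a) (M : Matrix (Fin a) (Fin a) F) :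
    (M * Matrix.single i j (1 : F)) p q = if q = j then M p i else 0 := by
  by_cases h : q = j
  · subst h
    simp
  · rw [Matrix.mul_single_apply_of_ne _ _ _ _ _ h, if_neg h]

theorem tpclass_single_apply (i j p q : Fin a) :
    Matrix.single i j (1 : F) p q = if p = i ∧ q = j then 1 else 0 := by
  rw [Matrix.single_apply]
  by_cases h : p = i ∧ q = j
  · rw [if_pos h, if_pos ⟨h.1.symm, h.2.symm⟩]
  · rw [if_neg h, if_neg (fun h' => h ⟨h'.1.symm, h'.2.symm⟩)]

/-- conjugation by the transvection `1 + t E_ij`. -/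
theorem tpclass_tv (H : tpclass_Alg P) {x : Matrix (Fin a) (Fin a) F} (hx : P x) {i j : Fin a}
    (hij : i ≠ j) (t : F) :
    P (t • (Matrix.single i j (1 : F) * x - x * Matrix.single i j (1 : F)) -
      (t * t * x j i) • Matrix.single i j (1 : F)) := by
  have hdet : (Matrix.transvection i j t).det = 1 := Matrix.det_transvection_of_ne i j hij t
  have hinv : (Matrix.transvection i j t)⁻¹ = Matrix.transvection i j (-t) := by
    apply Matrix.inv_eq_right_inv
    rw [Matrix.transvection_mul_transvection_same i j hij, add_neg_cancel, Matrix.transvection_zero]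
  have h1 := tpclass_sub H (H.conj _ hdet x hx) hx
  rw [hinv] at h1
  have hE : ∀ s : F, Matrix.transvection i j s = 1 + s • Matrix.single i j (1 : F) := by
    intro s
    rw [Matrix.transvection, Matrix.smul_single, smul_eq_mul, mul_one]
  have hExE : Matrix.single i j (1 : F) * x * Matrix.single i j (1 : F) =
      x j i • Matrix.single i j (1 : F) := by
    rw [Matrix.single_mul_mul_single, Matrix.smul_single, one_mul, mul_one, smul_eq_mul, mul_one]
  have key : Matrix.transvection i j t * x * Matrix.transvection i j (-t) - x =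
      t • (Matrix.single i j (1 : F) * x - x * Matrix.single i j (1 : F)) -
      (t * t * x j i) • Matrix.single i j (1 : F) := by
    rw [hE, hE]
    have h2 : (1 + t • Matrix.single i j (1 : F)) * x * (1 + -t • Matrix.single i j (1 : F)) =
        x + t • (Matrix.single i j (1 : F) * x) - t • (x * Matrix.single i j (1 : F)) -
          (t * t) • (Matrix.single i j (1 : F) * x * Matrix.single i j (1 : F)) := by
      rw [neg_smul, ← sub_eq_add_neg]
      simp only [Matrix.add_mul, Matrix.mul_sub, Matrix.one_mul, Matrix.mul_one, Matrix.smul_mul,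
        Matrix.mul_smul, smul_add, smul_smul]
      abel
    rw [h2, hExE, smul_smul, smul_sub]
    abel
  rw [key] at h1
  exact h1

/-- the case `t = 1`. -/
theorem tpclass_tv1 (H : tpclass_Alg P) {x : Matrix (Fin a) (Fin a) F} (hx : P x) {i j : Fin a}
    (hij : i ≠ j) :
    P (Matrix.single i j (1 : F) * x - x * Matrix.single i j (1 : F) -
      x j i • Matrix.single i j (1 : F)) := by
  have h := tpclass_tv H hx hij 1
  rwa [one_smul, one_mul, one_mul] at h

/-- key lemma, route A: a scalar `t ∉ {0, 1}`. -/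
theorem tpclass_keyA (H : tpclass_Alg P) {t : F} (ht0 : t ≠ 0) (ht1 : t ≠ 1)
    {x : Matrix (Fin a) (Fin a) F} (hx : P x) {i j : Fin a} (hij : i ≠ j) (hne : x j i ≠ 0) :
    P (Matrix.single i j (1 : F)) := by
  have h1 := tpclass_tv H hx hij t
  have h2 := tpclass_smul H t (tpclass_tv H hx hij 1)
  have h3 := tpclass_sub H h2 h1
  have h4 : t • ((1 : F) • (Matrix.single i j (1 : F) * x - x * Matrix.single i j (1 : F)) -
        (1 * 1 * x j i) • Matrix.single i j (1 : F)) -
      (t • (Matrix.single i j (1 : F) * x - x * Matrix.single i j (1 : F)) -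
        (t * t * x j i) • Matrix.single i j (1 : F)) =
      ((t * t - t) * x j i) • Matrix.single i j (1 : F) := by
    module
  rw [h4] at h3
  have hc : (t * t - t) * x j i ≠ 0 := by
    apply mul_ne_zero _ hne
    have : t * t - t = t * (t - 1) := by ring
    rw [this]
    exact mul_ne_zero ht0 (sub_ne_zero.2 ht1)
  have h5 := tpclass_smul H ((t * t - t) * x j i)⁻¹ h3
  rwa [smul_smul, inv_mul_cancel₀ hc, one_smul] at h5

theorem tpclass_stage1 (x : Matrix (Fin a) (Fin a) F) {i j k : Fin a} (hij : i ≠ j) (hik : i ≠ k)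
    (hjk : j ≠ k) :
    Matrix.single i k (1 : F) * (Matrix.single i j (1 : F) * x - x * Matrix.single i j (1 : F) -
        x j i • Matrix.single i j (1 : F)) -
      (Matrix.single i j (1 : F) * x - x * Matrix.single i j (1 : F) -
        x j i • Matrix.single i j (1 : F)) * Matrix.single i k (1 : F) -
      (Matrix.single i j (1 : F) * x - x * Matrix.single i j (1 : F) -
        x j i • Matrix.single i j (1 : F)) k i • Matrix.single i k (1 : F) =
    -(x k i • Matrix.single i j (1 : F) + x j i • Matrix.single i k (1 : F)) := by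
  ext p q
  simp only [Matrix.sub_apply, Matrix.neg_apply, Matrix.add_apply, Matrix.smul_apply, smul_eq_mul,
    tpclass_single_mul_apply, tpclass_mul_single_apply, tpclass_single_apply]
  rcases eq_or_ne p i with rfl | hp <;> rcases eq_or_ne q j with rfl | hqj <;>
    rcases eq_or_ne q k with rfl | hqk <;>
    simp_all [Ne.symm hij, Ne.symm hik, Ne.symm hjk]

theorem tpclass_stage2 (c d : F) {i j k : Fin a} (hij : i ≠ j) (hik : i ≠ k) (hjk : j ≠ k) :
    Matrix.single k j (1 : F) * (-(c • Matrix.single i j (1 : F) + d • Matrix.single i k (1 : F))) -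
      (-(c • Matrix.single i j (1 : F) + d • Matrix.single i k (1 : F))) * Matrix.single k j (1 : F) -
      (-(c • Matrix.single i j (1 : F) + d • Matrix.single i k (1 : F))) j k •
        Matrix.single k j (1 : F) =
    d • Matrix.single i j (1 : F) := by
  ext p q
  simp only [Matrix.sub_apply, Matrix.neg_apply, Matrix.add_apply, Matrix.smul_apply, smul_eq_mul,
    tpclass_single_mul_apply, tpclass_mul_single_apply, tpclass_single_apply]
  rcases eq_or_ne p i with rfl | hp <;> rcases eq_or_ne q j with rfl | hqj <;>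
    rcases eq_or_ne p k with rfl | hpk <;>
    simp_all [Ne.symm hij, Ne.symm hik, Ne.symm hjk]

/-- key lemma, route B: a third index `k`. -/
theorem tpclass_keyB (H : tpclass_Alg P) {x : Matrix (Fin a) (Fin a) F} (hx : P x) {i j k : Fin a}
    (hij : i ≠ j) (hik : i ≠ k) (hjk : j ≠ k) (hne : x j i ≠ 0) :
    P (Matrix.single i j (1 : F)) := by
  have h1 := tpclass_tv1 H hx hij
  have h2 := tpclass_tv1 H h1 hik
  rw [tpclass_stage1 x hij hik hjk] at h2
  have h3 := tpclass_tv1 H h2 (Ne.symm hjk)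
  rw [tpclass_stage2 (x k i) (x j i) hij hik hjk] at h3
  have h5 := tpclass_smul H (x j i)⁻¹ h3
  rwa [smul_smul, inv_mul_cancel₀ hne, one_smul] at h5

theorem tpclass_exists_third (ha : 3 ≤ a) (i j : Fin a) : ∃ k : Fin a, k ≠ i ∧ k ≠ j := by
  obtain ⟨v, hv3, hvi, hvj⟩ : ∃ v, v < 3 ∧ v ≠ i.val ∧ v ≠ j.val := by
    by_cases h0 : (0 ≠ i.val ∧ 0 ≠ j.val)
    · exact ⟨0, by omega, h0.1, h0.2⟩
    by_cases h1 : (1 ≠ i.val ∧ 1 ≠ j.val)
    · exact ⟨1, by omega, h1.1, h1.2⟩
    exact ⟨2, by omega, by omega, by omega⟩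
  refine ⟨⟨v, by omega⟩, ?_, ?_⟩
  · intro h
    exact hvi (congrArg Fin.val h)
  · intro h
    exact hvj (congrArg Fin.val h)

theorem tpclass_exists_other (ha : 2 ≤ a) (i : Fin a) : ∃ j : Fin a, j ≠ i := by
  by_cases h0 : i.val = 0
  · refine ⟨⟨1, by omega⟩, ?_⟩
    intro h
    have := congrArg Fin.val h
    simp only at this
    omega
  · refine ⟨⟨0, by omega⟩, ?_⟩
    intro h
    have := congrArg Fin.val h
    simp only at this
    omega

/-- the key lemma: an off-diagonal non-zero entry `x j i` of `x ∈ Λ` puts `E_ij` into `Λ`. -/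
theorem tpclass_key (H : tpclass_Alg P) (hyp : (∃ t : F, t ≠ 0 ∧ t ≠ 1) ∨ 3 ≤ a)
    {x : Matrix (Fin a) (Fin a) F} (hx : P x) {i j : Fin a} (hij : i ≠ j) (hne : x j i ≠ 0) :
    P (Matrix.single i j (1 : F)) := by
  rcases hyp with ⟨t, ht0, ht1⟩ | ha
  · exact tpclass_keyA H ht0 ht1 hx hij hne
  · obtain ⟨k, hki, hkj⟩ := tpclass_exists_third ha i j
    exact tpclass_keyB H hx hij (Ne.symm hki) (Ne.symm hkj) hne

theorem tpclass_transpose (H : tpclass_Alg P) (hyp : (∃ t : F, t ≠ 0 ∧ t ≠ 1) ∨ 3 ≤ a)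
    {i j : Fin a} (hij : i ≠ j) (h : P (Matrix.single i j (1 : F))) :
    P (Matrix.single j i (1 : F)) := by
  apply tpclass_key H hyp h (Ne.symm hij)
  rw [Matrix.single_apply_same]
  exact one_ne_zero

theorem tpclass_row (H : tpclass_Alg P) {i j p : Fin a} (hij : i ≠ j) (hpj : p ≠ j)
    (h : P (Matrix.single i j (1 : F))) : P (Matrix.single p j (1 : F)) := by
  by_cases hpi : p = i
  · rw [hpi]; exact h
  have h1 := tpclass_tv1 H h hpi
  rw [Matrix.single_mul_single_same, Matrix.single_mul_single_of_ne _ _ _ _ (Ne.symm hpj),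
    Matrix.single_apply_of_col_ne _ _ (Ne.symm hpj), zero_smul, sub_zero, sub_zero, mul_one] at h1
  exact h1

theorem tpclass_col (H : tpclass_Alg P) {i j q : Fin a} (hij : i ≠ j) (hqi : q ≠ i)
    (h : P (Matrix.single i j (1 : F))) : P (Matrix.single i q (1 : F)) := by
  by_cases hqj : q = j
  · rw [hqj]; exact h
  have h1 := tpclass_tv1 H h (Ne.symm hqj)
  rw [Matrix.single_mul_single_same, Matrix.single_mul_single_of_ne _ _ _ _ hqi,
    Matrix.single_apply_of_row_ne (Ne.symm hqi), zero_smul, sub_zero, zero_sub, mul_one] at h1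
  have h2 := H.neg _ h1
  rwa [neg_neg] at h2

theorem tpclass_offdiag (H : tpclass_Alg P) (hyp : (∃ t : F, t ≠ 0 ∧ t ≠ 1) ∨ 3 ≤ a)
    {i j : Fin a} (hij : i ≠ j) (h : P (Matrix.single i j (1 : F))) {p q : Fin a} (hpq : p ≠ q) :
    P (Matrix.single p q (1 : F)) := by
  by_cases hpj : p = j
  · subst hpj
    exact tpclass_col H (Ne.symm hij) (Ne.symm hpq) (tpclass_transpose H hyp hij h)
  · exact tpclass_col H hpj (Ne.symm hpq) (tpclass_row H hij hpj h)

theorem tpclass_units (H : tpclass_Alg P) (ha : 2 ≤ a) (hyp : (∃ t : F, t ≠ 0 ∧ t ≠ 1) ∨ 3 ≤ a)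
    {i j : Fin a} (hij : i ≠ j) (h : P (Matrix.single i j (1 : F))) (p q : Fin a) :
    P (Matrix.single p q (1 : F)) := by
  by_cases hpq : p = q
  · subst hpq
    obtain ⟨k, hk⟩ := tpclass_exists_other ha p
    have h1 := H.mul _ _ (tpclass_offdiag H hyp hij h (Ne.symm hk))
      (tpclass_offdiag H hyp hij h hk)
    rwa [Matrix.single_mul_single_same, mul_one] at h1
  · exact tpclass_offdiag H hyp hij h hpq

theorem tpclass_exists_unit (H : tpclass_Alg P) (ha : 2 ≤ a)
    (hyp : (∃ t : F, t ≠ 0 ∧ t ≠ 1) ∨ 3 ≤ a) {x : Matrix (Fin a) (Fin a) F} (hx : P x)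
    (hns : ¬ ∃ c : F, x = c • (1 : Matrix (Fin a) (Fin a) F)) :
    ∃ i j : Fin a, i ≠ j ∧ P (Matrix.single i j (1 : F)) := by
  by_cases hoff : ∃ i j : Fin a, i ≠ j ∧ x j i ≠ 0
  · obtain ⟨i, j, hij, hne⟩ := hoff
    exact ⟨i, j, hij, tpclass_key H hyp hx hij hne⟩
  push Not at hoff
  have hdiag : ∃ k l : Fin a, x k k ≠ x l l := by
    by_contra hcon
    push Not at hcon
    apply hns
    refine ⟨x ⟨0, by omega⟩ ⟨0, by omega⟩, ?_⟩
    ext p q
    by_cases hpq : p = q
    · subst hpq
      simp [hcon p ⟨0, by omega⟩]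
    · simp [hpq, hoff q p (Ne.symm hpq)]
  obtain ⟨k, l, hkl⟩ := hdiag
  have hkl' : k ≠ l := by
    intro h
    apply hkl
    rw [h]
  have h1 := tpclass_tv1 H hx hkl'
  refine ⟨l, k, Ne.symm hkl', tpclass_key H hyp h1 (Ne.symm hkl') ?_⟩
  simp only [Matrix.sub_apply, Matrix.smul_apply, smul_eq_mul, tpclass_single_mul_apply,
    tpclass_mul_single_apply, tpclass_single_apply, if_true, and_self]
  rw [hoff k l hkl', zero_mul, sub_zero]
  exact sub_ne_zero.2 (Ne.symm hkl)

/-- CLASS, abstract form. -/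
theorem tpclass_all (H : tpclass_Alg P) (ha : 2 ≤ a) (hyp : (∃ t : F, t ≠ 0 ∧ t ≠ 1) ∨ 3 ≤ a)
    {x : Matrix (Fin a) (Fin a) F} (hx : P x)
    (hns : ¬ ∃ c : F, x = c • (1 : Matrix (Fin a) (Fin a) F)) :
    ∀ y : Matrix (Fin a) (Fin a) F, P y := by
  obtain ⟨i, j, hij, hE⟩ := tpclass_exists_unit H ha hyp hx hns
  intro y
  rw [Matrix.matrix_eq_sum_single y]
  apply Finset.sum_induction _ P (fun u v hu hv => H.add u v hu hv) (tpclass_zero H)
  intro p _
  apply Finset.sum_induction _ P (fun u v hu hv => H.add u v hu hv) (tpclass_zero H)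
  intro q _
  have h1 := tpclass_smul H (y p q) (tpclass_units H ha hyp hij hE p q)
  rwa [Matrix.smul_single, smul_eq_mul, mul_one] at h1

end Cfsg.Agent.Lib.helper7.TP
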