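import Cfsg.Agent.Lib.helper7.TP.Defs
import Cfsg.Agent.Lib.Helper21.TPCLASScore
import Cfsg.Agent.Lib.Helper20.TPALG

/-!
# Project TP (S5637), piece CLASS (helper21): `lamA_all`, from the abstract core `tpclass_all`
(`Helper21/TPCLASScore.lean`) and the ALG pieces.
-/

set_option autoImplicit false
set_option linter.unusedVariables false

namespace Cfsg.Agent.Lib.helper7.TP

open Matrix
open scoped Kronecker

variable {a b : ℕ} {F : Type*} [Field F]

theorem tpclass_exists_scalar [Fintype F] (h : Fintype.card F ≠ 2) : ∃ t : F, t ≠ 0 ∧ t ≠ 1 := by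
  classical
  by_contra hcon
  push Not at hcon
  have hsub : (Finset.univ : Finset F) ⊆ {0, 1} := by
    intro t _
    by_cases ht : t = 0
    · rw [ht]; simp
    · rw [hcon t ht]; simp
  have h1 : Fintype.card F ≤ 2 :=
    calc Fintype.card F = (Finset.univ : Finset F).card := Finset.card_univ.symm
      _ ≤ ({0, 1} : Finset F).card := Finset.card_le_card hsub
      _ ≤ 2 := Finset.card_le_two
  have h2 : 1 < Fintype.card F := Fintype.one_lt_card
  omega

/-- CLASS: an `SL_a`-invariant unital subalgebra of `M_a(F)` containing a non-scalar matrix is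
everything, unless `a = 2 = |F|`. -/
theorem lamA_all [Fintype F] (ha : 2 ≤ a) (hb : 3 ≤ b) (hex : ¬ (a = 2 ∧ Fintype.card F = 2))
    (M : Subgroup (Matrix.GeneralLinearGroup (Fin a × Fin b) F)) (hTM : T0 a b F ≤ M)
    (ζ : Matrix (Fin a) (Fin a) F) (hζ : LamA M ζ)
    (hns : ¬ ∃ c : F, ζ = c • (1 : Matrix (Fin a) (Fin a) F)) :
    ∀ ζ' : Matrix (Fin a) (Fin a) F, LamA M ζ' := by
  have H : tpclass_Alg (LamA M) :=
    ⟨fun x y hx hy => lamA_add M x y hx hy, fun x hx => lamA_neg M x hx, lamA_scalar M hTM,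
      fun x y hx hy => lamA_mul hb M x y hx hy, fun α hα x hx => lamA_conj M hTM α hα x hx⟩
  have hyp : (∃ t : F, t ≠ 0 ∧ t ≠ 1) ∨ 3 ≤ a := by
    by_cases h3 : 3 ≤ a
    · exact Or.inr h3
    · left
      apply tpclass_exists_scalar
      intro h2
      exact hex ⟨by omega, h2⟩
  exact tpclass_all H ha hyp hζ hns

end Cfsg.Agent.Lib.helper7.TP
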