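import Cfsg.Agent.Lib.helper7.TP.Defs

/-!
# Project TP (S5637), piece C1 (helper21): `sqzero_kron`.

`t = α ⊗ β`, `N = t - 1` of rank `a < b`.  If `α u ∉ F u` for some `u` then `w ↦ N (u ⊗ w)` is injective,
so `rank N ≥ b`; hence `α = c • 1`, `N = 1 ⊗ γ` with `γ = c β - 1`; two independent vectors in the
image of `γ` would give `rank N ≥ 2a`, so `γ = w' ψ'ᵀ` and `N v = (ctr ψ' v) ⊗ w'`.
(The hypothesis `N² = 0` is not needed.)
-/

set_option autoImplicit false
set_option linter.unusedVariables false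

namespace Cfsg.Agent.Lib.helper7.TP

open Matrix
open scoped Kronecker

variable {a b : ℕ} {F : Type*} [Field F]

/-- a matrix all of whose vectors are eigenvectors is scalar. -/
theorem tpc1_scalar_of_all_eigen (ha : 1 ≤ a) (α : Matrix (Fin a) (Fin a) F)
    (h : ∀ u : Fin a → F, ∃ c : F, α *ᵥ u = c • u) : ∃ c : F, α = c • (1 : Matrix (Fin a) (Fin a) F) := by
  classical
  have hoff : ∀ k i : Fin a, k ≠ i → α k i = 0 := by
    intro k i hki
    obtain ⟨c, hc⟩ := h (Pi.single i 1)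
    have h1 := congrFun hc k
    rw [Matrix.mulVec_single_one] at h1
    simpa [Pi.single_apply, hki] using h1
  have hdiag : ∀ i j : Fin a, α i i = α j j := by
    intro i j
    by_cases hij : i = j
    · rw [hij]
    obtain ⟨c, hc⟩ := h (Pi.single i 1 + Pi.single j 1)
    have hi := congrFun hc i
    have hj := congrFun hc j
    rw [Matrix.mulVec_add, Matrix.mulVec_single_one, Matrix.mulVec_single_one] at hi hj
    have hji : j ≠ i := fun e => hij e.symm
    simp [hij, hji, hoff i j hij, hoff j i hji] at hi hj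
    rw [hi, hj]
  refine ⟨α ⟨0, ha⟩ ⟨0, ha⟩, ?_⟩
  ext k l
  by_cases hkl : k = l
  · subst hkl
    simp [hdiag k ⟨0, ha⟩]
  · simp [hkl, hoff k l hkl]

/-- an injective linear map into the range of `N` bounds the rank of `N` from below. -/
theorem tpc1_le_rank {ι W : Type*} [Fintype ι] [DecidableEq ι] [AddCommGroup W] [Module F W]
    [FiniteDimensional F W] (N : Matrix ι ι F) (φ : W →ₗ[F] (ι → F)) (hinj : Function.Injective φ)
    (hr : ∀ x : W, ∃ v' : ι → F, φ x = N *ᵥ v') : Module.finrank F W ≤ N.rank := by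
  rw [Matrix.rank, ← LinearMap.finrank_range_of_inj hinj]
  apply Submodule.finrank_mono
  rintro _ ⟨x, rfl⟩
  obtain ⟨v', hv'⟩ := hr x
  exact ⟨v', by rw [Matrix.mulVecLin_apply, hv']⟩

theorem tpc1_ten_eq_zero {u : Fin a → F} {w : Fin b → F} (h : ten u w = 0) (hw : w ≠ 0) : u = 0 := by
  obtain ⟨j, hj⟩ := Function.ne_iff.1 hw
  funext i
  have h1 := congrFun h (i, j)
  simp only [ten, Pi.zero_apply] at h1 hj ⊢
  rcases mul_eq_zero.1 h1 with h2 | h2
  · exact h2
  · exact absurd h2 hj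

/-- if `α u ∉ F u` then `N = α ⊗ β - 1` has rank at least `b`. -/
theorem tpc1_rank_ge (α : Matrix (Fin a) (Fin a) F) (β : Matrix (Fin b) (Fin b) F)
    (u : Fin a → F) (hu : ∀ c : F, α *ᵥ u ≠ c • u) : b ≤ (α ⊗ₖ β - 1).rank := by
  classical
  have hN : ∀ w : Fin b → F, (α ⊗ₖ β - 1) *ᵥ ten u w = ten (α *ᵥ u) (β *ᵥ w) - ten u w := by
    intro w
    rw [Matrix.sub_mulVec, Matrix.one_mulVec, kron_mulVec_ten]
  let φ : (Fin b → F) →ₗ[F] (Fin a × Fin b → F) :=
    { toFun := fun w => (α ⊗ₖ β - 1) *ᵥ ten u w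
      map_add' := by
        intro w w'
        rw [ten_add_right, Matrix.mulVec_add]
      map_smul' := by
        intro c w
        rw [ten_smul_right, Matrix.mulVec_smul, RingHom.id_apply] }
  have hφ : ∀ w, φ w = (α ⊗ₖ β - 1) *ᵥ ten u w := fun w => rfl
  have hinj : Function.Injective φ := by
    rw [← LinearMap.ker_eq_bot, LinearMap.ker_eq_bot']
    intro w hw
    rw [hφ, hN, sub_eq_zero] at hw
    by_contra hw0
    obtain ⟨j, hj⟩ := Function.ne_iff.1 hw0
    simp only [Pi.zero_apply] at hj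
    -- u = κ • α u with κ = (β w) j / w j
    have hk : ∀ i, u i = ((β *ᵥ w) j / w j) * (α *ᵥ u) i := by
      intro i
      have h1 := congrFun hw (i, j)
      simp only [ten] at h1
      field_simp
      rw [← h1]; ring
    by_cases hκ : (β *ᵥ w) j / w j = 0
    · apply hu 0
      have hu0 : u = 0 := by
        funext i
        rw [hk i, hκ, zero_mul, Pi.zero_apply]
      rw [hu0, Matrix.mulVec_zero, smul_zero]
    · apply hu ((β *ᵥ w) j / w j)⁻¹
      funext i
      rw [Pi.smul_apply, smul_eq_mul, hk i, ← mul_assoc, inv_mul_cancel₀ hκ, one_mul]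
  have h := tpc1_le_rank (α ⊗ₖ β - 1) φ hinj (fun w => ⟨ten u w, hφ w⟩)
  rwa [Module.finrank_fin_fun] at h

/-- C1: a square-zero element of rank `a` of `K0` is `1 ⊗ (transvection)` (here `a < b`): the image
of `t - 1` is a `B`-line.  Any field. -/
theorem sqzero_kron (ha : 1 ≤ a) (hab : a < b)
    (t : Matrix.GeneralLinearGroup (Fin a × Fin b) F) (ht : t ∈ K0 a b F)
    (hsq : ((t : Matrix (Fin a × Fin b) (Fin a × Fin b) F) - 1) *
      ((t : Matrix (Fin a × Fin b) (Fin a × Fin b) F) - 1) = 0)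
    (hrk : ((t : Matrix (Fin a × Fin b) (Fin a × Fin b) F) - 1).rank = a) :
    ∃ w' : Fin b → F, w' ≠ 0 ∧ ∀ v : Fin a × Fin b → F,
      (∃ v' : Fin a × Fin b → F,
        v = ((t : Matrix (Fin a × Fin b) (Fin a × Fin b) F) - 1) *ᵥ v') ↔ v ∈ Bline (a := a) w' := by
  classical
  obtain ⟨α, β, hαβ⟩ := (mem_K0 t).1 ht
  rw [hαβ] at hrk ⊢
  -- α is scalar
  have hsc : ∃ c : F, (α : Matrix (Fin a) (Fin a) F) = c • (1 : Matrix (Fin a) (Fin a) F) := by
    apply tpc1_scalar_of_all_eigen ha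
    by_contra hcon
    push Not at hcon
    obtain ⟨u, hu⟩ := hcon
    have := tpc1_rank_ge (α : Matrix (Fin a) (Fin a) F) (β : Matrix (Fin b) (Fin b) F) u hu
    omega
  obtain ⟨c, hc⟩ := hsc
  set γ : Matrix (Fin b) (Fin b) F := c • (β : Matrix (Fin b) (Fin b) F) - 1 with hγ
  have hN : (α : Matrix (Fin a) (Fin a) F) ⊗ₖ (β : Matrix (Fin b) (Fin b) F) - 1 =
      (1 : Matrix (Fin a) (Fin a) F) ⊗ₖ γ := by
    have h1 : (1 : Matrix (Fin a × Fin b) (Fin a × Fin b) F) =
        (1 : Matrix (Fin a) (Fin a) F) ⊗ₖ (1 : Matrix (Fin b) (Fin b) F) :=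
      (Matrix.one_kronecker_one).symm
    rw [hc, Matrix.smul_kronecker, ← Matrix.kronecker_smul, sub_eq_iff_eq_add, h1,
      ← Matrix.kronecker_add, hγ, sub_add_cancel]
  rw [hN] at hrk ⊢
  have hNt : ∀ (u : Fin a → F) (w : Fin b → F),
      ((1 : Matrix (Fin a) (Fin a) F) ⊗ₖ γ) *ᵥ ten u w = ten u (γ *ᵥ w) := by
    intro u w
    rw [kron_mulVec_ten, Matrix.one_mulVec]
  -- γ ≠ 0
  have hγ0 : ∃ w0 : Fin b → F, γ *ᵥ w0 ≠ 0 := by
    by_contra hcon
    push Not at hcon
    have hz : γ = 0 := by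
      rw [Matrix.ext_iff_mulVec]
      intro w
      rw [hcon w, Matrix.zero_mulVec]
    rw [hz, Matrix.kronecker_zero, Matrix.rank_zero] at hrk
    omega
  obtain ⟨w0, hw0⟩ := hγ0
  set w' : Fin b → F := γ *ᵥ w0 with hw'
  -- the image of γ is F w'
  have him : ∀ w1 : Fin b → F, ∃ d : F, γ *ᵥ w1 = d • w' := by
    intro w1
    by_contra hcon
    push Not at hcon
    -- (u1, u2) ↦ u1 ⊗ w' + u2 ⊗ γ w1 is injective into the range of N
    let φ : ((Fin a → F) × (Fin a → F)) →ₗ[F] (Fin a × Fin b → F) :=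
      { toFun := fun p => ten p.1 w' + ten p.2 (γ *ᵥ w1)
        map_add' := by
          intro p p'
          simp only [Prod.fst_add, Prod.snd_add, ten_add_left]
          abel
        map_smul' := by
          intro d p
          simp only [Prod.smul_fst, Prod.smul_snd, ten_smul_left, RingHom.id_apply, smul_add] }
    have hφ : ∀ p, φ p = ten p.1 w' + ten p.2 (γ *ᵥ w1) := fun p => rfl
    have hinj : Function.Injective φ := by
      rw [← LinearMap.ker_eq_bot, LinearMap.ker_eq_bot']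
      rintro ⟨u1, u2⟩ hp
      rw [hφ] at hp
      simp only at hp
      have h2 : u2 = 0 := by
        funext i
        by_contra hi
        simp only [Pi.zero_apply] at hi
        apply hcon (-(u1 i / u2 i))
        funext k
        have h1 := congrFun hp (i, k)
        simp only [ten, Pi.add_apply, Pi.zero_apply] at h1
        simp only [Pi.smul_apply, smul_eq_mul]
        field_simp
        linear_combination h1
      have h1 : u1 = 0 := by
        rw [h2] at hp
        have : ten (0 : Fin a → F) (γ *ᵥ w1) = 0 := by funext p; simp [ten]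
        rw [this, add_zero] at hp
        exact tpc1_ten_eq_zero hp hw0
      rw [h1, h2]; rfl
    have h := tpc1_le_rank ((1 : Matrix (Fin a) (Fin a) F) ⊗ₖ γ) φ hinj (by
      rintro ⟨u1, u2⟩
      refine ⟨ten u1 w0 + ten u2 w1, ?_⟩
      rw [hφ, Matrix.mulVec_add, hNt, hNt])
    rw [Module.finrank_prod, Module.finrank_fin_fun, hrk] at h
    omega
  choose ψ' hψ' using him
  -- γ = w' ψ'ᵀ on the standard basis
  have hγv : γ = Matrix.vecMulVec w' (fun j => ψ' (Pi.single j 1)) := by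
    ext k j
    have h1 := congrFun (hψ' (Pi.single j 1)) k
    rw [Matrix.mulVec_single_one] at h1
    simp only [Matrix.col_apply, Pi.smul_apply, smul_eq_mul] at h1
    rw [Matrix.vecMulVec_apply, h1, mul_comm]
  refine ⟨w', hw0, fun v => ⟨?_, ?_⟩⟩
  · rintro ⟨v', rfl⟩
    rw [mem_Bline]
    refine ⟨ctr (fun j => ψ' (Pi.single j 1)) v', ?_⟩
    conv_lhs => rw [hγv]
    rw [kron_vecMulVec_mulVec, Matrix.one_mulVec]
  · intro hv
    obtain ⟨u, rfl⟩ := (mem_Bline w' v).1 hv
    exact ⟨ten u w0, by rw [hNt]⟩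

end Cfsg.Agent.Lib.helper7.TP
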