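import Mathlib
import Cfsg.Agent.Lib.Helper5.UNI.Defs

/-!
# UNI row A5 (`sum_relFix`): double counting for the permutation character of `X` on `X ⧸ Y`.
-/

set_option autoImplicit false

namespace Cfsg.Agent.Lib.Helper5.UNI

section Abstract

variable {G : Type*} [Group G]

/-- the stabiliser in `X` of the base coset of `G ⧸ Y`. -/
theorem unia5_stab (X Y : Subgroup G) :
    MulAction.stabilizer X (((1 : G) : G ⧸ Y)) = Y.subgroupOf X := by
  ext x
  rw [MulAction.mem_stabilizer_iff, Subgroup.mem_subgroupOf]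
  change (x : G) • (((1 : G) : G ⧸ Y)) = _ ↔ _
  rw [MulAction.Quotient.smul_mk, QuotientGroup.eq, smul_eq_mul, mul_one, mul_one]
  exact inv_mem_iff

/-- the `X`-orbit of the base coset. -/
theorem unia5_mem_orbit (X Y : Subgroup G) (c : G ⧸ Y) :
    c ∈ MulAction.orbit X (((1 : G) : G ⧸ Y)) ↔ ∃ x ∈ X, c = ((x : G) : G ⧸ Y) := by
  constructor
  · rintro ⟨x, rfl⟩
    refine ⟨x, x.2, ?_⟩
    show (x : G) • (((1 : G) : G ⧸ Y)) = _
    rw [MulAction.Quotient.smul_mk, smul_eq_mul, mul_one]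
  · rintro ⟨x, hx, rfl⟩
    refine ⟨⟨x, hx⟩, ?_⟩
    show x • (((1 : G) : G ⧸ Y)) = _
    rw [MulAction.Quotient.smul_mk, smul_eq_mul, mul_one]

/-- the number of cosets `x Y` with `x ∈ X` is `[X : X ⊓ Y]`. -/
theorem unia5_card_cosets (X Y : Subgroup G) :
    Nat.card {c : G ⧸ Y // ∃ x ∈ X, c = ((x : G) : G ⧸ Y)} = Y.relIndex X := by
  rw [Subgroup.relIndex, ← unia5_stab, MulAction.index_stabilizer, ← Nat.card_coe_set_eq]
  apply Nat.card_congr
  exact Equiv.subtypeEquivRight (fun c => (unia5_mem_orbit X Y c).symm)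

/-- `g` fixes `x Y` iff `x⁻¹ g x ∈ Y`. -/
theorem unia5_fix_iff (Y : Subgroup G) (g x : G) :
    g • ((x : G) : G ⧸ Y) = ((x : G) : G ⧸ Y) ↔ x⁻¹ * g * x ∈ Y := by
  rw [MulAction.Quotient.smul_mk, QuotientGroup.eq, smul_eq_mul]
  have e : (g * x)⁻¹ * x = (x⁻¹ * g * x)⁻¹ := by group
  rw [e]
  exact inv_mem_iff

/-- A5: double counting -/
theorem sum_relFix [Fintype G] (X Y : Subgroup G) (hYX : Y ≤ X) (Q : G → Prop)
    (hQ : ∀ x ∈ X, ∀ g, Q g → Q (x * g * x⁻¹)) :
    sumOver X Q (fun g => (relFix X Y g : ℤ)) =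
      (Y.relIndex X : ℤ) * (Nat.card {g : G // g ∈ Y ∧ Q g} : ℤ) := by
  classical
  have : Fintype (G ⧸ Y) := Fintype.ofFinite _
  set C : Finset (G ⧸ Y) :=
    Finset.univ.filter (fun c => ∃ x ∈ X, c = ((x : G) : G ⧸ Y)) with hC
  have hCcard : C.card = Y.relIndex X := by
    rw [← unia5_card_cosets X Y, Nat.card_eq_fintype_card, Fintype.card_subtype]
  set N : Finset G := Finset.univ.filter (fun g => g ∈ Y ∧ Q g) with hN
  have hNcard : N.card = Nat.card {g : G // g ∈ Y ∧ Q g} := by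
    rw [Nat.card_eq_fintype_card, Fintype.card_subtype]
  set A : Finset G := Finset.univ.filter (fun g : G => g ∈ X ∧ Q g) with hA
  have hrel : ∀ g : G, relFix X Y g = (C.filter (fun c => g • c = c)).card := by
    intro g
    unfold relFix
    rw [Nat.card_eq_fintype_card, Fintype.card_subtype]
    congr 1
    ext c
    simp only [hC, Finset.mem_filter, Finset.mem_univ, true_and]
    exact and_comm
  have hfib : ∀ c ∈ C, (A.filter (fun g => g • c = c)).card = N.card := by
    intro c hc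
    rw [hC, Finset.mem_filter] at hc
    obtain ⟨-, x, hx, rfl⟩ := hc
    apply Finset.card_nbij' (fun g => x⁻¹ * g * x) (fun h => x * h * x⁻¹)
    · intro g hg
      simp only [hA, hN, Finset.coe_filter, Finset.mem_univ, true_and, Set.mem_ofPred_eq,
        Finset.mem_filter] at hg ⊢
      obtain ⟨⟨hgX, hgQ⟩, hfix⟩ := hg
      refine ⟨(unia5_fix_iff Y g x).1 hfix, ?_⟩
      have := hQ x⁻¹ (X.inv_mem hx) g hgQ
      rwa [inv_inv] at this
    · intro h hh
      simp only [hA, hN, Finset.coe_filter, Finset.mem_univ, true_and, Set.mem_ofPred_eq,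
        Finset.mem_filter] at hh ⊢
      obtain ⟨hhY, hhQ⟩ := hh
      refine ⟨⟨X.mul_mem (X.mul_mem hx (hYX hhY)) (X.inv_mem hx), hQ x hx h hhQ⟩, ?_⟩
      rw [unia5_fix_iff]
      have e : x⁻¹ * (x * h * x⁻¹) * x = h := by group
      rw [e]
      exact hhY
    · intro g _
      show x * (x⁻¹ * g * x) * x⁻¹ = g
      group
    · intro h _
      show x⁻¹ * (x * h * x⁻¹) * x = h
      group
  unfold sumOver
  calc ∑ g : G, (if g ∈ X ∧ Q g then (relFix X Y g : ℤ) else 0)
      = ∑ g ∈ A, (relFix X Y g : ℤ) := by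
        rw [hA, Finset.sum_filter]
    _ = ∑ g ∈ A, ∑ c ∈ C, (if g • c = c then (1 : ℤ) else 0) := by
        apply Finset.sum_congr rfl
        intro g _
        rw [hrel g, Finset.card_filter]
        push_cast
        rfl
    _ = ∑ c ∈ C, ∑ g ∈ A, (if g • c = c then (1 : ℤ) else 0) := Finset.sum_comm
    _ = ∑ c ∈ C, (N.card : ℤ) := by
        apply Finset.sum_congr rfl
        intro c hc
        rw [← hfib c hc, Finset.card_filter]
        push_cast
        rfl
    _ = (Y.relIndex X : ℤ) * (Nat.card {g : G // g ∈ Y ∧ Q g} : ℤ) := by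
        rw [Finset.sum_const, hCcard, hNcard, nsmul_eq_mul]

end Abstract

end Cfsg.Agent.Lib.Helper5.UNI
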