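import Mathlib
import Cfsg.Agent.Lib.Helper5.UNI.Defs
import Cfsg.Agent.Lib.Helper21.UNIA5

/-!
# UNI row A7 (`sum_tau`): the sum over the `p`-elements of a class function which on `B` is the
permutation character of `B` on `B ⧸ D`, when `D ⊓ U` is normal.
-/

set_option autoImplicit false

namespace Cfsg.Agent.Lib.Helper5.UNI

section Abstract

variable {G : Type*} [Group G]

/-- conjugation by an element of the normaliser (both directions). -/
theorem unia7_conj_mem (E : Subgroup G) (x : G) (hx : x ∈ Subgroup.normalizer (E : Set G)) (g : G) :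
    x * g * x⁻¹ ∈ E ↔ g ∈ E :=
  ((Subgroup.mem_normalizer_iff.1 hx) g).symm

/-- `x⁻¹ g x ∈ E ↔ g ∈ E` for `x` in the normaliser. -/
theorem unia7_conj_mem' (E : Subgroup G) (x : G) (hx : x ∈ Subgroup.normalizer (E : Set G)) (g : G) :
    x⁻¹ * g * x ∈ E ↔ g ∈ E := by
  have h := unia7_conj_mem E x⁻¹ (Subgroup.inv_mem _ hx) g
  rwa [inv_inv] at h

/-- on `D ⊓ U` (normalised by `B`) the permutation character of `B` on `B ⧸ D` is `[B : D]`. -/
theorem unia7_relFix_mem (B D E : Subgroup G) (hED : E ≤ D)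
    (hE : B ≤ Subgroup.normalizer (E : Set G)) (g : G) (hg : g ∈ E) :
    relFix B D g = D.relIndex B := by
  rw [← unia5_card_cosets B D]
  unfold relFix
  apply Nat.card_congr
  refine Equiv.subtypeEquivRight (fun c => ?_)
  constructor
  · exact fun h => h.2
  · rintro ⟨x, hx, rfl⟩
    refine ⟨?_, x, hx, rfl⟩
    rw [unia5_fix_iff]
    exact hED ((unia7_conj_mem' E x (hE hx) g).2 hg)

/-- off `D ⊓ U` the permutation character of `B` on `B ⧸ D` vanishes on `U`. -/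
theorem unia7_relFix_not_mem (B U D : Subgroup G)
    (hUn : B ≤ Subgroup.normalizer (U : Set G))
    (hE : B ≤ Subgroup.normalizer ((D ⊓ U : Subgroup G) : Set G)) (g : G) (hgU : g ∈ U)
    (hg : g ∉ D ⊓ U) : relFix B D g = 0 := by
  unfold relFix
  rw [Nat.card_eq_zero]
  left
  constructor
  rintro ⟨c, hfix, x, hx, rfl⟩
  rw [unia5_fix_iff] at hfix
  apply hg
  have hU : x⁻¹ * g * x ∈ U := (unia7_conj_mem' U x (hUn hx) g).2 hgU
  exact (unia7_conj_mem' (D ⊓ U) x (hE hx) g).1 ⟨hfix, hU⟩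

/-- A7 -/
theorem sum_tau [Fintype G] (p : ℕ) [Fact p.Prime] (X B U D : Subgroup G)
    (hBX : B ≤ X) (hUB : U ≤ B) (hDB : D ≤ B)
    (hUn : B ≤ Subgroup.normalizer (U : Set G))
    (hUp : ∀ u ∈ U, IsPElt p u)
    (hsyl : ∀ g ∈ X, IsPElt p g → ∃ x ∈ X, x * g * x⁻¹ ∈ U)
    (hE : X ≤ Subgroup.normalizer ((D ⊓ U : Subgroup G) : Set G))
    (hcard : D.relIndex B * Nat.card ↥(D ⊓ U) = Nat.card ↥U)
    (τ : G → ℤ) (hτc : ∀ x ∈ X, ∀ g ∈ X, τ (x * g * x⁻¹) = τ g)
    (hτB : ∀ b ∈ B, τ b = (relFix B D b : ℤ)) :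
    sumOver X (IsPElt p) τ = (Nat.card ↥U : ℤ) := by
  classical
  have hEB : B ≤ Subgroup.normalizer ((D ⊓ U : Subgroup G) : Set G) := hBX.trans hE
  have hpt : ∀ g : G, (if g ∈ X ∧ IsPElt p g then τ g else 0) =
      (if g ∈ D ⊓ U then (D.relIndex B : ℤ) else 0) := by
    intro g
    by_cases hgE : g ∈ D ⊓ U
    · have hgU : g ∈ U := hgE.2
      have hgX : g ∈ X := hBX (hUB hgU)
      rw [if_pos ⟨hgX, hUp g hgU⟩, if_pos hgE, hτB g (hUB hgU),
        unia7_relFix_mem B D (D ⊓ U) inf_le_left hEB g hgE]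
    · rw [if_neg hgE]
      by_cases hg : g ∈ X ∧ IsPElt p g
      · rw [if_pos hg]
        obtain ⟨x, hx, hxU⟩ := hsyl g hg.1 hg.2
        rw [← hτc x hx g hg.1, hτB _ (hUB hxU)]
        have hnot : x * g * x⁻¹ ∉ D ⊓ U := fun h =>
          hgE ((unia7_conj_mem (D ⊓ U) x (hE hx) g).1 h)
        rw [unia7_relFix_not_mem B U D hUn hEB _ hxU hnot]
        rfl
      · rw [if_neg hg]
  unfold sumOver
  have hsum : ∑ g : G, (if g ∈ X ∧ IsPElt p g then τ g else 0) =
      ∑ g : G, (if g ∈ D ⊓ U then (D.relIndex B : ℤ) else 0) :=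
    Finset.sum_congr rfl (fun g _ => hpt g)
  have hcardE : (Finset.univ.filter (fun g : G => g ∈ D ⊓ U)).card = Nat.card ↥(D ⊓ U) := by
    rw [Nat.card_eq_fintype_card, Fintype.card_subtype]
  calc ∑ g : G, (if g ∈ X ∧ IsPElt p g then τ g else 0)
      = ∑ g : G, (if g ∈ D ⊓ U then (D.relIndex B : ℤ) else 0) := by
        convert hsum using 2
    _ = (Nat.card ↥(D ⊓ U) : ℤ) * (D.relIndex B : ℤ) := by
        rw [← Finset.sum_filter, Finset.sum_const, hcardE, nsmul_eq_mul]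
    _ = (Nat.card ↥U : ℤ) := by
        rw [← hcard]
        push_cast
        ring

end Abstract

end Cfsg.Agent.Lib.Helper5.UNI
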