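import Mathlib
import Cfsg.Agent.Lib.helper6.CEB.Defs
import Cfsg.Agent.Lib.Helper24.STCI1
import Cfsg.Agent.Lib.Lead.STDB1
import Cfsg.Agent.Lib.helper6.STDW14
import Cfsg.Agent.Lib.helper6.STBB1

/-!
# Project CEB (designer helper6; family S2094), rows Z1 (`Zs_map Zs_eq Zs_cj`), Z2 (`Zs_add_left`), Z3 (`Ds_map Ds_add_left Ds_zero`) (helper21),
VERBATIM vs `helper6/CEB/Skel.lean.txt`.  Models: CEC L1 (`helper23.CECL1`), L2 / L3 (`Helper29.CECL2`).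
Extras: `cebz1_unpack`, `cebz2_CL_mul`, own-name copy of G3 `CL_sso_of_sys` (`cebz2_CL_sso`), `cebz2_CL_long_same`, `cebz2_CL_pair`.
-/

set_option autoImplicit false
set_option linter.unusedSectionVars false
set_option linter.unusedVariables false

namespace Cfsg.Agent.Lib.helper6.CEB

open Cfsg.Agent.Lib.helper15.St2 Cfsg.Agent.Lib.helper7.Ce Cfsg.Agent.Lib.helper3.STC Cfsg.Agent.Lib.Lead.STD
  Cfsg.Agent.Lib.helper7.CED Cfsg.Agent.Lib.Lead.STB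
open Cfsg.Agent.Lib.helper7.CEC (I2 I3 I4 U3)

universe v w w'

section Z

variable {K : Type*} [Field K] {ι : Type*} {Γ G : Type*} [Group Γ] [Group G] {S : SysB K ι G} {σ : Γ →* G}

/-- `ab a ≠ ab b` says that `a ≠ b` and `a ≠ ng b` -/
theorem cebz1_unpack {a b : ι ⊕ ι} (hab : ab a ≠ ab b) : a ≠ b ∧ a ≠ ng b := by
  constructor
  · intro e
    exact hab (ab_eq_iff.2 (Or.inl e))
  · intro e
    exact hab (ab_eq_iff.2 (Or.inr e))

/-- Z1 [S]  `map_cm`, `map_lf`, `S.ls` (`cm` unfolded). -/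
theorem Zs_map (h : IsCE σ) {a b : ι ⊕ ι} (hab : ab a ≠ ab b) (t u : K) :
    σ (Zs S h a b t u) = S.xs a (t * u) * S.x a (ng b) (t * u ^ 2) := by
  obtain ⟨h1, h2⟩ := cebz1_unpack hab
  unfold Zs
  rw [map_cm, map_lf, map_lf]
  exact S.ls a b h1 h2 t u

/-- Z1 [S]  `IsCE.cm_congr` (model CED `Ys_eq`). -/
theorem Zs_eq (h : IsCE σ) {a b : ι ⊕ ι} {t u : K} {p q : Γ} (hp : σ p = S.x a b t) (hq : σ q = S.xs b u) :
    cm p q = Zs S h a b t u := by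
  unfold Zs
  exact h.cm_congr (by rw [hp, map_lf]) (by rw [hq, map_lf])

/-- Z1 [S]  `cj_cm`, `Zs_eq`; `hg.1.2 a b hab t` for the long factor, the last component of `hg` for the short one. -/
theorem Zs_cj (h : IsCE σ) {g : G} {π : Equiv.Perm (ι ⊕ ι)} {d : ι ⊕ ι → K} {d0 : K} (hg : S.IsMon g π d d0) {e : Γ} (he : σ e = g)
    {a b : ι ⊕ ι} (hab : a ≠ b) (t u : K) :
    cj e (Zs S h a b t u) = Zs S h (π a) (π b) (d a * (d b)⁻¹ * t) (d b * d0 * u) := by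
  unfold Zs
  rw [cj_cm]
  refine Zs_eq h ?_ ?_
  · rw [map_cj, he, map_lf]
    exact hg.1.2 a b hab t
  · rw [map_cj, he, map_lf]
    exact hg.2.2.2.2 b u

/-- lifts of products commute when the four pairs of factors do -/
theorem cebz2_CL_mul (h : IsCE σ) {x₁ x₂ y₁ y₂ : G} (h11 : CL σ x₁ y₁) (h12 : CL σ x₁ y₂) (h21 : CL σ x₂ y₁)
    (h22 : CL σ x₂ y₂) : CL σ (x₁ * x₂) (y₁ * y₂) := by
  have hy1 : CL σ (x₁ * x₂) y₁ := h.CL_mul_left h11 h21
  have hy2 : CL σ (x₁ * x₂) y₂ := h.CL_mul_left h12 h22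
  exact (h.CL_mul_left hy1.symm hy2.symm).symm

/-- own-name copy of G3 `CL_sso_of_sys` -/
theorem cebz2_CL_sso (h : IsCE σ) (P : SysD K ι Γ) (hP : ∀ a b t, σ (P.x a b t) = S.x a b t) {a b : ι ⊕ ι} (hab : ab a ≠ ab b) (t u : K) :
    CL σ (S.x a b t) (S.x a (ng b) u) := by
  obtain ⟨h1, h2⟩ := cebz1_unpack hab
  refine h.CL_of_lift' (hP a b t) (hP a (ng b) u) ?_
  rw [P.stdw14_sym_r h1 h2 u]
  exact P.sso a b h1 h2 t (-u)

/-- lifts of two elements of the same long root subgroup commute (from a lift `P` of the long root part) -/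
theorem cebz2_CL_long_same (h : IsCE σ) (P : SysD K ι Γ) (hP : ∀ a b t, σ (P.x a b t) = S.x a b t) {a b : ι ⊕ ι}
    (hab : a ≠ b) (hab' : a ≠ ng b) (t u : K) : CL σ (S.x a b t) (S.x a b u) := by
  refine h.CL_of_lift' (hP a b t) (hP a b u) ?_
  rw [P.add a b hab hab', P.add a b hab hab', add_comm]

/-- products in the root subgroups `xs a`, `x a (ng b)`: lifts commute -/
theorem cebz2_CL_pair (h : IsCE σ) (hCs : HCs S σ) (hSs : HSs S σ) (P : SysD K ι Γ) (hP : ∀ a b t, σ (P.x a b t) = S.x a b t)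
    {a b : ι ⊕ ι} (hab : ab a ≠ ab b) (s₁ s₂ s₃ s₄ : K) :
    CL σ (S.xs a s₁ * S.x a (ng b) s₂) (S.xs a s₃ * S.x a (ng b) s₄) := by
  obtain ⟨h1, h2⟩ := cebz1_unpack hab
  have h3 : a ≠ ng (ng b) := by rw [ng_ng]; exact h1
  have h4 : ng b ≠ a := fun e => h2 e.symm
  have hsl : ∀ s s', CL σ (S.xs a s) (S.x a (ng b) s') := fun s s' => hCs a a (ng b) h2 h3 h4 (ne_ng a) s s'
  exact cebz2_CL_mul h (hSs a _ _) (hsl _ _) (hsl _ _).symm (cebz2_CL_long_same h P hP h2 h3 _ _)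

/-- Z2 [M]  model CEC L2 `Zl_add_left` (`Helper29.CECL2`). -/
theorem Zs_add_left (h : IsCE σ) (hCs : HCs S σ) (hSs : HSs S σ) (P : SysD K ι Γ) (hP : ∀ a b t, σ (P.x a b t) = S.x a b t)
    {a b : ι ⊕ ι} (hab : ab a ≠ ab b) (t t' u : K) :
    Zs S h a b (t + t') u = Zs S h a b t u * Zs S h a b t' u := by
  obtain ⟨h1, h2⟩ := cebz1_unpack hab
  have e1 : σ (lf h (S.x a b t) * lf h (S.x a b t')) = S.x a b (t + t') := by
    rw [map_mul, map_lf, map_lf, S.add a b h1 h2]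
  rw [← Zs_eq h e1 (map_lf h (S.xs b u)), cm_mul_left]
  have e2 : lf h (S.x a b t) * cm (lf h (S.x a b t')) (lf h (S.xs b u)) =
      cm (lf h (S.x a b t')) (lf h (S.xs b u)) * lf h (S.x a b t) := by
    have hcl : CL σ (S.x a b t) (S.xs a (t' * u) * S.x a (ng b) (t' * u ^ 2)) :=
      (h.CL_mul_left (hCs a a b h1 h2 h1.symm (ne_ng a) _ t) (cebz2_CL_sso h P hP hab t _).symm).symm
    exact hcl _ _ (map_lf h _) (Zs_map h hab t' u)
  rw [e2, mul_inv_cancel_right]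
  exact cebz2_CL_pair h hCs hSs P hP hab _ _ _ _ _ _ (Zs_map h hab t' u) (Zs_map h hab t u)

/-- Z3 [S]  `Zs_map`, `hP`, `map_mul`, `map_inv`. -/
theorem Ds_map (h : IsCE σ) (P : SysD K ι Γ) (hP : ∀ a b t, σ (P.x a b t) = S.x a b t) {a b : ι ⊕ ι} (hab : ab a ≠ ab b) (t u : K) :
    σ (Ds S h P a b t u) = S.xs a (t * u) := by
  unfold Ds
  rw [map_mul, map_inv, hP, Zs_map h hab, mul_inv_cancel_right]

/-- Z3 [M]  model CEC L3 `Dl_add_left`. -/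
theorem Ds_add_left (h : IsCE σ) (hCs : HCs S σ) (hSs : HSs S σ) (P : SysD K ι Γ) (hP : ∀ a b t, σ (P.x a b t) = S.x a b t)
    {a b : ι ⊕ ι} (hab : ab a ≠ ab b) (t t' u : K) :
    Ds S h P a b (t + t') u = Ds S h P a b t u * Ds S h P a b t' u := by
  obtain ⟨h1, h2⟩ := cebz1_unpack hab
  have h3 : a ≠ ng (ng b) := by rw [ng_ng]; exact h1
  unfold Ds
  rw [add_mul, ← P.add a (ng b) h2 h3, Zs_add_left h hCs hSs P hP hab, mul_inv_rev]
  have hX : ∀ s, σ (P.x a (ng b) s) = S.xs a 0 * S.x a (ng b) s := by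
    intro s
    rw [hP, S.xs_zero, one_mul]
  have c2 : P.x a (ng b) (t * u ^ 2) * Zs S h a b t' u = Zs S h a b t' u * P.x a (ng b) (t * u ^ 2) :=
    cebz2_CL_pair h hCs hSs P hP hab _ _ _ _ _ _ (hX _) (Zs_map h hab t' u)
  have c2' : (P.x a (ng b) (t * u ^ 2))⁻¹ * Zs S h a b t' u = Zs S h a b t' u * (P.x a (ng b) (t * u ^ 2))⁻¹ := by
    rw [eq_mul_inv_iff_mul_eq, mul_assoc, ← c2, ← mul_assoc, inv_mul_cancel, one_mul]
  calc Zs S h a b t u * Zs S h a b t' u * ((P.x a (ng b) (t' * u ^ 2))⁻¹ * (P.x a (ng b) (t * u ^ 2))⁻¹)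
      = Zs S h a b t u * (Zs S h a b t' u * (P.x a (ng b) (t * u ^ 2))⁻¹) * (P.x a (ng b) (t' * u ^ 2))⁻¹ := by
        have c1 : (P.x a (ng b) (t' * u ^ 2))⁻¹ * (P.x a (ng b) (t * u ^ 2))⁻¹ =
            (P.x a (ng b) (t * u ^ 2))⁻¹ * (P.x a (ng b) (t' * u ^ 2))⁻¹ := by
          rw [← mul_inv_rev, ← mul_inv_rev, P.add a (ng b) h2 h3, P.add a (ng b) h2 h3, add_comm]
        rw [c1]; group
    _ = Zs S h a b t u * (P.x a (ng b) (t * u ^ 2))⁻¹ * (Zs S h a b t' u * (P.x a (ng b) (t' * u ^ 2))⁻¹) := by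
        rw [← c2']; group

/-- Z3 [S-M]  `Ds a b 0 u = 1` from `Ds_add_left`; `Ds a b t 0 = 1`. -/
theorem Ds_zero (h : IsCE σ) (hCs : HCs S σ) (hSs : HSs S σ) (P : SysD K ι Γ) (hP : ∀ a b t, σ (P.x a b t) = S.x a b t)
    {a b : ι ⊕ ι} (hab : ab a ≠ ab b) (t u : K) :
    Ds S h P a b 0 u = 1 ∧ Ds S h P a b t 0 = 1 := by
  constructor
  · have := Ds_add_left h hCs hSs P hP hab 0 0 u
    rw [add_zero] at this
    exact mul_eq_left.1 this.symm
  · unfold Ds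
    have hz : σ (lf h (S.xs b 0)) = 1 := by rw [map_lf, S.xs_zero]
    have hZ : Zs S h a b t 0 = 1 := by
      unfold Zs
      rw [cm_eq_one_iff]
      exact (h.comm_of_map_one hz _).symm
    have e0 : t * (0 : K) ^ 2 = 0 := by ring
    rw [hZ, e0, P.x_zero, inv_one, mul_one]

end Z

end Cfsg.Agent.Lib.helper6.CEB
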