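import Mathlib
import Cfsg.Agent.Lib.helper17.CEM.Defs
import Cfsg.Agent.Lib.Helper24.STCI1

/-!
# Project CEM (designer helper17; family S2099), rows E1 (`LongLift.eqv`), E2 (`HSO_of_lift`), S2 (`Ds_map`, `Ds_cj`) (helper21), VERBATIM vs `helper17/CEM/Skel.lean.txt`.
Model of E1: CEB G4 `sys_eqv` / the `eqv` field of CED Y10.  Own-name copies: `ceme1_ab_perm_ne` (G1 `ab_perm_ne`), `ceme1_unpack`, `cems2_Zs_map`, `cems2_Zs_eq`, `cems2_Zs_cj` (S1).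
-/

set_option autoImplicit false
set_option linter.unusedSectionVars false
set_option linter.unusedVariables false

namespace Cfsg.Agent.Lib.helper17.CEM

open Cfsg.Agent.Lib.helper15.St2 Cfsg.Agent.Lib.helper7.Ce Cfsg.Agent.Lib.helper3.STC Cfsg.Agent.Lib.Lead.STD
  Cfsg.Agent.Lib.helper7.CEC Cfsg.Agent.Lib.helper7.CED Cfsg.Agent.Lib.helper17.STM

/-- `ab a ≠ ab b` says that `a ≠ b` and `a ≠ ng b` -/
theorem ceme1_unpack {ι : Type*} {a b : ι ⊕ ι} (hab : ab a ≠ ab b) : a ≠ b ∧ a ≠ ng b := by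
  constructor
  · intro e
    exact hab (ab_eq_iff.2 (Or.inl e))
  · intro e
    exact hab (ab_eq_iff.2 (Or.inr e))

/-- own-name copy of G1 `ab_perm_ne` -/
theorem ceme1_ab_perm_ne {ι : Type*} {π : Equiv.Perm (ι ⊕ ι)} (hπ : ∀ k, π (ng k) = ng (π k)) {a b : ι ⊕ ι} (hab : ab a ≠ ab b) :
    ab (π a) ≠ ab (π b) := by
  intro e
  rcases ab_eq_iff.1 e with e1 | e1
  · exact hab (ab_eq_iff.2 (Or.inl (π.injective e1)))
  · rw [← hπ b] at e1
    exact hab (ab_eq_iff.2 (Or.inr (π.injective e1)))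

section E

variable {F : Type*} [Field F] {A B : F} [Fact (∀ r : F, r ^ 2 ≠ -B + A * r)] {ι : Type*} {Γ G : Type*} [Group Γ] [Group G]
  {S : SysM F A B ι G} {σ : Γ →* G}

/-- E1 [M]  **every lifted long root system is equivariant.** -/
theorem LongLift.eqv (L : LongLift S σ) (h : IsCE σ) (h3 : I3 ι) {g : G} {π : Equiv.Perm (ι ⊕ ι)} {d : ι ⊕ ι → F} (hg : S.toSysD.IsMon g π d)
    (hπ : ∀ k, π (ng k) = ng (π k)) {e : Γ} (he : σ e = g) {a b : ι ⊕ ι} (hab : ab a ≠ ab b) (t : F) :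
    cj e (L.P.x a b t) = L.P.x (π a) (π b) (d a * (d b)⁻¹ * t) := by
  obtain ⟨c, hca, hcb⟩ := h3 a b
  obtain ⟨h1, h2⟩ := ceme1_unpack hab
  obtain ⟨h3', h4⟩ := ceme1_unpack hca.symm
  obtain ⟨h5, h6⟩ := ceme1_unpack hcb
  obtain ⟨k1, k2⟩ := ceme1_unpack (ceme1_ab_perm_ne hπ hab)
  obtain ⟨k3, k4⟩ := ceme1_unpack (ceme1_ab_perm_ne hπ hca.symm)
  obtain ⟨k5, k6⟩ := ceme1_unpack (ceme1_ab_perm_ne hπ hcb)
  have hdc : d c ≠ 0 := hg.1 c
  have e1 : L.P.x a b t = cm (L.P.x a c t) (L.P.x c b 1) := by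
    unfold cm
    rw [L.P.comm3 a c b h3' h4 h5 h6 h1 h2 t 1, mul_one]
  have e2 : L.P.x (π a) (π b) (d a * (d b)⁻¹ * t) =
      cm (L.P.x (π a) (π c) (d a * (d c)⁻¹ * t)) (L.P.x (π c) (π b) (d c * (d b)⁻¹ * 1)) := by
    unfold cm
    rw [L.P.comm3 (π a) (π c) (π b) k3 k4 k5 k6 k1 k2]
    congr 1
    field_simp
  rw [e1, cj_cm, e2]
  apply h.cm_congr
  · rw [map_cj, he, L.map, L.map]
    exact hg.2 a c h3' t
  · rw [map_cj, he, L.map, L.map]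
    exact hg.2 c b h5 1

/-- E2 [S]  `L.P.sso a b _ _ t u` and `h.CL_of_lift' (L.map _ _ _) (L.map _ _ _)`. -/
theorem HSO_of_lift (L : LongLift S σ) (h : IsCE σ) : HSO S σ := by
  intro a b hab t u
  obtain ⟨h1, h2⟩ := ceme1_unpack hab
  exact h.CL_of_lift' (L.map a b t) (L.map b (ng a) u) (L.P.sso a b h1 h2 t u)

end E

section S

variable {F : Type*} [Field F] [Finite F] {A B : F} [Fact (∀ r : F, r ^ 2 ≠ -B + A * r)] {ι : Type*} {Γ G : Type*} [Group Γ] [Group G]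
  {S : SysM F A B ι G} {σ : Γ →* G}

omit [Finite F] in
/-- own-name copy of S1 `Zs_map` -/
theorem cems2_Zs_map (h : IsCE σ) {a b : ι ⊕ ι} (hab : ab a ≠ ab b) (t : F) (u : Kq F A B) :
    σ (Zs S h a b t u) = S.xs a (t • u) * S.x a (ng b) (t * nm u) := by
  obtain ⟨h1, h2⟩ := ceme1_unpack hab
  unfold Zs
  rw [map_cm, map_lf, map_lf]
  exact S.ls a b h1 h2 t u

omit [Finite F] in
/-- own-name copy of S1 `Zs_eq` -/
theorem cems2_Zs_eq (h : IsCE σ) {a b : ι ⊕ ι} {t : F} {u : Kq F A B} {p q : Γ} (hp : σ p = S.x a b t) (hq : σ q = S.xs b u) :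
    cm p q = Zs S h a b t u := by
  unfold Zs
  exact h.cm_congr (by rw [hp, map_lf]) (by rw [hq, map_lf])

omit [Finite F] in
/-- own-name copy of S1 `Zs_cj` -/
theorem cems2_Zs_cj (h : IsCE σ) {g : G} {π : Equiv.Perm (ι ⊕ ι)} {d : ι ⊕ ι → F} {c0 : Kq F A B} {ε : Bool} (hg : S.IsMon g π d c0 ε) {e : Γ} (he : σ e = g)
    {a b : ι ⊕ ι} (hab : a ≠ b) (t : F) (u : Kq F A B) :
    cj e (Zs S h a b t u) = Zs S h (π a) (π b) (d a * (d b)⁻¹ * t) (d b • (c0 * tw ε u)) := by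
  unfold Zs
  rw [cj_cm]
  refine cems2_Zs_eq h ?_ ?_
  · rw [map_cj, he, map_lf]
    exact hg.1.2 a b hab t
  · rw [map_cj, he, map_lf]
    exact hg.2.2.2.2 b u

omit [Finite F] in
/-- S2 [S]  `Zs_map`, `L.map`, `mul_inv_cancel_right`. -/
theorem Ds_map (h : IsCE σ) (L : LongLift S σ) {a b : ι ⊕ ι} (hab : ab a ≠ ab b) (t : F) (u : Kq F A B) : σ (Ds S h L a b t u) = S.xs a (t • u) := by
  unfold Ds
  rw [map_mul, map_inv, L.map, cems2_Zs_map h hab, mul_inv_cancel_right]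

omit [Finite F] in
/-- S2 [M]  `Zs_cj` and E1 `L.eqv` for `L.P.x a (ng b) (t * nm u)`. -/
theorem Ds_cj (h : IsCE σ) (L : LongLift S σ) (h3 : I3 ι) {g : G} {π : Equiv.Perm (ι ⊕ ι)} {d : ι ⊕ ι → F} {c0 : Kq F A B} {ε : Bool} (hg : S.IsMon g π d c0 ε)
    {e : Γ} (he : σ e = g) {a b : ι ⊕ ι} (hab : ab a ≠ ab b) (t : F) (u : Kq F A B) :
    cj e (Ds S h L a b t u) = Ds S h L (π a) (π b) (d a * (d b)⁻¹ * t) (d b • (c0 * tw ε u)) := by
  obtain ⟨h1, h2⟩ := ceme1_unpack hab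
  have habn : ab a ≠ ab (ng b) := by rw [ab_ng]; exact hab
  have hdb : d b ≠ 0 := hg.1.1 b
  have hdd : (d (ng b))⁻¹ = d b := by
    have := hg.2.2.1 b
    exact (eq_inv_of_mul_eq_one_left this).symm
  unfold Ds
  rw [cj_mul, cj_inv, cems2_Zs_cj h hg he h1, L.eqv h h3 hg.1 hg.2.1 he habn, hg.2.1 b, hdd]
  congr 3
  rw [nm_smul, nm_mul, nm_tw, hg.2.2.2.1, one_mul]
  field_simp

end S

end Cfsg.Agent.Lib.helper17.CEM
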