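import Mathlib
import Cfsg.Prelude.Def_AxialAlgebras
import Cfsg.Agent.Lib.Helper24.SAK.Defs

set_option autoImplicit false

namespace Cfsg.Agent.Lib.Helper24.SAK

open Cfsg.Axial

variable {V : Type*} [AddCommGroup V] [Module ℝ V]

theorem saka10_mul_ab {mul : V →ₗ[ℝ] V →ₗ[ℝ] V} {a b b0 b4 b32 : V} {l : ℝ}
    (haa : mul a a = a) (h0 : mul a b0 = 0) (h4 : mul a b4 = (1 / 4 : ℝ) • b4)
    (h32 : mul a b32 = (1 / 32 : ℝ) • b32) (hb : b = l • a + b0 + b4 + b32) :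
    mul a b = l • a + (1 / 4 : ℝ) • b4 + (1 / 32 : ℝ) • b32 := by
  rw [hb]
  simp only [map_add, map_smul, haa, h0, h4, h32]
  module

theorem saka10_sg {mul : V →ₗ[ℝ] V →ₗ[ℝ] V} {a b b0 b4 b32 : V} {l : ℝ}
    (haa : mul a a = a) (h0 : mul a b0 = 0) (h4 : mul a b4 = (1 / 4 : ℝ) • b4)
    (h32 : mul a b32 = (1 / 32 : ℝ) • b32) (hb : b = l • a + b0 + b4 + b32) :
    sg mul a b = ((31 / 32 : ℝ) * l - 1 / 32) • a - (1 / 32 : ℝ) • b0 + (7 / 32 : ℝ) • b4 := by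
  unfold sg
  rw [saka10_mul_ab haa h0 h4 h32 hb, hb]
  module

theorem saka10_u0 {mul : V →ₗ[ℝ] V →ₗ[ℝ] V} {B : LinearMap.BilinForm ℝ V} {μ : V ≃ₗ[ℝ] V}
    {a b b0 b4 b32 : V}
    (haa : mul a a = a) (h0 : mul a b0 = 0) (h4 : mul a b4 = (1 / 4 : ℝ) • b4)
    (h32 : mul a b32 = (1 / 32 : ℝ) • b32) (hb : b = B a b • a + b0 + b4 + b32)
    (hμ : μ b = B a b • a + b0 + b4 - b32) : u0 mul B μ a b = b0 := by
  unfold u0
  rw [saka10_sg haa h0 h4 h32 hb, hμ]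
  generalize B a b = l at hb ⊢
  rw [hb]
  module

theorem saka10_u4 {mul : V →ₗ[ℝ] V →ₗ[ℝ] V} {B : LinearMap.BilinForm ℝ V} {μ : V ≃ₗ[ℝ] V}
    {a b b0 b4 b32 : V}
    (haa : mul a a = a) (h0 : mul a b0 = 0) (h4 : mul a b4 = (1 / 4 : ℝ) • b4)
    (h32 : mul a b32 = (1 / 32 : ℝ) • b32) (hb : b = B a b • a + b0 + b4 + b32)
    (hμ : μ b = B a b • a + b0 + b4 - b32) : u4 mul B μ a b = b4 := by
  unfold u4
  rw [saka10_sg haa h0 h4 h32 hb, hμ]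
  generalize B a b = l at hb ⊢
  rw [hb]
  module

theorem saka10_core {mul : V →ₗ[ℝ] V →ₗ[ℝ] V} {B : LinearMap.BilinForm ℝ V} {μ : V ≃ₗ[ℝ] V}
    {a : V} (h : IsMajoranaPair mul B μ a) (b : V)
    (hA5 : ∃ b0 b4 b32 : V, mul a b0 = 0 ∧ mul a b4 = (1 / 4 : ℝ) • b4 ∧
      mul a b32 = (1 / 32 : ℝ) • b32 ∧
      b = B a b • a + b0 + b4 + b32 ∧ μ b = B a b • a + b0 + b4 - b32) :
    ∃ b32 : V, mul a (u0 mul B μ a b) = 0 ∧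
      mul a (u4 mul B μ a b) = (1 / 4 : ℝ) • u4 mul B μ a b ∧
      mul a b32 = (1 / 32 : ℝ) • b32 ∧ b = B a b • a + u0 mul B μ a b + u4 mul B μ a b + b32 ∧
      μ b = B a b • a + u0 mul B μ a b + u4 mul B μ a b - b32 := by
  obtain ⟨b0, b4, b32, h0, h4, h32, hb, hμ⟩ := hA5
  have haa : mul a a = a := h.2.2.1.1.2.1
  have hu0 := saka10_u0 haa h0 h4 h32 hb hμ
  have hu4 := saka10_u4 haa h0 h4 h32 hb hμ
  refine ⟨b32, ?_, ?_, h32, ?_, ?_⟩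
  · rw [hu0]; exact h0
  · rw [hu4]; exact h4
  · rw [hu0, hu4]; exact hb
  · rw [hu0, hu4]; exact hμ

theorem saka12_core {mul : V →ₗ[ℝ] V →ₗ[ℝ] V} {B : LinearMap.BilinForm ℝ V} {μ : V ≃ₗ[ℝ] V}
    {a : V} (h : IsMajoranaPair mul B μ a) (b : V)
    (hA5 : ∃ b0 b4 b32 : V, mul a b0 = 0 ∧ mul a b4 = (1 / 4 : ℝ) • b4 ∧
      mul a b32 = (1 / 32 : ℝ) • b32 ∧
      b = B a b • a + b0 + b4 + b32 ∧ μ b = B a b • a + b0 + b4 - b32) :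
    mul a (sg mul a b) = (7 / 32 : ℝ) • sg mul a b + ((3 / 4 : ℝ) * B a b - 25 / 1024) • a +
      (7 / 2048 : ℝ) • (b + μ b) := by
  obtain ⟨b0, b4, b32, h0, h4, h32, hb, hμ⟩ := hA5
  have haa : mul a a = a := h.2.2.1.1.2.1
  rw [saka10_sg haa h0 h4 h32 hb, hμ]
  generalize B a b = l at hb ⊢
  rw [hb]
  simp only [map_add, map_sub, map_smul, haa, h0, h4]
  module

end Cfsg.Agent.Lib.Helper24.SAK
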