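import Mathlib
import Cfsg.Prelude.Def_AxialAlgebras
import Cfsg.Agent.Lib.Helper24.SAK.Defs
import Cfsg.Agent.Lib.Helper22.SAKA5
import Cfsg.Agent.Lib.Helper21.SAKA10core

set_option autoImplicit false

namespace Cfsg.Agent.Lib.Helper24.SAK

open Cfsg.Axial

variable {V : Type*} [AddCommGroup V] [Module ℝ V]

theorem sg_decomp {mul : V →ₗ[ℝ] V →ₗ[ℝ] V} {B : LinearMap.BilinForm ℝ V} {μ : V ≃ₗ[ℝ] V} {a : V}
    (hV : IsMajoranaAmbient mul B) (h : IsMajoranaPair mul B μ a) (hn : B a a = 1) (b : V) :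
    ∃ b32 : V, mul a (u0 mul B μ a b) = 0 ∧ mul a (u4 mul B μ a b) = (1 / 4 : ℝ) • u4 mul B μ a b ∧
      mul a b32 = (1 / 32 : ℝ) • b32 ∧ b = B a b • a + u0 mul B μ a b + u4 mul B μ a b + b32 ∧
      μ b = B a b • a + u0 mul B μ a b + u4 mul B μ a b - b32 :=
  saka10_core h b (decomp4 hV h hn b)

theorem sg_mul {mul : V →ₗ[ℝ] V →ₗ[ℝ] V} {B : LinearMap.BilinForm ℝ V} {μ : V ≃ₗ[ℝ] V} {a : V}
    (hV : IsMajoranaAmbient mul B) (h : IsMajoranaPair mul B μ a) (hn : B a a = 1) (b : V) :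
    mul a (sg mul a b) = (7 / 32 : ℝ) • sg mul a b + ((3 / 4 : ℝ) * B a b - 25 / 1024) • a +
      (7 / 2048 : ℝ) • (b + μ b) :=
  saka12_core h b (decomp4 hV h hn b)

end Cfsg.Agent.Lib.Helper24.SAK
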