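import Cfsg.Agent.Lib.helper7.SAP.Defs
import Cfsg.Agent.Lib.Helper29.SAPBASE1

/-!
# Project SAP (helper7, S2284 + S2297), row BASE3 (`base_carRel`): the CORE.
Hypothesis `hB2` = the statement of BASE2 (`zo_conj_β`) at `D`.
-/

set_option autoImplicit false

namespace Cfsg.Agent.Lib.helper7.SAP

open Equiv

universe u

section base
variable {p : ℕ} {G : Type u} [Group G]

/-- `(x y)^2 = 1 → (y x)^2 = 1` -/
theorem sapbase3_symm (x y : G) (h : (x * y) ^ 2 = 1) : (y * x) ^ 2 = 1 := by
  have : (y * x) ^ 2 = x⁻¹ * (x * y) ^ 2 * x := by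
    rw [pow_two, pow_two]; group
  rw [this, h]; group

/-- conjugation invariance of `(x y)^2 = 1` -/
theorem sapbase3_conj (g x y : G) : ((g * x * g⁻¹) * (g * y * g⁻¹)) ^ 2 = 1 ↔ (x * y) ^ 2 = 1 := by
  have : ((g * x * g⁻¹) * (g * y * g⁻¹)) ^ 2 = g * (x * y) ^ 2 * g⁻¹ := by
    rw [pow_two, pow_two]; group
  rw [this]
  constructor
  · intro h
    have h2 : (x * y) ^ 2 = g⁻¹ * (g * (x * y) ^ 2 * g⁻¹) * g := by group
    rw [h2, h]; group
  · intro h
    rw [h]; group

/-- the core of BASE3 -/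
theorem sapbase3_core [Fact p.Prime] (D : BaseHyp p G)
    (hB2 : ∀ x : ZMod p, D.β * zo D.a D.z x * D.β⁻¹ = (zo D.a D.z ((D.r : ZMod p) * x))⁻¹) :
    CarRel (zo D.a D.z : ZMod p → G) := by
  have hne : NeZero p := ⟨(Fact.out : p.Prime).ne_zero⟩
  have hp1 : Fact (1 < p) := ⟨(Fact.out : p.Prime).one_lt⟩
  refine ⟨?_, ?_⟩
  · intro x
    unfold zo
    have : (D.a ^ x.val * D.z * (D.a ^ x.val)⁻¹) ^ 3 = D.a ^ x.val * D.z ^ 3 * (D.a ^ x.val)⁻¹ := by
      rw [pow_succ, pow_two, pow_succ, pow_two]; group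
    rw [this, D.hz]; group
  · -- the set `S` of good pairs
    let S : ZMod p → ZMod p → Prop := fun x y => (zo D.a D.z x * zo D.a D.z y) ^ 2 = 1
    -- translation
    have htr : ∀ x y, S x y → S (x + 1) (y + 1) := by
      intro x y h
      show (zo D.a D.z (x + 1) * zo D.a D.z (y + 1)) ^ 2 = 1
      rw [← zo_conj_a D.a D.z D.ha x, ← zo_conj_a D.a D.z D.ha y, sapbase3_conj]
      exact h
    have htrn : ∀ (n : ℕ) x y, S x y → S (x + (n : ZMod p)) (y + (n : ZMod p)) := by
      intro n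
      induction n with
      | zero => intro x y h; simpa using h
      | succ n ih =>
        intro x y h
        have := htr _ _ (ih x y h)
        rw [Nat.cast_succ, ← add_assoc, ← add_assoc]
        exact this
    -- multiplication by `r`
    have hmul : ∀ x y, S x y → S ((D.r : ZMod p) * x) ((D.r : ZMod p) * y) := by
      intro x y h
      show (zo D.a D.z ((D.r : ZMod p) * x) * zo D.a D.z ((D.r : ZMod p) * y)) ^ 2 = 1
      have h1 : ((D.β * zo D.a D.z x * D.β⁻¹) * (D.β * zo D.a D.z y * D.β⁻¹)) ^ 2 = 1 :=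
        (sapbase3_conj D.β _ _).2 h
      rw [hB2 x, hB2 y, ← mul_inv_rev, inv_pow, inv_eq_one] at h1
      exact sapbase3_symm _ _ h1
    -- `(0, 1) ∈ S`
    have h01 : S 0 1 := by
      show (zo D.a D.z 0 * zo D.a D.z 1) ^ 2 = 1
      rw [zo_zero, ← zero_add (1 : ZMod p), ← zo_conj_a D.a D.z D.ha 0, zo_zero]
      exact D.hzz
    -- `(0, r^n) ∈ S`
    have hpow : ∀ n : ℕ, S 0 (((D.r ^ n : (ZMod p)ˣ) : ZMod p)) := by
      intro n
      induction n with
      | zero => simpa using h01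
      | succ n ih =>
        have := hmul _ _ ih
        rw [mul_zero] at this
        rw [pow_succ', Units.val_mul]
        exact this
    -- `(0, u) ∈ S` for every unit
    have hunit : ∀ u : (ZMod p)ˣ, S 0 (u : ZMod p) := by
      intro u
      have hu := D.hr u
      rw [← mem_powers_iff_mem_zpowers] at hu
      obtain ⟨n, rfl⟩ := hu
      exact hpow n
    intro x y hxy
    have hd : y - x ≠ 0 := sub_ne_zero.2 (Ne.symm hxy)
    have := htrn x.val 0 (y - x) (hunit (Units.mk0 (y - x) hd))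
    rw [ZMod.natCast_zmod_val, zero_add] at this
    rw [sub_add_cancel] at this
    exact this

end base

end Cfsg.Agent.Lib.helper7.SAP
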