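import Cfsg.Agent.Lib.helper7.SAP.Defs
import Cfsg.Agent.Lib.Helper29.SAPBASE2
import Cfsg.Agent.Lib.Helper21.SAPBASE3core

/-!
# Project SAP (helper7, S2284 + S2297), row BASE3 (`base_carRel`), VERBATIM.
-/

set_option autoImplicit false

namespace Cfsg.Agent.Lib.helper7.SAP

open Equiv

universe u

section base
variable {p : ℕ} {G : Type u} [Group G]

/-- BASE3 [M]: Carmichael's relations for the `z_x` (orbit argument, see header). -/
theorem base_carRel [Fact p.Prime] (D : BaseHyp p G) : CarRel (zo D.a D.z : ZMod p → G) :=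
  sapbase3_core D (fun x => zo_conj_β D x)

end base

end Cfsg.Agent.Lib.helper7.SAP
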