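import Mathlib
import Cfsg.Agent.Lib.helper15.St2
import Cfsg.Agent.Lib.helper7.StA
import Cfsg.Agent.Lib.helper7.StC
import Cfsg.Agent.Lib.helper7.StE
import Cfsg.Agent.Lib.helper3.STC.Defs
import Cfsg.Agent.Lib.helper3.STC.Defs2
import Cfsg.Agent.Lib.helper3.STC.Defs3
import Cfsg.Agent.Lib.Helper24.STCI1
import Cfsg.Agent.Lib.Helper24.STCB1
import Cfsg.Agent.Lib.Helper24.STCW13
import Cfsg.Agent.Lib.helper23.STCX2
import Cfsg.Agent.Lib.helper2.STCX3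
import Cfsg.Agent.Lib.Helper26.STCN1
import Cfsg.Agent.Lib.helper2.STCN3

/-!
# Project STC (helper3, S2292), row F12 (`ww_gen`), VERBATIM (helper21)

Own-name copies of the F2 facts (`stcf12_NP_mul`, `stcf12_NP_h`, `stcf12_NP_w`) are proved here from the landed rows
N1, N3, X2, X3, so that the row waits for nothing.
-/

set_option autoImplicit false

namespace Cfsg.Agent.Lib.helper3.STC

open Cfsg.Agent.Lib.helper15.St2 Cfsg.Agent.Lib.helper7.St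

namespace SysC

variable {K : Type*} [Field K] {ι : Type*} {G : Type*} [Group G] (S : SysC K ι G)

section F
variable [DecidableEq ι] (o : ι ⊕ ι)

/-- own copy of F2 `NP_mul` -/
theorem stcf12_NP_mul {n n' : G} (h : S.NP o n) (h' : S.NP o n') : S.NP o (n * n') := by
  refine ⟨(S.Phat o).mul_mem h.1 h'.1, fun y hy => ?_⟩
  rw [← cj_cj]
  exact h.2 _ (h'.2 y hy)

/-- own copy of F2 `NP_h` -/
theorem stcf12_NP_h (hH : S.HH) {b : ι ⊕ ι} (hb : b ≠ o) {t : K} (ht : t ≠ 0) : S.NP o (S.h o b t) := by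
  refine ⟨SysC.h_mem_Phat S o hb ht, ?_⟩
  exact SysC.IsMon.cj_mem_Yg S o (hH o b hb.symm t ht) rfl

/-- own copy of F2 `NP_w` -/
theorem stcf12_NP_w (hW : S.HW) {a b : ι ⊕ ι} (hab : a ≠ b) (ha : a ≠ o) (ha' : a ≠ ng o) (hb : b ≠ o)
    (hb' : b ≠ ng o) {u : K} (hu : u ≠ 0) : S.NP o (S.w a b u) := by
  refine ⟨SysC.Pg_le_Phat S o (SysC.Lg_le_Pg S o (SysC.w_mem_Lg S o hab ha ha' hb hb' u)), ?_⟩
  apply SysC.IsMon.cj_mem_Yg S o (hW a b hab u hu)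
  apply wpm_of_ne ha.symm hb.symm
  · intro h; apply ha'; rw [h, ng_ng]
  · intro h; apply hb'; rw [h, ng_ng]

/-- F12 [M]  generic case (model: the end of `Sys.lemB`): `n = w j k c`, `c ≠ 0`, from `IsMon.cj_w` for `w o j (-1) = (w o j 1)⁻¹` (`hW.short`; its permutation maps `o ↦ j`, `k ↦ k`);
`NP_w`. -/
theorem ww_gen (hW : S.HW) {k j : ι ⊕ ι} (hk : k ≠ o) (hk' : k ≠ ng o) (hj : j ≠ o) (hj' : j ≠ ng o) (hkj : k ≠ j) (hkj' : k ≠ ng j) :
    ∃ n, S.NP o n ∧ S.w o k 1 * S.w o j 1 = S.w o j 1 * n := by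
  have hg := hW o j hj.symm (-1) (neg_ne_zero.mpr one_ne_zero)
  have h1 := SysC.IsMon.cj_w S hg (a := o) (b := k) hk.symm 1 one_ne_zero
  rw [wpm_left hj.symm, wpm_of_ne hk hkj hk' hkj'] at h1
  have hc0 : dwc o j (-1 : K) o * (dwc o j (-1 : K) k)⁻¹ * 1 ≠ 0 := by
    apply mul_ne_zero (mul_ne_zero ?_ (inv_ne_zero ?_)) one_ne_zero
    · exact SysC.dwc_ne_zero (-1) (neg_ne_zero.mpr one_ne_zero) o
    · exact SysC.dwc_ne_zero (-1) (neg_ne_zero.mpr one_ne_zero) k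
  refine ⟨_, stcf12_NP_w S o hW hkj.symm hj hj' hk hk' hc0, ?_⟩
  rw [← h1, SysC.w_neg, cj]
  group

end F

end SysC

end Cfsg.Agent.Lib.helper3.STC
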