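import Mathlib
import Cfsg.Agent.Lib.helper23.STCH1
import Cfsg.Agent.Lib.Helper21.STCF12

/-!
# Project STC (helper3, S2292), row F14 (`ww_jlong`), VERBATIM (helper21)
-/

set_option autoImplicit false

namespace Cfsg.Agent.Lib.helper3.STC

open Cfsg.Agent.Lib.helper15.St2 Cfsg.Agent.Lib.helper7.St

namespace SysC

variable {K : Type*} [Field K] {ι : Type*} {G : Type*} [Group G] (S : SysC K ι G)

section F
variable [DecidableEq ι] (o : ι ⊕ ι)

/-- F14 [M]  `j = ng o`: `w o k 1 * w o (ng o) 1 = w k (ng k) c * w o k 1` (`IsMon.cj_w` for `w o k 1`: `o ↦ k`, `ng o ↦ ng k`) `= w o (ng k) c' * w k (ng k) c`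
(`IsMon.cj_w` for the long Weyl element `w k (ng k) c`: `o ↦ o`, `k ↦ ng k`) `= w o (ng k) 1 * (h o (ng k) c'⁻¹ * w k (ng k) c)` (`w_eq_w_one_mul_h`). -/
theorem ww_jlong [Finite K] (hW : S.HW) (hH : S.HH) {k : ι ⊕ ι} (hk : k ≠ o) (hk' : k ≠ ng o) :
    ∃ n, S.NP o n ∧ S.w o k 1 * S.w o (ng o) 1 = S.w o (ng k) 1 * n := by
  have hnk : ng k ≠ o := by
    intro h; apply hk'; rw [← h, ng_ng]
  have hnk' : ng k ≠ ng o := by
    intro h; exact hk (ng_inj.mp h)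
  -- step 1
  have hg1 := hW o k hk.symm 1 one_ne_zero
  have h1 := SysC.IsMon.cj_w S hg1 (a := o) (b := ng o) (ne_ng o) 1 one_ne_zero
  rw [wpm_ng hk.symm, wpm_left hk.symm] at h1
  have hc0 : dwc o k (1 : K) o * (dwc o k (1 : K) (ng o))⁻¹ * 1 ≠ 0 := by
    apply mul_ne_zero (mul_ne_zero ?_ (inv_ne_zero ?_)) one_ne_zero
    · exact SysC.dwc_ne_zero 1 one_ne_zero o
    · exact SysC.dwc_ne_zero 1 one_ne_zero (ng o)
  generalize dwc o k (1 : K) o * (dwc o k (1 : K) (ng o))⁻¹ * 1 = c at h1 hc0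
  -- step 2
  have hg2 := hW k (ng k) (ne_ng k) c hc0
  have h2 := SysC.IsMon.cj_w S hg2 (a := o) (b := k) hk.symm 1 one_ne_zero
  have ho : wpm k (ng k) o = o := by
    apply wpm_of_ne hk.symm hnk.symm hnk.symm
    rw [ng_ng]; exact hk.symm
  rw [ho, wpm_left (ne_ng k)] at h2
  have hc0' : dwc k (ng k) c o * (dwc k (ng k) c k)⁻¹ * 1 ≠ 0 := by
    apply mul_ne_zero (mul_ne_zero ?_ (inv_ne_zero ?_)) one_ne_zero
    · exact SysC.dwc_ne_zero c hc0 o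
    · exact SysC.dwc_ne_zero c hc0 k
  generalize dwc k (ng k) c o * (dwc k (ng k) c k)⁻¹ * 1 = c' at h2 hc0'
  -- step 3
  have h3 := SysC.w_eq_w_one_mul_h S hnk.symm c' hc0'
  refine ⟨S.h o (ng k) c'⁻¹ * S.w k (ng k) c,
    stcf12_NP_mul S o (stcf12_NP_h S o hH hnk (inv_ne_zero hc0'))
      (stcf12_NP_w S o hW (ne_ng k) hk hk' hnk hnk' hc0), ?_⟩
  rw [← mul_assoc, ← h3, ← h2, mul_eq_of_cj h1, cj]
  group

end F

end SysC

end Cfsg.Agent.Lib.helper3.STC
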