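import Mathlib
import Cfsg.Prelude.Def_GeometricClasses
import Cfsg.Agent.Lib.Helper27.ASC.Defs
import Cfsg.Agent.Lib.Lead.ASCU.Defs
import Cfsg.Agent.Lib.Helper11.ASCRED
import Cfsg.Agent.Lib.Helper28.UHerm

/-! Project ASCU, piece URED: a reducible subgroup of `GU_n(q)`, `n` odd, stabilises a totally singular subspace
or a non-degenerate subspace of dimension `< n / 2`. -/

set_option autoImplicit false
set_option linter.unusedVariables false
set_option linter.unusedSectionVars false

namespace Cfsg.Agent.Lib.Lead.ASCU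

open Cfsg Cfsg.Geo Cfsg.Agent.Lib.Helper27.ASC
open scoped MatrixGroups Matrix

variable {n : ℕ} {F : Type*} [Field F] [Fintype F]

section generic

variable {σ : F ≃+* F} {f : (Fin n → F) → (Fin n → F) → F}

/-- the linear functional `w ↦ f w v` -/
def ascuured_L (hf : IsUnitaryForm σ f) (v : Fin n → F) : (Fin n → F) →ₗ[F] F where
  toFun w := f w v
  map_add' x y := hf.add_left x y v
  map_smul' c x := by simpa using hf.smul_left c x v

theorem ascuured_swap (hf : IsUnitaryForm σ f) {u v : Fin n → F} (h : f u v = 0) : f v u = 0 := by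
  rw [hf.herm, h, map_zero]

theorem ascuured_zero_left (hf : IsUnitaryForm σ f) (w : Fin n → F) : f 0 w = 0 := by
  have := hf.smul_left 0 0 w
  simpa using this

/-- the orthogonal complement -/
def ascuured_perp (hf : IsUnitaryForm σ f) (W : Submodule F (Fin n → F)) : Submodule F (Fin n → F) where
  carrier := {v | ∀ w ∈ W, f v w = 0}
  add_mem' := by
    intro a b ha hb w hw
    rw [hf.add_left, ha w hw, hb w hw, add_zero]
  zero_mem' := by
    intro w hw
    exact ascuured_zero_left hf w
  smul_mem' := by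
    intro c v hv w hw
    rw [hf.smul_left, hv w hw, mul_zero]

theorem ascuured_mem_perp (hf : IsUnitaryForm σ f) (W : Submodule F (Fin n → F)) (v : Fin n → F) :
    v ∈ ascuured_perp hf W ↔ ∀ w ∈ W, f v w = 0 := Iff.rfl

theorem ascuured_finrank (hf : IsUnitaryForm σ f) (W : Submodule F (Fin n → F)) :
    n ≤ Module.finrank F W + Module.finrank F (ascuured_perp hf W) := by
  classical
  let b := Module.finBasis F W
  let Ψ : (Fin n → F) →ₗ[F] (Fin (Module.finrank F W) → F) :=
    LinearMap.pi (fun i => ascuured_L hf ((b i : W) : Fin n → F))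
  have hker : LinearMap.ker Ψ ≤ ascuured_perp hf W := by
    intro v hv
    rw [LinearMap.mem_ker] at hv
    have hv' : ∀ i, f v ((b i : W) : Fin n → F) = 0 := by
      intro i
      have := congrFun hv i
      simpa [Ψ, ascuured_L] using this
    have hz : (ascuured_L hf v).domRestrict W = 0 := by
      apply b.ext
      intro i
      simp only [LinearMap.domRestrict_apply, LinearMap.zero_apply]
      exact ascuured_swap hf (hv' i)
    intro w hw
    have : (ascuured_L hf v).domRestrict W ⟨w, hw⟩ = 0 := by rw [hz]; rfl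
    exact ascuured_swap hf this
  have h1 := LinearMap.finrank_range_add_finrank_ker Ψ
  have h2 : Module.finrank F (LinearMap.range Ψ) ≤ Module.finrank F W := by
    have := Submodule.finrank_le (LinearMap.range Ψ)
    rwa [Module.finrank_fin_fun] at this
  have h3 := Submodule.finrank_mono hker
  rw [Module.finrank_fin_fun] at h1
  omega

end generic

theorem ascuured_stab_of_maps (H : Subgroup (GL (Fin n) F)) (W : Submodule F (Fin n → F))
    (hW : ∀ g ∈ H, ∀ v ∈ W, (g : Matrix (Fin n) (Fin n) F) *ᵥ v ∈ W) : H ≤ subspaceStabilizer W := by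
  intro g hg
  show ∀ v, v ∈ (W : Set (Fin n → F)) ↔ (glToMat (Fin n) F g) *ᵥ v ∈ (W : Set (Fin n → F))
  intro v
  constructor
  · intro hv
    exact hW g hg v hv
  · intro hv
    have h2 := hW g⁻¹ (H.inv_mem hg) _ hv
    have e : ((g⁻¹ : GL (Fin n) F) : Matrix (Fin n) (Fin n) F) *ᵥ ((glToMat (Fin n) F g) *ᵥ v) = v := by
      rw [Matrix.mulVec_mulVec]
      have : ((g⁻¹ : GL (Fin n) F) : Matrix (Fin n) (Fin n) F) * (glToMat (Fin n) F g) = 1 := by
        show ((g⁻¹ : GL (Fin n) F) : Matrix (Fin n) (Fin n) F) * (g : Matrix (Fin n) (Fin n) F) = 1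
        rw [← Units.val_mul, inv_mul_cancel, Units.val_one]
      rw [this, Matrix.one_mulVec]
    rw [e] at h2
    exact h2

theorem ascuured_maps_of_stab (H : Subgroup (GL (Fin n) F)) (W : Submodule F (Fin n → F))
    (hW : H ≤ subspaceStabilizer W) : ∀ g ∈ H, ∀ v ∈ W, (g : Matrix (Fin n) (Fin n) F) *ᵥ v ∈ W := by
  intro g hg v hv
  exact ((hW hg) v).1 hv

/-- URED -/
theorem ured_case (q : ℕ) (hF : Fintype.card F = q ^ 2) (hodd : Odd n) (H : Subgroup (GL (Fin n) F))
    (hHU : H ≤ GU n F q) (h : ¬ Irr H) :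
    (∃ W : Submodule F (Fin n → F), W ≠ ⊥ ∧ W ≠ ⊤ ∧ IsTotallySingularFor (hermForm n F q) W ∧
      H ≤ subspaceStabilizer W) ∨
    (∃ W : Submodule F (Fin n → F), W ≠ ⊥ ∧ W ≠ ⊤ ∧ IsNondegenerateOn (hermForm n F q) W ∧
      2 * Module.finrank F W < n ∧ H ≤ subspaceStabilizer W) := by
  classical
  obtain ⟨σ, hσ, hf⟩ := Cfsg.Agent.Lib.Helper28.UHerm.herm_unitary hF n
  obtain ⟨W, h0, h1, hWst⟩ := red_case H h
  have hWm := ascuured_maps_of_stab H W hWst
  set f := hermForm n F q with hfdef
  have hGU : ∀ g ∈ H, ∀ u v, f ((g : Matrix (Fin n) (Fin n) F) *ᵥ u)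
      ((g : Matrix (Fin n) (Fin n) F) *ᵥ v) = f u v := fun g hg => (mem_GU_iff q g).1 (hHU hg)
  have hginv : ∀ g : GL (Fin n) F, ∀ w : Fin n → F, (g : Matrix (Fin n) (Fin n) F) *ᵥ
      (((g⁻¹ : GL (Fin n) F) : Matrix (Fin n) (Fin n) F) *ᵥ w) = w := by
    intro g w
    rw [Matrix.mulVec_mulVec, ← Units.val_mul, mul_inv_cancel, Units.val_one, Matrix.one_mulVec]
  -- perp is invariant
  have hPm : ∀ g ∈ H, ∀ v ∈ ascuured_perp hf W,
      (g : Matrix (Fin n) (Fin n) F) *ᵥ v ∈ ascuured_perp hf W := by
    intro g hg v hv w hw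
    have h2 := hWm g⁻¹ (H.inv_mem hg) w hw
    have h3 := hGU g hg v (((g⁻¹ : GL (Fin n) F) : Matrix (Fin n) (Fin n) F) *ᵥ w)
    rw [hginv] at h3
    rw [h3]
    exact hv _ h2
  by_cases hR : W ⊓ ascuured_perp hf W = ⊥
  · -- W is non-degenerate
    have hnd : IsNondegenerateOn f W := by
      intro w hw hw0
      have hnot : w ∉ ascuured_perp hf W := by
        intro hwp
        have : w ∈ W ⊓ ascuured_perp hf W := ⟨hw, hwp⟩
        rw [hR] at this
        exact hw0 ((Submodule.mem_bot F).1 this)
      rw [ascuured_mem_perp] at hnot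
      push Not at hnot
      obtain ⟨x, hx, hx0⟩ := hnot
      refine ⟨⟨x, hx, fun hc => hx0 (ascuured_swap hf hc)⟩, ⟨x, hx, hx0⟩⟩
    by_cases hdim : 2 * Module.finrank F W < n
    · right
      exact ⟨W, h0, h1, hnd, hdim, hWst⟩
    · right
      have hfr := ascuured_finrank hf W
      have hsi := Submodule.finrank_sup_add_finrank_inf_eq W (ascuured_perp hf W)
      rw [hR, finrank_bot, add_zero] at hsi
      have hle : Module.finrank F (W ⊔ ascuured_perp hf W : Submodule F (Fin n → F)) ≤ n := by
        have := Submodule.finrank_le (W ⊔ ascuured_perp hf W)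
        rwa [Module.finrank_fin_fun] at this
      have hWlt : Module.finrank F W < n := by
        have := Submodule.finrank_lt h1
        rwa [Module.finrank_fin_fun] at this
      have hWpos : 0 < Module.finrank F W := by
        rcases Nat.eq_zero_or_pos (Module.finrank F W) with hz | hp
        · exact absurd (Submodule.finrank_eq_zero.1 hz) h0
        · exact hp
      have hsup : W ⊔ ascuured_perp hf W = ⊤ := by
        apply Submodule.eq_top_of_finrank_eq
        rw [Module.finrank_fin_fun]
        omega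
      have hPdim : Module.finrank F (ascuured_perp hf W) = n - Module.finrank F W := by omega
      obtain ⟨m, hm⟩ := hodd
      refine ⟨ascuured_perp hf W, ?_, ?_, ?_, ?_, ascuured_stab_of_maps H _ hPm⟩
      · intro hb
        rw [hb, finrank_bot] at hPdim
        omega
      · intro ht
        rw [ht, finrank_top, Module.finrank_fin_fun] at hPdim
        omega
      · intro w' hw' hw'0
        have key : ∃ x ∈ ascuured_perp hf W, f x w' ≠ 0 := by
          by_contra hcon
          push Not at hcon
          have hall : ∀ v, f v w' = 0 := by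
            intro v
            have hv : v ∈ W ⊔ ascuured_perp hf W := by rw [hsup]; exact Submodule.mem_top
            obtain ⟨a, ha, b, hb, rfl⟩ := Submodule.mem_sup.1 hv
            rw [hf.add_left, hcon b hb, add_zero]
            exact ascuured_swap hf (hw' a ha)
          obtain ⟨⟨x, hx⟩, _⟩ := hf.nondegenerate w' hw'0
          exact hx (hall x)
        obtain ⟨x, hx, hx0⟩ := key
        refine ⟨⟨x, hx, hx0⟩, ⟨x, hx, fun hc => hx0 (ascuured_swap hf hc)⟩⟩
      · omega
  · left
    refine ⟨W ⊓ ascuured_perp hf W, hR, ?_, ?_, ?_⟩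
    · intro ht
      apply h1
      rw [eq_top_iff, ← ht]
      exact inf_le_left
    · intro u hu v hv
      exact hu.2 v hv.1
    · apply ascuured_stab_of_maps
      intro g hg v hv
      exact ⟨hWm g hg v hv.1, hPm g hg v hv.2⟩

end Cfsg.Agent.Lib.Lead.ASCU
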