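import Mathlib
import Cfsg.Agent.Lib.Helper28.BP2.Defs
import Cfsg.Agent.S0809

/-!
# BP2 (S5736), row AO3: the centraliser of an involution of `PSL₂(q)`, `q` odd, has order `q ∓ 1`.
-/

set_option autoImplicit false

namespace Cfsg.Agent.Lib.Helper28.BP2

open Cfsg.Agent.Lib.helper14

universe u v w

section AOdd

variable {F : Type u} [Field F]

/-- the centre of `SL₂(F)` is `{1, -1}` -/
theorem bp2ao3_mem_center (g : SL2 F) : g ∈ Subgroup.center (SL2 F) ↔ g = 1 ∨ g = -1 := by
  rw [Matrix.SpecialLinearGroup.mem_center_iff]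
  constructor
  · rintro ⟨r, hr, hg⟩
    have hr2 : (r - 1) * (r + 1) = 0 := by
      have : r ^ 2 = 1 := by simpa using hr
      linear_combination this
    rcases mul_eq_zero.1 hr2 with h | h
    · left
      have hr1 : r = 1 := by linear_combination h
      apply Subtype.ext
      rw [← hg, hr1]
      simp
    · right
      have hr1 : r = -1 := by linear_combination h
      apply Subtype.ext
      rw [← hg, hr1]
      ext i j
      fin_cases i <;> fin_cases j <;> simp [Matrix.scalar]
  · rintro (rfl | rfl)
    · exact ⟨1, by simp, by simp⟩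
    · refine ⟨-1, by simp, ?_⟩
      ext i j
      fin_cases i <;> fin_cases j <;> simp [Matrix.scalar]

/-- field computation behind `bp2ao3_sq_one` -/
theorem bp2ao3_sq_one_aux (h2 : (2 : F) ≠ 0) {a b c d : F} (hdet : a * d - b * c = 1)
    (e00 : a * a + b * c = 1) (e01 : a * b + b * d = 0) (e10 : c * a + d * c = 0)
    (e11 : c * b + d * d = 1) : b = 0 ∧ c = 0 ∧ a = d ∧ (a = 1 ∨ a = -1) := by
  by_cases hs : a + d = 0
  · exfalso
    apply h2
    have hd : d = -a := by linear_combination hs
    subst hd
    linear_combination -e00 - hdet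
  · have hb : b = 0 := by
      have : b * (a + d) = 0 := by linear_combination e01
      rcases mul_eq_zero.1 this with h | h
      · exact h
      · exact absurd h hs
    have hc : c = 0 := by
      have : c * (a + d) = 0 := by linear_combination e10
      rcases mul_eq_zero.1 this with h | h
      · exact h
      · exact absurd h hs
    subst hb hc
    have had : a = d := by
      have : (a - d) * (a + d) = 0 := by linear_combination e00 - e11
      rcases mul_eq_zero.1 this with h | h
      · linear_combination h
      · exact absurd h hs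
    refine ⟨rfl, rfl, had, ?_⟩
    have : (a - 1) * (a + 1) = 0 := by linear_combination e00
    rcases mul_eq_zero.1 this with h | h
    · left; linear_combination h
    · right; linear_combination h

/-- an element of `SL₂(F)` of square one is `± 1` (characteristic not two) -/
theorem bp2ao3_sq_one (h2 : (2 : F) ≠ 0) (g : SL2 F) (hg : g * g = 1) : g = 1 ∨ g = -1 := by
  have hM : (g : Matrix (Fin 2) (Fin 2) F) * (g : Matrix (Fin 2) (Fin 2) F) = 1 := by
    have := congrArg (fun x : SL2 F => (x : Matrix (Fin 2) (Fin 2) F)) hg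
    simpa using this
  have hdet : (g : Matrix (Fin 2) (Fin 2) F).det = 1 := g.2
  rw [Matrix.det_fin_two] at hdet
  have e00 := congrFun (congrFun hM 0) 0
  have e01 := congrFun (congrFun hM 0) 1
  have e10 := congrFun (congrFun hM 1) 0
  have e11 := congrFun (congrFun hM 1) 1
  simp only [Matrix.mul_apply, Fin.sum_univ_two, Matrix.one_apply_eq, Matrix.one_apply_ne,
    ne_eq, Fin.zero_eq_one_iff, Fin.one_eq_zero_iff, OfNat.ofNat_ne_one, not_false_eq_true]
    at e00 e01 e10 e11
  obtain ⟨hb, hc, had, ha⟩ := bp2ao3_sq_one_aux h2 hdet e00 e01 e10 e11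
  rcases ha with ha | ha
  · left
    apply Subtype.ext
    ext i j
    fin_cases i <;> fin_cases j
    · simpa using ha
    · simpa using hb
    · simpa using hc
    · simpa using had.symm.trans ha
  · right
    apply Subtype.ext
    ext i j
    fin_cases i <;> fin_cases j
    · simpa using ha
    · simpa using hb
    · simpa using hc
    · simpa using had.symm.trans ha

/-- `-1 ≠ 1` in `SL₂(F)` when `2 ≠ 0` -/
theorem bp2ao3_neg_one_ne (h2 : (2 : F) ≠ 0) : (-1 : SL2 F) ≠ 1 := by
  intro h
  have h00 := congrArg (fun x : SL2 F => (x : Matrix (Fin 2) (Fin 2) F) 0 0) h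
  simp only [Matrix.SpecialLinearGroup.coe_neg, Matrix.SpecialLinearGroup.coe_one,
    Matrix.neg_apply, Matrix.one_apply_eq] at h00
  apply h2
  linear_combination -h00

/-- the centre of `SL₂(F)` has two elements when `2 ≠ 0` -/
theorem bp2ao3_card_center (h2 : (2 : F) ≠ 0) : Nat.card (Subgroup.center (SL2 F)) = 2 := by
  rw [Nat.card_eq_two_iff]
  refine ⟨⟨1, one_mem _⟩, ⟨-1, (bp2ao3_mem_center _).2 (Or.inr rfl)⟩, ?_, ?_⟩
  · intro h
    exact bp2ao3_neg_one_ne h2 (congrArg Subtype.val h).symm
  · ext x
    simp only [Set.mem_insert_iff, Set.mem_singleton_iff, Set.mem_univ, iff_true]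
    rcases (bp2ao3_mem_center x.1).1 x.2 with h | h
    · left; exact Subtype.ext h
    · right; exact Subtype.ext h

/-- the order of the preimage of a subgroup under a surjective homomorphism -/
theorem bp2ao3_card_comap {G : Type v} {G' : Type w} [Group G] [Group G'] [Finite G] (f : G →* G')
    (hf : Function.Surjective f) (K : Subgroup G') :
    Nat.card (K.comap f) = Nat.card K * Nat.card f.ker := by
  have : Finite G' := Finite.of_surjective f hf
  have h1 := Subgroup.card_mul_index (K.comap f)
  have h2 := Subgroup.card_mul_index K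
  have h3 : Nat.card G = Nat.card G' * Nat.card f.ker := by
    rw [Subgroup.card_eq_card_quotient_mul_card_subgroup f.ker,
      Nat.card_congr (QuotientGroup.quotientKerEquivOfSurjective f hf).toEquiv]
  rw [Subgroup.index_comap_of_surjective K hf] at h1
  have hpos : 0 < K.index := Nat.pos_of_ne_zero Subgroup.index_ne_zero_of_finite
  apply Nat.eq_of_mul_eq_mul_right hpos
  rw [h1, h3, ← h2]
  ring

/-- `pr g = 1` iff `g = ± 1` -/
theorem bp2ao3_pr_eq_one (g : SL2 F) : pr F g = 1 ↔ g = 1 ∨ g = -1 := by
  unfold pr
  rw [QuotientGroup.mk'_apply, QuotientGroup.eq_one_iff]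
  exact bp2ao3_mem_center g

/-- `-1` is central -/
theorem bp2ao3_neg_one_comm (g : SL2 F) : (-1 : SL2 F) * g = g * (-1) := by
  rw [neg_mul, mul_neg, one_mul, mul_one]

/-- an element of `SL₂(F)` with square `-1` has order four -/
theorem bp2ao3_orderOf (h2 : (2 : F) ≠ 0) (t' : SL2 F) (hsq : t' * t' = -1) : orderOf t' = 4 := by
  have h := orderOf_eq_prime_pow (x := t') (p := 2) (n := 1) (by
    rw [pow_one, pow_two, hsq]
    exact bp2ao3_neg_one_ne h2) (by
    have : t' ^ 2 ^ (1 + 1) = (t' * t') * (t' * t') := by
      norm_num [pow_succ, mul_assoc]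
    rw [this, hsq, neg_mul_neg, one_mul])
  simpa using h

/-- the preimage in `SL₂(F)` of the centraliser of the image of an element `t'` of square `-1` is the
normaliser of the cyclic group generated by `t'` -/
theorem bp2ao3_comap_eq (h2 : (2 : F) ≠ 0) (t' : SL2 F) (hsq : t' * t' = -1) :
    (Subgroup.centralizer ({pr F t'} : Set (PSL2 F))).comap (pr F) =
      Subgroup.normalizer ((Subgroup.zpowers t' : Subgroup (SL2 F)) : Set (SL2 F)) := by
  have hinv : t' * (-1) = t'⁻¹ := by
    rw [eq_inv_iff_mul_eq_one, mul_neg, mul_one, neg_mul, hsq, neg_neg]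
  ext g
  rw [Subgroup.mem_comap, Subgroup.mem_centralizer_singleton_iff, ← map_mul, ← map_mul]
  constructor
  · intro h
    have hz : pr F ((t' * g)⁻¹ * (g * t')) = 1 := by
      rw [map_mul, map_inv, h, inv_mul_cancel]
    rw [bp2ao3_pr_eq_one] at hz
    have hc : g * t' * g⁻¹ = t' ∨ g * t' * g⁻¹ = t'⁻¹ := by
      rcases hz with hz | hz
      · left
        have : g * t' = t' * g := by
          have := congrArg (fun x => t' * g * x) hz
          simpa [mul_assoc] using this
        rw [this, mul_assoc, mul_inv_cancel, mul_one]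
      · right
        have : g * t' = t' * g * (-1) := by
          have := congrArg (fun x => t' * g * x) hz
          simpa [mul_assoc] using this
        rw [this, mul_assoc, mul_assoc, bp2ao3_neg_one_comm, ← mul_assoc g, mul_inv_cancel, one_mul,
          hinv]
    have hmap : (Subgroup.zpowers t').map (MulAut.conj g).toMonoidHom = Subgroup.zpowers t' := by
      rw [MonoidHom.map_zpowers]
      change Subgroup.zpowers (g * t' * g⁻¹) = _
      rcases hc with hc | hc
      · rw [hc]
      · rw [hc, Subgroup.zpowers_inv]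
    rw [Subgroup.mem_normalizer_iff]
    intro x
    conv_rhs => rw [← hmap]
    exact (Subgroup.mem_map_iff_mem (MulAut.conj g).injective).symm
  · intro hg
    classical
    rw [Subgroup.mem_normalizer_iff] at hg
    have hc : g * t' * g⁻¹ ∈ Subgroup.zpowers t' := (hg t').1 (Subgroup.mem_zpowers t')
    have hcc : (g * t' * g⁻¹) * (g * t' * g⁻¹) = -1 := by
      have : (g * t' * g⁻¹) * (g * t' * g⁻¹) = g * (t' * t') * g⁻¹ := by group
      rw [this, hsq, mul_assoc, bp2ao3_neg_one_comm, ← mul_assoc, mul_inv_cancel, one_mul]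
    have ho := bp2ao3_orderOf h2 t' hsq
    have hfin : IsOfFinOrder t' := orderOf_pos_iff.1 (by rw [ho]; norm_num)
    rw [← hfin.mem_powers_iff_mem_zpowers, hfin.mem_powers_iff_mem_range_orderOf, ho] at hc
    obtain ⟨n, hn, hnc⟩ := Finset.mem_image.1 hc
    rw [Finset.mem_range] at hn
    have hz : g * t' * g⁻¹ = t' ∨ g * t' * g⁻¹ = t' * (-1) := by
      interval_cases n
      · exfalso
        rw [pow_zero] at hnc
        rw [← hnc, one_mul] at hcc
        exact bp2ao3_neg_one_ne h2 hcc.symm
      · left
        rw [← hnc, pow_one]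
      · exfalso
        rw [pow_two, hsq] at hnc
        rw [← hnc, neg_mul_neg, one_mul] at hcc
        exact bp2ao3_neg_one_ne h2 hcc.symm
      · right
        rw [← hnc, pow_succ, pow_two, hsq, neg_mul, one_mul, mul_neg, mul_one]
    apply (QuotientGroup.eq (s := Subgroup.center (SL2 F))).2
    rw [bp2ao3_mem_center]
    rcases hz with hz | hz
    · left
      have : g * t' = t' * g := by
        have := congrArg (fun x => x * g) hz
        simpa [mul_assoc] using this
      rw [this, inv_mul_cancel]
    · right
      have : g * t' = t' * g * (-1) := by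
        have := congrArg (fun x => x * g) hz
        simp only [mul_assoc, inv_mul_cancel, mul_one] at this
        rw [this, bp2ao3_neg_one_comm, mul_assoc]
      rw [this, mul_inv_rev, mul_assoc, inv_mul_cancel, mul_one]
      exact inv_eq_of_mul_eq_one_right (by rw [neg_mul_neg, one_mul])

end AOdd

section AOdd

variable {F : Type u} [Field F] [Fintype F]

/-- an odd finite field has `2 ≠ 0` -/
theorem bp2ao3_two_ne_zero (hodd : Odd (Fintype.card F)) : (2 : F) ≠ 0 := by
  intro h
  have hchar : CharP F 2 := CharTwo.of_one_ne_zero_of_two_eq_zero one_ne_zero h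
  obtain ⟨n, _, hn⟩ := FiniteField.card F 2
  have h2 : 2 ∣ Fintype.card F := by
    rw [hn]
    exact dvd_pow_self 2 n.ne_zero
  exact (Nat.not_even_iff_odd.2 hodd) (even_iff_two_dvd.2 h2)

/-- **AO3**. -/
theorem card_cent_invol (hodd : Odd (Fintype.card F)) (t : PSL2 F) (ht : orderOf t = 2) :
    (Fintype.card F % 4 = 1 →
      Nat.card (Subgroup.centralizer ({t} : Set (PSL2 F))) = Fintype.card F - 1) ∧
    (Fintype.card F % 4 = 3 →
      Nat.card (Subgroup.centralizer ({t} : Set (PSL2 F))) = Fintype.card F + 1) := by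
  have h2 := bp2ao3_two_ne_zero hodd
  have hsurj : Function.Surjective (pr F) := QuotientGroup.mk'_surjective _
  obtain ⟨t', rfl⟩ := hsurj t
  have ht1 : pr F t' ≠ 1 := by
    intro h
    rw [h, orderOf_one] at ht
    omega
  have ht2 : pr F (t' * t') = 1 := by
    have hpow := pow_orderOf_eq_one (pr F t')
    rw [ht] at hpow
    rw [map_mul, ← pow_two]
    exact hpow
  have hsq : t' * t' = -1 := by
    rcases (bp2ao3_pr_eq_one _).1 ht2 with h | h
    · exfalso
      exact ht1 ((bp2ao3_pr_eq_one t').2 (bp2ao3_sq_one h2 t' h))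
    · exact h
  have hA : Nat.card (Subgroup.zpowers t') = 4 := by
    rw [Nat.card_zpowers, bp2ao3_orderOf h2 t' hsq]
  have hker : Nat.card (pr F).ker = 2 := by
    have : (pr F).ker = Subgroup.center (SL2 F) := by
      unfold pr
      exact QuotientGroup.ker_mk' _
    rw [this, bp2ao3_card_center h2]
  have hcard := bp2ao3_card_comap (pr F) hsurj (Subgroup.centralizer ({pr F t'} : Set (PSL2 F)))
  rw [bp2ao3_comap_eq h2 t' hsq, hker] at hcard
  obtain ⟨-, hN1, hN3, -⟩ := Cfsg.Agent.S0809.result (F := F) rfl hodd (Subgroup.zpowers t') hA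
  have hqpos : 1 ≤ Fintype.card F := Fintype.card_pos
  constructor
  · intro h
    have h3 := hN1 h
    rw [h3] at hcard
    omega
  · intro h
    have h3 := hN3 h
    rw [h3] at hcard
    omega

end AOdd

end Cfsg.Agent.Lib.Helper28.BP2
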