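import Mathlib
import Cfsg.Agent.Lib.helper3.BSZ.Defs

/-!
# Project BSZ (S5737), rows F01 `subStab_gT` and F02 `subStab_gT_zero`: translations with
parameters in a subfield stabilise the sub-ovoid, and a central translation that stabilises the
sub-ovoid has its parameter in the subfield.
-/

set_option autoImplicit false

namespace Cfsg.Agent.Lib.helper3.BSZ

open Cfsg Cfsg.Agent.Lib.helper3
open scoped Pointwise

variable {F : Type*} [Field F] [Fintype F] {m : ℕ}

omit [Fintype F] in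
/-- an element that maps a set into itself, as does its inverse, stabilises the set -/
theorem bszF01_smul_set_eq {g : Sz F m} {S : Set (suzukiOvoid F m)} (h1 : ∀ p ∈ S, g • p ∈ S)
    (h2 : ∀ p ∈ S, g⁻¹ • p ∈ S) : g • S = S := by
  apply Set.Subset.antisymm
  · rintro _ ⟨p, hp, rfl⟩
    exact h1 p hp
  · intro p hp
    exact ⟨g⁻¹ • p, h2 p hp, smul_inv_smul g p⟩

/-- a translation with parameters in the subfield maps the sub-ovoid into itself -/
theorem bszF01_gT_maps (hF : Fintype.card F = 2 ^ (2 * m + 1)) (K' : Subfield F) {a b : F}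
    (ha : a ∈ K') (hb : b ∈ K') : ∀ p ∈ subOvoid m K', gT hF a b • p ∈ subOvoid m K' := by
  rintro p (rfl | ⟨x, hx, y, hy, rfl⟩)
  · left
    exact gT_oInf hF a b
  · right
    rw [gT_oPt]
    exact ⟨x + a, K'.add_mem hx ha, y + b + szθ m a * x,
      K'.add_mem (K'.add_mem hy hb) (K'.mul_mem (subK_szθ K' ha) hx), rfl⟩

/-- F01 [M] -/
theorem subStab_gT (hF : Fintype.card F = 2 ^ (2 * m + 1)) (K' : Subfield F) {a b : F} (ha : a ∈ K')
    (hb : b ∈ K') : gT hF a b ∈ subStab m K' := by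
  unfold subStab
  rw [MulAction.mem_stabilizer_iff]
  apply bszF01_smul_set_eq (bszF01_gT_maps hF K' ha hb)
  rw [gT_inv]
  exact bszF01_gT_maps hF K' ha (K'.add_mem hb (K'.mul_mem ha (subK_szθ K' ha)))

/-- F02 [S] -/
theorem subStab_gT_zero (hF : Fintype.card F = 2 ^ (2 * m + 1)) (K' : Subfield F) {b : F}
    (h : gT hF 0 b ∈ subStab m K') : b ∈ K' := by
  unfold subStab at h
  rw [MulAction.mem_stabilizer_iff] at h
  have h0 : oPt m (0 : F) 0 ∈ subOvoid m K' := Or.inr ⟨0, K'.zero_mem, 0, K'.zero_mem, rfl⟩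
  have h1 : gT hF 0 b • oPt m (0 : F) 0 ∈ gT hF 0 b • subOvoid m K' := ⟨_, h0, rfl⟩
  rw [h, gT_oZero] at h1
  rcases h1 with h1 | ⟨x, _, y, hy, h1⟩
  · exact absurd h1 (oPt_ne_oInf 0 b)
  · obtain ⟨_, e2⟩ := szPt_inj m (congrArg Subtype.val h1)
    rw [e2]
    exact hy

end Cfsg.Agent.Lib.helper3.BSZ
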