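import Mathlib
import Cfsg.Agent.Lib.Helper24.SU3M.Defs
import Cfsg.Agent.Lib.helper7.CeA
import Cfsg.Agent.Lib.helper15.SU3MG3
import Cfsg.Agent.Lib.Helper16.SU3MT2

/-!
# Project SU3M (designer helper24), row T3 (helper21): `tor_comm_sq` VERBATIM vs `Helper24/SU3M/Skel.lean.txt` (on G3 `helper15/SU3MG3.lean`, T2 `Helper16/SU3MT2.lean`).
The generic statement is `su3mt3_core`: `π : Γ →* G` a central extension, `A` a cyclic commutative group, `dg : A × A →* G`, `s` with `s * dg (a, b) * s⁻¹ = dg (b, a)`: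
all commutators of elements of `dg.range.comap π` are central of square `1`.
-/

set_option autoImplicit false
set_option linter.unusedSectionVars false
set_option linter.unusedVariables false

namespace Cfsg.Agent.Lib.Helper24.SU3M

open Cfsg.Agent.Lib.Helper19.U3P Cfsg.Agent.Lib.Helper25.SU3P Cfsg.Agent.Lib.helper14.SU3J Cfsg.Agent.Lib.helper7.Ce Matrix Polynomial

universe u

section generic

variable {Γ G : Type*} [Group Γ] [Group G] {π : Γ →* G}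

/-- `x ↦ cm x y` as a homomorphism on a subgroup whose image commutes with `π y` -/
theorem su3mt3_left_zpow (h : IsCE π) (P : Subgroup Γ) (hP : ∀ x ∈ P, ∀ y ∈ P, π x * π y = π y * π x) {y : Γ} (hy : y ∈ P)
    {u v : Γ} (hu : u ∈ P) (hv : v ∈ P) (i j : ℤ) : cm (u ^ i * v ^ j) y = cm u y ^ i * cm v y ^ j := by
  let L : ↥P →* Γ := MonoidHom.mk' (fun x => cm (x : Γ) y) (fun x x' => by
    simp only [Subgroup.coe_mul]
    exact cm_mul_of_comm h (hP _ x.2 _ hy) (hP _ x'.2 _ hy))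
  have e : L ((⟨u, hu⟩ : ↥P) ^ i * (⟨v, hv⟩ : ↥P) ^ j) = L ⟨u, hu⟩ ^ i * L ⟨v, hv⟩ ^ j := by
    rw [map_mul, map_zpow, map_zpow]
  exact e

theorem su3mt3_right_zpow (h : IsCE π) (P : Subgroup Γ) (hP : ∀ x ∈ P, ∀ y ∈ P, π x * π y = π y * π x) {x : Γ} (hx : x ∈ P)
    {u v : Γ} (hu : u ∈ P) (hv : v ∈ P) (i j : ℤ) : cm x (u ^ i * v ^ j) = cm x u ^ i * cm x v ^ j := by
  let R : ↥P →* Γ := MonoidHom.mk' (fun y => cm x (y : Γ)) (fun y y' => by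
    simp only [Subgroup.coe_mul]
    exact cm_mul_of_comm' h (hP _ hx _ y.2) (hP _ hx _ y'.2))
  have e : R ((⟨u, hu⟩ : ↥P) ^ i * (⟨v, hv⟩ : ↥P) ^ j) = R ⟨u, hu⟩ ^ i * R ⟨v, hv⟩ ^ j := by
    rw [map_mul, map_zpow, map_zpow]
  exact e

theorem su3mt3_cm_self (x : Γ) : cm x x = 1 := by
  unfold cm
  group

/-- the generic form of T3 -/
theorem su3mt3_core (h : IsCE π) {A : Type*} [CommGroup A] [IsCyclic A] (dg : A × A →* G) (s : G)
    (hs : ∀ a b, s * dg (a, b) * s⁻¹ = dg (b, a)) :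
    ∀ x ∈ dg.range.comap π, ∀ y ∈ dg.range.comap π, cm x y ∈ Subgroup.center Γ ∧ cm x y ^ 2 = 1 := by
  have hP : ∀ x ∈ dg.range.comap π, ∀ y ∈ dg.range.comap π, π x * π y = π y * π x := by
    intro x hx y hy
    obtain ⟨p, hp⟩ := hx
    obtain ⟨p', hp'⟩ := hy
    rw [← hp, ← hp', ← map_mul, ← map_mul, mul_comm]
  obtain ⟨η, hη⟩ := IsCyclic.exists_generator (α := A)
  obtain ⟨x₁, hx₁⟩ := h.surj (dg (η, 1))
  obtain ⟨x₂, hx₂⟩ := h.surj (dg (1, η))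
  obtain ⟨s', hs'⟩ := h.surj s
  have hx₁P : x₁ ∈ dg.range.comap π := ⟨(η, 1), hx₁.symm⟩
  have hx₂P : x₂ ∈ dg.range.comap π := ⟨(1, η), hx₂.symm⟩
  have hkc : cm x₁ x₂ ∈ Subgroup.center Γ := cm_central h (hP x₁ hx₁P x₂ hx₂P)
  -- `k = k⁻¹`
  have hk2 : cm x₁ x₂ * cm x₁ x₂ = 1 := by
    have e1 : s' * cm x₁ x₂ * s'⁻¹ = cm x₁ x₂ := by
      rw [Subgroup.mem_center_iff.1 hkc s', mul_inv_cancel_right]
    have e2 : s' * cm x₁ x₂ * s'⁻¹ = cm (s' * x₁ * s'⁻¹) (s' * x₂ * s'⁻¹) := by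
      unfold cm
      group
    have e3 : cm (s' * x₁ * s'⁻¹) (s' * x₂ * s'⁻¹) = cm x₂ x₁ := by
      apply h.cm_congr
      · rw [map_mul, map_mul, map_inv, hs', hx₁, hs, hx₂]
      · rw [map_mul, map_mul, map_inv, hs', hx₂, hs, hx₁]
    have e4 : cm x₁ x₂ = (cm x₁ x₂)⁻¹ := by
      rw [cm_inv_swap, ← e3, ← e2, e1]
    calc cm x₁ x₂ * cm x₁ x₂ = cm x₁ x₂ * (cm x₁ x₂)⁻¹ := by rw [← e4]
      _ = 1 := mul_inv_cancel _
  -- every element of `P` has the image of some `x₁ ^ i * x₂ ^ j`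
  have hrep : ∀ x ∈ dg.range.comap π, ∃ i j : ℤ, π x = π (x₁ ^ i * x₂ ^ j) := by
    intro x hx
    obtain ⟨⟨a, b⟩, hp⟩ := hx
    obtain ⟨i, hi⟩ := Subgroup.mem_zpowers_iff.1 (hη a)
    obtain ⟨j, hj⟩ := Subgroup.mem_zpowers_iff.1 (hη b)
    refine ⟨i, j, ?_⟩
    rw [map_mul, map_zpow, map_zpow, hx₁, hx₂, ← map_zpow, ← map_zpow, ← map_mul, ← hp]
    congr 1
    ext
    · simp [hi]
    · simp [hj]
  have hmemP : ∀ i j : ℤ, x₁ ^ i * x₂ ^ j ∈ dg.range.comap π := fun i j =>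
    Subgroup.mul_mem _ (Subgroup.zpow_mem _ hx₁P i) (Subgroup.zpow_mem _ hx₂P j)
  intro x hx y hy
  refine ⟨cm_central h (hP x hx y hy), ?_⟩
  obtain ⟨i, j, hxij⟩ := hrep x hx
  obtain ⟨i', j', hyij⟩ := hrep y hy
  have e1 : cm x y = cm (x₁ ^ i * x₂ ^ j) (x₁ ^ i' * x₂ ^ j') := h.cm_congr hxij hyij
  have e2 : cm x₁ (x₁ ^ i' * x₂ ^ j') = cm x₁ x₂ ^ j' := by
    rw [su3mt3_right_zpow h _ hP hx₁P hx₁P hx₂P, su3mt3_cm_self, _root_.one_zpow, one_mul]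
  have e3 : cm x₂ (x₁ ^ i' * x₂ ^ j') = cm x₁ x₂ ^ (-i') := by
    rw [su3mt3_right_zpow h _ hP hx₂P hx₁P hx₂P, su3mt3_cm_self, _root_.one_zpow, mul_one, ← cm_inv_swap, _root_.inv_zpow, _root_.zpow_neg]
  have e4 : cm x y = cm x₁ x₂ ^ (j' * i + -i' * j) := by
    rw [e1, su3mt3_left_zpow h _ hP (hmemP i' j') hx₁P hx₂P, e2, e3, ← _root_.zpow_mul, ← _root_.zpow_mul, ← _root_.zpow_add]
  rw [e4, ← zpow_natCast, ← _root_.zpow_mul, mul_comm, _root_.zpow_mul]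
  have : cm x₁ x₂ ^ ((2 : ℕ) : ℤ) = 1 := by
    rw [zpow_natCast, pow_two]
    exact hk2
  rw [this, _root_.one_zpow]

end generic

section T

variable {F : Type u} [Field F] [Fintype F] {q : ℕ} {Γ : Type*} [Group Γ] {π : Γ →* ↥(Cfsg.SU 3 F q)}

/-- T3 [M] -/
theorem tor_comm_sq {dg : (↥(rootsOfUnity (q + 1) F) × ↥(rootsOfUnity (q + 1) F)) →* ↥(Cfsg.SU 3 F q)} {w s : ↥(Cfsg.SU 3 F q)} (hT : Tor q dg w s)
    (h : IsCE π) : ∀ x ∈ dg.range.comap π, ∀ y ∈ dg.range.comap π, cm x y ∈ Subgroup.center Γ ∧ cm x y ^ 2 = 1 :=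
  su3mt3_core h dg s (fun a b => (tor_conj hT a b).1)

end T

end Cfsg.Agent.Lib.Helper24.SU3M
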