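import Mathlib
import Cfsg.Agent.Lib.Helper24.SU3M.Defs
import Cfsg.Agent.Lib.Helper25.SU3P.Basic

/-!
# Project SU3M (designer helper24), row E1 (helper21): `rho_inj` VERBATIM vs `Helper24/SU3M/Skel.lean.txt`.
Extra: `su3me1_rhoM_inj`.
-/

set_option autoImplicit false
set_option linter.unusedSectionVars false

namespace Cfsg.Agent.Lib.Helper24.SU3M

open Cfsg.Agent.Lib.Helper19.U3P Cfsg.Agent.Lib.Helper25.SU3P Cfsg.Agent.Lib.helper14.SU3J Matrix

universe u

/-- `rhoM ι ε` is injective (`ε ≠ 0`). -/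
theorem su3me1_rhoM_inj {F : Type u} [Field F] {K : Type u} [Field K] (ι : K →+* F) {ε : F} (hε : ε ≠ 0) {g g' : SL2 K}
    (h : rhoM ι ε g = rhoM ι ε g') : g = g' := by
  have hι : Function.Injective ι := ι.injective
  have h00 := congrFun (congrFun h 0) 0
  have h02 := congrFun (congrFun h 0) 2
  have h20 := congrFun (congrFun h 2) 0
  have h22 := congrFun (congrFun h 2) 2
  simp [rhoM] at h00 h02 h20 h22
  apply Subtype.ext
  ext i j
  fin_cases i <;> fin_cases j
  · exact hι h00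
  · rcases h02 with h02 | h02
    · exact hι h02
    · exact absurd h02 hε
  · rcases h20 with h20 | h20
    · exact hι h20
    · exact absurd h20 hε
  · exact hι h22

section E

variable {F : Type u} [Field F] [Fintype F] {K : Type u} [Field K] [Fintype K] {q : ℕ} {Γ : Type*} [Group Γ] {π : Γ →* ↥(Cfsg.SU 3 F q)}

/-- E1 [S-M]  `rhoM ι ε g = rhoM ι ε g'` gives equal entries (`D.ι` injective, `ε ≠ 0`); `cj_inj`. -/
theorem rho_inj (D : Par F K q) {ε : F} {hz : ↥(Cfsg.SU 3 F q)} {ρ : SL2 K →* ↥(Cfsg.SU 3 F q)} (hD : Dat D ε hz ρ) : Function.Injective ρ := by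
  intro g g' h
  apply su3me1_rhoM_inj D.ι hD.hε
  rw [← hD.hρ, ← hD.hρ, h]

end E

end Cfsg.Agent.Lib.Helper24.SU3M
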