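import Mathlib
import Cfsg.Agent.Lib.Helper24.SU3M.Defs
import Cfsg.Agent.Lib.Helper25.SU3P.Basic

/-!
# Project SU3M (designer helper24), row E2 (helper21): `rho_norm` VERBATIM vs `Helper24/SU3M/Skel.lean.txt`.
Extras: `su3me2_conjK` (conjugation by `diag(b, 1)` in `SL₂(K)`), `su3me2_conjK_conjK`, `su3me2_dd_rhoM`, `su3me2_conj`, `su3me2_conj'`.
-/

set_option autoImplicit false
set_option linter.unusedSectionVars false
set_option linter.unusedVariables false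

namespace Cfsg.Agent.Lib.Helper24.SU3M

open Cfsg.Agent.Lib.Helper19.U3P Cfsg.Agent.Lib.Helper25.SU3P Cfsg.Agent.Lib.helper14.SU3J Matrix

universe u

/-- conjugation by `diag(b, 1)` on `SL₂(K)`: `[[A, B], [C, D]] ↦ [[A, b B], [b⁻¹ C, D]]` -/
def su3me2_conjK {K : Type u} [Field K] (b : Kˣ) (g : SL2 K) : SL2 K :=
  ⟨!![g.1 0 0, (b : K) * g.1 0 1; (b : K)⁻¹ * g.1 1 0, g.1 1 1], by
    have h := g.2
    rw [Matrix.det_fin_two] at h
    rw [Matrix.det_fin_two_of]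
    have hb : (b : K) ≠ 0 := b.ne_zero
    field_simp
    linear_combination h⟩

theorem su3me2_conjK_conjK {K : Type u} [Field K] (b : Kˣ) (g : SL2 K) : su3me2_conjK b (su3me2_conjK b⁻¹ g) = g := by
  have hb : (b : K) ≠ 0 := b.ne_zero
  apply Subtype.ext
  ext i j
  fin_cases i <;> fin_cases j <;> simp [su3me2_conjK]

theorem su3me2_conjK_conjK' {K : Type u} [Field K] (b : Kˣ) (g : SL2 K) : su3me2_conjK b⁻¹ (su3me2_conjK b g) = g := by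
  have hb : (b : K) ≠ 0 := b.ne_zero
  apply Subtype.ext
  ext i j
  fin_cases i <;> fin_cases j <;> simp [su3me2_conjK]

/-- `dd ζ * rhoM g = rhoM (conjK bK g) * dd ζ` -/
theorem su3me2_dd_rhoM {F : Type u} [Field F] {K : Type u} [Field K] (σ : F →+* F) (ι : K →+* F) (ε : F) (ζ : Fˣ) (b : Kˣ)
    (hb : ι (b : K) = (ζ : F) * σ (ζ : F)) (g : SL2 K) :
    dd σ (ζ : F) * rhoM ι ε g = rhoM ι ε (su3me2_conjK b g) * dd σ (ζ : F) := by
  have hζ : (ζ : F) ≠ 0 := ζ.ne_zero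
  have hσζ : σ (ζ : F) ≠ 0 := by
    intro h
    exact hζ ((map_eq_zero σ).1 h)
  ext i j
  fin_cases i <;> fin_cases j <;>
    simp [dd, rhoM, Matrix.mul_apply, Fin.sum_univ_three, su3me2_conjK, hb, map_mul, map_inv₀] <;>
    field_simp

section E

variable {F : Type u} [Field F] [Fintype F] {K : Type u} [Field K] [Fintype K] {q : ℕ} {Γ : Type*} [Group Γ] {π : Γ →* ↥(Cfsg.SU 3 F q)}

theorem su3me2_conj (D : Par F K q) {ε : F} {hz : ↥(Cfsg.SU 3 F q)} {ρ : SL2 K →* ↥(Cfsg.SU 3 F q)} (hD : Dat D ε hz ρ) (g : SL2 K) :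
    hz * ρ g * hz⁻¹ = ρ (su3me2_conjK D.bK g) := by
  apply D.c.cj_inj
  rw [D.c.cj_mul, D.c.cj_mul, hD.hhz, hD.hρ, hD.hρ, su3me2_dd_rhoM D.σ D.ι ε D.ζ D.bK D.hbK g, Matrix.mul_assoc, ← hD.hhz,
    D.c.cj_mul_inv, Matrix.mul_one]

theorem su3me2_conj' (D : Par F K q) {ε : F} {hz : ↥(Cfsg.SU 3 F q)} {ρ : SL2 K →* ↥(Cfsg.SU 3 F q)} (hD : Dat D ε hz ρ) (g : SL2 K) :
    hz⁻¹ * ρ g * hz = ρ (su3me2_conjK D.bK⁻¹ g) := by
  have h := su3me2_conj D hD (su3me2_conjK D.bK⁻¹ g)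
  rw [su3me2_conjK_conjK] at h
  rw [← h]
  group

/-- E2 [M] -/
theorem rho_norm (D : Par F K q) (hF : Fintype.card F = q ^ 2) {ε : F} {hz : ↥(Cfsg.SU 3 F q)} {ρ : SL2 K →* ↥(Cfsg.SU 3 F q)} (hD : Dat D ε hz ρ) :
    (∀ X ∈ ρ.range, hz * X * hz⁻¹ ∈ ρ.range) ∧ (∀ X ∈ ρ.range, hz⁻¹ * X * hz ∈ ρ.range) := by
  constructor
  · rintro X ⟨g, rfl⟩
    exact ⟨_, (su3me2_conj D hD g).symm⟩
  · rintro X ⟨g, rfl⟩
    exact ⟨_, (su3me2_conj' D hD g).symm⟩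

end E

end Cfsg.Agent.Lib.Helper24.SU3M
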