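import Mathlib
import Cfsg.Agent.Lib.Helper24.SU3M.Defs
import Cfsg.Agent.Lib.Helper25.SU3P.Basic
import Cfsg.Agent.Lib.helper15.SL2Card
import Cfsg.Agent.Lib.Helper18.U3PM2
import Cfsg.Agent.Lib.Helper21.SU3ME1
import Cfsg.Agent.Lib.Helper21.SU3ME2

/-!
# Project SU3M (designer helper24), row E3 (helper21): `card_Mg` VERBATIM vs `Helper24/SU3M/Skel.lean.txt` (on rows E1 E2, `helper15.card_SL2`, `Helper18.U3PM2 card_ext_cyclic`).
Extras: `su3me3_dd_diag`, `su3me3_dd_pow`, `su3me3_orderOf_zeta`, `su3me3_zeta_pow_card`, `su3me3_pow_mem` (`hz ^ (q + 1) ∈ ρ.range`), `su3me3_dvd_of_pow_mem` (`hz ^ i ∈ ρ.range → q + 1 ∣ i`),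
`su3me3_card_range`, `su3me3_card_ext` (the generic count `card (N ⊔ zpowers h) = n * card N`).
-/

set_option autoImplicit false
set_option linter.unusedSectionVars false
set_option linter.unusedVariables false

namespace Cfsg.Agent.Lib.Helper24.SU3M

open Cfsg.Agent.Lib.Helper19.U3P Cfsg.Agent.Lib.Helper25.SU3P Cfsg.Agent.Lib.helper14.SU3J Matrix

universe u

theorem su3me3_dd_diag {F : Type u} [Field F] (σ : F →+* F) (l : F) : dd σ l = Matrix.diagonal ![l, σ l / l, (σ l)⁻¹] := by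
  ext i j
  fin_cases i <;> fin_cases j <;> simp [dd]

theorem su3me3_dd_pow {F : Type u} [Field F] (σ : F →+* F) (l : F) (i : ℕ) :
    dd σ l ^ i = Matrix.diagonal ![l ^ i, (σ l / l) ^ i, ((σ l)⁻¹) ^ i] := by
  rw [su3me3_dd_diag, Matrix.diagonal_pow]
  congr 1
  ext k
  fin_cases k <;> simp

/-- the generic count: `N` normalised by `h`, `h ^ n ∈ N`, and `h ^ i ∈ N → n ∣ i`: `card (N ⊔ zpowers h) = n * card N` -/
theorem su3me3_card_ext {G : Type*} [Group G] (N : Subgroup G) [Finite N] (h : G) (n : ℕ) (hn0 : 0 < n)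
    (hn : h ^ n ∈ N) (hconj : ∀ x ∈ N, h * x * h⁻¹ ∈ N) (hconj' : ∀ x ∈ N, h⁻¹ * x * h ∈ N)
    (hdvd : ∀ i : ℕ, h ^ i ∈ N → n ∣ i) : Nat.card ↥(N ⊔ Subgroup.zpowers h) = n * Nat.card N := by
  have hcl : Subgroup.closure ((N : Set G) ∪ {h}) = N ⊔ Subgroup.zpowers h := by
    rw [Subgroup.closure_union, Subgroup.closure_eq, Subgroup.zpowers_eq_closure]
  obtain ⟨hfin, hle⟩ := Cfsg.Agent.Lib.Helper19.U3P.card_ext_cyclic N h n hn0 hn hconj hconj'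
  rw [hcl] at hfin hle
  apply le_antisymm hle
  have hNle : N ≤ N ⊔ Subgroup.zpowers h := le_sup_left
  have hhmem : h ∈ N ⊔ Subgroup.zpowers h := (le_sup_right : Subgroup.zpowers h ≤ _) (Subgroup.mem_zpowers h)
  let f : N × Fin n → ↥(N ⊔ Subgroup.zpowers h) := fun p =>
    ⟨(p.1 : G) * h ^ (p.2 : ℕ), Subgroup.mul_mem _ (hNle p.1.2) (Subgroup.pow_mem _ hhmem _)⟩
  have key : ∀ (x x' : N) (i j : ℕ), i ≤ j → j < n → (x : G) * h ^ i = (x' : G) * h ^ j → i = j := by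
    intro x x' i j hij hj e
    have e2 : h ^ (j - i) = (x' : G)⁻¹ * x := by
      have : h ^ j = h ^ (j - i) * h ^ i := by rw [← pow_add, Nat.sub_add_cancel hij]
      rw [this] at e
      have e3 : (x : G) = (x' : G) * h ^ (j - i) := by
        have := congrArg (fun y => y * (h ^ i)⁻¹) e
        simpa [mul_assoc] using this
      rw [e3]
      group
    have hmem : h ^ (j - i) ∈ N := by
      rw [e2]
      exact N.mul_mem (N.inv_mem x'.2) x.2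
    have hd := hdvd _ hmem
    have : j - i = 0 := Nat.eq_zero_of_dvd_of_lt hd (by omega)
    omega
  have hinj : Function.Injective f := by
    rintro ⟨x, i⟩ ⟨x', j⟩ e
    have e' : (x : G) * h ^ (i : ℕ) = (x' : G) * h ^ (j : ℕ) := congrArg Subtype.val e
    have hij : (i : ℕ) = (j : ℕ) := by
      rcases le_total (i : ℕ) (j : ℕ) with hle' | hle'
      · exact key x x' i j hle' j.2 e'
      · exact (key x' x j i hle' i.2 e'.symm).symm
    have hx : (x : G) = (x' : G) := by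
      rw [hij] at e'
      exact mul_right_cancel e'
    exact Prod.ext (Subtype.ext hx) (Fin.ext hij)
  have := Nat.card_le_card_of_injective f hinj
  rw [Nat.card_prod, Nat.card_fin, mul_comm] at this
  exact this

section E

variable {F : Type u} [Field F] [Fintype F] {K : Type u} [Field K] [Fintype K] {q : ℕ} {Γ : Type*} [Group Γ] {π : Γ →* ↥(Cfsg.SU 3 F q)}

theorem su3me3_orderOf_zeta (D : Par F K q) (hF : Fintype.card F = q ^ 2) : orderOf D.ζ = q ^ 2 - 1 := by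
  rw [orderOf_eq_card_of_forall_mem_zpowers D.hζ, Nat.card_units, Nat.card_eq_fintype_card, hF]

theorem su3me3_zeta_pow_card (D : Par F K q) (hF : Fintype.card F = q ^ 2) : ((D.ζ : Fˣ) : F) ^ (q ^ 2) = (D.ζ : F) := by
  rw [← hF]
  exact FiniteField.pow_card _

theorem su3me3_cj_pow (D : Par F K q) {ε : F} {hz : ↥(Cfsg.SU 3 F q)} {ρ : SL2 K →* ↥(Cfsg.SU 3 F q)} (hD : Dat D ε hz ρ) (i : ℕ) :
    D.c.cj (hz ^ i) = Matrix.diagonal ![(D.ζ : F) ^ i, (D.σ (D.ζ : F) / (D.ζ : F)) ^ i, ((D.σ (D.ζ : F))⁻¹) ^ i] := by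
  rw [D.c.cj_pow, hD.hhz, su3me3_dd_pow]

/-- `hz ^ (q + 1) = ρ (diag (bK, bK⁻¹))` -/
theorem su3me3_pow_mem (D : Par F K q) (hF : Fintype.card F = q ^ 2) {ε : F} {hz : ↥(Cfsg.SU 3 F q)} {ρ : SL2 K →* ↥(Cfsg.SU 3 F q)}
    (hD : Dat D ε hz ρ) : hz ^ (q + 1) ∈ ρ.range := by
  have hb0 : ((D.bK : Kˣ) : K) ≠ 0 := D.bK.ne_zero
  have hζ0 : (D.ζ : F) ≠ 0 := D.ζ.ne_zero
  let g₀ : SL2 K := ⟨!![(D.bK : K), 0; 0, (D.bK : K)⁻¹], by
    rw [Matrix.det_fin_two_of]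
    field_simp
    ring⟩
  refine ⟨g₀, ?_⟩
  apply D.c.cj_inj
  rw [hD.hρ, su3me3_cj_pow D hD]
  have h1 : (D.ζ : F) ^ (q + 1) = D.ι (D.bK : K) := by
    rw [D.hbK, D.hσ, pow_succ']
  have h2 : (D.σ (D.ζ : F)) ^ (q + 1) = D.ι (D.bK : K) := by
    rw [D.hσ, ← pow_mul, Nat.mul_succ, pow_add, ← pow_two, su3me3_zeta_pow_card D hF, ← pow_succ', h1]
  have h3 : (D.σ (D.ζ : F) / (D.ζ : F)) ^ (q + 1) = 1 := by
    rw [div_pow, h1, h2]
    apply div_self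
    rw [← h1]
    exact pow_ne_zero _ hζ0
  have h4 : ((D.σ (D.ζ : F))⁻¹) ^ (q + 1) = (D.ι (D.bK : K))⁻¹ := by
    rw [inv_pow, h2]
  rw [h1, h3, h4]
  ext i j
  fin_cases i <;> fin_cases j <;> simp [rhoM, g₀, map_inv₀]

/-- `hz ^ i ∈ ρ.range → q + 1 ∣ i` -/
theorem su3me3_dvd_of_pow_mem (D : Par F K q) (hF : Fintype.card F = q ^ 2) (hK : Fintype.card K = q) {ε : F} {hz : ↥(Cfsg.SU 3 F q)}
    {ρ : SL2 K →* ↥(Cfsg.SU 3 F q)} (hD : Dat D ε hz ρ) (i : ℕ) (hi : hz ^ i ∈ ρ.range) : q + 1 ∣ i := by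
  have hq2 : 2 ≤ q := by rw [← hK]; exact Fintype.one_lt_card
  have hζ0 : (D.ζ : F) ≠ 0 := D.ζ.ne_zero
  obtain ⟨g, hg⟩ := hi
  have h1 := congrArg D.c.cj hg
  rw [hD.hρ, su3me3_cj_pow D hD] at h1
  have h11 := congrFun (congrFun h1 1) 1
  simp [rhoM] at h11
  -- `1 = (σ ζ / ζ) ^ i`
  have h2 : D.σ (D.ζ : F) / (D.ζ : F) = (D.ζ : F) ^ (q - 1) := by
    rw [D.hσ, div_eq_iff hζ0, ← pow_succ, Nat.sub_add_cancel (by omega)]
  rw [h2, ← pow_mul] at h11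
  have h3 : (D.ζ : Fˣ) ^ ((q - 1) * i) = 1 := by
    apply Units.ext
    rw [Units.val_pow_eq_pow_val, Units.val_one]
    exact h11.symm
  have h4 := orderOf_dvd_of_pow_eq_one h3
  rw [su3me3_orderOf_zeta D hF] at h4
  have h5 : q ^ 2 - 1 = (q - 1) * (q + 1) := by
    obtain ⟨k, rfl⟩ : ∃ k, q = k + 1 := ⟨q - 1, by omega⟩
    simp only [Nat.add_sub_cancel]
    have : (k + 1) ^ 2 = k * (k + 1 + 1) + 1 := by ring
    rw [this, Nat.add_sub_cancel]
  rw [h5] at h4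
  exact Nat.dvd_of_mul_dvd_mul_left (by omega) h4

theorem su3me3_card_range (D : Par F K q) (hK : Fintype.card K = q) {ε : F} {hz : ↥(Cfsg.SU 3 F q)} {ρ : SL2 K →* ↥(Cfsg.SU 3 F q)}
    (hD : Dat D ε hz ρ) : Nat.card ↥ρ.range = q * (q ^ 2 - 1) := by
  rw [← Nat.card_congr (MonoidHom.ofInjective (rho_inj D hD)).toEquiv, Cfsg.Agent.Lib.helper15.card_SL2, hK]

/-- E3 [M-L] -/
theorem card_Mg (D : Par F K q) (hF : Fintype.card F = q ^ 2) (hK : Fintype.card K = q) {ε : F} {hz : ↥(Cfsg.SU 3 F q)} {ρ : SL2 K →* ↥(Cfsg.SU 3 F q)}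
    (hD : Dat D ε hz ρ) : Nat.card ↥(Mg hz ρ) = q * (q ^ 2 - 1) * (q + 1) := by
  have hnorm := rho_norm D hF hD
  have hfin : Finite ↥ρ.range := by
    apply Nat.finite_of_card_ne_zero
    rw [su3me3_card_range D hK hD]
    have hq2 : 2 ≤ q := by rw [← hK]; exact Fintype.one_lt_card
    have : 1 < q ^ 2 := by nlinarith
    have h1 : 0 < q ^ 2 - 1 := by omega
    positivity
  unfold Mg
  rw [su3me3_card_ext ρ.range hz (q + 1) (Nat.succ_pos q) (su3me3_pow_mem D hF hD) hnorm.1 hnorm.2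
    (su3me3_dvd_of_pow_mem D hF hK hD), su3me3_card_range D hK hD, mul_comm]

end E

end Cfsg.Agent.Lib.Helper24.SU3M
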