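import Mathlib
import Cfsg.Agent.Lib.Helper24.SU3M.Defs
import Cfsg.Agent.Lib.helper7.CeA
import Cfsg.Agent.Lib.helper3.StemTools
import Cfsg.Agent.Lib.helper3.SuzukiMultB
import Cfsg.Agent.Lib.helper3.SL2Mult
import Cfsg.Agent.Lib.helper3.SL29Mult
import Cfsg.Agent.Lib.Helper19.SL2Normal
import Cfsg.Agent.Lib.Helper21.SU3ME1

/-!
# Project SU3M (designer helper24), row E5 (helper21): `sl2_core` VERBATIM vs `Helper24/SU3M/Skel.lean.txt` (on row E1 `Helper21/SU3ME1.lean`).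
The generic statement is `su3me5_core` (any central extension `π : Γ →* G`, any injective `ρ : SL₂(K) →* G`, `card K` odd, `≥ 5`); pieces: `su3me5_map_core`, `su3me5_core_perfect`,
`su3me5_exists_tau`, `su3me5_commutator_top`.
-/

set_option autoImplicit false
set_option linter.unusedSectionVars false
set_option linter.unusedVariables false

namespace Cfsg.Agent.Lib.Helper24.SU3M

open Cfsg.Agent.Lib.Helper19.U3P Cfsg.Agent.Lib.Helper25.SU3P Cfsg.Agent.Lib.helper14.SU3J Cfsg.Agent.Lib.helper7.Ce Matrix Polynomial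

universe u

section generic

variable {K : Type*} [Field K] {G Γ : Type*} [Group G] [Group Γ] {π : Γ →* G}

/-- the image of the core `⁅ρ.range.comap π, ρ.range.comap π⁆` is `ρ.range` when the source of `ρ` is perfect -/
theorem su3me5_map_core {H : Type*} [Group H] (hH : commutator H = ⊤) (hsurj : Function.Surjective π) (ρ : H →* G) :
    (⁅ρ.range.comap π, ρ.range.comap π⁆).map π = ρ.range := by
  rw [Subgroup.map_commutator, Subgroup.map_comap_eq_self_of_surjective hsurj]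
  have h1 : ρ.range = (⊤ : Subgroup H).map ρ := MonoidHom.range_eq_map ρ
  have h2 := Subgroup.map_commutator (⊤ : Subgroup H) ⊤ ρ
  rw [← commutator_def, hH] at h2
  rw [h1]
  exact h2.symm

/-- the core is perfect (as a subgroup of `Γ`) -/
theorem su3me5_core_perfect {H : Type*} [Group H] (hH : commutator H = ⊤) (hsurj : Function.Surjective π)
    (hcen : π.ker ≤ Subgroup.center Γ) (ρ : H →* G) :
    ⁅ρ.range.comap π, ρ.range.comap π⁆ ≤
      ⁅⁅ρ.range.comap π, ρ.range.comap π⁆, ⁅ρ.range.comap π, ρ.range.comap π⁆⁆ := by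
  have hmap := su3me5_map_core hH hsurj ρ
  rw [Subgroup.commutator_le]
  intro g₁ h₁ g₂ h₂
  have e₁ : π g₁ ∈ (⁅ρ.range.comap π, ρ.range.comap π⁆).map π := by rw [hmap]; exact h₁
  have e₂ : π g₂ ∈ (⁅ρ.range.comap π, ρ.range.comap π⁆).map π := by rw [hmap]; exact h₂
  obtain ⟨r₁, hr₁, hr₁'⟩ := e₁
  obtain ⟨r₂, hr₂, hr₂'⟩ := e₂
  rw [Cfsg.Agent.Lib.helper3.comm_eq_of_map_eq π hcen hr₁'.symm hr₂'.symm]
  exact Subgroup.commutator_mem_commutator hr₁ hr₂

/-- a subgroup `R ≤ ⁅R, R⁆` is a perfect group -/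
theorem su3me5_commutator_top (R : Subgroup Γ) (hR : R ≤ ⁅R, R⁆) : commutator ↥R = ⊤ := by
  have h2 := Subgroup.map_commutator (⊤ : Subgroup ↥R) ⊤ R.subtype
  have h3 : (⊤ : Subgroup ↥R).map R.subtype = R := by
    rw [← MonoidHom.range_eq_map, Subgroup.range_subtype]
  rw [h3, ← commutator_def] at h2
  rw [eq_top_iff]
  intro x _
  have hx : (x : Γ) ∈ (commutator ↥R).map R.subtype := by
    rw [h2]
    exact hR x.2
  obtain ⟨y, hy, hyx⟩ := hx
  have : y = x := Subtype.ext hyx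
  rw [← this]
  exact hy

/-- the homomorphism `τ = ρ⁻¹ ∘ π` on a subgroup mapped into `ρ.range` -/
theorem su3me5_exists_tau {H : Type*} [Group H] (ρ : H →* G) (hρ : Function.Injective ρ) (R : Subgroup Γ)
    (hR : ∀ x ∈ R, π x ∈ ρ.range) : ∃ τ : ↥R →* H, ∀ x : ↥R, ρ (τ x) = π x := by
  let π' : ↥R →* ↥ρ.range := (π.comp R.subtype).codRestrict ρ.range (fun x => hR x.1 x.2)
  let e : H ≃* ↥ρ.range := MonoidHom.ofInjective hρ
  refine ⟨e.symm.toMonoidHom.comp π', fun x => ?_⟩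
  have h1 : e (e.symm (π' x)) = π' x := e.apply_symm_apply _
  have h2 : ((e (e.symm (π' x)) : ↥ρ.range) : G) = ρ (e.symm (π' x)) := MonoidHom.ofInjective_apply hρ
  have h3 : ((π' x : ↥ρ.range) : G) = π x := rfl
  change ρ (e.symm (π' x)) = π x
  rw [← h2, h1, h3]

/-- the generic form of E5 -/
theorem su3me5_core [Fintype K] [Finite Γ] (hsurj : Function.Surjective π) (hcen : π.ker ≤ Subgroup.center Γ)
    (ρ : SL2 K →* G) (hρ : Function.Injective ρ) (h5 : 5 ≤ Fintype.card K) (hodd : Odd (Fintype.card K)) :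
    ∀ w ∈ ⁅ρ.range.comap π, ρ.range.comap π⁆, π w = 1 → w ^ 2 = 1 → w = 1 := by
  have hperfK : commutator (SL2 K) = ⊤ :=
    Cfsg.Agent.Lib.Helper19.SL2Normal.commutator_eq_top (by rw [Nat.card_eq_fintype_card]; omega)
  have hmap := su3me5_map_core hperfK hsurj ρ
  have hperf := su3me5_core_perfect hperfK hsurj hcen ρ
  set R : Subgroup Γ := ⁅ρ.range.comap π, ρ.range.comap π⁆ with hRdef
  have hRtop : commutator ↥R = ⊤ := su3me5_commutator_top R hperf
  obtain ⟨τ, hτ⟩ := su3me5_exists_tau (π := π) ρ hρ R (fun x hx => by rw [← hmap]; exact Subgroup.mem_map_of_mem π hx)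
  have hτsurj : Function.Surjective τ := by
    intro g
    have hg : ρ g ∈ R.map π := by rw [hmap]; exact ⟨g, rfl⟩
    obtain ⟨x, hx, hxg⟩ := hg
    refine ⟨⟨x, hx⟩, hρ ?_⟩
    rw [hτ]
    exact hxg
  have hτker : ∀ z : ↥R, z ∈ τ.ker ↔ π z = 1 := by
    intro z
    rw [MonoidHom.mem_ker]
    constructor
    · intro h
      rw [← hτ, h, map_one]
    · intro h
      apply hρ
      rw [hτ, h, map_one]
  have hτcen : τ.ker ≤ Subgroup.center ↥R := by
    intro z hz
    have hz' : (z : Γ) ∈ Subgroup.center Γ := hcen ((hτker z).1 hz)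
    rw [Subgroup.mem_center_iff]
    intro g
    apply Subtype.ext
    exact Subgroup.mem_center_iff.1 hz' g
  have hτder : τ.ker ≤ commutator ↥R := by
    rw [hRtop]
    exact le_top
  intro w hw hπw hw2
  have hwker : (⟨w, hw⟩ : ↥R) ∈ τ.ker := (hτker _).2 hπw
  by_cases h9 : Fintype.card K = 9
  · obtain ⟨c, _, hc3, hcgen⟩ := Cfsg.Agent.Lib.helper3.sl29_ker_cyclic h9 τ hτsurj hτcen hτder
    obtain ⟨j, hj⟩ := Subgroup.mem_zpowers_iff.1 (hcgen _ hwker)
    have h3 : (⟨w, hw⟩ : ↥R) ^ 3 = 1 := by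
      rw [← hj, ← zpow_natCast, ← _root_.zpow_mul, mul_comm, _root_.zpow_mul, zpow_natCast, hc3, _root_.one_zpow]
    have h3' : w ^ 3 = 1 := by
      have := congrArg Subtype.val h3
      simpa using this
    calc w = w ^ 3 * (w ^ 2)⁻¹ := by group
      _ = 1 := by rw [h3', hw2, inv_one, mul_one]
  · have h4 : Fintype.card K ≠ 4 := by
      intro h
      rw [h] at hodd
      exact absurd hodd (by decide)
    have := Cfsg.Agent.Lib.helper3.sl2_stem_ker_trivial τ hτsurj hτcen hτder h4 h9 _ hwker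
    exact congrArg Subtype.val this

end generic

section E

variable {F : Type u} [Field F] [Fintype F] {K : Type u} [Field K] [Fintype K] {q : ℕ} {Γ : Type*} [Group Γ] {π : Γ →* ↥(Cfsg.SU 3 F q)}

/-- E5 [M-L] -/
theorem sl2_core (D : Par F K q) (hF : Fintype.card F = q ^ 2) (hK : Fintype.card K = q) (hq : Odd q) (hq5 : 5 ≤ q) [Finite Γ] (h : IsCE π)
    {ε : F} {hz : ↥(Cfsg.SU 3 F q)} {ρ : SL2 K →* ↥(Cfsg.SU 3 F q)} (hD : Dat D ε hz ρ) :
    ∀ w ∈ ⁅ρ.range.comap π, ρ.range.comap π⁆, π w = 1 → w ^ 2 = 1 → w = 1 :=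
  su3me5_core h.surj h.cen ρ (rho_inj D hD) (by rw [hK]; exact hq5) (by rw [hK]; exact hq)

end E

end Cfsg.Agent.Lib.Helper24.SU3M
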