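import Mathlib
import Cfsg.Prelude.Def_GeometricClasses
import Cfsg.Agent.Lib.Helper13.EIG.Defs
import Cfsg.Agent.Lib.Helper13.EIG.Basic

set_option autoImplicit false
set_option linter.unusedVariables false
set_option linter.unusedSectionVars false

/-!
# Project EIG (leader: helper13) -> S5877 : piece JOINT (helper21).
-/

namespace Cfsg.Agent.Lib.Helper13.EIG

open Matrix

variable {n : ℕ} {F : Type*} [Field F] {r : ℕ}
  {S : Subgroup (Matrix.GeneralLinearGroup (Fin n) F)}

/-- independent-sum bound, by `Finset` induction: if the `E a` are independent, then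
`Σ_{a ∈ A} dim (E a ⊓ Y) = dim (⨆_{a ∈ A} (E a ⊓ Y))`. -/
theorem eigjoint_sum_eq {V : Type*} [AddCommGroup V] [Module F V] [FiniteDimensional F V]
    (E : F → Submodule F V) (hE : iSupIndep E) (Y : Submodule F V) (A : Finset F) :
    ∑ a ∈ A, Module.finrank F (E a ⊓ Y : Submodule F V) =
      Module.finrank F (⨆ a ∈ A, (E a ⊓ Y) : Submodule F V) := by
  classical
  induction A using Finset.induction_on with
  | empty =>
    have h0 : (⨆ a ∈ (∅ : Finset F), (E a ⊓ Y) : Submodule F V) = ⊥ := by simp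
    rw [h0, finrank_bot, Finset.sum_empty]
  | insert a A ha ih =>
    rw [Finset.sum_insert ha, ih, Finset.iSup_insert]
    have hdisj : (E a ⊓ Y) ⊓ (⨆ a' ∈ A, (E a' ⊓ Y)) = ⊥ := by
      rw [eq_bot_iff]
      have h1 : (⨆ a' ∈ A, (E a' ⊓ Y)) ≤ ⨆ a' ∈ A, E a' :=
        iSup₂_mono (fun a' _ => inf_le_left)
      have h2 : Disjoint (E a) (⨆ a' ∈ A, E a') := by
        have := hE.disjoint_biSup (x := a) (y := {a' | a' ∈ A}) (by simpa using ha)
        simpa using this
      calc (E a ⊓ Y) ⊓ (⨆ a' ∈ A, (E a' ⊓ Y)) ≤ E a ⊓ ⨆ a' ∈ A, E a' :=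
            inf_le_inf inf_le_left h1
        _ = ⊥ := h2.eq_bot
    have h3 := Submodule.finrank_sup_add_finrank_inf_eq (E a ⊓ Y) (⨆ a' ∈ A, (E a' ⊓ Y))
    rw [hdisj, finrank_bot, add_zero] at h3
    exact h3.symm

/-- JOINT [M] : the `Eig g a ⊓ Eig y b` (`a ∈ A`, distinct) are independent subspaces of `Eig y b`. -/
theorem joint_sum_le (g y : Matrix.GeneralLinearGroup (Fin n) F) (b : F) (A : Finset F) :
    ∑ a ∈ A, Module.finrank F (Eig g a ⊓ Eig y b : Submodule F (Fin n → F)) ≤
      Module.finrank F (Eig y b) := by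
  have hE : iSupIndep (fun a : F => Eig g a) :=
    Module.End.eigenspaces_iSupIndep (Matrix.toLin' (g : Matrix (Fin n) (Fin n) F))
  rw [eigjoint_sum_eq (fun a : F => Eig g a) hE (Eig y b) A]
  apply Submodule.finrank_mono
  exact iSup₂_le (fun a _ => inf_le_right)

end Cfsg.Agent.Lib.Helper13.EIG
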