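import Mathlib
import Cfsg.Prelude.Def_GeometricClasses
import Cfsg.Agent.Lib.Helper13.EIG.Defs
import Cfsg.Agent.Lib.Helper13.EIG.Basic

set_option autoImplicit false
set_option linter.unusedVariables false
set_option linter.unusedSectionVars false

/-!
# Project EIG (leader: helper13) -> S5877 : piece SHIFT (helper21).
-/

namespace Cfsg.Agent.Lib.Helper13.EIG

open Matrix

variable {n : ℕ} {F : Type*} [Field F] {r : ℕ}
  {S : Subgroup (Matrix.GeneralLinearGroup (Fin n) F)}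

/-- the image of `Eig g (a b) ⊓ Eig y (b ε)` under `x` is `Eig g a ⊓ Eig y b`. -/
theorem eigshift_map {x g y : Matrix.GeneralLinearGroup (Fin n) F} {ε : F} (hxg : x * g = g * y * x)
    (hxy : ∀ v : Fin n → F, ((x * y : Matrix.GeneralLinearGroup (Fin n) F) : Matrix (Fin n) (Fin n) F) *ᵥ v =
      ε • (((y * x : Matrix.GeneralLinearGroup (Fin n) F) : Matrix (Fin n) (Fin n) F) *ᵥ v))
    (hε : ε ≠ 0) (a b : F) (hb : b ≠ 0) :
    (Eig g (a * b) ⊓ Eig y (b * ε) : Submodule F (Fin n → F)).map (lin x).toLinearMap =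
      Eig g a ⊓ Eig y b := by
  ext v
  rw [mem_map_lin, Submodule.mem_inf, Submodule.mem_inf, mem_Eig, mem_Eig, mem_Eig, mem_Eig]
  set u : Fin n → F :=
    ((x⁻¹ : Matrix.GeneralLinearGroup (Fin n) F) : Matrix (Fin n) (Fin n) F) *ᵥ v with hu
  have hxu : (x : Matrix (Fin n) (Fin n) F) *ᵥ u = v := mv_mv_inv x v
  have e1 : (x : Matrix (Fin n) (Fin n) F) *ᵥ ((g : Matrix (Fin n) (Fin n) F) *ᵥ u) =
      (g : Matrix (Fin n) (Fin n) F) *ᵥ ((y : Matrix (Fin n) (Fin n) F) *ᵥ v) := by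
    have h : ((x * g : Matrix.GeneralLinearGroup (Fin n) F) : Matrix (Fin n) (Fin n) F) *ᵥ u =
        ((g * y * x : Matrix.GeneralLinearGroup (Fin n) F) : Matrix (Fin n) (Fin n) F) *ᵥ u := by
      rw [hxg]
    rw [mv_mul, mv_mul, mv_mul, hxu] at h
    exact h
  have e2 : (x : Matrix (Fin n) (Fin n) F) *ᵥ ((y : Matrix (Fin n) (Fin n) F) *ᵥ u) =
      ε • ((y : Matrix (Fin n) (Fin n) F) *ᵥ v) := by
    have h := hxy u
    rw [mv_mul, mv_mul, hxu] at h
    exact h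
  constructor
  · rintro ⟨hgu, hyu⟩
    have hyv : (y : Matrix (Fin n) (Fin n) F) *ᵥ v = b • v := by
      rw [hyu, Matrix.mulVec_smul, hxu, mul_comm, mul_smul] at e2
      exact (smul_right_injective _ hε e2).symm
    refine ⟨?_, hyv⟩
    rw [hgu, Matrix.mulVec_smul, hxu, hyv, Matrix.mulVec_smul, mul_comm, mul_smul] at e1
    exact (smul_right_injective _ hb e1).symm
  · rintro ⟨hgv, hyv⟩
    refine ⟨?_, ?_⟩
    · apply mv_inj x
      rw [e1, hyv, Matrix.mulVec_smul, hgv, Matrix.mulVec_smul, hxu, smul_smul, mul_comm]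
    · apply mv_inj x
      rw [e2, hyv, Matrix.mulVec_smul, hxu, smul_smul, mul_comm]

/-- SHIFT [M] : `x⁻¹` maps `Eig g a ⊓ Eig y b` ONTO `Eig g (a b) ⊓ Eig y (b ε)`:
`g x⁻¹ = x⁻¹ g y`, `y x⁻¹ = ε x⁻¹ y`; conversely for `u` in the target, `y (x u) = b x u` and `g (y (x u)) = x g u`,
so `b (g x u - a x u) = 0`. -/
theorem shift {x g y : Matrix.GeneralLinearGroup (Fin n) F} {ε : F} (hxg : x * g = g * y * x)
    (hxy : ∀ v : Fin n → F, ((x * y : Matrix.GeneralLinearGroup (Fin n) F) : Matrix (Fin n) (Fin n) F) *ᵥ v =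
      ε • (((y * x : Matrix.GeneralLinearGroup (Fin n) F) : Matrix (Fin n) (Fin n) F) *ᵥ v))
    (hε : ε ≠ 0) (a b : F) (hb : b ≠ 0) :
    Module.finrank F (Eig g a ⊓ Eig y b : Submodule F (Fin n → F)) =
      Module.finrank F (Eig g (a * b) ⊓ Eig y (b * ε) : Submodule F (Fin n → F)) := by
  rw [← eigshift_map hxg hxy hε a b hb, finrank_map_lin]

end Cfsg.Agent.Lib.Helper13.EIG
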