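import Mathlib

/-!
# Hig-Act (project S3050): the action of `L ≃ G ⧸ Q` on an abelian normal subgroup centralized by `Q`
-/

set_option autoImplicit false

namespace Cfsg.Agent.Lib.Helper21.Hig

universe u v

variable {G : Type u} [Group G] {L : Type v} [Group L]

/-- Conjugation on a normal subgroup `Z` centralized by the normal subgroup `Q`, as a homomorphism
from `G ⧸ Q`. -/
noncomputable def zHom (Q Z : Subgroup G) [Q.Normal] [Z.Normal]
    (hQZ : ∀ q ∈ Q, ∀ z ∈ Z, q * z = z * q) : G ⧸ Q →* MulAut Z :=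
  QuotientGroup.lift Q (MulAut.conjNormal (H := Z)) (by
    intro q hq
    rw [MonoidHom.mem_ker]
    ext z
    rw [MulAut.conjNormal_apply, MulAut.one_apply, hQZ q hq z z.2, mul_inv_cancel_right])

theorem zHom_mk (Q Z : Subgroup G) [Q.Normal] [Z.Normal]
    (hQZ : ∀ q ∈ Q, ∀ z ∈ Z, q * z = z * q) (g : G) (z : Z) :
    ((zHom Q Z hQZ (g : G ⧸ Q)) z : G) = g * z * g⁻¹ := by
  unfold zHom
  rw [QuotientGroup.lift_mk, MulAut.conjNormal_apply]

theorem zAct_aux (Q Z : Subgroup G) [Q.Normal] [Z.Normal] (e : G ⧸ Q ≃* L)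
    (hZ : ∀ a ∈ Z, ∀ b ∈ Z, a * b = b * a) (hQZ : ∀ q ∈ Q, ∀ z ∈ Z, q * z = z * q) :
    ∃ inst : DistribMulAction L (Additive Z), ∀ (g : G) (z : Z),
      inst.smul (e (g : G ⧸ Q)) (Additive.ofMul z) =
        Additive.ofMul (⟨g * z * g⁻¹, (inferInstance : Z.Normal).conj_mem _ z.2 g⟩ : Z) := by
  let φ : L →* MulAut Z := (zHom Q Z hQZ).comp e.symm.toMonoidHom
  refine ⟨{ smul := fun l a => Additive.ofMul (φ l (Additive.toMul a))
            one_smul := ?os, mul_smul := ?ms, smul_zero := ?sz, smul_add := ?sa }, ?_⟩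
  case os =>
    intro a
    show Additive.ofMul (φ 1 (Additive.toMul a)) = a
    rw [map_one]; rfl
  case ms =>
    intro x y a
    show Additive.ofMul (φ (x * y) (Additive.toMul a)) =
      Additive.ofMul (φ x (Additive.toMul (Additive.ofMul (φ y (Additive.toMul a)))))
    rw [map_mul]; rfl
  case sz =>
    intro x
    show Additive.ofMul (φ x (Additive.toMul (0 : Additive Z))) = 0
    rw [toMul_zero, map_one]; rfl
  case sa =>
    intro x a b
    show Additive.ofMul (φ x (Additive.toMul (a + b))) =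
      Additive.ofMul (φ x (Additive.toMul a)) + Additive.ofMul (φ x (Additive.toMul b))
    rw [toMul_add, map_mul]; rfl
  intro g z
  show Additive.ofMul (φ (e (g : G ⧸ Q)) (Additive.toMul (Additive.ofMul z))) = _
  congr 1
  apply Subtype.ext
  show ((zHom Q Z hQZ (e.symm (e (g : G ⧸ Q)))) z : G) = g * z * g⁻¹
  rw [MulEquiv.symm_apply_apply, zHom_mk]

end Cfsg.Agent.Lib.Helper21.Hig
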