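import Mathlib
import Cfsg.Agent.Lib.Helper13.OTS.Defs
import Cfsg.Agent.Lib.Helper16.ZeroCount
import Cfsg.Agent.Lib.Helper21.OTSHYPEXTa

/-!
# Project OTS, row HYPEXT (helper21): a totally singular `W` in a non-degenerate quadratic space:
`W^⊥ = W ⊕ N` with `N` non-degenerate of the same type (all characteristics; the type of `N` by counting zeros
with helper16's `zeros_plus`, no classification needed).
-/

set_option autoImplicit false
set_option linter.unusedVariables false

namespace Cfsg.Agent.Lib.Helper13.OTS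

open Polynomial Module Cfsg.Agent.Lib.Helper13.S5955 Cfsg.Agent.Lib.helper15.S5972
open Cfsg.Agent.Lib.Helper16.OSemi

/-- the decomposition behind HYPEXT, with the counting data -/
theorem otshypext_core {F : Type*} [Field F] [Fintype F] {V : Type*} [AddCommGroup V] [Module F V]
    [FiniteDimensional F V] (Q : QuadraticForm F V)
    (hnd : ∀ u, (∀ v, QuadraticMap.polar Q u v = 0) → u = 0) (d : ℕ) (hV : finrank F V = 2 * d)
    (W : Submodule F V) (hW : QTS Q W) :
    ∃ N : Submodule F V, SND (qB Q) N ∧ SOrth (qB Q) W N ∧ Disjoint W N ∧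
      (qB Q).orthogonal W = W ⊔ N ∧ finrank F N + 2 * finrank F W = 2 * d ∧
      (Fintype.card F : ℤ) * cnt (fun w : ↥(⊤ : Submodule F V) => Q (w : V)) 0 =
        (Fintype.card F : ℤ) ^ (finrank F W + 1) * cnt (fun w : ↥N => Q (w : V)) 0 +
          (Fintype.card F : ℤ) ^ (finrank F N) *
            ((Fintype.card F : ℤ) ^ (2 * finrank F W) - (Fintype.card F : ℤ) ^ (finrank F W)) := by
  classical
  have hQ : (QuadraticMap.polarBilin Q).Nondegenerate :=
    ⟨fun u hu => hnd u hu, fun u hu => hnd u (fun v => by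
      rw [QuadraticMap.polar_comm]; exact hu v)⟩
  obtain ⟨j, hj⟩ : ∃ j, finrank F W = j := ⟨_, rfl⟩
  rw [hj]
  obtain ⟨S, hSinj, hQS, hSW, hWS⟩ := otshypext_hyp Q hQ W hW j hj
  set H := LinearMap.range S with hH
  have hHdim : finrank F H = 2 * j := by
    rw [hH, LinearMap.finrank_range_of_inj hSinj, Module.finrank_fintype_fun_eq_card,
      Fintype.card_sum, Fintype.card_fin]
    ring
  set N := (qB Q).orthogonal H with hN
  have hjd : 2 * j ≤ 2 * d := by
    rw [← hHdim, ← hV]; exact Submodule.finrank_le H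
  have hNdim : finrank F N = 2 * d - 2 * j := by
    rw [hN, LinearMap.BilinForm.finrank_orthogonal hQ H, hV, hHdim]
  have hpol : ∀ a b : Fin j ⊕ Fin j → F, QuadraticMap.polar Q (S a) (S b) =
      ∑ i, (a (Sum.inl i) * b (Sum.inr i) + a (Sum.inr i) * b (Sum.inl i)) := by
    intro a b
    unfold QuadraticMap.polar
    rw [← map_add, hQS, hQS, hQS]
    unfold Cfsg.quadFormPlus
    rw [← Finset.sum_sub_distrib, ← Finset.sum_sub_distrib]
    refine Finset.sum_congr rfl fun i _ => ?_
    simp only [Pi.add_apply]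
    ring
  have hNmem : ∀ n : V, n ∈ N ↔ ∀ h ∈ H, QuadraticMap.polar Q h n = 0 := by
    intro n
    rw [hN, LinearMap.BilinForm.mem_orthogonal_iff]
    rfl
  have hHN : H ⊓ N = ⊥ := by
    rw [eq_bot_iff]
    rintro x ⟨⟨b, rfl⟩, hxN⟩
    have hxN' := (hNmem _).mp hxN
    have hb : b = 0 := by
      funext t
      rcases t with i | i
      · have := hxN' (S (Pi.single (Sum.inr i) 1)) ⟨_, rfl⟩
        rw [hpol] at this
        simpa [Pi.single_apply] using this
      · have := hxN' (S (Pi.single (Sum.inl i) 1)) ⟨_, rfl⟩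
        rw [hpol] at this
        simpa [Pi.single_apply] using this
    rw [hb, map_zero]
    exact Submodule.zero_mem _
  have hsup : H ⊔ N = ⊤ := by
    apply Submodule.eq_top_of_finrank_eq
    have h1 := Submodule.finrank_sup_add_finrank_inf_eq H N
    rw [hHN, finrank_bot, add_zero, hHdim, hNdim] at h1
    rw [h1, hV]; omega
  have hWH : W ≤ H := by
    intro w hw
    obtain ⟨v, _, rfl⟩ := hWS w hw
    exact ⟨v, rfl⟩
  have hWW : ∀ u ∈ W, ∀ u' ∈ W, QuadraticMap.polar Q u u' = 0 := by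
    intro u hu u' hu'
    unfold QuadraticMap.polar
    rw [hW _ (W.add_mem hu hu'), hW u hu, hW u' hu']; ring
  -- the equivalence `(F^j ⊕ F^j) × F^k' ≃ ⊤`
  let bN : Basis (Fin (finrank F N)) F N := Module.finBasisOfFinrankEq F N rfl
  let eN : (Fin (finrank F N) → F) ≃ₗ[F] N := bN.equivFun.symm
  let g : (Fin (finrank F N) → F) → F := fun c => Q ((eN c : N) : V)
  have hT_inj : ∀ p p' : Fin j ⊕ Fin j → F, ∀ n n' : N,
      S p + (n : V) = S p' + (n' : V) → p = p' ∧ n = n' := by
    intro p p' n n' h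
    have h1 : S (p - p') = ((n' - n : N) : V) := by
      rw [map_sub, Submodule.coe_sub, sub_eq_sub_iff_add_eq_add, h, add_comm]
    have h2 : S (p - p') ∈ H ⊓ N := ⟨⟨_, rfl⟩, by rw [h1]; exact (n' - n).2⟩
    rw [hHN, Submodule.mem_bot] at h2
    have h3 : p - p' = 0 := hSinj (h2.trans (map_zero S).symm)
    have h4 : ((n' - n : N) : V) = 0 := by rw [← h1, h2]
    refine ⟨sub_eq_zero.mp h3, ?_⟩
    have : n' - n = 0 := Subtype.ext h4
    exact (sub_eq_zero.mp this).symm
  have hT_surj : ∀ v : V, ∃ (p : Fin j ⊕ Fin j → F) (n : N), S p + (n : V) = v := by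
    intro v
    have hv : v ∈ H ⊔ N := by rw [hsup]; exact Submodule.mem_top
    obtain ⟨h, ⟨p, rfl⟩, n, hn, rfl⟩ := Submodule.mem_sup.mp hv
    exact ⟨p, ⟨n, hn⟩, rfl⟩
  have hQT : ∀ (p : Fin j ⊕ Fin j → F) (n : N), Q (S p + (n : V)) =
      Cfsg.quadFormPlus j F p + Q (n : V) := by
    intro p n
    rw [Cfsg.Agent.Lib.helper6.Plus.Q_add', hQS, (hNmem _).mp n.2 (S p) ⟨_, rfl⟩, add_zero]
  let E : ((Fin j ⊕ Fin j → F) × (Fin (finrank F N) → F)) ≃ ↥(⊤ : Submodule F V) :=
    Equiv.ofBijective (fun pc => ⟨S pc.1 + ((eN pc.2 : N) : V), Submodule.mem_top⟩) (by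
      constructor
      · rintro ⟨p, c⟩ ⟨p', c'⟩ h
        have h' : S p + ((eN c : N) : V) = S p' + ((eN c' : N) : V) := congrArg Subtype.val h
        obtain ⟨h1, h2⟩ := hT_inj p p' _ _ h'
        rw [h1, eN.injective h2]
      · rintro ⟨v, _⟩
        obtain ⟨p, n, hpn⟩ := hT_surj v
        refine ⟨(p, eN.symm n), Subtype.ext ?_⟩
        show S p + ((eN (eN.symm n) : N) : V) = v
        rw [LinearEquiv.apply_symm_apply]; exact hpn)
  have hc1 : cnt (fun w : ↥(⊤ : Submodule F V) => Q (w : V)) 0 =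
      cnt (fun pc : (Fin j ⊕ Fin j → F) × (Fin (finrank F N) → F) =>
        Cfsg.quadFormPlus j F pc.1 + g pc.2) 0 :=
    (cnt_congr E _ _ (fun pc => hQT pc.1 (eN pc.2)) 0).symm
  have hc2 : cnt (fun w : ↥N => Q (w : V)) 0 = cnt g 0 :=
    (cnt_congr eN.toEquiv _ g (fun c => rfl) 0).symm
  have hz := Cfsg.Agent.Lib.Helper16.zeros_plus (F := F) j g
  have hc3 : cnt (fun pc : (Fin j ⊕ Fin j → F) × (Fin (finrank F N) → F) =>
        Cfsg.quadFormPlus j F pc.1 + g pc.2) 0 =
      Fintype.card {p : (Fin j ⊕ Fin j → F) × (Fin (finrank F N) → F) //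
        Cfsg.quadFormPlus j F p.1 + g p.2 = 0} := by
    unfold cnt; rw [Nat.card_eq_fintype_card]
  have hc4 : cnt g 0 = Fintype.card {w : Fin (finrank F N) → F // g w = 0} := by
    unfold cnt; rw [Nat.card_eq_fintype_card]
  refine ⟨N, ?_, ?_, ?_, ?_, ?_, ?_⟩
  · -- SND N
    intro u hu huN
    apply hnd u
    intro v
    obtain ⟨p, n, rfl⟩ := hT_surj v
    rw [QuadraticMap.polar_add_right, QuadraticMap.polar_comm, (hNmem u).mp hu (S p) ⟨_, rfl⟩,
      zero_add]
    exact huN n n.2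
  · intro w hw n hn
    exact (hNmem n).mp hn w (hWH hw)
  · rw [disjoint_iff, eq_bot_iff, ← hHN]
    exact inf_le_inf_right N hWH
  · symm
    apply Submodule.eq_of_le_of_finrank_eq
    · apply sup_le
      · intro w hw
        rw [LinearMap.BilinForm.mem_orthogonal_iff]
        intro w' hw'
        exact hWW w' hw' w hw
      · intro n hn
        rw [LinearMap.BilinForm.mem_orthogonal_iff]
        intro w hw
        exact (hNmem n).mp hn w (hWH hw)
    · have h1 := Submodule.finrank_sup_add_finrank_inf_eq W N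
      have h2 : W ⊓ N = ⊥ := by
        rw [eq_bot_iff, ← hHN]; exact inf_le_inf_right N hWH
      rw [h2, finrank_bot, add_zero, hNdim] at h1
      rw [h1, LinearMap.BilinForm.finrank_orthogonal hQ W, hV, hj]
      omega
  · rw [hNdim]; omega
  · rw [hc1, hc2, hc3, hc4, hz, Fintype.card_fun, Fintype.card_fin]
    push_cast
    ring

/-- HYPEXT [L]: a t.s. `W` in a non-degenerate space: `W^⊥ = W ⊕ N` with `N` non-degenerate of the same type. -/
theorem q_hyp_ext {F : Type*} [Field F] [Fintype F] {V : Type*} [AddCommGroup V] [Module F V]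
    [FiniteDimensional F V] (Q : QuadraticForm F V)
    (hnd : ∀ u, (∀ v, QuadraticMap.polar Q u v = 0) → u = 0) (d : ℕ) (hV : finrank F V = 2 * d)
    (ε : ℤ) (hε : ε = 1 ∨ ε = -1) (hty : QTy Q ⊤ ε) (W : Submodule F V) (hW : QTS Q W) :
    ∃ N : Submodule F V, SND (qB Q) N ∧ SOrth (qB Q) W N ∧ Disjoint W N ∧
      (qB Q).orthogonal W = W ⊔ N ∧ finrank F N + 2 * finrank F W = 2 * d ∧ QTy Q N ε := by
  obtain ⟨N, h1, h2, h3, h4, h5, h6⟩ := otshypext_core Q hnd d hV W hW
  refine ⟨N, h1, h2, h3, h4, h5, ?_⟩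
  unfold QTy IsType at hty ⊢
  rw [finrank_top, hV] at hty
  have hd2 : 2 * d / 2 = d := by omega
  rw [hd2] at hty
  set j := finrank F W with hj
  have hjd : j ≤ d := by omega
  obtain ⟨t, rfl⟩ : ∃ t, d = j + t := ⟨d - j, by omega⟩
  have hNt : finrank F N = 2 * t := by omega
  have hN2 : finrank F N / 2 = t := by omega
  rw [hN2]
  rw [hty, hNt] at h6
  have hq0 : ((Fintype.card F : ℤ)) ^ j ≠ 0 := by
    apply pow_ne_zero
    exact_mod_cast Fintype.card_ne_zero
  apply mul_left_cancel₀ hq0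
  linear_combination -h6

end Cfsg.Agent.Lib.Helper13.OTS
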