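import Mathlib
import Cfsg.Agent.Lib.Helper13.OTS.Defs
import Cfsg.Agent.Lib.Helper21.OTSHYPEXT

/-!
# Project OTS, row PERPCOUNT (helper21): the singular vectors orthogonal to a totally singular `j`-space.
-/

set_option autoImplicit false
set_option linter.unusedVariables false

namespace Cfsg.Agent.Lib.Helper13.OTS

open Polynomial Module Cfsg.Agent.Lib.Helper13.S5955 Cfsg.Agent.Lib.helper15.S5972
open Cfsg.Agent.Lib.Helper16.OSemi

/-- PERPCOUNT [M-L]: the singular vectors orthogonal to a t.s. `j`-space `W`. -/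
theorem q_perp_count {F : Type*} [Field F] [Fintype F] {ι : Type} [Fintype ι] [DecidableEq ι]
    (Qs : QuadraticForm F (ι → F)) (d : ℕ) (ε : ℤ) (hs : QStd Qs d ε) (j : ℕ) (hj : j ≤ d)
    (W : Submodule F (ι → F)) (hW : finrank F W = j) (hWs : ∀ w ∈ W, Qs w = 0) :
    (Fintype.card F : ℤ) * Nat.card {v : ι → F // Qs v = 0 ∧ ∀ w ∈ W, QuadraticMap.polar Qs w v = 0} =
      (Fintype.card F : ℤ) ^ j * ((Fintype.card F : ℤ) ^ (2 * (d - j)) +
        ε * ((Fintype.card F : ℤ) ^ (d - j + 1) - (Fintype.card F : ℤ) ^ (d - j))) := by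
  classical
  have hnd : ∀ u, (∀ v, QuadraticMap.polar Qs u v = 0) → u = 0 := fun u hu => hs.nd.1 u hu
  have hV : finrank F (ι → F) = 2 * d := by
    rw [Module.finrank_fintype_fun_eq_card, hs.card]
  have hty : QTy Qs (⊤ : Submodule F (ι → F)) ε := by
    unfold QTy
    rw [finrank_top, hV, show 2 * d / 2 = d by omega]
    exact (isType_congr (Submodule.topEquiv (R := F) (M := ι → F)).toEquiv (⇑Qs) _ (fun w => rfl) d ε).mp
      hs.ty
  obtain ⟨N, hNnd, hWN, hdisj, hperp, hdim, hNty⟩ := q_hyp_ext Qs hnd d hV ε hs.eps hty W hWs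
  have hNd : finrank F N / 2 = d - j := by omega
  unfold QTy IsType at hNty
  rw [hNd] at hNty
  -- the bijection
  have hpolWN : ∀ w ∈ W, ∀ n ∈ N, QuadraticMap.polar Qs w n = 0 := fun w hw n hn => hWN w hw n hn
  have hWW : ∀ u ∈ W, ∀ u' ∈ W, QuadraticMap.polar Qs u u' = 0 := by
    intro u hu u' hu'
    unfold QuadraticMap.polar
    rw [hWs _ (W.add_mem hu hu'), hWs u hu, hWs u' hu']; ring
  have hQsum : ∀ w ∈ W, ∀ n ∈ N, Qs (w + n) = Qs n := by
    intro w hw n hn
    rw [Cfsg.Agent.Lib.helper6.Plus.Q_add', hWs w hw, hpolWN w hw n hn, zero_add, add_zero]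
  let f : W × {n : N // Qs (n : ι → F) = 0} →
      {v : ι → F // Qs v = 0 ∧ ∀ w ∈ W, QuadraticMap.polar Qs w v = 0} := fun wn =>
    ⟨(wn.1 : ι → F) + ((wn.2 : N) : ι → F), by
      rw [hQsum _ wn.1.2 _ wn.2.1.2]; exact wn.2.2, by
      intro w hw
      rw [QuadraticMap.polar_add_right, hWW w hw _ wn.1.2, hpolWN w hw _ wn.2.1.2, add_zero]⟩
  have hf : Function.Bijective f := by
    constructor
    · rintro ⟨w, n⟩ ⟨w', n'⟩ h
      have h' : (w : ι → F) + ((n : N) : ι → F) = (w' : ι → F) + ((n' : N) : ι → F) :=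
        congrArg Subtype.val h
      have h1 : (w : ι → F) - (w' : ι → F) = ((n' : N) : ι → F) - ((n : N) : ι → F) := by
        rw [sub_eq_sub_iff_add_eq_add, h', add_comm]
      have h2 : (w : ι → F) - (w' : ι → F) ∈ W ⊓ N :=
        ⟨W.sub_mem w.2 w'.2, by rw [h1]; exact N.sub_mem n'.1.2 n.1.2⟩
      rw [hdisj.eq_bot, Submodule.mem_bot] at h2
      have h3 : ((n' : N) : ι → F) - ((n : N) : ι → F) = 0 := by rw [← h1, h2]
      have e1 : w = w' := Subtype.ext (sub_eq_zero.mp h2)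
      have e2 : n = n' := Subtype.ext (Subtype.ext (sub_eq_zero.mp h3).symm)
      rw [e1, e2]
    · rintro ⟨v, hv0, hvW⟩
      have hv : v ∈ (qB Qs).orthogonal W := by
        rw [LinearMap.BilinForm.mem_orthogonal_iff]
        intro w hw
        exact hvW w hw
      rw [hperp] at hv
      obtain ⟨w, hw, n, hn, rfl⟩ := Submodule.mem_sup.mp hv
      refine ⟨(⟨w, hw⟩, ⟨⟨n, hn⟩, ?_⟩), rfl⟩
      rw [← hQsum w hw n hn]; exact hv0
  have hcard : Nat.card {v : ι → F // Qs v = 0 ∧ ∀ w ∈ W, QuadraticMap.polar Qs w v = 0} =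
      Fintype.card F ^ j * cnt (fun w : ↥N => Qs (w : ι → F)) 0 := by
    rw [← Nat.card_congr (Equiv.ofBijective f hf), Nat.card_prod, Module.natCard_eq_pow_finrank (K := F),
      hW, Nat.card_eq_fintype_card]
    rfl
  rw [hcard]
  push_cast
  linear_combination ((Fintype.card F : ℤ) ^ j) * hNty

end Cfsg.Agent.Lib.Helper13.OTS
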