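import Mathlib
import Cfsg.Prelude.Def_LieTypeChar
import Cfsg.Agent.Lib.helper14.SQD.Defs
import Cfsg.Agent.Lib.helper14.SQD.DefsU

/-!
# Project SQD (helper14, S4625), rows H6 (`hs_comm`) and H7 (`hs_sq`), VERBATIM.
The product law of the Heisenberg matrices (row H1) is proved here under my own name `sqdh6_mul`.
-/

set_option autoImplicit false

namespace Cfsg.Agent.Lib.helper14.SQD

open Cfsg Cfsg.Lie Matrix

universe u v

section H
variable {k d : ℕ} {F : Type u} [Field F] (τ : F →+* F) (G₀ : Matrix (Fin d) (Fin d) F)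

theorem sqdh6_fromRows_add (A A' : Matrix (Fin k) (Fin d) F) (B B' : Matrix (Fin k) (Fin d) F) :
    Matrix.fromRows A B + Matrix.fromRows A' B' = Matrix.fromRows (A + A') (B + B') := by
  ext (i | i) j <;> simp

theorem sqdh6_fromCols_add (A A' : Matrix (Fin d) (Fin k) F) (B B' : Matrix (Fin d) (Fin k) F) :
    Matrix.fromCols A B + Matrix.fromCols A' B' = Matrix.fromCols (A + A') (B + B') := by
  ext i (j | j) <;> simp

/-- row H1 (own name): the product law. -/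
theorem sqdh6_mul (R R' : Matrix (Fin d) (Fin k) F) (C C' : Matrix (Fin k) (Fin k) F) :
    hsM τ G₀ R C * hsM τ G₀ R' C' = hsM τ G₀ (R + R') (C + C' + tadj τ R * G₀ * R') := by
  unfold hsM
  rw [Matrix.fromBlocks_multiply, Matrix.fromBlocks_multiply, Matrix.fromRows_mul_fromCols,
    Matrix.fromBlocks_mul_fromRows, Matrix.fromCols_mul_fromBlocks, Matrix.fromCols_mul_fromRows]
  simp only [Matrix.mul_one, Matrix.one_mul, Matrix.mul_zero, Matrix.zero_mul, add_zero, zero_add]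
  rw [sqdh6_fromRows_add, sqdh6_fromCols_add, tadj_add, Matrix.add_mul]
  simp only [add_zero]
  congr 1
  · rw [Matrix.fromBlocks_add]
    simp only [add_zero]
    congr 1
    abel
  · rw [add_comm]

theorem sqdh6_zero : hsM τ G₀ (0 : Matrix (Fin d) (Fin k) F) 0 = 1 := by
  unfold hsM tadj
  simp [Matrix.fromBlocks_one]

theorem sqdh6_add_self [CharP F 2] {m n : Type*} (A : Matrix m n F) : A + A = 0 := by
  ext i j
  simp [CharTwo.add_self_eq_zero]

/-- H7 [E]. -/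
theorem hs_sq [CharP F 2] (R : Matrix (Fin d) (Fin k) F) (C : Matrix (Fin k) (Fin k) F) :
    hsM τ G₀ R C * hsM τ G₀ R C = hsM τ G₀ 0 (tadj τ R * G₀ * R) := by
  rw [sqdh6_mul, sqdh6_add_self, sqdh6_add_self, zero_add]

/-- the inverse of a Heisenberg element, characteristic 2. -/
theorem sqdh6_inv [CharP F 2] (R : Matrix (Fin d) (Fin k) F) (C : Matrix (Fin k) (Fin k) F)
    (w : GL ((Fin k ⊕ Fin k) ⊕ Fin d) F)
    (hw : (w : Matrix ((Fin k ⊕ Fin k) ⊕ Fin d) ((Fin k ⊕ Fin k) ⊕ Fin d) F) = hsM τ G₀ R C) :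
    ((w⁻¹ : GL ((Fin k ⊕ Fin k) ⊕ Fin d) F) :
      Matrix ((Fin k ⊕ Fin k) ⊕ Fin d) ((Fin k ⊕ Fin k) ⊕ Fin d) F) =
      hsM τ G₀ R (C + tadj τ R * G₀ * R) := by
  rw [Matrix.coe_units_inv, hw]
  apply Matrix.inv_eq_right_inv
  rw [sqdh6_mul, sqdh6_add_self]
  have e : C + (C + tadj τ R * G₀ * R) + tadj τ R * G₀ * R =
      (C + C) + (tadj τ R * G₀ * R + tadj τ R * G₀ * R) := by abel
  rw [e, sqdh6_add_self, sqdh6_add_self, add_zero, sqdh6_zero]

/-- H6 [M]. -/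
theorem hs_comm [CharP F 2] (R R' : Matrix (Fin d) (Fin k) F) (C C' : Matrix (Fin k) (Fin k) F)
    (w w' : GL ((Fin k ⊕ Fin k) ⊕ Fin d) F)
    (hw : (w : Matrix ((Fin k ⊕ Fin k) ⊕ Fin d) ((Fin k ⊕ Fin k) ⊕ Fin d) F) = hsM τ G₀ R C)
    (hw' : (w' : Matrix ((Fin k ⊕ Fin k) ⊕ Fin d) ((Fin k ⊕ Fin k) ⊕ Fin d) F) = hsM τ G₀ R' C') :
    ((w * w' * w⁻¹ * w'⁻¹ : GL ((Fin k ⊕ Fin k) ⊕ Fin d) F) :
      Matrix ((Fin k ⊕ Fin k) ⊕ Fin d) ((Fin k ⊕ Fin k) ⊕ Fin d) F) =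
      hsM τ G₀ 0 (tadj τ R * G₀ * R' + tadj τ R' * G₀ * R) := by
  have h2 : (2 : F) = 0 := CharTwo.two_eq_zero
  rw [Units.val_mul, Units.val_mul, Units.val_mul, sqdh6_inv τ G₀ R C w hw,
    sqdh6_inv τ G₀ R' C' w' hw', hw, hw', sqdh6_mul, sqdh6_mul, sqdh6_mul]
  congr 1
  · have e : R + R' + R + R' = (R + R) + (R' + R') := by abel
    rw [e, sqdh6_add_self, sqdh6_add_self, add_zero]
  · simp only [tadj_add, Matrix.add_mul, Matrix.mul_add]
    ext i j
    simp only [Matrix.add_apply]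
    linear_combination (C i j + C' i j + (tadj τ R * G₀ * R') i j + (tadj τ R * G₀ * R) i j +
      (tadj τ R' * G₀ * R') i j) * h2

end H

end Cfsg.Agent.Lib.helper14.SQD
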