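import Mathlib
import Cfsg.Prelude.Def_GeometricClasses
import Cfsg.Agent.Lib.Helper27.ASC.Defs
import Cfsg.Agent.Lib.helper23.ASCO.Defs
import Cfsg.Agent.Lib.Lead.Reindex
import Cfsg.Agent.Lib.Helper18.ASCNOSYMP
import Cfsg.Agent.Lib.Helper19.ASCUUCLIFFS

/-! Project ASCO, piece FRAME: Clifford in prime dimension inside the isometry group gives an orthogonal frame
of isometric lines (orthogonal analogue of helper18's ASCU UFRAME, on top of helper19's `clifford_lines_strong`). -/

set_option autoImplicit false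
set_option linter.unusedVariables false
set_option linter.unusedSectionVars false

namespace Cfsg.Agent.Lib.helper23.ASCO

open Cfsg Cfsg.Geo Cfsg.Agent.Lib.Helper27.ASC
open scoped MatrixGroups Matrix

variable {n : ℕ} {F : Type*} [Field F] [Fintype F]

theorem ascoframe_polar_iso {r : ℕ} (Q : QuadraticForm F (Fin r → F)) (g : GL (Fin r) F)
    (hg : g ∈ isometryGroup F (⇑Q)) (u v : Fin r → F) :
    QuadraticMap.polar (⇑Q) ((g : Matrix (Fin r) (Fin r) F) *ᵥ u)
      ((g : Matrix (Fin r) (Fin r) F) *ᵥ v) = QuadraticMap.polar (⇑Q) u v := by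
  have h : ∀ x, Q ((g : Matrix (Fin r) (Fin r) F) *ᵥ x) = Q x := fun x => hg x x
  unfold QuadraticMap.polar
  rw [← Matrix.mulVec_add, h, h, h]

theorem ascoframe_toLin_inj {r : ℕ} (h : GL (Fin r) F) :
    Function.Injective (Matrix.toLin' (h : Matrix (Fin r) (Fin r) F)) := by
  intro a b hab
  have := congrArg (Matrix.toLin' ((h⁻¹ : GL (Fin r) F) : Matrix (Fin r) (Fin r) F)) hab
  rw [← Matrix.toLin'_mul_apply, ← Matrix.toLin'_mul_apply, ← Units.val_mul, inv_mul_cancel,
    Units.val_one, Matrix.toLin'_one] at this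
  exact this

/-- FRAME : Clifford in prime dimension inside the isometry group gives an orthogonal frame. -/
theorem oclifford_frame {r : ℕ} (hr : r.Prime) (hr2 : r ≠ 2) (h2 : (2 : F) ≠ 0)
    (Q : QuadraticForm F (Fin r → F)) (hQ : (QuadraticMap.polarBilin Q).Nondegenerate)
    {H N : Subgroup (GL (Fin r) F)} (hH : Irr H) (hHO : H ≤ isometryGroup F (⇑Q))
    (hN : NormalIn N H) (h1 : ¬ Irr N) (h2' : ¬ N ≤ scalars (Fin r) F) :
    ∃ D : Fin r → Submodule F (Fin r → F), IsOrthogonalMDecomposition (⇑Q) 1 D ∧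
      H ≤ decompositionStabilizer D := by
  classical
  obtain ⟨D, χ, hD, hHD, hχ, hne⟩ :=
    Cfsg.Agent.Lib.Lead.ASCU.clifford_lines_strong hr hH hN h1 h2'
  refine ⟨D, ?_, hHD⟩
  -- the bilinear form
  obtain ⟨B, hB⟩ : ∃ B : LinearMap.BilinMap F (Fin r → F) F, B = QuadraticMap.polarBilin Q := ⟨_, rfl⟩
  have hBp : ∀ a b, B a b = QuadraticMap.polar (⇑Q) a b := fun a b => by rw [hB]; rfl
  have hBsymm : ∀ a b, B a b = B b a := fun a b => by rw [hBp, hBp, QuadraticMap.polar_comm]
  have hBiso : ∀ g ∈ H, ∀ u v, B ((g : Matrix (Fin r) (Fin r) F) *ᵥ u)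
      ((g : Matrix (Fin r) (Fin r) F) *ᵥ v) = B u v := by
    intro g hg u v
    rw [hBp, hBp]
    exact ascoframe_polar_iso Q g (hHO hg) u v
  -- generators of the lines
  have hline : ∀ i, ∃ d : Fin r → F, d ≠ 0 ∧ D i = Submodule.span F {d} := by
    intro i
    obtain ⟨d, hd0, hd⟩ := finrank_eq_one_iff'.mp (hD.finrank_eq i)
    refine ⟨(d : Fin r → F), fun h => hd0 (Subtype.ext h), ?_⟩
    apply le_antisymm
    · intro w hw
      obtain ⟨c, hc⟩ := hd ⟨w, hw⟩
      rw [Submodule.mem_span_singleton]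
      exact ⟨c, by simpa using congrArg Subtype.val hc⟩
    · rw [Submodule.span_singleton_le_iff_mem]
      exact d.2
  choose d hd0 hdspan using hline
  have hdmem : ∀ i, d i ∈ D i := fun i => by
    rw [hdspan i]; exact Submodule.mem_span_singleton_self _
  have hrepr : ∀ i, ∀ w ∈ D i, ∃ a : F, w = a • d i := by
    intro i w hw
    rw [hdspan i, Submodule.mem_span_singleton] at hw
    obtain ⟨a, ha⟩ := hw
    exact ⟨a, ha.symm⟩
  -- every `d i` pairs non-trivially with some `d j`
  have hex : ∀ i, ∃ j, B (d i) (d j) ≠ 0 := by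
    intro i
    by_contra hcon
    push Not at hcon
    have hall : ∀ v : Fin r → F, B (d i) v = 0 := by
      intro v
      have hv : v ∈ iSup D := by rw [hD.iSup_eq_top]; exact Submodule.mem_top
      refine Submodule.iSup_induction D (motive := fun v => B (d i) v = 0) hv ?_ ?_ ?_
      · intro j w hw
        obtain ⟨a, rfl⟩ := hrepr j w hw
        rw [map_smul, hcon j, smul_zero]
      · exact map_zero _
      · intro x y hx hy
        rw [map_add, hx, hy, add_zero]
    apply hd0 i
    apply hQ.1 (d i)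
    intro y
    rw [← hB]
    exact hall y
  have hsym : ∀ i j, B (d i) (d j) ≠ 0 → B (d j) (d i) ≠ 0 := by
    intro i j h
    rwa [hBsymm]
  -- invariance under `N`
  have hNinv : ∀ x ∈ N, ∀ i j, χ i x * χ j x * B (d i) (d j) = B (d i) (d j) := by
    intro x hx i j
    have := hBiso x (hN.1 hx) (d i) (d j)
    rw [hχ i x hx (d i) (hdmem i), hχ j x hx (d j) (hdmem j), map_smul, map_smul,
      LinearMap.smul_apply, smul_eq_mul, smul_eq_mul] at this
    linear_combination this
  -- uniqueness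
  have huniq : ∀ i j j', B (d i) (d j) ≠ 0 → B (d i) (d j') ≠ 0 → j = j' := by
    intro i j j' h1 h2
    by_contra hjj
    obtain ⟨x, hx, hxne⟩ := hne j j' hjj
    have e1 : χ i x * χ j x = 1 := by
      have := hNinv x hx i j
      have h3 : (χ i x * χ j x - 1) * B (d i) (d j) = 0 := by
        rw [sub_mul, this, one_mul, sub_self]
      rcases mul_eq_zero.mp h3 with h4 | h4
      · exact sub_eq_zero.mp h4
      · exact absurd h4 h1
    have e2 : χ i x * χ j' x = 1 := by
      have := hNinv x hx i j'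
      have h3 : (χ i x * χ j' x - 1) * B (d i) (d j') = 0 := by
        rw [sub_mul, this, one_mul, sub_self]
      rcases mul_eq_zero.mp h3 with h4 | h4
      · exact sub_eq_zero.mp h4
      · exact absurd h4 h2
    have hi0 : χ i x ≠ 0 := by
      intro h0; rw [h0, zero_mul] at e1; exact zero_ne_one e1
    exact hxne (mul_left_cancel₀ hi0 (e1.trans e2.symm))
  -- the involution `τ`
  choose τ hτ using hex
  have hτinv : Function.Involutive τ := by
    intro i
    exact huniq (τ i) (τ (τ i)) i (hτ (τ i)) (hsym i (τ i) (hτ i))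
  have hodd : Odd r := hr.odd_of_ne_two hr2
  obtain ⟨i0, hi0⟩ := ascnosymp_fix hodd (hτinv.toPerm τ) (by
    ext i
    simp [Equiv.Perm.inv_def])
  have hi0' : τ i0 = i0 := by simpa using hi0
  have hR0 : B (d i0) (d i0) ≠ 0 := by
    have := hτ i0
    rwa [hi0'] at this
  -- transitivity of `H` on the lines
  have htrans : ∀ i j : Fin r, ∃ h ∈ H,
      (D i).map (Matrix.toLin' (h : Matrix (Fin r) (Fin r) F)) = D j := by
    intro i
    let O : Set (Fin r) := {j | ∃ h ∈ H, (D i).map (Matrix.toLin' (h : Matrix (Fin r) (Fin r) F)) = D j}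
    let W : Submodule F (Fin r → F) := ⨆ j : Fin r, ⨆ (_ : j ∈ O), D j
    have hWinv : ∀ s ∈ matrixSet H, W.map (Matrix.toLin' s) ≤ W := by
      rintro s ⟨h, hh, rfl⟩
      obtain ⟨σ, hσ⟩ := hHD hh
      simp only [W, Submodule.map_iSup]
      refine iSup_le fun j => iSup_le fun hj => ?_
      rw [hσ j]
      have hjO : σ j ∈ O := by
        obtain ⟨h', hh', hh'j⟩ := hj
        refine ⟨h * h', H.mul_mem hh hh', ?_⟩
        rw [Units.val_mul, Matrix.toLin'_mul, Submodule.map_comp, hh'j, hσ j]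
      exact le_iSup_of_le (σ j) (le_iSup_of_le hjO le_rfl)
    have hiO : i ∈ O := ⟨1, H.one_mem, by simp⟩
    have hWtop : W = ⊤ := by
      rcases hH W hWinv with h | h
      · exfalso
        have h1 : D i ≤ W := le_iSup_of_le i (le_iSup_of_le hiO le_rfl)
        rw [h] at h1
        exact hd0 i ((Submodule.mem_bot F).mp (h1 (hdmem i)))
      · exact h
    intro j
    by_contra hj
    have hj' : j ∉ O := hj
    have h1 : W ≤ ⨆ k, ⨆ (_ : k ≠ j), D k := by
      refine iSup_le fun k => iSup_le fun hk => ?_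
      have hkj : k ≠ j := fun h => hj' (h ▸ hk)
      exact le_iSup_of_le k (le_iSup_of_le hkj le_rfl)
    have h2 := hD.indep j
    have h3 : D j ≤ ⨆ k, ⨆ (_ : k ≠ j), D k := by
      calc D j ≤ ⊤ := le_top
        _ = W := hWtop.symm
        _ ≤ _ := h1
    have h4 : D j ≤ ⊥ := h2 le_rfl h3
    exact hd0 j ((Submodule.mem_bot F).mp (h4 (hdmem j)))
  -- all diagonal values are non-zero
  have hdiag : ∀ j, B (d j) (d j) ≠ 0 := by
    intro j
    obtain ⟨h, hh, hhj⟩ := htrans i0 j
    have hmem : (h : Matrix (Fin r) (Fin r) F) *ᵥ d i0 ∈ D j := by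
      rw [← hhj]
      exact ⟨d i0, hdmem i0, by simp [Matrix.toLin'_apply]⟩
    obtain ⟨c, hc⟩ := hrepr j _ hmem
    have := hBiso h hh (d i0) (d i0)
    rw [hc, map_smul, map_smul, LinearMap.smul_apply] at this
    intro h0
    rw [h0, smul_zero, smul_zero] at this
    exact hR0 this.symm
  have horth : ∀ i j, i ≠ j → B (d i) (d j) = 0 := by
    intro i j hij
    by_contra h
    exact hij (huniq i i j (hdiag i) h)
  refine ⟨⟨hD, ?_, ?_⟩, ?_⟩
  · intro i w hw hw0
    obtain ⟨a, rfl⟩ := hrepr i w hw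
    have ha : a ≠ 0 := by
      intro h; apply hw0; rw [h, zero_smul]
    refine ⟨⟨d i, hdmem i, ?_⟩, ⟨d i, hdmem i, ?_⟩⟩
    · rw [← hBp, map_smul, smul_eq_mul]
      exact mul_ne_zero ha (hdiag i)
    · rw [← hBp, map_smul, LinearMap.smul_apply, smul_eq_mul]
      exact mul_ne_zero ha (hdiag i)
  · intro i j hij u hu v hv
    obtain ⟨a, rfl⟩ := hrepr i u hu
    obtain ⟨b, rfl⟩ := hrepr j v hv
    rw [← hBp, map_smul, map_smul, LinearMap.smul_apply, horth i j hij, smul_zero, smul_zero]
  · intro i j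
    obtain ⟨h, hh, hhj⟩ := htrans i j
    refine ⟨(Submodule.equivMapOfInjective (Matrix.toLin' (h : Matrix (Fin r) (Fin r) F))
      (ascoframe_toLin_inj h) (D i)).trans (LinearEquiv.ofEq _ _ hhj), fun w => ?_⟩
    have : (((Submodule.equivMapOfInjective (Matrix.toLin' (h : Matrix (Fin r) (Fin r) F))
      (ascoframe_toLin_inj h) (D i)).trans (LinearEquiv.ofEq _ _ hhj) w : D j) : Fin r → F) =
        (h : Matrix (Fin r) (Fin r) F) *ᵥ (w : Fin r → F) := by
      simp [Matrix.toLin'_apply]
    rw [this]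
    exact (hHO hh) (w : Fin r → F) (w : Fin r → F)

end Cfsg.Agent.Lib.helper23.ASCO
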