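import Mathlib
import Cfsg.Agent.Lib.helper7.Om.Stmts

set_option autoImplicit false

/-!
# Om-COMM (project S1082): coordinate root elements are commutators
-/

namespace Cfsg.Agent.Lib.Helper21.Om

open Matrix Cfsg.Agent.Lib.Lead Cfsg.Agent.Lib.Helper26 Cfsg.Agent.Lib.helper7.Om
open scoped commutatorElement

variable {F : Type*} [Field F]

theorem exists_third (k l : P8) : ∃ m : P8, m ≠ k ∧ m ≠ k.swap ∧ m ≠ l ∧ m ≠ l.swap := by
  revert k l
  decide

theorem W_mem_commutator {k l : P8} (h : CValid k l) (c : F) :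
    W k l c ∈ commutator ↥(ogG F 4) := by
  obtain ⟨m, hmk, hmk', hml, hml'⟩ := exists_third k l
  have h1 : CValid k m := ⟨Ne.symm hmk, hmk'⟩
  have h2 : CValid l m.swap := by
    refine ⟨fun e => hml' (by rw [e, Sum.swap_swap]), fun e => hml ?_⟩
    have := congrArg Sum.swap e
    rwa [Sum.swap_swap, Sum.swap_swap] at this
  have h11 : polarP F 4 (Pi.single k (1 : F)) (Pi.single l 1) = 0 := by
    rw [ob_single_single, if_neg]
    intro e
    exact h.2 (by rw [← e, Sum.swap_swap])
  have h12 : polarP F 4 (Pi.single k (1 : F)) (Pi.single m.swap 1) = 0 := by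
    rw [ob_single_single, if_neg]
    rw [Sum.swap_swap]; exact hmk
  have h21 : polarP F 4 (Pi.single m (1 : F)) (Pi.single l 1) = 0 := by
    rw [ob_single_single, if_neg]
    intro e
    exact hml' e.symm
  have hbb : polarP F 4 (Pi.single m (1 : F)) (Pi.single m.swap 1) = 1 := by
    rw [ob_single_single, if_pos (Sum.swap_swap m)]
  have key := ogT_commutator (F := F) h1.oSing h2.oSing h11 h12 h21 c 1
  rw [hbb, mul_one, mul_one] at key
  have hW : W k l c = ⁅W k m c, W l m.swap (1 : F)⁆ := by
    rw [commutatorElement_def]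
    exact key.symm
  rw [hW, commutator_def]
  exact Subgroup.commutator_mem_commutator (Subgroup.mem_top _) (Subgroup.mem_top _)

end Cfsg.Agent.Lib.Helper21.Om
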