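import Mathlib
import Cfsg.Agent.Lib.helper7.Om.Stmts

set_option autoImplicit false

/-!
# Om-CONJ (project S1082): the torus element and the swap normalize `EO`
-/

namespace Cfsg.Agent.Lib.Helper21.Om

open Matrix Cfsg.Agent.Lib.Lead Cfsg.Agent.Lib.Helper26 Cfsg.Agent.Lib.helper7.Om

variable {F : Type*} [Field F]

theorem sw4_sw4 (c : P8) : sw4 (sw4 c) = c := by
  unfold sw4
  exact Equiv.swap_apply_self _ _ c

theorem dV_sw4 (u : Fˣ) (c : P8) : dV u (sw4 c) = dV u⁻¹ c := by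
  unfold dV sw4
  rcases c with i | i
  · by_cases h : i = 3
    · subst h; simp
    · have h1 : (Sum.inl i : P8) ≠ Sum.inl 3 := fun e => h (Sum.inl_injective e)
      rw [Equiv.swap_apply_of_ne_of_ne h1 (by simp)]
      simp [h]
  · by_cases h : i = 3
    · subst h; simp
    · have h2 : (Sum.inr i : P8) ≠ Sum.inr 3 := fun e => h (Sum.inr_injective e)
      rw [Equiv.swap_apply_of_ne_of_ne (by simp) h2]
      simp [h]

theorem dT_mul (u v : Fˣ) : (dT u * dT v : ↥(ogG F 4)) = dT (u * v) := by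
  apply og_ext
  intro x
  rw [og_mul_mulVec, dT_mulVec, dT_mulVec, dT_mulVec]
  funext c
  rw [← mul_assoc, dV_mul]

theorem dT_one : (dT (1 : Fˣ) : ↥(ogG F 4)) = 1 := by
  apply og_ext
  intro x
  rw [dT_mulVec, og_one_mulVec]
  funext c
  rw [dV_one, one_mul]

theorem tS_mul_self : (tS * tS : ↥(ogG F 4)) = 1 := by
  apply og_ext
  intro x
  rw [og_mul_mulVec, tS_mulVec, tS_mulVec, og_one_mulVec]
  funext c
  show x (sw4 (sw4 c)) = x c
  rw [sw4_sw4]

theorem tS_inv : (tS⁻¹ : ↥(ogG F 4)) = tS := by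
  rw [inv_eq_iff_mul_eq_one]
  exact tS_mul_self

theorem tS_conj_dT (u : Fˣ) : (tS * dT u * tS⁻¹ : ↥(ogG F 4)) = dT u⁻¹ := by
  rw [tS_inv]
  apply og_ext
  intro x
  rw [og_mul_mulVec, og_mul_mulVec, tS_mulVec, dT_mulVec, tS_mulVec, dT_mulVec]
  funext c
  show dV u (sw4 c) * x (sw4 (sw4 c)) = dV u⁻¹ c * x c
  rw [sw4_sw4, dV_sw4]

theorem dT_single (u : Fˣ) (k : P8) :
    (dT u : ↥(ogG F 4)).1.1 *ᵥ (Pi.single k (1 : F) : P8 → F) = dV u k • Pi.single k (1 : F) := by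
  rw [dT_mulVec]
  funext c
  by_cases hc : c = k
  · subst hc; simp
  · simp [Pi.single_apply, hc]

theorem tS_single (k : P8) :
    (tS : ↥(ogG F 4)).1.1 *ᵥ (Pi.single k (1 : F) : P8 → F) = Pi.single (sw4 k) (1 : F) := by
  rw [tS_mulVec]
  funext c
  by_cases hc : c = sw4 k
  · subst hc; rw [sw4_sw4]; simp
  · have : sw4 c ≠ k := fun e => hc (by rw [← e, sw4_sw4])
    simp [Pi.single_apply, hc, this]

theorem dT_conj_W (u : Fˣ) {k l : P8} (h : CValid k l) (c : F) :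
    dT u * W k l c * (dT u)⁻¹ = W k l (dV u k * dV u l * c) := by
  unfold W
  rw [ogT_conj (dT u) h.oSing c, dT_single, dT_single]
  have := ogT_comb (F := F) h.oSing (dV u k) 0 0 (dV u l) c
  rw [zero_smul, zero_smul, add_zero, zero_add, mul_zero, sub_zero] at this
  exact this

theorem sw4_valid {k l : P8} (h : CValid k l) : CValid (sw4 k) (sw4 l) := by
  refine ⟨fun e => h.1 (sw4.injective e), fun e => h.2 ?_⟩
  rw [← sw4_swap] at e
  exact sw4.injective e

theorem tS_conj_W {k l : P8} (h : CValid k l) (c : F) :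
    (tS * W k l c * tS⁻¹ : ↥(ogG F 4)) = W (sw4 k) (sw4 l) c := by
  unfold W
  rw [ogT_conj tS h.oSing c, tS_single, tS_single]

theorem conj_mem_of_gens (g : ↥(ogG F 4))
    (hgen : ∀ (k l : P8) (c : F), CValid k l → g * W k l c * g⁻¹ ∈ EO F)
    (e : ↥(ogG F 4)) (he : e ∈ EO F) : g * e * g⁻¹ ∈ EO F := by
  unfold EO at he
  induction he using Subgroup.closure_induction with
  | mem x hx =>
    obtain ⟨k, l, c, h, rfl⟩ := hx
    exact hgen k l c h
  | one =>
    rw [mul_one, mul_inv_cancel]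
    exact one_mem _
  | mul x y _ _ hx hy =>
    have : g * (x * y) * g⁻¹ = (g * x * g⁻¹) * (g * y * g⁻¹) := by group
    rw [this]
    exact mul_mem hx hy
  | inv x _ hx =>
    have : g * x⁻¹ * g⁻¹ = (g * x * g⁻¹)⁻¹ := by group
    rw [this]
    exact inv_mem hx

theorem dT_conj_mem (u : Fˣ) (e : ↥(ogG F 4)) (he : e ∈ EO F) : dT u * e * (dT u)⁻¹ ∈ EO F := by
  refine conj_mem_of_gens (dT u) (fun k l c h => ?_) e he
  rw [dT_conj_W u h c]
  exact W_mem_EO h _

theorem tS_conj_mem (e : ↥(ogG F 4)) (he : e ∈ EO F) : tS * e * tS⁻¹ ∈ EO F := by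
  refine conj_mem_of_gens tS (fun k l c h => ?_) e he
  rw [tS_conj_W h c]
  exact W_mem_EO (sw4_valid h) _

end Cfsg.Agent.Lib.Helper21.Om
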