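import Mathlib
import Cfsg.Agent.Lib.helper7.Om.Basic

set_option autoImplicit false

/-!
# Om-E3 (project S1082): one step of the elimination
-/

namespace Cfsg.Agent.Lib.Helper21.Om

open Matrix Cfsg.Agent.Lib.Lead Cfsg.Agent.Lib.Helper26 Cfsg.Agent.Lib.helper7.Om

variable {F : Type*} [Field F]

theorem single_ne_zero' (c : P8) : (Pi.single c (1 : F) : P8 → F) ≠ 0 := by
  intro h
  have := congrFun h c
  rw [Pi.single_eq_same] at this
  exact one_ne_zero this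

theorem og_mulVec_ne_zero (g : ↥(ogG F 4)) {x : P8 → F} (hx : x ≠ 0) : g.1.1 *ᵥ x ≠ 0 := by
  intro h
  apply hx
  have := og_inv_mulVec g x
  rw [h, Matrix.mulVec_zero] at this
  exact this.symm

theorem step (hP : PivotStmt F) (hB : BasisStmt F) : StepStmt F := by
  intro i hi g hg
  -- first vector
  have hv_sup : Sup i.val (g.1.1 *ᵥ (Pi.single (Sum.inl i) (1 : F) : P8 → F)) :=
    sup_of_fix hg (Sum.inl i) (le_refl _)
  have hv_ne : g.1.1 *ᵥ (Pi.single (Sum.inl i) (1 : F) : P8 → F) ≠ 0 :=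
    og_mulVec_ne_zero g (single_ne_zero' _)
  have hv_q : Cfsg.quadFormPlus 4 F (g.1.1 *ᵥ (Pi.single (Sum.inl i) (1 : F) : P8 → F)) = 0 := by
    rw [og_quad, quadP_single]
  obtain ⟨e1, he1, he1v⟩ := hB i hi _ hv_sup hv_ne hv_q
  have hfix1 : Fix i.val (e1 * g) := fix_mul (EOj_fix i.val e1 he1) hg
  have h1l : (e1 * g).1.1 *ᵥ (Pi.single (Sum.inl i) (1 : F) : P8 → F) = Pi.single (Sum.inl i) 1 := by
    rw [og_mul_mulVec]; exact he1v
  -- second vector
  have hw_sup : Sup i.val ((e1 * g).1.1 *ᵥ (Pi.single (Sum.inr i) (1 : F) : P8 → F)) :=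
    sup_of_fix hfix1 (Sum.inr i) (le_refl _)
  have hw_q : Cfsg.quadFormPlus 4 F ((e1 * g).1.1 *ᵥ (Pi.single (Sum.inr i) (1 : F) : P8 → F)) = 0 := by
    rw [og_quad, quadP_single]
  have hw_p : ((e1 * g).1.1 *ᵥ (Pi.single (Sum.inr i) (1 : F) : P8 → F)) (Sum.inr i) = 1 := by
    rw [coord_eq_polar ((e1 * g).1.1 *ᵥ (Pi.single (Sum.inr i) (1 : F) : P8 → F)) (Sum.inr i),
      Sum.swap_inr]
    conv_lhs => rw [← h1l]
    rw [og_form, ob_single_single, if_pos (Sum.swap_inl)]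
  obtain ⟨e2, he2, he2w, he2fix⟩ := hP i.val (Sum.inr i) (le_refl _) _ hw_sup hw_p hw_q
  rw [Sum.swap_inr] at he2fix
  refine ⟨e2 * e1, EOj_le_EO i.val (mul_mem he2 he1), ?_⟩
  have hfix2 : Fix i.val (e2 * e1 * g) := by
    rw [mul_assoc]
    exact fix_mul (EOj_fix i.val e2 he2) hfix1
  apply fix_succ hfix2
  · rw [mul_assoc, og_mul_mulVec, h1l]; exact he2fix
  · rw [mul_assoc, og_mul_mulVec]; exact he2w

end Cfsg.Agent.Lib.Helper21.Om
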