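import Mathlib
import Cfsg.Agent.Lib.Helper20.GLO.Defs
import Cfsg.Agent.Lib.Helper24.STCI1

/-!
# Project GLO (designer helper20, odd gluing for S2291), row Y1 CORE (helper21): `gloy1_core` = the EXACT conclusion of Y1 `xrs_comm`, with the statements of the cited rows
I5 `xrs_comm_pair`, C3 `p2_gen` / `p4_gen`, I3 `xrs_sym` (for the given data) as hypotheses.  Port of `helper6/GLEYcore.lean` `gley1_core`.
-/

set_option autoImplicit false

namespace Cfsg.Agent.Lib.Helper20.GLO

open Cfsg.Agent.Lib.helper3.STC (ng ab)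
open Cfsg.Agent.Lib.helper3.SPM (Pts pe sgm sn sig2 ptsFin pe2)
open Cfsg.Agent.Lib.Helper27.STU
open Cfsg.Agent.Lib.helper17.SLP (cm)
open Cfsg.Agent.Lib.Helper20.GLE (lamC lamP)

universe u v w x

section main
variable {F : Type u} [Field F] [StarRing F] {L : Type x} [Group L] {ι : Type w} [DecidableEq ι] {G : Type v} [Group G]
  (S₂ : SysU F True (Fin 2) L) (p : Pts ι) (ν : Equiv.Perm ι →* G) (lam : L →* G)

/-- Y1 core: `hpair` = I5 `xrs_comm_pair`, `hp2` / `hp4` = C3 `p2_gen` / `p4_gen`, `hsym` = I3 `xrs_sym`. -/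
theorem gloy1_core
    (hpair : ∀ {i j : ι} (_ : i ≠ j) {a b c d : ι ⊕ ι}
      (_ : ab a = i ∨ ab a = j) (_ : ab b = i ∨ ab b = j) (_ : ab c = i ∨ ab c = j) (_ : ab d = i ∨ ab d = j)
      (_ : ab a ≠ ab b) (_ : ab c ≠ ab d) (_ : b ≠ c) (_ : a ≠ d) (_ : b ≠ ng d) (_ : a ≠ ng c) (t u : F),
      xrs S₂ p ν lam a b t * xrs S₂ p ν lam c d u = xrs S₂ p ν lam c d u * xrs S₂ p ν lam a b t)
    (hp2 : ∀ {a b c : ι ⊕ ι}, ab a ≠ ab b → ab b ≠ ab c → ab a ≠ ab c → P2 S₂ p ν lam a b c)
    (hp4 : ∀ {a b c e : ι ⊕ ι}, ab a ≠ ab b → ab a ≠ ab c → ab a ≠ ab e → ab b ≠ ab c → ab b ≠ ab e →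
      ab c ≠ ab e → P4 S₂ p ν lam a b c e)
    (hsym : ∀ {a b : ι ⊕ ι} (_ : ab a ≠ ab b) (t : F),
      xrs S₂ p ν lam a b t = xrs S₂ p ν lam (ng b) (ng a) (-(star t)))
    {a b c d : ι ⊕ ι} (hAB : ab a ≠ ab b) (hCD : ab c ≠ ab d) (hbc : b ≠ c) (had : a ≠ d)
    (hbd : b ≠ ng d) (hac : a ≠ ng c) (t u : F) :
    xrs S₂ p ν lam a b t * xrs S₂ p ν lam c d u = xrs S₂ p ν lam c d u * xrs S₂ p ν lam a b t := by
  have ab_ng := @Cfsg.Agent.Lib.helper3.STC.ab_ng ι
  have ng_ng := @Cfsg.Agent.Lib.helper3.STC.ng_ng ι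
  have ab_eq_iff := @Cfsg.Agent.Lib.helper3.STC.ab_eq_iff ι
  by_cases hAC : ab a = ab c
  · by_cases hBD : ab b = ab d
    · exact hpair hAB (Or.inl rfl) (Or.inr rfl) (Or.inl hAC.symm) (Or.inr hBD.symm)
        hAB hCD hbc had hbd hac t u
    · -- `a = c`
      have hc : c = a := by
        rcases ab_eq_iff.1 hAC with h | h
        · exact h.symm
        · exact absurd h hac
      subst hc
      exact (hp2 hAB hBD hCD t u).eq
  · by_cases hAD : ab a = ab d
    · by_cases hBC : ab b = ab c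
      · exact hpair hAB (Or.inl rfl) (Or.inr rfl) (Or.inr hBC.symm) (Or.inl hAD.symm)
          hAB hCD hbc had hbd hac t u
      · -- `d = ng a`
        have hd : d = ng a := by
          rcases ab_eq_iff.1 hAD with h | h
          · exact absurd h had
          · rw [h, ng_ng]
        subst hd
        rw [hsym hCD u, ng_ng]
        have h1 : ab b ≠ ab (ng c) := by rw [ab_ng]; exact hBC
        have h2 : ab a ≠ ab (ng c) := by rw [ab_ng]; exact hAC
        exact (hp2 hAB h1 h2 t _).eq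
    · by_cases hBC : ab b = ab c
      · -- `c = ng b`
        have hc : c = ng b := by
          rcases ab_eq_iff.1 hBC with h | h
          · exact absurd h hbc
          · rw [h, ng_ng]
        subst hc
        rw [hsym hAB t]
        have hBD : ab b ≠ ab d := by rw [← ab_ng b]; exact hCD
        have h1 : ab (ng b) ≠ ab (ng a) := by rw [ab_ng, ab_ng]; exact fun h => hAB h.symm
        have h2 : ab (ng a) ≠ ab d := by rw [ab_ng]; exact hAD
        have h3 : ab (ng b) ≠ ab d := by rw [ab_ng]; exact hBD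
        exact (hp2 h1 h2 h3 _ u).eq
      · by_cases hBD : ab b = ab d
        · -- `b = d`
          have hd : d = b := by
            rcases ab_eq_iff.1 hBD with h | h
            · exact h.symm
            · exact absurd h hbd
          subst hd
          rw [hsym hAB t, hsym hCD u]
          have h1 : ab (ng d) ≠ ab (ng a) := by rw [ab_ng, ab_ng]; exact fun h => hAB h.symm
          have h2 : ab (ng a) ≠ ab (ng c) := by rw [ab_ng, ab_ng]; exact hAC
          have h3 : ab (ng d) ≠ ab (ng c) := by rw [ab_ng, ab_ng]; exact fun h => hCD h.symm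
          exact (hp2 h1 h2 h3 _ _).eq
        · exact (hp4 hAB hAC hAD hBC hBD hCD t u).eq

end main

end Cfsg.Agent.Lib.Helper20.GLO
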