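import Mathlib
import Cfsg.Agent.Lib.Helper20.GLO.Defs
import Cfsg.Agent.Lib.Helper25.GLOI3
import Cfsg.Agent.Lib.Helper11.GLOC2
import Cfsg.Agent.Lib.Helper21.GLOY1core

/-!
# Project GLO (designer helper20, odd gluing for S2291), row Y1 (helper21): `xrs_comm` VERBATIM vs `Helper20/GLO/SkelA.lean.txt`
(`gloy1_core` of `Helper21/GLOY1core.lean` applied to the landed rows I3 `xrs_sym`, I5 `xrs_comm_pair` (`Helper25/GLOI3.lean`), C3 `p2_gen`, `p4_gen` (`Helper11/GLOC2.lean`)).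
-/

set_option autoImplicit false
set_option linter.unusedSectionVars false

namespace Cfsg.Agent.Lib.Helper20.GLO

open Cfsg.Agent.Lib.helper3.STC (ng ab)
open Cfsg.Agent.Lib.helper3.SPM (Pts pe sgm sn sig2 ptsFin pe2)
open Cfsg.Agent.Lib.Helper27.STU
open Cfsg.Agent.Lib.helper17.SLP (cm)
open Cfsg.Agent.Lib.Helper20.GLE (lamC lamP)

universe u v w x v' y

section main
variable {F : Type u} [Field F] [StarRing F] {L : Type x} [Group L] {ι : Type w} [Fintype ι] [DecidableEq ι] {G : Type v} [Group G]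
  (S₂ : SysU F True (Fin 2) L) (swL : L) (p : Pts ι) (ν : Equiv.Perm ι →* G) (lam : L →* G)

/-- Y1 [L]  the commutation axiom `comm_ss`. -/
theorem xrs_comm (hF : Hyp F) (H : Glue S₂ swL p ν lam) (hU : UFacts S₂ swL) {a b c d : ι ⊕ ι} (hab : ab a ≠ ab b) (hcd : ab c ≠ ab d) (hbc : b ≠ c) (had : a ≠ d)
    (hbd : b ≠ ng d) (hac : a ≠ ng c) (t u : F) :
    xrs S₂ p ν lam a b t * xrs S₂ p ν lam c d u = xrs S₂ p ν lam c d u * xrs S₂ p ν lam a b t :=
  gloy1_core S₂ p ν lam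
    (fun hij => xrs_comm_pair S₂ swL p ν lam H hU hij)
    (fun hab hbc hac => p2_gen S₂ swL p ν lam hF H hU hab hbc hac)
    (fun hab hac hae hbc hbe hce => p4_gen S₂ swL p ν lam hF H hU hab hac hae hbc hbe hce)
    (fun hab t => xrs_sym S₂ swL p ν lam H hU hab t)
    hab hcd hbc had hbd hac t u

end main

end Cfsg.Agent.Lib.Helper20.GLO
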