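import Mathlib
import Cfsg.Prelude.Def_CaseTheorems
import Cfsg.Agent.Lib.Helper1.Frat
import Cfsg.Agent.Lib.Helper1.Nilp
import Cfsg.Agent.Lib.Helper20.Breadth

set_option autoImplicit false

namespace Cfsg.Agent.Lib.Helper21.SecRank

open scoped commutatorElement

/-- an elementary abelian section `H / N` of a group of sectional `p`-rank at most `k` has order
at most `p ^ k` -/
theorem card_le_of_section {S : Type*} [Group S] [Finite S] {p k : ℕ}
    (hr : Cfsg.SectionalPRankLE p k S) (H N : Subgroup S) (hNH : N ≤ H)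
    (hnorm : ∀ h ∈ H, ∀ n ∈ N, h * n * h⁻¹ ∈ N)
    (hcomm : ∀ x ∈ H, ∀ y ∈ H, x * y * x⁻¹ * y⁻¹ ∈ N) (hpow : ∀ x ∈ H, x ^ p ∈ N) :
    Nat.card H ≤ p ^ k * Nat.card N := by
  haveI hN' : (N.subgroupOf H).Normal := by
    refine ⟨fun n hn h => ?_⟩
    rw [Subgroup.mem_subgroupOf] at hn ⊢
    have := hnorm h h.2 n hn
    simpa using this
  have h1 := hr H (N.subgroupOf H) ⊤ ⟨⟨fun a b => by
      obtain ⟨a, ha⟩ := a
      obtain ⟨b, hb⟩ := b
      apply Subtype.ext
      show a * b = b * a
      obtain ⟨x, rfl⟩ := QuotientGroup.mk_surjective a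
      obtain ⟨y, rfl⟩ := QuotientGroup.mk_surjective b
      rw [← QuotientGroup.mk_mul, ← QuotientGroup.mk_mul, QuotientGroup.eq]
      rw [Subgroup.mem_subgroupOf]
      have := hcomm (y : S)⁻¹ (inv_mem y.2) (x : S)⁻¹ (inv_mem x.2)
      have e : (((x * y)⁻¹ * (y * x) : ↥H) : S) = (y : S)⁻¹ * (x : S)⁻¹ * (y : S)⁻¹⁻¹ * (x : S)⁻¹⁻¹ := by
        simp only [Subgroup.coe_mul, Subgroup.coe_inv]; group
      rw [e]; exact this⟩⟩ (by
      intro a _
      obtain ⟨x, rfl⟩ := QuotientGroup.mk_surjective a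
      rw [← QuotientGroup.mk_pow, QuotientGroup.eq_one_iff, Subgroup.mem_subgroupOf]
      simpa using hpow x x.2)
  rw [Subgroup.card_top] at h1
  have h2 : Nat.card (N.subgroupOf H) * (N.subgroupOf H).index = Nat.card H :=
    Subgroup.card_mul_index _
  have h3 : Nat.card (N.subgroupOf H) = Nat.card N :=
    Nat.card_congr (Subgroup.subgroupOfEquivOfLe hNH).toEquiv
  have h4 : (N.subgroupOf H).index = Nat.card (↥H ⧸ N.subgroupOf H) := rfl
  rw [← h2, h3, h4, mul_comm]
  exact Nat.mul_le_mul_right _ h1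


/-- card of `W` as `card (C ⊓ W) * relIndex` -/
theorem card_eq_inf_mul {G : Type*} [Group G] [Finite G] (C W : Subgroup G) :
    Nat.card W = Nat.card ↥(C ⊓ W) * C.relIndex W := by
  have h1 : Nat.card ↥(C ⊓ W) * (C ⊓ W).relIndex W = Nat.card W := by
    rw [← Subgroup.relIndex_bot_left, ← Subgroup.relIndex_bot_left (H := W)]
    exact Subgroup.relIndex_mul_relIndex ⊥ (C ⊓ W) W bot_le inf_le_right
  rw [Subgroup.inf_relIndex_right] at h1
  exact h1.symm

/-- card of a join with a normal subgroup -/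
theorem card_sup_normal {G : Type*} [Group G] [Finite G] (H K : Subgroup G) [K.Normal] :
    Nat.card ↥(H ⊔ K) * Nat.card ↥(K ⊓ H) = Nat.card H * Nat.card K := by
  have h1 : Nat.card K * K.relIndex (H ⊔ K) = Nat.card ↥(H ⊔ K) := by
    rw [← Subgroup.relIndex_bot_left, ← Subgroup.relIndex_bot_left (H := H ⊔ K)]
    exact Subgroup.relIndex_mul_relIndex ⊥ K (H ⊔ K) bot_le le_sup_right
  rw [Subgroup.relIndex_sup_right] at h1
  have h2 := card_eq_inf_mul K H
  rw [← h1, h2]
  ring

/-- elements of a subgroup generated by a set of pairwise commuting elements commute -/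
theorem closure_comm {G : Type*} [Group G] (T : Set G) (hT : ∀ x ∈ T, ∀ y ∈ T, x * y = y * x) :
    ∀ a ∈ Subgroup.closure T, ∀ b ∈ Subgroup.closure T, a * b = b * a := by
  have h1 : ∀ t ∈ T, Subgroup.closure T ≤ Subgroup.centralizer ({t} : Set G) := by
    intro t ht
    rw [Subgroup.closure_le]
    intro x hx
    show x ∈ Subgroup.centralizer ({t} : Set G)
    rw [Subgroup.mem_centralizer_iff]
    intro y hy
    rw [Set.mem_singleton_iff] at hy
    rw [hy]; exact hT t ht x hx
  intro a ha b hb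
  have h2 : Subgroup.closure T ≤ Subgroup.centralizer ({b} : Set G) := by
    rw [Subgroup.closure_le]
    intro x hx
    show x ∈ Subgroup.centralizer ({b} : Set G)
    have := h1 x hx hb
    rw [Subgroup.mem_centralizer_iff] at this ⊢
    intro y hy
    rw [Set.mem_singleton_iff] at hy
    rw [hy]
    exact (this x rfl).symm
  have := h2 ha
  rw [Subgroup.mem_centralizer_iff] at this
  exact (this b rfl).symm

variable {P : Type*} [Group P] [Finite P]

/-- in a non-commutative `p`-group the Frattini subgroup has index at least `p²` -/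
theorem sq_mul_card_frattini_le {p : ℕ} [Fact p.Prime] (hP : IsPGroup p P)
    (hnc : ∃ x y : P, x * y ≠ y * x) : p * p * Nat.card (frattini P) ≤ Nat.card P := by
  obtain ⟨x, y, hxy⟩ := hnc
  haveI : Nontrivial P := ⟨⟨x * y, y * x, hxy⟩⟩
  obtain ⟨M, hM⟩ : ∃ M : Subgroup P, IsCoatom M := by
    obtain ⟨M, hM, -⟩ := (eq_top_or_exists_le_coatom (⊥ : Subgroup P)).resolve_left bot_ne_top
    exact ⟨M, hM⟩
  have hle : frattini P ≤ M := frattini_le_coatom hM
  have hne : frattini P ≠ M := by
    intro h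
    obtain ⟨u, -, hu⟩ := SetLike.exists_of_lt hM.lt_top
    have hsup : Subgroup.zpowers u ⊔ M = ⊤ := by
      by_contra hcon
      have hlt : M < Subgroup.zpowers u ⊔ M :=
        lt_of_le_of_ne le_sup_right (fun e => hu (e ▸ (le_sup_left : Subgroup.zpowers u ≤ _) (Subgroup.mem_zpowers u)))
      exact hcon (hM.2 _ hlt)
    rw [← h] at hsup
    have htop := frattini_nongenerating hsup
    have hx : x ∈ Subgroup.zpowers u := htop ▸ Subgroup.mem_top x
    have hy : y ∈ Subgroup.zpowers u := htop ▸ Subgroup.mem_top y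
    obtain ⟨a, rfl⟩ := Subgroup.mem_zpowers_iff.mp hx
    obtain ⟨b, rfl⟩ := Subgroup.mem_zpowers_iff.mp hy
    apply hxy
    rw [← zpow_add, ← zpow_add, add_comm]
  have h1 := Cfsg.Agent.Lib.Helper20.card_mul_le_of_lt hP (lt_of_le_of_ne hle hne)
  have h2 := Cfsg.Agent.Lib.Helper20.card_mul_le_of_lt hP hM.lt_top
  rw [Subgroup.card_top] at h2
  calc p * p * Nat.card (frattini P) = Nat.card (frattini P) * p * p := by ring
    _ ≤ Nat.card M * p := Nat.mul_le_mul_right _ h1
    _ ≤ Nat.card P := h2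

/-- a centre of prime order of a non-commutative `p`-group lies in the Frattini subgroup -/
theorem center_le_frattini {p : ℕ} [Fact p.Prime] (hP : IsPGroup p P)
    (hnc : ∃ x y : P, x * y ≠ y * x) (hZ : Nat.card (Subgroup.center P) = p) :
    Subgroup.center P ≤ frattini P := by
  have hpp : p.Prime := Fact.out
  haveI := hP.isNilpotent
  have hc : commutator P ≠ ⊥ := by
    intro h
    obtain ⟨x, y, hxy⟩ := hnc
    apply hxy
    have : ⁅x, y⁆ ∈ commutator P := Subgroup.commutator_mem_commutator (Subgroup.mem_top x) (Subgroup.mem_top y)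
    rw [h, Subgroup.mem_bot, commutatorElement_eq_one_iff_mul_comm] at this
    exact this
  have h1 := Cfsg.Agent.Lib.Helper1.normal_inf_center_ne_bot (commutator P) hc
  have h2 : commutator P ⊓ Subgroup.center P = Subgroup.center P := by
    have hd : Nat.card ↥(commutator P ⊓ Subgroup.center P) ∣ p := by
      rw [← hZ]; exact Subgroup.card_dvd_of_le inf_le_right
    rcases (Nat.dvd_prime hpp).mp hd with h | h
    · exact absurd (Subgroup.card_eq_one.mp h) h1
    · exact Subgroup.eq_of_le_of_card_ge inf_le_right (by rw [h, hZ])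
  calc Subgroup.center P = commutator P ⊓ Subgroup.center P := h2.symm
    _ ≤ commutator P := inf_le_left
    _ ≤ frattini P := Cfsg.Agent.Lib.Helper1.pgroup_commutator_le_frattini hP

end Cfsg.Agent.Lib.Helper21.SecRank
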