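import Mathlib
import Cfsg.Prelude.Def_LieTypeChar
import Cfsg.Agent.Lib.helper14.SQD.Defs
import Cfsg.Agent.Lib.helper14.SQD.DefsU
import Cfsg.Agent.Lib.Helper24.SQD.DefsO
import Cfsg.Agent.Lib.Helper27.SQDT3

/-!
# Project SQD (helper14, S4625; part O by helper24), row OA5 (`card_alt_ge`), VERBATIM.
-/

set_option autoImplicit false

namespace Cfsg.Agent.Lib.helper14.SQD

open Cfsg Cfsg.Lie Matrix

universe u v

/-- `A ↦ (A - 1) + (A - 1)ᵀ` from the upper unitriangular matrices to the alternating matrices -/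
def sqdoa5_map {F : Type u} [Field F] (k : ℕ) (A : {A : Matrix (Fin k) (Fin k) F // IsUUT A}) :
    altAdd k F :=
  ⟨(A.1 - 1) + (A.1 - 1)ᵀ, by
    refine ⟨?_, fun i => ?_⟩
    · rw [Matrix.transpose_add, Matrix.transpose_transpose, add_comm]
    · rw [Matrix.add_apply, Matrix.transpose_apply, Matrix.sub_apply, A.2.2 i, Matrix.one_apply_eq,
        sub_self, add_zero]⟩

theorem sqdoa5_map_apply {F : Type u} [Field F] (k : ℕ) (A : {A : Matrix (Fin k) (Fin k) F // IsUUT A})
    (i j : Fin k) (hij : i < j) : (sqdoa5_map k A).1 i j = A.1 i j := by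
  change (A.1 - 1 + (A.1 - 1)ᵀ : Matrix (Fin k) (Fin k) F) i j = A.1 i j
  rw [Matrix.add_apply, Matrix.transpose_apply, Matrix.sub_apply, Matrix.sub_apply,
    Matrix.one_apply_ne hij.ne, Matrix.one_apply_ne hij.ne', A.2.1 hij]
  ring

theorem sqdoa5_injective {F : Type u} [Field F] (k : ℕ) : Function.Injective (sqdoa5_map (F := F) k) := by
  intro A B h
  apply Subtype.ext
  ext i j
  rcases lt_trichotomy i j with hij | hij | hij
  · rw [← sqdoa5_map_apply k A i j hij, ← sqdoa5_map_apply k B i j hij, h]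
  · subst hij
    rw [A.2.2, B.2.2]
  · rw [A.2.1 hij, B.2.1 hij]

theorem card_alt_ge {F : Type u} [Field F] [Fintype F] (k : ℕ) :
    Fintype.card F ^ (k * (k - 1) / 2) ≤ Nat.card (altAdd k F) := by
  rw [← uut_card]
  exact Nat.card_le_card_of_injective _ (sqdoa5_injective k)

end Cfsg.Agent.Lib.helper14.SQD
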