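import Mathlib
import Cfsg.Prelude.Def_LieTypeChar
import Cfsg.Agent.Lib.helper14.SQD.Defs
import Cfsg.Agent.Lib.helper14.SQD.DefsU

/-!
# Project SQD (helper14, S4625), row H4 (`lev_conj_hs`), VERBATIM.
-/

set_option autoImplicit false

namespace Cfsg.Agent.Lib.helper14.SQD

open Cfsg Cfsg.Lie Matrix

universe u v

section H
variable {k d : ℕ} {F : Type u} [Field F] (τ : F →+* F) (G₀ : Matrix (Fin d) (Fin d) F)

theorem sqdh4_tadj_tadj (hτ : ∀ x, τ (τ x) = x) {m n : Type*} (A : Matrix m n F) :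
    tadj τ (tadj τ A) = A := by
  ext i j
  simp [tadj, hτ]

theorem lev_conj_hs (hτ : ∀ x, τ (τ x) = x) (g : GL (Fin k) F) (R : Matrix (Fin d) (Fin k) F)
    (C : Matrix (Fin k) (Fin k) F) (w w' : GL ((Fin k ⊕ Fin k) ⊕ Fin d) F)
    (hw : (w : Matrix ((Fin k ⊕ Fin k) ⊕ Fin d) ((Fin k ⊕ Fin k) ⊕ Fin d) F) = hsM τ G₀ R C)
    (hw' : (w' : Matrix ((Fin k ⊕ Fin k) ⊕ Fin d) ((Fin k ⊕ Fin k) ⊕ Fin d) F) =
      hsM τ G₀ (R * tadj τ (g : Matrix (Fin k) (Fin k) F))
        ((g : Matrix (Fin k) (Fin k) F) * C * tadj τ (g : Matrix (Fin k) (Fin k) F))) :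
    embGL d (levHom τ g) * w * (embGL d (levHom τ g))⁻¹ = w' := by
  apply Units.ext
  rw [← map_inv, ← map_inv, Units.val_mul, Units.val_mul, hw', hw, embGL_coe, embGL_coe, levHom_coe,
    levHom_coe, inv_inv]
  unfold hsM
  rw [Matrix.fromBlocks_multiply, Matrix.fromBlocks_multiply]
  simp only [Matrix.mul_one, Matrix.one_mul, Matrix.mul_zero, Matrix.zero_mul, add_zero, zero_add]
  have hgg : (g : Matrix (Fin k) (Fin k) F) * ((g⁻¹ : GL (Fin k) F) : Matrix (Fin k) (Fin k) F) = 1 := by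
    rw [← Units.val_mul, mul_inv_cancel, Units.val_one]
  congr 1
  · rw [Matrix.fromBlocks_multiply, Matrix.fromBlocks_multiply]
    simp only [Matrix.mul_one, Matrix.one_mul, Matrix.mul_zero, Matrix.zero_mul, add_zero, zero_add]
    congr 1
    rw [← tadj_mul, hgg, tadj_one]
  · rw [Matrix.fromBlocks_mul_fromRows]
    simp only [Matrix.mul_zero, Matrix.zero_mul, add_zero]
    rw [tadj_mul, sqdh4_tadj_tadj τ hτ, Matrix.mul_assoc]
  · rw [Matrix.fromCols_mul_fromBlocks]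
    simp only [Matrix.mul_zero, Matrix.zero_mul, add_zero, zero_add]

end H

end Cfsg.Agent.Lib.helper14.SQD
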