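import Mathlib
import Cfsg.Prelude.Def_GeometricClasses
import Cfsg.Agent.Lib.Helper27.ASC.Defs
import Cfsg.Agent.Lib.Lead.ASCU.Defs
import Cfsg.Agent.Lib.Helper28.UHerm

/-! Project ASCU, piece UPR1: `SU_n(q)`, `n ≥ 3`, stabilises no proper non-zero subspace (monomial subgroup). -/

set_option autoImplicit false
set_option linter.unusedVariables false
set_option linter.unusedSectionVars false

namespace Cfsg.Agent.Lib.Lead.ASCU

open Cfsg Cfsg.Geo Cfsg.Agent.Lib.Helper27.ASC
open scoped MatrixGroups Matrix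

variable {n : ℕ} {F : Type*} [Field F] [Fintype F]

theorem ascuupr1_zeta (q : ℕ) (hF : Fintype.card F = q ^ 2) : ∃ ζ : F, ζ ≠ 1 ∧ ζ ^ (q + 1) = 1 := by
  classical
  have hq2 := Cfsg.Agent.Lib.Helper28.UHerm.two_le_q hF
  obtain ⟨g, hg⟩ := IsCyclic.exists_generator (α := Fˣ)
  have hord : orderOf g = q ^ 2 - 1 := by
    rw [orderOf_eq_card_of_forall_mem_zpowers hg, Nat.card_eq_fintype_card, Fintype.card_units, hF]
  have hmul : (q - 1) * (q + 1) = q ^ 2 - 1 := by
    obtain ⟨m, rfl⟩ : ∃ m, q = m + 1 := ⟨q - 1, by omega⟩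
    have : (m + 1) ^ 2 = (m + 1 - 1) * (m + 1 + 1) + 1 := by
      simp only [Nat.add_sub_cancel]; ring
    omega
  refine ⟨((g ^ (q - 1) : Fˣ) : F), ?_, ?_⟩
  · intro h
    have h2 : g ^ (q - 1) = 1 := Units.ext (by simpa using h)
    have h3 := orderOf_dvd_of_pow_eq_one h2
    rw [hord] at h3
    have h4 := Nat.le_of_dvd (by omega) h3
    have h5 : q * 2 ≤ q ^ 2 := by nlinarith
    omega
  · rw [← Units.val_pow_eq_pow_val, ← pow_mul, hmul, ← hord, pow_orderOf_eq_one]
    rfl

theorem ascuupr1_diag_mem (q : ℕ) (d : Fin n → F) (hd : ∀ x, d x ^ (q + 1) = 1) (hprod : ∏ x, d x = 1) :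
    ∃ g : GL (Fin n) F, g ∈ SUg n F q ∧ (g : Matrix (Fin n) (Fin n) F) = Matrix.diagonal d := by
  have hdet : (Matrix.diagonal d).det = 1 := by rw [Matrix.det_diagonal, hprod]
  refine ⟨Matrix.GeneralLinearGroup.mk'' (Matrix.diagonal d) (by rw [hdet]; exact isUnit_one),
    ⟨?_, ?_⟩, rfl⟩
  · refine (mem_GU_iff q _).2 ?_
    intro u v
    show hermForm n F q (Matrix.diagonal d *ᵥ u) (Matrix.diagonal d *ᵥ v) = _
    unfold hermForm
    apply Finset.sum_congr rfl
    intro i _
    rw [Matrix.mulVec_diagonal, Matrix.mulVec_diagonal, mul_pow]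
    have := hd i
    calc d i * u i * (d i ^ q * v i ^ q) = (d i ^ (q + 1)) * (u i * v i ^ q) := by ring
      _ = _ := by rw [this, one_mul]
  · show Matrix.GeneralLinearGroup.det _ = 1
    apply Units.ext
    rw [Matrix.GeneralLinearGroup.val_det_apply]
    exact hdet

theorem ascuupr1_perm_mem (q : ℕ) (π : Equiv.Perm (Fin n)) (hπ : Equiv.Perm.sign π = 1) :
    ∃ g : GL (Fin n) F, g ∈ SUg n F q ∧ (g : Matrix (Fin n) (Fin n) F) = π.permMatrix F := by
  have hdet : (π.permMatrix F).det = 1 := by rw [Matrix.det_permutation, hπ]; simp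
  refine ⟨Matrix.GeneralLinearGroup.mk'' (π.permMatrix F) (by rw [hdet]; exact isUnit_one),
    ⟨?_, ?_⟩, rfl⟩
  · refine (mem_GU_iff q _).2 ?_
    intro u v
    show hermForm n F q (π.permMatrix F *ᵥ u) (π.permMatrix F *ᵥ v) = _
    rw [Matrix.permMatrix_mulVec, Matrix.permMatrix_mulVec]
    unfold hermForm
    exact Equiv.sum_comp π (fun i => u i * v i ^ q)
  · show Matrix.GeneralLinearGroup.det _ = 1
    apply Units.ext
    rw [Matrix.GeneralLinearGroup.val_det_apply]
    exact hdet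

theorem ascuupr1_third (hn : 3 ≤ n) (i k : Fin n) : ∃ j : Fin n, j ≠ i ∧ j ≠ k := by
  by_contra hcon
  push Not at hcon
  have h0 := hcon ⟨0, by omega⟩
  have h1 := hcon ⟨1, by omega⟩
  have h2 := hcon ⟨2, by omega⟩
  simp only [ne_eq, Fin.ext_iff] at h0 h1 h2
  omega

/-- UPR1 -/
theorem upr_subspace (q : ℕ) (hF : Fintype.card F = q ^ 2) (hn : 3 ≤ n) (W : Submodule F (Fin n → F))
    (h0 : W ≠ ⊥) (h1 : W ≠ ⊤) : ¬ SUg n F q ≤ subspaceStabilizer W := by
  classical
  intro hle
  have hmaps : ∀ g ∈ SUg n F q, ∀ v ∈ W, (g : Matrix (Fin n) (Fin n) F) *ᵥ v ∈ W := by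
    intro g hg v hv
    exact ((hle hg) v).1 hv
  obtain ⟨ζ, hζ1, hζ⟩ := ascuupr1_zeta q hF
  have hζ0 : ζ ≠ 0 := by
    rintro rfl
    simp at hζ
  have hζ1' : ζ - 1 ≠ 0 := sub_ne_zero.2 hζ1
  -- step A
  have hA : ∀ i k : Fin n, i ≠ k → ∀ w ∈ W,
      ((ζ - 1) * w i) • (Pi.single i (1 : F) : Fin n → F) +
        ((ζ⁻¹ - 1) * w k) • (Pi.single k (1 : F) : Fin n → F) ∈ W := by
    intro i k hik w hw
    let d : Fin n → F := fun x => (if x = i then ζ else 1) * (if x = k then ζ⁻¹ else 1)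
    have hd : ∀ x, d x ^ (q + 1) = 1 := by
      intro x
      simp only [d, mul_pow]
      have e1 : (if x = i then ζ else 1) ^ (q + 1) = 1 := by
        split_ifs
        · exact hζ
        · exact one_pow _
      have e2 : (if x = k then ζ⁻¹ else 1) ^ (q + 1) = 1 := by
        split_ifs
        · rw [inv_pow, hζ, inv_one]
        · exact one_pow _
      rw [e1, e2, one_mul]
    have hprod : ∏ x, d x = 1 := by
      simp only [d]
      rw [Finset.prod_mul_distrib, Finset.prod_ite_eq', Finset.prod_ite_eq']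
      simp [hζ0]
    obtain ⟨g, hg, hgm⟩ := ascuupr1_diag_mem q d hd hprod
    have h2 := hmaps g hg w hw
    rw [hgm] at h2
    have h3 := W.sub_mem h2 hw
    have e : Matrix.diagonal d *ᵥ w - w = ((ζ - 1) * w i) • (Pi.single i (1 : F) : Fin n → F) +
        ((ζ⁻¹ - 1) * w k) • (Pi.single k (1 : F) : Fin n → F) := by
      funext x
      simp only [Pi.sub_apply, Matrix.mulVec_diagonal, Pi.add_apply, Pi.smul_apply, smul_eq_mul, d,
        Pi.single_apply]
      by_cases hxi : x = i
      · subst hxi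
        simp [hik]
        ring
      · by_cases hxk : x = k
        · subst hxk
          simp [hxi]
          ring
        · simp [hxi, hxk]
    rwa [e] at h3
  -- step B1
  have hB1 : ∀ w ∈ W, ∀ i j : Fin n, i ≠ j → w i ≠ 0 → w j = 0 →
      (Pi.single i (1 : F) : Fin n → F) ∈ W := by
    intro w hw i j hij hwi hwj
    have h2 := hA i j hij w hw
    rw [hwj, mul_zero, zero_smul, add_zero] at h2
    have h3 := W.smul_mem ((ζ - 1) * w i)⁻¹ h2
    rwa [smul_smul, inv_mul_cancel₀ (mul_ne_zero hζ1' hwi), one_smul] at h3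
  -- step B
  have hB : ∃ i : Fin n, (Pi.single i (1 : F) : Fin n → F) ∈ W := by
    obtain ⟨w, hw, hw0⟩ := Submodule.exists_mem_ne_zero_of_ne_bot h0
    obtain ⟨i, hi⟩ : ∃ i, w i ≠ 0 := by
      by_contra hcon
      push Not at hcon
      exact hw0 (funext hcon)
    by_cases hex : ∃ k, k ≠ i ∧ w k = 0
    · obtain ⟨k, hki, hwk⟩ := hex
      exact ⟨i, hB1 w hw i k (Ne.symm hki) hi hwk⟩
    · push Not at hex
      obtain ⟨k, hki, _⟩ := ascuupr1_third hn i i
      obtain ⟨j, hji, hjk⟩ := ascuupr1_third hn i k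
      have hw' := hA i k (Ne.symm hki) w hw
      refine ⟨i, hB1 _ hw' i j (Ne.symm hji) ?_ ?_⟩
      · simp [Ne.symm hki, hζ1', hi]
      · simp [hji, hjk]
  -- step C
  obtain ⟨i, hi⟩ := hB
  have hC : ∀ j : Fin n, (Pi.single j (1 : F) : Fin n → F) ∈ W := by
    intro j
    by_cases hji : j = i
    · rw [hji]; exact hi
    · obtain ⟨k, hki, hkj⟩ := ascuupr1_third hn i j
      let π : Equiv.Perm (Fin n) := Equiv.swap i j * Equiv.swap i k
      have hπ : Equiv.Perm.sign π = 1 := by
        simp only [π]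
        rw [Equiv.Perm.sign_mul, Equiv.Perm.sign_swap (Ne.symm hji), Equiv.Perm.sign_swap (Ne.symm hki)]
        rfl
      have hπj : π j = i := by
        simp only [π, Equiv.Perm.mul_apply]
        rw [Equiv.swap_apply_of_ne_of_ne hji (Ne.symm hkj), Equiv.swap_apply_right]
      obtain ⟨g, hg, hgm⟩ := ascuupr1_perm_mem (F := F) q π hπ
      have h2 := hmaps g hg _ hi
      rw [hgm, Matrix.permMatrix_mulVec] at h2
      have e : (Pi.single i (1 : F) : Fin n → F) ∘ π = Pi.single j (1 : F) := by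
        funext x
        simp only [Function.comp_apply, Pi.single_apply]
        by_cases hx : x = j
        · subst hx
          simp [hπj]
        · have : π x ≠ i := by
            intro hc
            rw [← hπj] at hc
            exact hx (π.injective hc)
          simp [hx, this]
      rwa [e] at h2
  apply h1
  rw [eq_top_iff]
  intro v _
  have : v = ∑ k : Fin n, v k • (Pi.single k (1 : F) : Fin n → F) := by
    funext l
    rw [Finset.sum_apply]
    simp [Pi.single_apply]
  rw [this]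
  exact W.sum_mem fun k _ => W.smul_mem _ (hC k)

end Cfsg.Agent.Lib.Lead.ASCU
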