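import Mathlib
import Cfsg.Prelude.Def_GeometricClasses
import Cfsg.Agent.Lib.Helper27.ASC.Defs

set_option autoImplicit false
set_option linter.unusedVariables false

namespace Cfsg.Agent.Lib.Helper27.ASC

open Cfsg Cfsg.Geo
open scoped MatrixGroups Matrix

variable {n : ℕ} {F : Type*} [Field F] [Fintype F]

/-- a nonzero functional vanishing on two given vectors, `n ≥ 3` -/
theorem ascpr8q_exists_phi (hn : 3 ≤ n) (u k : Fin n → F) :
    ∃ φ : Fin n → F, φ ≠ 0 ∧ φ ⬝ᵥ u = 0 ∧ φ ⬝ᵥ k = 0 := by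
  classical
  let f : (Fin n → F) →ₗ[F] (F × F) :=
    { toFun := fun φ => (φ ⬝ᵥ u, φ ⬝ᵥ k)
      map_add' := fun a b => by simp [add_dotProduct]
      map_smul' := fun c a => by simp [smul_dotProduct] }
  have hlt : Module.finrank F (F × F) < Module.finrank F (Fin n → F) := by
    rw [Module.finrank_prod, Module.finrank_self, Module.finrank_fin_fun]
    omega
  have hker := LinearMap.ker_ne_bot_of_finrank_lt (f := f) hlt
  obtain ⟨φ, hφ, hφ0⟩ := (Submodule.ne_bot_iff _).mp hker
  refine ⟨φ, hφ0, ?_, ?_⟩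
  · have := LinearMap.mem_ker.mp hφ
    exact congrArg Prod.fst this
  · have := LinearMap.mem_ker.mp hφ
    exact congrArg Prod.snd this

/-- PR8Q -/
theorem pr_quad (hn : 3 ≤ n) (Q : (Fin n → F) → F) (hQ : IsNondegenerateQuadraticForm Q) :
    ¬ specialLinear (Fin n) F ≤ quadSimilarityGroup Q := by
  classical
  intro hle
  have hbil := hQ.polar_bilinear
  have hn0 : 0 < n := by omega
  let i0 : Fin n := ⟨0, hn0⟩
  let u : Fin n → F := Pi.single i0 1
  have hu : u ≠ 0 := by
    intro h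
    have := congrFun h i0
    simp [u] at this
  obtain ⟨⟨k, hk⟩, _⟩ := hQ.nondegenerate u hu
  obtain ⟨φ, hφ0, hφu, hφk⟩ := ascpr8q_exists_phi hn u k
  -- the transvection
  let T : Matrix (Fin n) (Fin n) F := 1 + Matrix.vecMulVec u φ
  have hdet : T.det = 1 := by
    show (1 + Matrix.vecMulVec u φ).det = 1
    rw [Matrix.vecMulVec_eq Unit, Matrix.det_one_add_replicateCol_mul_replicateRow, hφu, add_zero]
  have hTv : ∀ v : Fin n → F, T *ᵥ v = v + (φ ⬝ᵥ v) • u := by
    intro v
    show (1 + Matrix.vecMulVec u φ) *ᵥ v = _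
    rw [Matrix.add_mulVec, Matrix.one_mulVec, Matrix.vecMulVec_mulVec]
    ext i
    simp [mul_comm]
  let g : GL (Fin n) F := Matrix.GeneralLinearGroup.mkOfDetNeZero T (by rw [hdet]; exact one_ne_zero)
  have hgT : (g : Matrix (Fin n) (Fin n) F) = T := rfl
  have hg : g ∈ specialLinear (Fin n) F := by
    show g ∈ (Matrix.GeneralLinearGroup.det : GL (Fin n) F →* Fˣ).ker
    rw [MonoidHom.mem_ker]
    apply Units.ext
    show (g : Matrix (Fin n) (Fin n) F).det = 1
    rw [hgT, hdet]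
  obtain ⟨c, hc⟩ := hle hg
  rw [hgT] at hc
  -- vectors in ker φ are fixed
  have hfix : ∀ w : Fin n → F, φ ⬝ᵥ w = 0 → T *ᵥ w = w := by
    intro w hw
    rw [hTv, hw, zero_smul, add_zero]
  have hφuk : φ ⬝ᵥ (k + u) = 0 := by rw [dotProduct_add, hφk, hφu, add_zero]
  -- c = 1
  have hc1 : (c : F) = 1 := by
    have hex : ∃ w : Fin n → F, φ ⬝ᵥ w = 0 ∧ Q w ≠ 0 := by
      by_contra hcon
      push_neg at hcon
      apply hk
      show Q (k + u) - Q k - Q u = 0
      rw [hcon _ hφuk, hcon _ hφk, hcon _ hφu]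
      ring
    obtain ⟨w, hw, hQw⟩ := hex
    have h1 := hc w
    rw [hfix w hw] at h1
    have : ((c : F) - 1) * Q w = 0 := by rw [sub_mul, one_mul, ← h1, sub_self]
    rcases mul_eq_zero.mp this with h | h
    · exact sub_eq_zero.mp h
    · exact absurd h hQw
  -- a vector with φ w = 1
  obtain ⟨w1, hw1⟩ : ∃ w1 : Fin n → F, φ ⬝ᵥ w1 = 1 := by
    have : ∃ i, φ i ≠ 0 := by
      by_contra hcon
      push_neg at hcon
      exact hφ0 (funext hcon)
    obtain ⟨i, hi⟩ := this
    refine ⟨Pi.single i (φ i)⁻¹, ?_⟩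
    rw [dotProduct_single, mul_inv_cancel₀ hi]
  -- invariance: Q (w + u) = Q w when φ w = 1
  have hinv : ∀ w : Fin n → F, φ ⬝ᵥ w = 1 → Q (w + u) = Q w := by
    intro w hw
    have h1 := hc w
    rw [hTv, hw, one_smul, hc1, one_mul] at h1
    exact h1
  have hpol : ∀ a b : Fin n → F, Q (a + b) = QuadraticMap.polar Q a b + Q a + Q b := by
    intro a b
    show Q (a + b) = Q (a + b) - Q a - Q b + Q a + Q b
    ring
  have e1 := hinv w1 hw1
  have hw1k : φ ⬝ᵥ (w1 + k) = 1 := by rw [dotProduct_add, hw1, hφk, add_zero]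
  have e2 := hinv (w1 + k) hw1k
  rw [hpol w1 u] at e1
  rw [hpol (w1 + k) u, hbil.add_left] at e2
  apply hk
  have e1' : QuadraticMap.polar Q w1 u + Q u = 0 := by
    have := e1
    linear_combination this
  have e2' : QuadraticMap.polar Q w1 u + QuadraticMap.polar Q k u + Q u = 0 := by
    have := e2
    linear_combination this
  linear_combination e2' - e1'

end Cfsg.Agent.Lib.Helper27.ASC
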