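import Mathlib
import Cfsg.Prelude.Def_GeometricClasses
import Cfsg.Agent.Lib.Helper27.ASC.Defs

set_option autoImplicit false
set_option linter.unusedVariables false

namespace Cfsg.Agent.Lib.Helper27.ASC

open Cfsg Cfsg.Geo
open scoped MatrixGroups Matrix

variable {n : ℕ} {F : Type*} [Field F] [Fintype F]

/-- The field automorphism `a ↦ a ^ q₀` of a field with `q₀ ^ 2` elements. -/
theorem asch21es5_sigma (q₀ : ℕ) (hq : Fintype.card F = q₀ ^ 2) :
    ∃ σ : F ≃+* F, (∀ a : F, σ a = a ^ q₀) ∧ σ ≠ RingEquiv.refl F ∧ ∀ a : F, σ (σ a) = a := by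
  classical
  obtain ⟨p, hchar, m, hp, hcard⟩ := FiniteField.card' F
  haveI := hchar
  haveI : Fact p.Prime := ⟨hp⟩
  have hdvd : q₀ ∣ p ^ (m : ℕ) := by
    rw [← hcard, hq]
    exact dvd_pow_self q₀ (by norm_num)
  obtain ⟨j, hj, hq0⟩ := (Nat.dvd_prime_pow hp).mp hdvd
  have hq2 : 2 ≤ q₀ := by
    have h1 : 1 < Fintype.card F := Fintype.one_lt_card
    rw [hq] at h1
    by_contra hlt
    push Not at hlt
    interval_cases q₀ <;> simp at h1
  refine ⟨iterateFrobeniusEquiv F p j, ?_, ?_, ?_⟩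
  · intro a
    rw [iterateFrobeniusEquiv_def, hq0]
  · intro hrefl
    -- every element satisfies a ^ q₀ = a, impossible
    have hall : ∀ a : F, a ^ q₀ = a := by
      intro a
      have := congrArg (fun e : F ≃+* F => e a) hrefl
      simp only [RingEquiv.refl_apply] at this
      rw [iterateFrobeniusEquiv_def, ← hq0] at this
      exact this
    obtain ⟨g, hg⟩ := IsCyclic.exists_generator (α := Fˣ)
    have hord : orderOf g = Fintype.card Fˣ := by
      rw [orderOf_eq_card_of_forall_mem_zpowers hg, Nat.card_eq_fintype_card]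
    rw [Fintype.card_units, hq] at hord
    have hg1 : g ^ (q₀ - 1) = 1 := by
      apply Units.ext
      rw [Units.val_pow_eq_pow_val, Units.val_one]
      have h1 := hall (g : F)
      have hne : (g : F) ≠ 0 := g.ne_zero
      have : (g : F) ^ (q₀ - 1) * (g : F) = 1 * (g : F) := by
        rw [← pow_succ, Nat.sub_add_cancel (by omega), h1, one_mul]
      exact mul_right_cancel₀ hne this
    have hdv : orderOf g ∣ q₀ - 1 := orderOf_dvd_of_pow_eq_one hg1
    rw [hord] at hdv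
    have hle := Nat.le_of_dvd (by omega) hdv
    have : q₀ ^ 2 ≥ 2 * q₀ := by nlinarith
    omega
  · intro a
    rw [iterateFrobeniusEquiv_def, iterateFrobeniusEquiv_def, ← hq0, ← pow_mul, ← sq, ← hq]
    exact FiniteField.pow_card a

/-- the standard hermitian sum is invariant under "unitary monomial" matrices -/
def asch21es5_U (σ : F ≃+* F) (m : Matrix (Fin n) (Fin n) F) : Prop :=
  ∀ a b : Fin n → F, ∑ l, (m *ᵥ a) l * σ ((m *ᵥ b) l) = ∑ l, a l * σ (b l)

omit [Fintype F] in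
theorem asch21es5_U_mul (σ : F ≃+* F) {m₁ m₂ : Matrix (Fin n) (Fin n) F} (h₁ : asch21es5_U σ m₁)
    (h₂ : asch21es5_U σ m₂) : asch21es5_U σ (m₁ * m₂) := by
  intro a b
  rw [← Matrix.mulVec_mulVec, ← Matrix.mulVec_mulVec, h₁, h₂]

omit [Fintype F] in
theorem asch21es5_U_one (σ : F ≃+* F) : asch21es5_U σ (1 : Matrix (Fin n) (Fin n) F) := by
  intro a b
  simp

omit [Fintype F] in
theorem asch21es5_U_pow (σ : F ≃+* F) {m : Matrix (Fin n) (Fin n) F} (h : asch21es5_U σ m) (i : ℕ) :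
    asch21es5_U σ (m ^ i) := by
  induction i with
  | zero => rw [pow_zero]; exact asch21es5_U_one σ
  | succ i ih => rw [pow_succ]; exact asch21es5_U_mul σ ih h

omit [Fintype F] in
theorem asch21es5_U_diag (σ : F ≃+* F) (d : Fin n → F) (hd : ∀ l, d l * σ (d l) = 1) :
    asch21es5_U σ (Matrix.diagonal d) := by
  intro a b
  apply Finset.sum_congr rfl
  intro l _
  rw [Matrix.mulVec_diagonal, Matrix.mulVec_diagonal, map_mul]
  calc d l * a l * (σ (d l) * σ (b l)) = (d l * σ (d l)) * (a l * σ (b l)) := by ring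
    _ = a l * σ (b l) := by rw [hd, one_mul]

omit [Fintype F] in
theorem asch21es5_U_smul (σ : F ≃+* F) (t : F) (ht : t * σ t = 1) {m : Matrix (Fin n) (Fin n) F}
    (h : asch21es5_U σ m) : asch21es5_U σ (t • m) := by
  intro a b
  rw [← h a b]
  apply Finset.sum_congr rfl
  intro l _
  rw [Matrix.smul_mulVec, Matrix.smul_mulVec, Pi.smul_apply, Pi.smul_apply, smul_eq_mul, smul_eq_mul,
    map_mul]
  calc t * (m *ᵥ a) l * (σ t * σ ((m *ᵥ b) l)) = (t * σ t) * ((m *ᵥ a) l * σ ((m *ᵥ b) l)) := by ring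
    _ = _ := by rw [ht, one_mul]

omit [Fintype F] in
theorem asch21es5_U_perm (σ : F ≃+* F) (e : Equiv.Perm (Fin n)) :
    asch21es5_U σ (Matrix.of (fun j i : Fin n => if j = e i then (1 : F) else 0)) := by
  classical
  intro a b
  have hmv : ∀ v : Fin n → F, ∀ l, (Matrix.of (fun j i : Fin n => if j = e i then (1 : F) else 0) *ᵥ v) l
      = v (e.symm l) := by
    intro v l
    simp only [Matrix.mulVec, dotProduct, Matrix.of_apply]
    rw [Finset.sum_eq_single (e.symm l)]
    · simp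
    · intro i _ hi
      have : l ≠ e i := by
        intro h
        apply hi
        rw [h, Equiv.symm_apply_apply]
      simp [this]
    · intro h
      exact absurd (Finset.mem_univ _) h
  simp only [hmv]
  exact Equiv.sum_comp e.symm (fun l => a l * σ (b l))


omit [Fintype F] in
/-- a root of `X ^ r - 1` is a power of a nontrivial one, `r` prime -/
theorem asch21es5_pow_of_root {r : ℕ} (hr : r.Prime) (ω c : F) (hω1 : ω ≠ 1) (hωr : ω ^ r = 1)
    (hc : c ^ r = 1) : ∃ i : ℕ, ω ^ i = c := by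
  haveI : Fact r.Prime := ⟨hr⟩
  have hord : orderOf ω = r := orderOf_eq_prime hωr hω1
  have hprim : IsPrimitiveRoot ω r := by
    rw [← hord]
    exact IsPrimitiveRoot.orderOf ω
  haveI : NeZero r := ⟨hr.ne_zero⟩
  obtain ⟨i, _, hi⟩ := hprim.eq_pow_of_pow_eq_one hc
  exact ⟨i, hi⟩

/-- ES5 core: the unitary form from the standard shape of `x`, `y` (conclusion of ES0 as hypothesis). -/
theorem asch21es5_core {r : ℕ} (hr : r.Prime) {N : Subgroup (GL (Fin r) F)} {x y : GL (Fin r) F} {ω : F}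
    (hd : HeisData r N x y ω) (B : GL (Fin r) F) (c : F) (hc : c ^ r = 1)
    (hBx : (B : Matrix (Fin r) (Fin r) F) * (x : Matrix (Fin r) (Fin r) F) *
        ((B⁻¹ : GL (Fin r) F) : Matrix (Fin r) (Fin r) F) =
        c • Matrix.diagonal (fun i : Fin r => ω ^ (i : ℕ)))
    (hBy : (B : Matrix (Fin r) (Fin r) F) * (y : Matrix (Fin r) (Fin r) F) *
        ((B⁻¹ : GL (Fin r) F) : Matrix (Fin r) (Fin r) F) =
        Matrix.of (fun j i : Fin r => if j = finRotate r i then (1 : F) else 0))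
    (q₀ : ℕ) (hq : Fintype.card F = q₀ ^ 2) (hω : ω ^ (q₀ + 1) = 1) :
    ∃ (σ : F ≃+* F) (f : (Fin r → F) → (Fin r → F) → F), IsUnitaryForm σ f ∧ FixesForm (matrixSet N) f := by
  classical
  obtain ⟨σ, hσ, hσne, hσinv⟩ := asch21es5_sigma (F := F) q₀ hq
  set Bm : Matrix (Fin r) (Fin r) F := (B : Matrix (Fin r) (Fin r) F) with hBm
  set Bi : Matrix (Fin r) (Fin r) F := ((B⁻¹ : GL (Fin r) F) : Matrix (Fin r) (Fin r) F) with hBi
  have hBiBm : Bi * Bm = 1 := by
    rw [hBi, hBm, ← Matrix.GeneralLinearGroup.coe_mul, inv_mul_cancel]; rfl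
  have hBmBi : Bm * Bi = 1 := by
    rw [hBi, hBm, ← Matrix.GeneralLinearGroup.coe_mul, mul_inv_cancel]; rfl
  refine ⟨σ, fun u v => ∑ l, (Bm *ᵥ u) l * σ ((Bm *ᵥ v) l), ?_, ?_⟩
  · refine ⟨hσne, hσinv, ?_, ?_, ?_, ?_⟩
    · intro a b v
      show ∑ l, (Bm *ᵥ (a + b)) l * σ ((Bm *ᵥ v) l) = _
      rw [Matrix.mulVec_add, ← Finset.sum_add_distrib]
      apply Finset.sum_congr rfl
      intro l _
      rw [Pi.add_apply, add_mul]
    · intro t a v
      show ∑ l, (Bm *ᵥ (t • a)) l * σ ((Bm *ᵥ v) l) = _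
      rw [Matrix.mulVec_smul, Finset.mul_sum]
      apply Finset.sum_congr rfl
      intro l _
      rw [Pi.smul_apply, smul_eq_mul, mul_assoc]
    · intro v w
      show ∑ l, (Bm *ᵥ v) l * σ ((Bm *ᵥ w) l) = σ (∑ l, (Bm *ᵥ w) l * σ ((Bm *ᵥ v) l))
      rw [map_sum]
      apply Finset.sum_congr rfl
      intro l _
      rw [map_mul, hσinv, mul_comm]
    · intro v hv
      -- B v ≠ 0
      have hBv : Bm *ᵥ v ≠ 0 := by
        intro h0
        apply hv
        have : Bi *ᵥ (Bm *ᵥ v) = 0 := by rw [h0, Matrix.mulVec_zero]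
        rwa [Matrix.mulVec_mulVec, hBiBm, Matrix.one_mulVec] at this
      obtain ⟨l0, hl0⟩ : ∃ l0, (Bm *ᵥ v) l0 ≠ 0 := by
        by_contra hcon
        push Not at hcon
        exact hBv (funext hcon)
      have hsingle : Bm *ᵥ (Bi *ᵥ Pi.single l0 (1 : F)) = Pi.single l0 1 := by
        rw [Matrix.mulVec_mulVec, hBmBi, Matrix.one_mulVec]
      constructor
      · refine ⟨Bi *ᵥ Pi.single l0 1, ?_⟩
        show ∑ l, (Bm *ᵥ (Bi *ᵥ Pi.single l0 (1 : F))) l * σ ((Bm *ᵥ v) l) ≠ 0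
        rw [hsingle, Finset.sum_eq_single l0]
        · rw [Pi.single_eq_same, one_mul]
          intro h
          exact hl0 ((map_eq_zero σ).mp h)
        · intro l _ hl
          rw [Pi.single_eq_of_ne hl, zero_mul]
        · intro h; exact absurd (Finset.mem_univ _) h
      · refine ⟨Bi *ᵥ Pi.single l0 1, ?_⟩
        show ∑ l, (Bm *ᵥ v) l * σ ((Bm *ᵥ (Bi *ᵥ Pi.single l0 (1 : F))) l) ≠ 0
        rw [hsingle, Finset.sum_eq_single l0]
        · rw [Pi.single_eq_same, map_one, mul_one]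
          exact hl0
        · intro l _ hl
          rw [Pi.single_eq_of_ne hl, map_zero, mul_zero]
        · intro h; exact absurd (Finset.mem_univ _) h
  · -- invariance
    have hωσ : ω * σ ω = 1 := by rw [hσ, ← pow_succ', hω]
    obtain ⟨ic, hic⟩ := asch21es5_pow_of_root hr ω c hd.hω1 hd.hωr hc
    have hpowσ : ∀ k : ℕ, ω ^ k * σ (ω ^ k) = 1 := by
      intro k
      rw [map_pow, ← mul_pow, hωσ, one_pow]
    have hcσ : c * σ c = 1 := by rw [← hic]; exact hpowσ ic
    have hUx : asch21es5_U σ (c • Matrix.diagonal (fun i : Fin r => ω ^ (i : ℕ))) :=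
      asch21es5_U_smul σ c hcσ (asch21es5_U_diag σ _ (fun l => hpowσ _))
    have hUy : asch21es5_U σ (Matrix.of (fun j i : Fin r => if j = finRotate r i then (1 : F) else 0)) :=
      asch21es5_U_perm σ (finRotate r)
    -- conjugation of powers
    have hconjpow : ∀ (X : Matrix (Fin r) (Fin r) F) (i : ℕ), Bm * X ^ i * Bi = (Bm * X * Bi) ^ i := by
      intro X i
      induction i with
      | zero => rw [pow_zero, pow_zero, Matrix.mul_one, hBmBi]
      | succ i ih =>
        rw [pow_succ, pow_succ, ← ih]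
        calc Bm * (X ^ i * X) * Bi = Bm * X ^ i * (1 * X) * Bi := by
              rw [Matrix.one_mul]; simp only [Matrix.mul_assoc]
          _ = Bm * X ^ i * ((Bi * Bm) * X) * Bi := by rw [hBiBm]
          _ = Bm * X ^ i * Bi * (Bm * X * Bi) := by simp only [Matrix.mul_assoc]
    rintro s ⟨g, hg, rfl⟩ u v
    obtain ⟨i, j, k, hgen⟩ := hd.gen g hg
    show ∑ l, (Bm *ᵥ ((g : Matrix (Fin r) (Fin r) F) *ᵥ u)) l *
        σ ((Bm *ᵥ ((g : Matrix (Fin r) (Fin r) F) *ᵥ v)) l) = ∑ l, (Bm *ᵥ u) l * σ ((Bm *ᵥ v) l)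
    set m : Matrix (Fin r) (Fin r) F := Bm * (g : Matrix (Fin r) (Fin r) F) * Bi with hm
    have hmB : ∀ w : Fin r → F, Bm *ᵥ ((g : Matrix (Fin r) (Fin r) F) *ᵥ w) = m *ᵥ (Bm *ᵥ w) := by
      intro w
      rw [Matrix.mulVec_mulVec, Matrix.mulVec_mulVec, hm]
      congr 1
      calc Bm * (g : Matrix (Fin r) (Fin r) F) = Bm * (g : Matrix (Fin r) (Fin r) F) * 1 := by
            rw [Matrix.mul_one]
        _ = Bm * (g : Matrix (Fin r) (Fin r) F) * (Bi * Bm) := by rw [hBiBm]
        _ = _ := by simp only [Matrix.mul_assoc]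
    have hmU : asch21es5_U σ m := by
      have hmeq : m = ω ^ k • ((Bm * (x : Matrix (Fin r) (Fin r) F) * Bi) ^ i *
          (Bm * (y : Matrix (Fin r) (Fin r) F) * Bi) ^ j) := by
        rw [hm, hgen, ← hconjpow, ← hconjpow, Matrix.mul_smul, Matrix.smul_mul]
        congr 1
        calc Bm * ((x : Matrix (Fin r) (Fin r) F) ^ i * (y : Matrix (Fin r) (Fin r) F) ^ j) * Bi
            = Bm * (x : Matrix (Fin r) (Fin r) F) ^ i * (1 * (y : Matrix (Fin r) (Fin r) F) ^ j) * Bi := by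
              rw [Matrix.one_mul]; simp only [Matrix.mul_assoc]
          _ = Bm * (x : Matrix (Fin r) (Fin r) F) ^ i * ((Bi * Bm) * (y : Matrix (Fin r) (Fin r) F) ^ j) * Bi := by
              rw [hBiBm]
          _ = _ := by simp only [Matrix.mul_assoc]
      rw [hmeq, hBx, hBy]
      exact asch21es5_U_smul σ _ (hpowσ k) (asch21es5_U_mul σ (asch21es5_U_pow σ hUx i) (asch21es5_U_pow σ hUy j))
    rw [hmB u, hmB v]
    exact hmU _ _

end Cfsg.Agent.Lib.Helper27.ASC
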