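import Mathlib
import Cfsg.Agent.Lib.helper15.WB.Defs

set_option autoImplicit false
set_option linter.unusedSectionVars false

/-! Project WB (S2335/S2334), piece Ra: Fourier idempotents of a finite abelian group acting
through a complex representation; joint eigenspaces for distinct characters are independent. -/

namespace Cfsg.Agent.Lib.Helper21.WBRa

open Cfsg.Agent.Lib.helper15.WB

section idem

variable {G : Type*} [Group G] {V : Type*} [AddCommGroup V] [Module ℂ V]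
  {U : Type*} [AddCommGroup U] [Fintype U]

/-- the Fourier idempotent attached to the character `ψ` -/
noncomputable def idem (ρ : Representation ℂ G V) (φ : U → G) (ψ : AddChar U ℂ) : V →ₗ[ℂ] V :=
  (Fintype.card U : ℂ)⁻¹ • ∑ a : U, ψ (-a) • ρ (φ a)

theorem idem_apply (ρ : Representation ℂ G V) (φ : U → G) (ψ : AddChar U ℂ) (v : V) :
    idem ρ φ ψ v = (Fintype.card U : ℂ)⁻¹ • ∑ a : U, ψ (-a) • ρ (φ a) v := by
  simp [idem, LinearMap.sum_apply]

theorem card_ne : (Fintype.card U : ℂ) ≠ 0 := Nat.cast_ne_zero.2 Fintype.card_ne_zero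

theorem idem_of_mem_eig (ρ : Representation ℂ G V) (φ : U → G) (ψ χ : AddChar U ℂ) {v : V}
    (hv : v ∈ eig ρ φ χ) : idem ρ φ ψ v = if ψ = χ then v else 0 := by
  classical
  rw [idem_apply]
  have h1 : ∀ a : U, ψ (-a) • ρ (φ a) v = (χ - ψ) a • v := by
    intro a
    rw [hv a, smul_smul, AddChar.sub_apply, mul_comm]
  simp_rw [h1]
  rw [← Finset.sum_smul, AddChar.sum_eq_ite]
  by_cases h : ψ = χ
  · subst h
    rw [if_pos (sub_self _), if_pos rfl, smul_smul, inv_mul_cancel₀ card_ne, one_smul]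
  · rw [if_neg (fun h' => h (sub_eq_zero.1 h').symm), if_neg h, zero_smul, smul_zero]

theorem idem_mem_eig (ρ : Representation ℂ G V) (φ : U → G)
    (hφ : ∀ a b, φ (a + b) = φ a * φ b) (ψ : AddChar U ℂ) (v : V) :
    idem ρ φ ψ v ∈ eig ρ φ ψ := by
  intro b
  rw [idem_apply ρ φ ψ v, map_smul, smul_comm (ψ b)]
  congr 1
  rw [map_sum (ρ (φ b)), Finset.smul_sum]
  apply Fintype.sum_equiv (Equiv.addLeft b)
  intro a
  have e : ψ b * ψ (-(b + a)) = ψ (-a) := by
    rw [← AddChar.map_add_eq_mul]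
    congr 1
    abel
  rw [map_smul, Equiv.coe_addLeft, smul_smul, e, hφ, map_mul]
  rfl

theorem sum_idem (ρ : Representation ℂ G V) (φ : U → G) (h0 : φ 0 = 1) (v : V) :
    ∑ ψ : AddChar U ℂ, idem ρ φ ψ v = v := by
  classical
  simp_rw [idem_apply]
  rw [← Finset.smul_sum, Finset.sum_comm]
  have h1 : ∀ a : U, ∑ ψ : AddChar U ℂ, ψ (-a) • ρ (φ a) v =
      (if a = 0 then (Fintype.card U : ℂ) else 0) • ρ (φ a) v := by
    intro a
    rw [← Finset.sum_smul, AddChar.sum_apply_eq_ite]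
    simp only [neg_eq_zero]
  simp_rw [h1]
  rw [Finset.sum_eq_single 0]
  · rw [if_pos rfl, h0, map_one, smul_smul, inv_mul_cancel₀ card_ne, one_smul]
    rfl
  · intro b _ hb
    rw [if_neg hb, zero_smul]
  · intro h
    exact absurd (Finset.mem_univ _) h

omit [Fintype U] in
theorem phi_zero (φ : U → G) (hφ : ∀ a b, φ (a + b) = φ a * φ b) : φ 0 = 1 := by
  have := hφ 0 0
  rw [add_zero] at this
  exact (mul_eq_left.1 this.symm)

theorem finrank_sup_eig [FiniteDimensional ℂ V] (ρ : Representation ℂ G V) (φ : U → G)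
    (S : Finset (AddChar U ℂ)) :
    Module.finrank ℂ ↥(S.sup (fun ψ => eig ρ φ ψ)) =
      ∑ ψ ∈ S, Module.finrank ℂ (eig ρ φ ψ) := by
  classical
  induction S using Finset.induction_on with
  | empty => simp
  | insert a S ha ih =>
    rw [Finset.sup_insert, Finset.sum_insert ha, ← ih]
    have hinf : eig ρ φ a ⊓ S.sup (fun ψ => eig ρ φ ψ) = ⊥ := by
      rw [eq_bot_iff]
      rintro v ⟨hv1, hv2⟩
      have h1 : idem ρ φ a v = v := by rw [idem_of_mem_eig ρ φ a a hv1, if_pos rfl]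
      have h2 : S.sup (fun ψ => eig ρ φ ψ) ≤ LinearMap.ker (idem ρ φ a) := by
        apply Finset.sup_le
        intro χ hχ w hw
        rw [LinearMap.mem_ker, idem_of_mem_eig ρ φ a χ hw, if_neg]
        rintro rfl
        exact ha hχ
      have h3 := h2 hv2
      rw [LinearMap.mem_ker, h1] at h3
      rw [h3]
      exact Submodule.zero_mem _
    have := Submodule.finrank_sup_add_finrank_inf_eq (eig ρ φ a) (S.sup fun ψ => eig ρ φ ψ)
    rw [hinf, finrank_bot, add_zero] at this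
    exact this

end idem

section R

variable {G : Type*} [Group G] {V : Type*} [AddCommGroup V] [Module ℂ V] [FiniteDimensional ℂ V]
  {U : Type*} [AddCommGroup U] [Finite U]

theorem sum_finrank_eig_le (ρ : Representation ℂ G V) (φ : U → G)
    (hφ : ∀ a b, φ (a + b) = φ a * φ b) (S : Finset (AddChar U ℂ)) :
    ∑ ψ ∈ S, Module.finrank ℂ (eig ρ φ ψ) ≤ Module.finrank ℂ V := by
  have _ := hφ
  obtain ⟨_⟩ := nonempty_fintype U
  rw [← finrank_sup_eig]
  exact Submodule.finrank_le _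

theorem card_occ_le (ρ : Representation ℂ G V) (φ : U → G)
    (hφ : ∀ a b, φ (a + b) = φ a * φ b) (S : Finset (AddChar U ℂ))
    (hS : ∀ ψ ∈ S, ψ ∈ Occ ρ φ) : S.card ≤ Module.finrank ℂ V := by
  refine le_trans ?_ (sum_finrank_eig_le ρ φ hφ S)
  rw [Finset.card_eq_sum_ones]
  refine Finset.sum_le_sum (fun ψ hψ => ?_)
  have h := mem_Occ_iff.1 (hS ψ hψ)
  exact Submodule.one_le_finrank_iff.2 h

theorem exists_occ_ne_one (ρ : Representation ℂ G V) (φ : U → G)
    (hφ : ∀ a b, φ (a + b) = φ a * φ b) (h : ∃ a, ρ (φ a) ≠ 1) :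
    ∃ ψ ∈ Occ ρ φ, ψ ≠ 1 := by
  classical
  obtain ⟨_⟩ := nonempty_fintype U
  by_contra hne
  push Not at hne
  obtain ⟨a, ha⟩ := h
  apply ha
  ext v
  have hz : ∀ ψ : AddChar U ℂ, ψ ≠ 1 → idem ρ φ ψ v = 0 := by
    intro ψ hψ
    by_contra h0
    exact hψ (hne ψ ⟨idem ρ φ ψ v, h0, idem_mem_eig ρ φ hφ ψ v⟩)
  have hv : idem ρ φ 1 v = v := by
    have hs := sum_idem ρ φ (phi_zero φ hφ) v
    rw [Finset.sum_eq_single (1 : AddChar U ℂ)] at hs
    · exact hs
    · intro ψ _ hψ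
      exact hz ψ hψ
    · intro h'
      exact absurd (Finset.mem_univ _) h'
  have hmem : v ∈ eig ρ φ (1 : AddChar U ℂ) := by
    rw [← hv]
    exact idem_mem_eig ρ φ hφ 1 v
  have := hmem a
  rw [AddChar.one_apply, one_smul] at this
  rw [this]
  rfl

/-- relative version: inside a nonzero joint eigenspace of `φ`, a second commuting family `φ'`
has a joint eigenvector. -/
theorem exists_joint {U' : Type*} [AddCommGroup U'] [Finite U']
    (ρ : Representation ℂ G V) (φ : U → G) (φ' : U' → G)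
    (hφ' : ∀ a b, φ' (a + b) = φ' a * φ' b)
    (hcomm : ∀ a b, φ a * φ' b = φ' b * φ a) {ψ : AddChar U ℂ} (hψ : ψ ∈ Occ ρ φ) :
    ∃ (μ : AddChar U' ℂ) (v : V), v ≠ 0 ∧ (∀ a, ρ (φ a) v = ψ a • v) ∧
      (∀ b, ρ (φ' b) v = μ b • v) := by
  classical
  obtain ⟨_⟩ := nonempty_fintype U'
  obtain ⟨v, hv0, hv⟩ := hψ
  have hs := sum_idem ρ φ' (phi_zero φ' hφ') v
  obtain ⟨μ, hμ⟩ : ∃ μ : AddChar U' ℂ, idem ρ φ' μ v ≠ 0 := by
    by_contra hcon
    push Not at hcon
    apply hv0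
    rw [← hs]
    exact Finset.sum_eq_zero (fun μ _ => hcon μ)
  refine ⟨μ, idem ρ φ' μ v, hμ, ?_, idem_mem_eig ρ φ' hφ' μ v⟩
  intro a
  rw [idem_apply ρ φ' μ v, map_smul, smul_comm (ψ a)]
  congr 1
  rw [map_sum (ρ (φ a)), Finset.smul_sum]
  refine Finset.sum_congr rfl (fun b _ => ?_)
  rw [map_smul, smul_comm (ψ a)]
  congr 1
  have h1 : ρ (φ a) (ρ (φ' b) v) = ρ (φ' b) (ρ (φ a) v) := by
    have e1 : ρ (φ a) (ρ (φ' b) v) = ρ (φ a * φ' b) v := by rw [map_mul]; rfl
    have e2 : ρ (φ' b) (ρ (φ a) v) = ρ (φ' b * φ a) v := by rw [map_mul]; rfl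
    rw [e1, e2, hcomm]
  rw [h1, hv a, map_smul]

end R

end Cfsg.Agent.Lib.Helper21.WBRa
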