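import Mathlib

set_option autoImplicit false
set_option linter.unusedSectionVars false

/-! Project SpE (S2333), piece Fn: `GL(V)` is transitive on nonzero linear functionals. -/

namespace Cfsg.Agent.Lib.Helper21.SpEFn

section G

variable {F : Type*} [Field F] {V : Type*} [AddCommGroup V] [Module F V] [FiniteDimensional F V]

/-- a vector outside the kernels of two nonzero functionals -/
theorem exists_both_ne (β β' : V →ₗ[F] F) (hβ : β ≠ 0) (hβ' : β' ≠ 0) :
    ∃ w : V, β w ≠ 0 ∧ β' w ≠ 0 := by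
  obtain ⟨a, ha⟩ : ∃ a, β a ≠ 0 := by
    by_contra hcon
    push Not at hcon
    exact hβ (LinearMap.ext hcon)
  obtain ⟨b, hb⟩ : ∃ b, β' b ≠ 0 := by
    by_contra hcon
    push Not at hcon
    exact hβ' (LinearMap.ext hcon)
  by_cases h1 : β' a = 0
  · by_cases h2 : β b = 0
    · refine ⟨a + b, ?_, ?_⟩
      · rw [map_add, h2, add_zero]
        exact ha
      · rw [map_add, h1, zero_add]
        exact hb
    · exact ⟨b, h2, hb⟩
  · exact ⟨a, ha, h1⟩

/-- Fn : GL(V) is transitive on nonzero linear functionals -/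
theorem exists_equiv_comp_eq (β β' : V →ₗ[F] F) (hβ : β ≠ 0) (hβ' : β' ≠ 0) :
    ∃ A : V ≃ₗ[F] V, β ∘ₗ (A : V →ₗ[F] V) = β' := by
  obtain ⟨w0, hw0, hw0'⟩ := exists_both_ne β β' hβ hβ'
  set w : V := (β w0)⁻¹ • w0 with hw
  have hβw : β w = 1 := by
    rw [hw, map_smul, smul_eq_mul, inv_mul_cancel₀ hw0]
  have hβ'w : β' w ≠ 0 := by
    rw [hw, map_smul, smul_eq_mul]
    exact mul_ne_zero (inv_ne_zero hw0) hw0'
  set δ : V →ₗ[F] F := β' - β with hδ
  have hδw : δ w = β' w - 1 := by
    rw [hδ, LinearMap.sub_apply, hβw]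
  set t : F := (β' w)⁻¹ with ht
  let f : V →ₗ[F] V := LinearMap.id + δ.smulRight w
  let f' : V →ₗ[F] V := LinearMap.id - (t • δ).smulRight w
  have hf : ∀ x, f x = x + δ x • w := fun x => rfl
  have hf' : ∀ x, f' x = x - (t * δ x) • w := fun x => rfl
  have h12 : f ∘ₗ f' = LinearMap.id := by
    ext x
    rw [LinearMap.comp_apply, hf, hf', LinearMap.id_apply, map_sub, map_smul, hδw, smul_eq_mul,
      sub_smul, ← sub_eq_zero]
    have : x - (t * δ x) • w + (δ x • w - (t * δ x * (β' w - 1)) • w) - x =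
        (δ x * (1 - t * β' w)) • w := by
      simp only [sub_smul, mul_sub, mul_one]
      module
    rw [this, ht, inv_mul_cancel₀ hβ'w, sub_self, mul_zero, zero_smul]
  have h21 : f' ∘ₗ f = LinearMap.id := by
    ext x
    rw [LinearMap.comp_apply, hf', hf, LinearMap.id_apply, map_add, map_smul, hδw, smul_eq_mul,
      ← sub_eq_zero]
    have : x + δ x • w - (t * (δ x + δ x * (β' w - 1))) • w - x =
        (δ x * (1 - t * β' w)) • w := by
      simp only [sub_smul, mul_sub, mul_one, mul_add, add_smul]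
      module
    rw [this, ht, inv_mul_cancel₀ hβ'w, sub_self, mul_zero, zero_smul]
  refine ⟨LinearEquiv.ofLinearMap f f' h12 h21, ?_⟩
  ext x
  rw [LinearMap.comp_apply]
  show β (f x) = β' x
  rw [hf, map_add, map_smul, hβw, smul_eq_mul, mul_one, hδ, LinearMap.sub_apply]
  ring

end G

end Cfsg.Agent.Lib.Helper21.SpEFn
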