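import Mathlib

set_option autoImplicit false
set_option linter.unusedSectionVars false

/-! Project SpE (S2333), piece G: `GL(V)` is transitive on linearly independent families. -/

namespace Cfsg.Agent.Lib.Helper21.SpEG

section G

variable {F : Type*} [Field F] {V : Type*} [AddCommGroup V] [Module F V] [FiniteDimensional F V]

/-- G : GL(V) is transitive on linearly independent families -/
theorem exists_equiv_of_li {ι : Type*} [Finite ι] (x y : ι → V) (hx : LinearIndependent F x)
    (hy : LinearIndependent F y) : ∃ g : V ≃ₗ[F] V, ∀ i, g (x i) = y i := by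
  classical
  obtain ⟨_⟩ := nonempty_fintype ι
  set X := Submodule.span F (Set.range x) with hX
  set Y := Submodule.span F (Set.range y) with hY
  obtain ⟨X', hXc⟩ := Submodule.exists_isCompl X
  obtain ⟨Y', hYc⟩ := Submodule.exists_isCompl Y
  have hfX : Module.finrank F X = Fintype.card ι := finrank_span_eq_card hx
  have hfY : Module.finrank F Y = Fintype.card ι := finrank_span_eq_card hy
  have h1 := Submodule.finrank_add_eq_of_isCompl hXc
  have h2 := Submodule.finrank_add_eq_of_isCompl hYc
  have hf' : Module.finrank F X' = Module.finrank F Y' := by omega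
  let e1 : X ≃ₗ[F] Y := (Module.Basis.span hx).equiv (Module.Basis.span hy) (Equiv.refl ι)
  let e2 : X' ≃ₗ[F] Y' := LinearEquiv.ofFinrankEq X' Y' hf'
  let g : V ≃ₗ[F] V := ((Submodule.prodEquivOfIsCompl X X' hXc).symm.trans
    (e1.prodCongr e2)).trans (Submodule.prodEquivOfIsCompl Y Y' hYc)
  refine ⟨g, fun i => ?_⟩
  have hxi : x i ∈ X := Submodule.subset_span ⟨i, rfl⟩
  have hbx : Module.Basis.span hx i = ⟨x i, hxi⟩ := Module.Basis.span_apply hx i
  have hby : ((Module.Basis.span hy i : Y) : V) = y i :=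
    congrArg Subtype.val (Module.Basis.span_apply hy i)
  have hs : (Submodule.prodEquivOfIsCompl X X' hXc).symm (x i) = (⟨x i, hxi⟩, 0) :=
    Submodule.prodEquivOfIsCompl_symm_apply_left X X' hXc ⟨x i, hxi⟩
  show (Submodule.prodEquivOfIsCompl Y Y' hYc)
    ((e1.prodCongr e2) ((Submodule.prodEquivOfIsCompl X X' hXc).symm (x i))) = y i
  rw [hs]
  show (Submodule.prodEquivOfIsCompl Y Y' hYc) (e1 ⟨x i, hxi⟩, e2 0) = y i
  rw [map_zero, ← hbx]
  have he1 : e1 (Module.Basis.span hx i) = Module.Basis.span hy i := by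
    show (Module.Basis.span hx).equiv (Module.Basis.span hy) (Equiv.refl ι) _ = _
    rw [Module.Basis.equiv_apply]
    rfl
  rw [he1, Submodule.coe_prodEquivOfIsCompl', Submodule.coe_zero, add_zero, hby]

/-- G -/
theorem exists_equiv_apply_eq (v w : V) (hv : v ≠ 0) (hw : w ≠ 0) : ∃ g : V ≃ₗ[F] V, g v = w := by
  obtain ⟨g, hg⟩ := exists_equiv_of_li (F := F) (fun _ : Unit => v) (fun _ : Unit => w)
    (LinearIndependent.of_subsingleton () hv) (LinearIndependent.of_subsingleton () hw)
  exact ⟨g, hg ()⟩

end G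

end Cfsg.Agent.Lib.Helper21.SpEG
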