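import Mathlib
import Cfsg.Prelude.Def_GeometricClasses
import Cfsg.Agent.Lib.Helper27.ASC.Defs
import Cfsg.Agent.Lib.Helper19.ASG.Defs
import Cfsg.Agent.Lib.Helper18.ASP.Defs
import Cfsg.Agent.Lib.Lead.Reindex
import Cfsg.Agent.Lib.Helper21.ASPTRCTcore

set_option autoImplicit false
set_option linter.unusedVariables false
set_option linter.unusedSectionVars false

namespace Cfsg.Agent.Lib.Helper18.ASP

open Cfsg Cfsg.Geo Cfsg.Agent.Lib.Helper27.ASC Cfsg.Agent.Lib.Helper19.ASG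
open scoped MatrixGroups Matrix

variable {n : ℕ} {F : Type*} [Field F] [Fintype F]

section transport

open Cfsg.Agent.Lib.Lead

variable {ι κ : Type} [Fintype ι] [DecidableEq ι] [Fintype κ] [DecidableEq κ]

/-- TR-C11 : tensor power -/
theorem tr_c11 (e : ι ≃ κ) (f : (ι → F) → (ι → F) → F) (M : Subgroup (GL ι F))
    (h : ∃ (k t : ℕ) (e₁ : ι ≃ (Fin t → Fin k)) (P : GL ι F) (f₁ : (Fin k → F) → (Fin k → F) → F),
      Odd (Fintype.card F) ∧ Odd t ∧ 3 ≤ t ∧ ¬ (Fintype.card F = 3 ∧ k = 2) ∧ IsSymplecticForm f₁ ∧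
      IsTensorPowerFormStructure id f f₁ e₁ P ∧ M = tensorWreathSubgroup k t e₁ P ⊓ isoGL f) :
    ∃ (k t : ℕ) (e₁ : κ ≃ (Fin t → Fin k)) (P : GL κ F) (f₁ : (Fin k → F) → (Fin k → F) → F),
      Odd (Fintype.card F) ∧ Odd t ∧ 3 ≤ t ∧ ¬ (Fintype.card F = 3 ∧ k = 2) ∧ IsSymplecticForm f₁ ∧
      IsTensorPowerFormStructure id (fun x y : κ → F => f (x ∘ e) (y ∘ e)) f₁ e₁ P ∧
      M.map (RI.glReindex (F := F) e).toMonoidHom =
        tensorWreathSubgroup k t e₁ P ⊓ isoGL (fun x y : κ → F => f (x ∘ e) (y ∘ e)) := by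
  obtain ⟨k, t, e₁, P, f₁, ho, hto, ht, hex, hf₁, hT, rfl⟩ := h
  refine ⟨k, t, e.symm.trans e₁, RI.glReindex (F := F) e P, f₁, ho, hto, ht, hex, hf₁, ?_, ?_⟩
  · obtain ⟨c, hc, hcf⟩ := hT
    refine ⟨c, hc, fun x y => ?_⟩
    show f ((((RI.glReindex (F := F) e P : GL κ F) : Matrix κ κ F) *ᵥ (x ∘ (e.symm.trans e₁))) ∘ e)
      ((((RI.glReindex (F := F) e P : GL κ F) : Matrix κ κ F) *ᵥ (y ∘ (e.symm.trans e₁))) ∘ e) = _
    rw [asptrct_key, asptrct_key]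
    exact hcf x y
  · rw [asptrc_map_inf, asptrct_map_wreath]

end transport

end Cfsg.Agent.Lib.Helper18.ASP
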