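import Mathlib
import Cfsg.Prelude.Def_GeometricClasses
import Cfsg.Agent.Lib.Helper27.ASC.Defs
import Cfsg.Agent.Lib.Helper19.ASG.Defs
import Cfsg.Agent.Lib.Helper18.ASP.Defs
import Cfsg.Agent.Lib.Lead.Reindex
import Cfsg.Agent.Lib.Helper21.ASPTRCcore

set_option autoImplicit false
set_option linter.unusedVariables false
set_option linter.unusedSectionVars false

namespace Cfsg.Agent.Lib.Helper18.ASP

open Cfsg Cfsg.Geo Cfsg.Agent.Lib.Helper27.ASC Cfsg.Agent.Lib.Helper19.ASG
open scoped MatrixGroups Matrix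

variable {n : ℕ} {F : Type*} [Field F] [Fintype F]

section transport

open Cfsg.Agent.Lib.Lead

variable {ι κ : Type} [Fintype ι] [DecidableEq ι] [Fintype κ] [DecidableEq κ]

/-- TR-C4 : pair of totally singular subspaces -/
theorem tr_c4 (e : ι ≃ κ) (m : ℕ) (f : (ι → F) → (ι → F) → F) (M : Subgroup (GL ι F))
    (h : ∃ (D : Fin 2 → Submodule F (ι → F)), Odd (Fintype.card F) ∧ IsMDecomposition m D ∧
      (∀ i, IsTotallySingularFor f (D i)) ∧ M = decompositionStabilizer D ⊓ isoGL f) :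
    ∃ (D : Fin 2 → Submodule F (κ → F)), Odd (Fintype.card F) ∧ IsMDecomposition m D ∧
      (∀ i, IsTotallySingularFor (fun x y : κ → F => f (x ∘ e) (y ∘ e)) (D i)) ∧
      M.map (RI.glReindex (F := F) e).toMonoidHom =
        decompositionStabilizer D ⊓ isoGL (fun x y : κ → F => f (x ∘ e) (y ∘ e)) := by
  obtain ⟨D, ho, hD, hts, rfl⟩ := h
  refine ⟨fun i => (D i).comap (LinearMap.funLeft F F e), ho, asptrc_mdecomp e m D hD, ?_, ?_⟩
  · intro i
    exact asptrc_ts e f (D i) (hts i)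
  · rw [asptrc_map_inf, Cfsg.Agent.Lib.Helper28.OFrameT.map_decomp]

end transport

end Cfsg.Agent.Lib.Helper18.ASP
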