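import Mathlib
import Cfsg.Prelude.Def_GeometricClasses
import Cfsg.Agent.Lib.Helper27.ASC.Defs
import Cfsg.Agent.Lib.Helper19.ASG.Defs
import Cfsg.Agent.Lib.Helper18.ASP.Defs
import Cfsg.Agent.Lib.Lead.Reindex
import Cfsg.Agent.Lib.helper6.Symp

set_option autoImplicit false
set_option linter.unusedVariables false
set_option linter.unusedSectionVars false

/-!
# Project ASP (helper18), piece TR-STD : the standard symplectic form is a symplectic form
-/

namespace Cfsg.Agent.Lib.Helper18.ASP

open Cfsg Cfsg.Geo Cfsg.Agent.Lib.Helper27.ASC Cfsg.Agent.Lib.Helper19.ASG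
open scoped MatrixGroups Matrix

variable {n : ℕ} {F : Type*} [Field F] [Fintype F]

section transport

open Cfsg.Agent.Lib.Lead

variable {ι κ : Type} [Fintype ι] [DecidableEq ι] [Fintype κ] [DecidableEq κ]

/-- TR-STD (copy of Helper28.Ss.sympForm_isSymp with the light import Cfsg.Agent.Lib.helper6.Symp) -/
theorem sympForm_isSymplectic (m : ℕ) : IsSymplecticForm (sympForm m F) where
  bilinear :=
    { add_left := fun x y v => Cfsg.Agent.Lib.helper6.sympForm_add_left m x y v
      smul_left := fun c x v => Cfsg.Agent.Lib.helper6.sympForm_smul_left m c x v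
      add_right := fun v x y => Cfsg.Agent.Lib.helper6.sympForm_add_right m v x y
      smul_right := fun c v x => Cfsg.Agent.Lib.helper6.sympForm_smul_right m c v x }
  skew := fun v w => Cfsg.Agent.Lib.helper6.sympForm_swap m v w
  alternating := fun v => Cfsg.Agent.Lib.helper6.sympForm_self m v
  nondegenerate := by
    intro v hv
    obtain ⟨x, hx⟩ := Cfsg.Agent.Lib.helper6.sympForm_nondeg m v hv
    refine ⟨⟨x, ?_⟩, ⟨x, hx⟩⟩
    rw [Cfsg.Agent.Lib.helper6.sympForm_swap]
    exact neg_ne_zero.mpr hx

end transport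

end Cfsg.Agent.Lib.Helper18.ASP
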