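import Mathlib
import Cfsg.Agent.Lib.helper6.CEB.Defs
import Cfsg.Agent.Lib.Helper24.STCI1

/-!
# Project CEB (designer helper6; family S2094), row Z9 (`Xsh_cj`), the CORE (helper21): `cebz9_core` = the conclusion of Z9 from the STATEMENTS of
Z4 `Ds_cj` (at the given `g π d d0 e`) and Z7 `Ds_eq_Xsh` as hypotheses `hZ4`, `hZ7`.
-/

set_option autoImplicit false
set_option linter.unusedSectionVars false
set_option linter.unusedVariables false

namespace Cfsg.Agent.Lib.helper6.CEB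

open Cfsg.Agent.Lib.helper15.St2 Cfsg.Agent.Lib.helper7.Ce Cfsg.Agent.Lib.helper3.STC Cfsg.Agent.Lib.Lead.STD
  Cfsg.Agent.Lib.helper7.CED Cfsg.Agent.Lib.Lead.STB
open Cfsg.Agent.Lib.helper7.CEC (I2 I3 I4 U3)

universe v w w'

section Z

variable {K : Type*} [Field K] {ι : Type*} {Γ G : Type*} [Group Γ] [Group G] {S : SysB K ι G} {σ : Γ →* G}

/-- a permutation commuting with `ng` preserves `ab a ≠ ab b` -/
theorem cebz9_ab_ne {π : Equiv.Perm (ι ⊕ ι)} (hπ : ∀ k, π (ng k) = ng (π k)) {a b : ι ⊕ ι} (hab : ab a ≠ ab b) :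
    ab (π a) ≠ ab (π b) := by
  intro e
  rcases ab_eq_iff.1 e with e1 | e1
  · exact hab (ab_eq_iff.2 (Or.inl (π.injective e1)))
  · rw [← hπ b] at e1
    exact hab (ab_eq_iff.2 (Or.inr (π.injective e1)))

/-- core of Z9 on the statements of Z4 `Ds_cj` and Z7 `Ds_eq_Xsh` -/
theorem cebz9_core (h : IsCE σ) (h2 : I2 ι) (P : SysD K ι Γ)
    {g : G} {π : Equiv.Perm (ι ⊕ ι)} {d : ι ⊕ ι → K} {d0 : K} (hg : S.IsMon g π d d0) {e : Γ}
    (hZ4 : ∀ {a b : ι ⊕ ι}, ab a ≠ ab b → ∀ t u : K,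
      cj e (Ds S h P a b t u) = Ds S h P (π a) (π b) (d a * (d b)⁻¹ * t) (d b * d0 * u))
    (hZ7 : ∀ {a b : ι ⊕ ι}, ab a ≠ ab b → ∀ t u : K, Ds S h P a b t u = Xsh S h P h2 a (t * u))
    (a : ι ⊕ ι) (s : K) :
    cj e (Xsh S h P h2 a s) = Xsh S h P h2 (π a) (d a * d0 * s) := by
  have hb : ab a ≠ ab (Classical.choose (h2 a)) := (Classical.choose_spec (h2 a)).symm
  have hdb : d (Classical.choose (h2 a)) ≠ 0 := hg.1.1 _
  show cj e (Ds S h P a (Classical.choose (h2 a)) s 1) = _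
  rw [hZ4 hb s 1, hZ7 (cebz9_ab_ne hg.2.1 hb)]
  congr 1
  field_simp

end Z

end Cfsg.Agent.Lib.helper6.CEB
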