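import Mathlib
import Cfsg.Agent.Lib.helper6.CEB.Defs
import Cfsg.Agent.Lib.Helper21.CEBZ9core
import Cfsg.Agent.Lib.helper14.CEBZ4
import Cfsg.Agent.Lib.helper6.CEBZ5

/-!
# Project CEB (helper6, S2094), row Z9 (`Xsh_cj`), by helper21: verbatim wrapper of `cebz9_core`
at Z4 `Ds_cj` (helper14) and Z7 `Ds_eq_Xsh` (helper6).
-/

set_option autoImplicit false
set_option linter.unusedSectionVars false
set_option linter.unusedVariables false

namespace Cfsg.Agent.Lib.helper6.CEB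

open Cfsg.Agent.Lib.helper15.St2 Cfsg.Agent.Lib.helper7.Ce Cfsg.Agent.Lib.helper3.STC Cfsg.Agent.Lib.Lead.STD
  Cfsg.Agent.Lib.helper7.CED Cfsg.Agent.Lib.Lead.STB
open Cfsg.Agent.Lib.helper7.CEC (I2 I3 I4 U3)

section Z

variable {K : Type*} [Field K] {ι : Type*} {Γ G : Type*} [Group Γ] [Group G] {S : SysB K ι G} {σ : Γ →* G}

/-- Z9 [S-M]  **equivariance of the canonical short lifts**. -/
theorem Xsh_cj [DecidableEq ι] [Finite K] (h : IsCE σ) (hCs : HCs S σ) (hSs : HSs S σ) (h2 : I2 ι) (h3 : I3 ι) (P : SysD K ι Γ)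
    (hP : ∀ a b t, σ (P.x a b t) = S.x a b t) {g : G} {π : Equiv.Perm (ι ⊕ ι)} {d : ι ⊕ ι → K} {d0 : K} (hg : S.IsMon g π d d0)
    {e : Γ} (he : σ e = g) (a : ι ⊕ ι) (s : K) :
    cj e (Xsh S h P h2 a s) = Xsh S h P h2 (π a) (d a * d0 * s) :=
  cebz9_core h h2 P hg (fun {_ _} hab t u => Ds_cj h h3 P hP hg he hab t u)
    (fun {_ _} hab t u => Ds_eq_Xsh h hCs hSs h2 h3 P hP hab t u) a s

end Z

end Cfsg.Agent.Lib.helper6.CEB
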