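import Mathlib
import Cfsg.Agent.Lib.Helper18.SDM.Defs
import Cfsg.Agent.Lib.Helper18.SDM.Defs2

/-!
# Project SDM, row E2 (helper21): core of `diag_step_col`.
`z = g x_a` with `λ = z.1 (rv a) ≠ 0`: the Siegel element `sgX a y`, `y = λ⁻¹ (z - z_a x_a - λ x_{rv a})`, maps `z` to `λ x_{rv a}`
(the `x_a`-coefficient vanishes since the image is singular), and the swap `a ↔ rv a` maps it to `λ x_a`.
Hypothesis `hR0c` = the Skel statement of `sgX_mem_BQ` (row R0c).
-/

set_option autoImplicit false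
set_option linter.unusedSectionVars false
set_option linter.unusedVariables false
set_option linter.unusedSimpArgs false

namespace Cfsg.Agent.Lib.Helper18.QBN

open Cfsg.Agent.Lib.helper14.UBN QuadraticMap

universe u v

variable {F : Type u} [Field F] {W : Type v} [AddCommGroup W] [Module F W] {n : ℕ}

/-- `a` in the lower half is not `rv a` -/
theorem sdme2_ne_rv {j : ℕ} (hj : j < n / 2) {a : Fin n} (ha : rk a = j) : a ≠ rv a := by
  intro e
  have h1 := rk_add_rv a
  rw [← e] at h1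
  omega

/-- the swap `a ↔ rv a` -/
def sdme2_pi (a : Fin n) (h : a ≠ rv a) : Equiv.Perm (Fin n) :=
  tauP a (rv a) h (fun e => h e.symm) (by rw [rv_rv]; exact h)

theorem sdme2_pi_RvC (a : Fin n) (h : a ≠ rv a) : RvC (sdme2_pi a h) := RvC_tauP _ _ _

theorem sdme2_pi_rv (a : Fin n) (h : a ≠ rv a) : sdme2_pi a h (rv a) = a := by
  unfold sdme2_pi
  rw [tauP_apply]
  exact tauF_right h

theorem sdme2_pi_other (a : Fin n) (h : a ≠ rv a) {i : Fin n} (h1 : i ≠ a) (h2 : i ≠ rv a) :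
    sdme2_pi a h i = i := by
  unfold sdme2_pi
  rw [tauP_apply]
  exact tauF_of_ne h1 h2 h2 (by rw [rv_rv]; exact h1)

theorem sdme2_pi_invol (a : Fin n) (h : a ≠ rv a) (i : Fin n) :
    sdme2_pi a h (sdme2_pi a h i) = i := by
  unfold sdme2_pi
  rw [tauP_apply, tauP_apply]
  exact tauF_invol h (fun e => h e.symm) (by rw [rv_rv]; exact h) i

/-- the swap element lies in `N` -/
theorem sdme2_swap_mem (hn : Even n) (Q₀ : QuadraticForm F W) (a : Fin n) (h : a ≠ rv a) :
    permG hn Q₀ (sdme2_pi a h) (sdme2_pi_RvC a h) ∈ NQ n Q₀ := by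
  have hmono : IsMonoQ (permG hn Q₀ (sdme2_pi a h) (sdme2_pi_RvC a h)) := by
    intro i
    exact ⟨sdme2_pi a h i, 1, by rw [permG_xv, one_smul]⟩
  have hsq : permG hn Q₀ (sdme2_pi a h) (sdme2_pi_RvC a h) *
      permG hn Q₀ (sdme2_pi a h) (sdme2_pi_RvC a h) = 1 := by
    apply GQ_ext
    intro v
    rw [le_mul, le_one]
    apply Prod.ext
    · funext i
      rw [permG_fst, permG_fst]
      have e : ∀ x, (sdme2_pi a h).symm x = sdme2_pi a h x := fun x => rfl
      rw [e, e, sdme2_pi_invol]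
    · rfl
  have hinv : (permG hn Q₀ (sdme2_pi a h) (sdme2_pi_RvC a h))⁻¹ =
      permG hn Q₀ (sdme2_pi a h) (sdme2_pi_RvC a h) := inv_eq_of_mul_eq_one_right hsq
  refine ⟨hmono, ?_⟩
  rw [hinv]
  exact hmono

/-- E2 core -/
theorem sdme2_core (hn : Even n) (Q₀ : QuadraticForm F W)
    (hR0c : ∀ (a : Fin n) (y : QV F n W) (hy : y.1 (rv a) = 0), rk a < rk (rv a) →
      (∀ i : Fin n, rk (rv a) ≤ rk i → y.1 i = 0) → sgX hn Q₀ a y hy ∈ BQ n Q₀)
    (j : ℕ) (hj : j < n / 2) (a : Fin n) (ha : rk a = j) (g : GQ n Q₀) (hg : DiagOut j g)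
    (hne : (le g (xv W a)).1 (rv a) ≠ 0) :
    ∃ h ∈ BQ n Q₀ ⊔ NQ n Q₀, DiagOut j (h * g) ∧ ∃ c : F, le (h * g) (xv W a) = c • xv W a := by
  have hara : a ≠ rv a := sdme2_ne_rv hj ha
  have hraa : rv a ≠ a := hara.symm
  have hrkra : rk (rv a) = n - 1 - j := by
    have := rk_add_rv a
    omega
  have hnn : n / 2 + n / 2 = n := by
    obtain ⟨m, hm⟩ := hn
    omega
  -- outer indices
  have houter_rv : ∀ i : Fin n, (rk i < j ∨ rk (rv i) < j) → (rk (rv i) < j ∨ rk (rv (rv i)) < j) := by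
    intro i hi
    rw [rv_rv]
    exact hi.symm
  have houter_ne : ∀ i : Fin n, (rk i < j ∨ rk (rv i) < j) → i ≠ a ∧ i ≠ rv a := by
    intro i hi
    constructor
    · intro e
      rw [e] at hi
      omega
    · intro e
      rw [e, rv_rv] at hi
      omega
  -- z vanishes at the outer indices
  have hz0 : ∀ i : Fin n, (rk i < j ∨ rk (rv i) < j) → (le g (xv W a)).1 i = 0 := by
    intro i hi
    obtain ⟨c, hc⟩ := hg (rv i) (houter_rv i hi)
    have hc0 : c ≠ 0 := by
      intro h0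
      rw [h0, zero_smul] at hc
      have h1 : le g⁻¹ (le g (xv W (rv i))) = xv W (rv i) := le_inv_apply' g _
      rw [hc, map_zero] at h1
      have h2 := congrArg (fun v : QV F n W => v.1 (rv i)) h1
      simp only [xv_fst, if_true, Prod.fst_zero, Pi.zero_apply] at h2
      exact zero_ne_one h2
    have h1 := le_polar g (xv W a) (xv W (rv i))
    rw [hc, polar_smul_right, polar_xv hn, polar_xv hn, rv_rv, xv_fst,
      if_neg (houter_ne i hi).1, smul_eq_mul] at h1
    rcases mul_eq_zero.mp h1 with h | h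
    · exact absurd h hc0
    · exact h
  -- the parameter of the Siegel element
  obtain ⟨z, hz⟩ : ∃ z : QV F n W, z = le g (xv W a) := ⟨_, rfl⟩
  rw [← hz] at hne hz0
  obtain ⟨lam, hlam⟩ : ∃ lam : F, lam = z.1 (rv a) := ⟨_, rfl⟩
  rw [← hlam] at hne
  obtain ⟨y, hydef⟩ : ∃ y : QV F n W, y = lam⁻¹ • (z - z.1 a • xv W a - lam • xv W (rv a)) :=
    ⟨_, rfl⟩
  have hy1 : ∀ i : Fin n, y.1 i = lam⁻¹ * (z.1 i - z.1 a * (if i = a then 1 else 0) -
      lam * (if i = rv a then 1 else 0)) := by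
    intro i
    rw [hydef]
    simp only [Prod.smul_fst, Prod.fst_sub, Pi.smul_apply, Pi.sub_apply, xv_fst, smul_eq_mul]
  have hy : y.1 (rv a) = 0 := by
    rw [hy1, if_neg hraa, if_pos rfl, ← hlam]
    ring
  have hyouter : ∀ i : Fin n, (rk i < j ∨ rk (rv i) < j) → y.1 i = 0 := by
    intro i hi
    rw [hy1, if_neg (houter_ne i hi).1, if_neg (houter_ne i hi).2, hz0 i hi]
    ring
  have hyB : ∀ i : Fin n, rk (rv a) ≤ rk i → y.1 i = 0 := by
    intro i hi
    by_cases e : i = rv a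
    · rw [e]
      exact hy
    · apply hyouter
      right
      have h1 := rk_add_rv i
      have h2 : rk i ≠ rk (rv a) := fun h => e (eq_of_rk_eq h)
      omega
  have hmemB : sgX hn Q₀ a y hy ∈ BQ n Q₀ := hR0c a y hy (by omega) hyB
  -- the image of z
  have hzy : z = lam • y + z.1 a • xv W a + lam • xv W (rv a) := by
    rw [hydef, smul_smul, mul_inv_cancel₀ hne, one_smul]
    abel
  have himg : ∃ μ : F, le (sgX hn Q₀ a y hy) z = μ • xv W a + lam • xv W (rv a) := by
    refine ⟨z.1 a + polar (frQ n Q₀) z y - lam * frQ n Q₀ y, ?_⟩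
    rw [sgX_apply, ← hlam]
    nth_rewrite 1 [hzy]
    module
  obtain ⟨μ, hμ⟩ := himg
  have hμ0 : μ = 0 := by
    have h1 : frQ n Q₀ (le (sgX hn Q₀ a y hy) z) = 0 := by
      rw [le_Q, hz, le_Q, frQ_xv Q₀ hn]
    rw [hμ, QuadraticMap.map_add (⇑(frQ n Q₀)) (μ • xv W a) (lam • xv W (rv a)),
      QuadraticMap.map_smul, QuadraticMap.map_smul, frQ_xv Q₀ hn,
      frQ_xv Q₀ hn, polar_smul_left, polar_smul_right, polar_xv hn, rv_rv, xv_fst, if_pos rfl] at h1
    simp only [smul_eq_mul, mul_zero, zero_add, mul_one] at h1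
    rcases mul_eq_zero.mp h1 with h | h
    · exact h
    · exact absurd h hne
  rw [hμ0, zero_smul, zero_add] at hμ
  -- assemble
  refine ⟨permG hn Q₀ (sdme2_pi a hara) (sdme2_pi_RvC a hara) * sgX hn Q₀ a y hy,
    Subgroup.mul_mem _ (Subgroup.mem_sup_right (sdme2_swap_mem hn Q₀ a hara))
      (Subgroup.mem_sup_left hmemB), ?_, ?_⟩
  · intro i hi
    obtain ⟨c, hc⟩ := hg i hi
    refine ⟨c, ?_⟩
    rw [le_mul, le_mul, hc, map_smul, map_smul]
    congr 1
    rw [sgX_apply, xv_fst, if_neg (fun e => (houter_ne i hi).2 e.symm), zero_smul, sub_zero,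
      polar_comm, polar_xv hn, hyouter (rv i) (houter_rv i hi), zero_smul, add_zero, permG_xv,
      sdme2_pi_other a hara (houter_ne i hi).1 (houter_ne i hi).2]
  · refine ⟨lam, ?_⟩
    rw [le_mul, le_mul, ← hz, hμ, map_smul, permG_xv, sdme2_pi_rv]

end Cfsg.Agent.Lib.Helper18.QBN
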