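import Mathlib
import Cfsg.Agent.Lib.Helper18.SDM.Defs
import Cfsg.Agent.Lib.Helper18.SDM.Defs2
import Cfsg.Agent.Lib.Helper21.SDME2core
import Cfsg.Agent.Lib.Helper10.SDMR0c

/-!
# Project SDM, row E2 (helper21): `diag_step_col`, verbatim (= `sdme2_core` + row R0c `sgX_mem_BQ`).
-/

set_option autoImplicit false
set_option linter.unusedSectionVars false
set_option linter.unusedVariables false

namespace Cfsg.Agent.Lib.Helper18.QBN

open Cfsg.Agent.Lib.helper14.UBN QuadraticMap

universe u v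

variable {F : Type u} [Field F] {W : Type v} [AddCommGroup W] [Module F W] {n : ℕ}

/-- [ROW E2] clearing `g x_a` with a Siegel element centred at `x_a` and the swap `a ↔ rv a` -/
theorem diag_step_col (hn : Even n) (Q₀ : QuadraticForm F W)
    (j : ℕ) (hj : j < n / 2) (a : Fin n) (ha : rk a = j) (g : GQ n Q₀) (hg : DiagOut j g)
    (hne : (le g (xv W a)).1 (rv a) ≠ 0) :
    ∃ h ∈ BQ n Q₀ ⊔ NQ n Q₀, DiagOut j (h * g) ∧ ∃ c : F, le (h * g) (xv W a) = c • xv W a :=
  sdme2_core hn Q₀ (fun a y hy ha' hy' => sgX_mem_BQ hn Q₀ a y hy ha' hy') j hj a ha g hg hne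

end Cfsg.Agent.Lib.Helper18.QBN
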