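import Mathlib
import Cfsg.Agent.Lib.helper3.BNLen
import Cfsg.Agent.Lib.helper14.StIrr
import Cfsg.Agent.Lib.helper14.StVal

/-!
# Project SDM, row ST1 (helper21): the abstract core of `qbn_steinberg`.
A finite group `G` with a BN-pair `P`, a longest element `n₀`, a "torus" `T` with `B ∩ n₀ B n₀⁻¹ = T` and a normal complement `U`
of `T` in `B` (`B = U T`, `U ∩ T = 1`, `U ⊴ B`): the alternating sum `θ = Σ_J (-1)^|J| 1_{P_J}^G` is an irreducible character with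
`θ 1 = |U|`, `θ u = 0` for `1 ≠ u ∈ U`, and `θ z = θ 1` for `z` in the core of `B`.
(port of helper14/OBNa `gu_steinberg`)
-/

set_option autoImplicit false

namespace Cfsg.Agent.Lib.Helper18.QBN

open Cfsg.Agent.Lib.helper3 Cfsg.Agent.Lib.helper14

/-- own copy of helper14/UBNj `fpc_of_conj_mem` (to avoid importing the unitary tree) -/
theorem sdmst1_fpc_of_conj_mem {G : Type*} [Group G] (H : Subgroup G) (z : G)
    (hz : ∀ a : G, a⁻¹ * z * a ∈ H) :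
    Cfsg.fixedPointCharacter H z = Cfsg.fixedPointCharacter H 1 := by
  unfold Cfsg.fixedPointCharacter
  congr 1
  have h1 : MulAction.fixedBy (G ⧸ H) z = Set.univ := by
    ext x
    simp only [MulAction.mem_fixedBy, Set.mem_univ, iff_true]
    induction x using QuotientGroup.induction_on with
    | H a =>
      rw [MulAction.Quotient.smul_coe, smul_eq_mul, QuotientGroup.eq]
      have : (z * a)⁻¹ * a = (a⁻¹ * z * a)⁻¹ := by group
      rw [this]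
      exact H.inv_mem (hz a)
  have h2 : MulAction.fixedBy (G ⧸ H) (1 : G) = Set.univ := by
    ext x
    simp
  rw [h1, h2]

/-- `B / T ≃ U` for `B = U T`, `U ∩ T = 1` -/
theorem sdmst1_card_quot {G : Type*} [Group G] (B T U : Subgroup G) (hUB : U ≤ B)
    (hBUT : ∀ b ∈ B, ∃ u ∈ U, ∃ t ∈ T, b = u * t) (hUT : ∀ g ∈ U, g ∈ T → g = 1) :
    Nat.card (↥B ⧸ T.subgroupOf B) = Nat.card ↥U := by
  symm
  apply Nat.card_congr
  refine Equiv.ofBijective (fun u : ↥U => ((⟨(u : G), hUB u.2⟩ : ↥B) : ↥B ⧸ T.subgroupOf B)) ⟨?_, ?_⟩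
  · intro u₁ u₂ h
    have h1 := QuotientGroup.eq.mp h
    rw [Subgroup.mem_subgroupOf] at h1
    have h2 : (u₁ : G)⁻¹ * (u₂ : G) ∈ T := h1
    have h3 : (u₁ : G)⁻¹ * (u₂ : G) = 1 := hUT _ (U.mul_mem (U.inv_mem u₁.2) u₂.2) h2
    apply Subtype.ext
    exact inv_mul_eq_one.mp h3
  · intro x
    induction x using QuotientGroup.induction_on with
    | H b =>
      obtain ⟨u, hu, t, ht, hb⟩ := hBUT (b : G) b.2
      refine ⟨⟨u, hu⟩, ?_⟩
      apply QuotientGroup.eq.mpr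
      rw [Subgroup.mem_subgroupOf]
      show u⁻¹ * (b : G) ∈ T
      rw [hb, inv_mul_cancel_left]
      exact ht

/-- no coset of `T` in `B` is fixed by `1 ≠ u ∈ U` -/
theorem sdmst1_fix_empty {G : Type*} [Group G] (B T U : Subgroup G) (hUB : U ≤ B)
    (hUT : ∀ g ∈ U, g ∈ T → g = 1) (hUconj : ∀ b ∈ B, ∀ u ∈ U, b * u * b⁻¹ ∈ U)
    (u : G) (hu : u ∈ U) (hu1 : u ≠ 1) :
    Nat.card (MulAction.fixedBy (↥B ⧸ T.subgroupOf B) (⟨u, hUB hu⟩ : ↥B)) = 0 := by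
  have hempty : IsEmpty (MulAction.fixedBy (↥B ⧸ T.subgroupOf B) (⟨u, hUB hu⟩ : ↥B)) := by
    constructor
    rintro ⟨x, hx⟩
    induction x using QuotientGroup.induction_on with
    | H b =>
      rw [MulAction.mem_fixedBy, MulAction.Quotient.smul_coe, smul_eq_mul, QuotientGroup.eq,
        Subgroup.mem_subgroupOf] at hx
      have h1 : ((⟨u, hUB hu⟩ : ↥B) * b : ↥B)⁻¹ * b = ⟨(b : G)⁻¹ * u⁻¹ * ((b : G)⁻¹)⁻¹, by
          rw [inv_inv]
          exact B.mul_mem (B.mul_mem (B.inv_mem b.2) (B.inv_mem (hUB hu))) b.2⟩ := by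
        apply Subtype.ext
        show ((u * (b : G))⁻¹ * (b : G)) = (b : G)⁻¹ * u⁻¹ * ((b : G)⁻¹)⁻¹
        group
      rw [h1] at hx
      have h2 : (b : G)⁻¹ * u⁻¹ * ((b : G)⁻¹)⁻¹ ∈ U :=
        hUconj _ (B.inv_mem b.2) _ (U.inv_mem hu)
      have h3 := hUT _ h2 hx
      apply hu1
      have h4 : u⁻¹ = 1 := by
        have : u⁻¹ = (b : G) * ((b : G)⁻¹ * u⁻¹ * ((b : G)⁻¹)⁻¹) * (b : G)⁻¹ := by group
        rw [this, h3]
        group
      exact inv_eq_one.mp h4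
  exact Nat.card_of_isEmpty

/-- the abstract Steinberg character -/
theorem sdmst1_abs {G : Type*} [Group G] [Finite G] (P : Cfsg.BNPair G) (σ : ℕ → G) (r : ℕ)
    (hσ : ∀ i < r, σ i ∈ P.S) (hσ' : ∀ s ∈ P.S, ∃ i < r, σ i = s)
    {n₀ : G} (hn₀ : n₀ ∈ P.N)
    (h1 : ∀ s ∈ P.S, ¬ Pp P s n₀⁻¹) (h1' : ∀ s ∈ P.S, ¬ Pp P s n₀)
    (h2 : ∀ m ∈ P.N, (∀ s ∈ P.S, ¬ Pp P s m) → LAsc P P.S (m * n₀))
    (T U : Subgroup G)
    (c1 : ∀ h ∈ T, h ∈ P.B → n₀⁻¹ * h * n₀ ∈ P.B)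
    (c2 : ∀ β ∈ P.B, n₀⁻¹ * β * n₀ ∈ P.B → β ∈ T)
    (hUB : U ≤ P.B) (hBUT : ∀ b ∈ P.B, ∃ u ∈ U, ∃ t ∈ T, b = u * t)
    (hUT : ∀ g ∈ U, g ∈ T → g = 1) (hUconj : ∀ b ∈ P.B, ∀ u ∈ U, b * u * b⁻¹ ∈ U) :
    ∃ θ : G → ℂ, Cfsg.IsIrrCharacter G θ ∧ θ 1 = (Nat.card ↥U : ℂ) ∧
      (∀ u ∈ U, u ≠ 1 → θ u = 0) ∧ ∀ z : G, (∀ g : G, g⁻¹ * z * g ∈ P.B) → θ z = θ 1 := by
  classical
  have : Fintype G := Fintype.ofFinite _
  let Q : Finset ℕ → Subgroup G := fun J => P.parabolic (σ '' (J : Set ℕ))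
  set θ : G → ℂ := fun g =>
    ∑ J ∈ (Finset.range r).powerset,
      (-1 : ℂ) ^ J.card * Cfsg.fixedPointCharacter (Q J) g with hθ
  have hval : ∀ b : ↥P.B, θ (b : G) =
      (Nat.card (MulAction.fixedBy (↥P.B ⧸ T.subgroupOf P.B) b) : ℂ) := fun b =>
    st_value P P.B rfl Q σ r hσ hσ' (fun J _ => rfl) hn₀ h1 h2 T c1 c2 b
  have hθ1 : θ 1 = (Nat.card ↥U : ℂ) := by
    have h := hval 1
    rw [MulAction.fixedBy_one_eq_univ, Nat.card_congr (Equiv.Set.univ _),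
      sdmst1_card_quot P.B T U hUB hBUT hUT] at h
    exact h
  have hirr : Cfsg.IsIrrCharacter G θ :=
    st_irr_abstract P Q σ r hσ hσ' (fun J _ => rfl) hn₀ h1 h1' h2 θ hθ
      ⟨Nat.card ↥U, Nat.card_pos, hθ1⟩
  refine ⟨θ, hirr, hθ1, ?_, ?_⟩
  · intro u hu hu1
    have h := hval ⟨u, hUB hu⟩
    rw [sdmst1_fix_empty P.B T U hUB hUT hUconj u hu hu1] at h
    rw [h]
    simp
  · intro z hz
    rw [hθ]
    apply Finset.sum_congr rfl
    intro J _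
    rw [sdmst1_fpc_of_conj_mem (Q J) z (fun g => le_sup_left (a := P.B) (hz g))]

end Cfsg.Agent.Lib.Helper18.QBN
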