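import Mathlib
import Cfsg.Agent.Lib.Helper18.SDM.Defs3
import Cfsg.Agent.Lib.Helper21.SDMST1core

/-!
# Project SDM, row ST1 (helper21): `qbn_steinberg` from the Skel statements of its dependencies
(L1 `sigmaQ_mem`, `sigmaQ_surj`, `nLongQ_mem_NQ`; L2 `nLongQ_h1`, `nLongQ_h1'`, `nLongQ_h2`; C1 `nLongQ_conj_torus`;
C2 `mem_torus_of_nLongQ_conj`; E6 `BQ_eq_Sg_mul_T`; U2 `UQ_le_BQ`, `UQ_isUniQ`; U3 `eq_one_of_isUniQ_of_mem_TQ`, `UQ_conj_mem`).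
-/

set_option autoImplicit false
set_option linter.unusedSectionVars false
set_option linter.unusedVariables false

namespace Cfsg.Agent.Lib.Helper18.QBN

open Cfsg.Agent.Lib.helper14.UBN QuadraticMap
open Cfsg.Agent.Lib.helper3 Cfsg.Agent.Lib.helper14

universe u v

variable {F : Type u} [Field F] {W : Type v} [AddCommGroup W] [Module F W] {n : ℕ}

/-- ST1 core: the conclusion of `qbn_steinberg` from the statements of the rows it cites -/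
theorem sdmst1_core (hn : Even n) (Q₀ : QuadraticForm F W)
    (P : Cfsg.BNPair (GQ n Q₀)) (hB : P.B = BQ n Q₀) (hN : P.N = NQ n Q₀) (hS : P.S = SQ hn Q₀)
    [Finite (GQ n Q₀)]
    (hL1a : ∀ i < n / 2, sigmaQ hn Q₀ i ∈ SQ hn Q₀)
    (hL1b : ∀ s ∈ SQ hn Q₀, ∃ i < n / 2, sigmaQ hn Q₀ i = s)
    (hL1c : nLongQ hn Q₀ ∈ NQ n Q₀)
    (hL2a : ∀ s ∈ P.S, ¬ Pp P s (nLongQ hn Q₀)⁻¹)
    (hL2b : ∀ s ∈ P.S, ¬ Pp P s (nLongQ hn Q₀))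
    (hL2c : ∀ m ∈ P.N, (∀ s ∈ P.S, ¬ Pp P s m) → LAsc P P.S (m * nLongQ hn Q₀))
    (hC1 : ∀ h : GQ n Q₀, h ∈ TQ n Q₀ → (nLongQ hn Q₀)⁻¹ * h * nLongQ hn Q₀ ∈ BQ n Q₀)
    (hC2 : ∀ β : GQ n Q₀, β ∈ BQ n Q₀ → (nLongQ hn Q₀)⁻¹ * β * nLongQ hn Q₀ ∈ BQ n Q₀ →
      β ∈ TQ n Q₀)
    (hE6 : ∀ b : GQ n Q₀, b ∈ BQ n Q₀ →
      ∃ u ∈ Subgroup.closure (SgSet hn Q₀), ∃ t ∈ TQ n Q₀, b = u * t)
    (hU2a : UQ hn Q₀ ≤ BQ n Q₀)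
    (hU2b : ∀ g : GQ n Q₀, g ∈ UQ hn Q₀ → IsUniQ g)
    (hU3a : ∀ g : GQ n Q₀, g ∈ TQ n Q₀ → IsUniQ g → g = 1)
    (hU3b : ∀ b u : GQ n Q₀, b ∈ BQ n Q₀ → u ∈ UQ hn Q₀ → b * u * b⁻¹ ∈ UQ hn Q₀) :
    ∃ θ : GQ n Q₀ → ℂ, Cfsg.IsIrrCharacter (GQ n Q₀) θ ∧
      θ 1 = (Nat.card ↥(UQ hn Q₀) : ℂ) ∧ (∀ u ∈ UQ hn Q₀, u ≠ 1 → θ u = 0) ∧
      ∀ z : GQ n Q₀, (∀ g : GQ n Q₀, g⁻¹ * z * g ∈ BQ n Q₀) → θ z = θ 1 := by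
  have key := sdmst1_abs P (sigmaQ hn Q₀) (n / 2)
    (fun i hi => by rw [hS]; exact hL1a i hi)
    (fun s hs => hL1b s (by rw [← hS]; exact hs))
    (n₀ := nLongQ hn Q₀) (by rw [hN]; exact hL1c) hL2a hL2b hL2c
    (TQ n Q₀) (UQ hn Q₀)
    (fun h hh _ => by rw [hB]; exact hC1 h hh)
    (fun β hβ hc => hC2 β (by rw [← hB]; exact hβ) (by rw [← hB]; exact hc))
    (by rw [hB]; exact hU2a)
    (fun b hb => hE6 b (by rw [← hB]; exact hb))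
    (fun g hgU hgT => hU3a g hgT (hU2b g hgU))
    (fun b hb u hu => hU3b b u (by rw [← hB]; exact hb) hu)
  obtain ⟨θ, h1, h2, h3, h4⟩ := key
  refine ⟨θ, h1, h2, h3, ?_⟩
  intro z hz
  exact h4 z (fun g => by rw [hB]; exact hz g)

end Cfsg.Agent.Lib.Helper18.QBN
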