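import Mathlib
import Cfsg.Agent.Lib.Helper19.G2V.Defs

/-!
# Project G2V (helper19, S2461), row G: the seven generic lemmas on `CjG` / `CovG`, VERBATIM.
-/

set_option autoImplicit false

namespace Cfsg.Agent.Lib.Helper19.G2V

open Cfsg.Lie Cfsg.Lie.ChevalleyDatum Matrix
open Cfsg.Agent.Lib.helper8
open Cfsg.Agent.Lib.helper23.P4V

universe u

variable {F : Type u} [Field F]

theorem CjG.refl (x : GG F) : CjG x x := by
  refine ⟨1, one_mem _, ?_⟩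
  group

theorem CjG.symm {x y : GG F} (h : CjG x y) : CjG y x := by
  obtain ⟨c, hc, rfl⟩ := h
  refine ⟨c⁻¹, inv_mem hc, ?_⟩
  group

theorem CjG.trans {x y z : GG F} (h : CjG x y) (h' : CjG y z) : CjG x z := by
  obtain ⟨c, hc, rfl⟩ := h
  obtain ⟨d, hd, rfl⟩ := h'
  refine ⟨d * c, mul_mem hd hc, ?_⟩
  group

theorem CjG.conj {x y : GG F} (h : CjG x y) (c : GG F) (hc : c ∈ Gp F) : CjG x (c * y * c⁻¹) := by
  obtain ⟨d, hd, rfl⟩ := h
  refine ⟨c * d, mul_mem hc hd, ?_⟩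
  group

theorem CovG.of_mul {x y z : GG F} (hy : CjG x y) (hz : CjG x z) : CovG x (y * z) := by
  obtain ⟨c, hc, rfl⟩ := hy
  obtain ⟨d, hd, rfl⟩ := hz
  exact ⟨c, hc, d, hd, rfl⟩

theorem CovG.conj {x g : GG F} (h : CovG x g) (c : GG F) (hc : c ∈ Gp F) : CovG x (c * g * c⁻¹) := by
  obtain ⟨a, ha, b, hb, rfl⟩ := h
  refine ⟨c * a, mul_mem hc ha, c * b, mul_mem hc hb, ?_⟩
  group

theorem CovG.of_conj {x g : GG F} (c : GG F) (hc : c ∈ Gp F) (h : CovG x (c * g * c⁻¹)) : CovG x g := by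
  obtain ⟨a, ha, b, hb, hab⟩ := h
  refine ⟨c⁻¹ * a, mul_mem (inv_mem hc) ha, c⁻¹ * b, mul_mem (inv_mem hc) hb, ?_⟩
  have h1 : g = c⁻¹ * (c * g * c⁻¹) * c := by group
  rw [h1, hab]
  group

end Cfsg.Agent.Lib.Helper19.G2V
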