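import Mathlib
import Cfsg.Agent.Lib.Helper19.G2V.Defs

/-!
# Project G2V (helper19, S2461), row C2 (`cov_j2`): the core, with the cited rows
(L2 `cover2`, J2 `ident_j2`, I2 `iota_mul`, Q2 `iota_norm_Qp'`, M1 `X_mem_Gp`, M2 `X_mem_Qp`, CB `cov_big`)
as hypotheses.  `CovG.of_conj` is proved here under the name `g2vc2_of_conj`.
-/

set_option autoImplicit false

namespace Cfsg.Agent.Lib.Helper19.G2V

open Cfsg.Lie Cfsg.Lie.ChevalleyDatum Matrix
open Cfsg.Agent.Lib.helper8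
open Cfsg.Agent.Lib.helper23.P4V

universe u

variable {F : Type u} [Field F]

/-- `CovG.of_conj` (row G), own name. -/
theorem g2vc2_of_conj {x g : GG F} (c : GG F) (hc : c ∈ Gp F) (h : CovG x (c * g * c⁻¹)) : CovG x g := by
  obtain ⟨a, ha, b, hb, hab⟩ := h
  refine ⟨c⁻¹ * a, mul_mem (inv_mem hc) ha, c⁻¹ * b, mul_mem (inv_mem hc) hb, ?_⟩
  have h1 : g = c⁻¹ * (c * g * c⁻¹) * c := by group
  rw [h1, hab]
  group

/-- the matrix of a product in `GL₂`. -/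
theorem g2vc2_mul_val (B A : GL (Fin 2) F) : ((B * A : GL (Fin 2) F) : M2 F) = (B : M2 F) * (A : M2 F) := rfl

/-- the determinant of an element of `GL₂` is nonzero. -/
theorem g2vc2_det_ne (A : GL (Fin 2) F) : (A : M2 F).det ≠ 0 := by
  have := A.isUnit.map (Matrix.detMonoidHom (n := Fin 2) (R := F))
  exact this.ne_zero

/-- **C2 core**: the row with the cited rows as hypotheses. -/
theorem g2vc2_core
    (hL2 : ∀ (ν : F), ν ≠ 0 → ∀ A : M2 F, A.det ≠ 0 →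
      ∃ t β : F, t ≠ 0 ∧ InSig ν (!![1, β; 0, t] * A))
    (hJ2 : ∀ (r s s2 : F), 1 + s * r ≠ 0 → ∀ B : GL (Fin 2) F,
      (B : M2 F) = !![1, -(s2 * r); 0, 1 + s * r] →
      ∃ v' ∈ Qm F, ∃ u' ∈ Qp F, X 6 s * X 8 s2 * X 5 r = v' * iota B * u')
    (hI2 : ∀ A B : GL (Fin 2) F, iota (A * B) = iota A * iota B)
    (hQ2' : ∀ (A : GL (Fin 2) F) (u : GG F), u ∈ Qp F → (iota A)⁻¹ * u * iota A ∈ Qp F)
    (hM1 : ∀ (r : ℕ) (t : F), X r t ∈ Gp F)
    (hM2 : ∀ (r : ℕ), r ∈ [6, 8, 9, 10, 11] → ∀ t : F, X r t ∈ Qp F)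
    (τ ν : F) (hG : Good' τ ν)
    (hCB : ∀ (v' : GG F), v' ∈ Qm F → ∀ u' : GG F, u' ∈ Qp F → ∀ M : GL (Fin 2) F,
      InSig ν (M : M2 F) → CovG (xG τ ν hG.1.nu_ne_zero) (v' * iota M * u'))
    (r : F) (hr : r ≠ 0) (A : GL (Fin 2) F) (u : GG F) (hu : u ∈ Qp F) :
    CovG (xG τ ν hG.1.nu_ne_zero) (X 5 r * iota A * u) := by
  obtain ⟨t, β, ht, hSig⟩ := hL2 ν hG.1.nu_ne_zero (A : M2 F) (g2vc2_det_ne A)
  have hdetB : (!![1, β; 0, t] : M2 F).det ≠ 0 := by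
    rw [Matrix.det_fin_two_of]
    simpa using ht
  set B : GL (Fin 2) F := mk2 (!![1, β; 0, t] : M2 F) hdetB with hBdef
  have hBval : (B : M2 F) = !![1, β; 0, t] := rfl
  set s : F := (t - 1) / r with hs
  set s2 : F := -β / r with hs2
  have hD : 1 + s * r = t := by
    rw [hs]; field_simp; ring
  have hβ : -(s2 * r) = β := by
    rw [hs2]; field_simp
  have hD' : 1 + s * r ≠ 0 := by rw [hD]; exact ht
  have hB' : (B : M2 F) = !![1, -(s2 * r); 0, 1 + s * r] := by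
    rw [hBval, hD, hβ]
  obtain ⟨v', hv', u', hu', hid⟩ := hJ2 r s s2 hD' B hB'
  set y : GG F := X 6 s * X 8 s2 with hy
  have hyQ : y ∈ Qp F := mul_mem (hM2 6 (by simp) s) (hM2 8 (by simp) s2)
  have hyG : y ∈ Gp F := mul_mem (hM1 6 s) (hM1 8 s2)
  apply g2vc2_of_conj y hyG
  have hkey : y * (X 5 r * iota A * u) * y⁻¹
      = v' * iota (B * A) * (((iota A)⁻¹ * u' * iota A) * u * y⁻¹) := by
    have e1 : y * (X 5 r * iota A * u) * y⁻¹ = (X 6 s * X 8 s2 * X 5 r) * iota A * u * y⁻¹ := by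
      rw [hy]; group
    rw [e1, hid, hI2]
    group
  rw [hkey]
  apply hCB v' hv' _ _ (B * A)
  · rw [g2vc2_mul_val, hBval]
    exact hSig
  · exact mul_mem (mul_mem (hQ2' A u' hu') hu) (inv_mem hyQ)

end Cfsg.Agent.Lib.Helper19.G2V
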