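import Mathlib
import Cfsg.Prelude.Def_GeometricClasses
import Cfsg.Agent.Lib.Helper19.OU.Defs
import Cfsg.Agent.Lib.Helper10.OUEXSS
import Cfsg.Agent.Lib.Helper20.OUKLIN
import Cfsg.Agent.Lib.Helper25.OUKLI

set_option autoImplicit false
set_option linter.unusedVariables false
set_option linter.unusedSectionVars false
set_option linter.unusedSimpArgs false

namespace Cfsg.Agent.Lib.Helper19.OU

open Matrix Cfsg.Agent.Lib.Helper28.HForm Cfsg.Agent.Lib.Helper28.OGen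
  Cfsg.Agent.Lib.Helper28.OMax Cfsg.Agent.Lib.Helper28.OQ Cfsg.Agent.Lib.Helper28.OMax2
  Cfsg.Agent.Lib.Helper28.OIwa Cfsg.Agent.Lib.Helper28.OPair

variable {n : ℕ} {F : Type*} [Field F] {Q : (Fin n → F) → F}
  {f : (Fin n → F) → (Fin n → F) → F} {θ : Matrix (Fin n) (Fin n) F} {t N : F}
  {G M : Subgroup (Matrix.GeneralLinearGroup (Fin n) F)}

/-- `f (u, θ v) = t f (u, v) - f (θ u, v)` -/
theorem oustrict_adj' (ks : KS Q f θ t N) (u v : Fin n → F) :
    f u (θ *ᵥ v) = t * f u v - f (θ *ᵥ u) v := by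
  have := ks.adj u v
  linear_combination this

theorem oustrict_sing (ks : KS Q f θ t N) {u : Fin n → F} (hu : Q u = 0) :
    Q (θ *ᵥ u) = 0 ∧ f u (θ *ᵥ u) = 0 ∧ f (θ *ᵥ u) u = 0 := by
  have h1 : f u (θ *ᵥ u) = 0 := by rw [ks.fθ, hu, mul_zero]
  refine ⟨by rw [ks.Qθ, hu, mul_zero], h1, ?_⟩
  rw [s_symm ks.hq.sym, h1]

/-- the core of STRICT -/
theorem oustrict_core (ks : KS Q f θ t N) (hG : SgGroupQ Q f G)
    (u v w : Fin n → F) (hu : Q u = 0) (hv : Q v = 0) (huv : f u v = 0) (huw : f u w = 1)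
    (hθuw : f (θ *ᵥ u) w = 0) (hvw : f v w = 0) (hθvw : f (θ *ᵥ v) w = 0)
    (hli : LinearIndependent F ![v, θ *ᵥ v, w, θ *ᵥ w]) :
    ∃ g ∈ G, ¬ ∃ a b : F, (g : Matrix (Fin n) (Fin n) F) * θ *
      ((g⁻¹ : Matrix.GeneralLinearGroup (Fin n) F) : Matrix (Fin n) (Fin n) F) =
        a • (1 : Matrix (Fin n) (Fin n) F) + b • θ := by
  have hq := ks.hq
  have hf := hq.sym
  obtain ⟨g, hg⟩ := hG.ex u v 1 hu hv huv
  refine ⟨g, hG.sg g u v 1 hu hv huv hg, ?_⟩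
  rintro ⟨a, b, hab⟩
  -- `g θ = (a + b θ) g`
  have hgi : ((g⁻¹ : Matrix.GeneralLinearGroup (Fin n) F) : Matrix (Fin n) (Fin n) F) *
      (g : Matrix (Fin n) (Fin n) F) = 1 := by
    rw [← Units.val_mul, inv_mul_cancel, Units.val_one]
  have h1 : (g : Matrix (Fin n) (Fin n) F) * θ =
      (a • (1 : Matrix (Fin n) (Fin n) F) + b • θ) * (g : Matrix (Fin n) (Fin n) F) := by
    rw [← hab, Matrix.mul_assoc, hgi, Matrix.mul_one]
  have h2 := congrArg (fun m : Matrix (Fin n) (Fin n) F => m *ᵥ w) h1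
  simp only [← Matrix.mulVec_mulVec, Matrix.add_mulVec, Matrix.smul_mulVec, Matrix.one_mulVec] at h2
  -- the images of `w` and `θ w`
  have e1 : f u (θ *ᵥ w) = t := by
    rw [oustrict_adj' ks, huw, hθuw]; ring
  have e2 : f v (θ *ᵥ w) = 0 := by
    rw [oustrict_adj' ks, hvw, hθvw]; ring
  rw [hg w, hg (θ *ᵥ w)] at h2
  unfold Tv at h2
  rw [huw, hvw, e1, e2] at h2
  simp only [Matrix.mulVec_add, Matrix.mulVec_smul, Matrix.mulVec_sub, one_smul, zero_smul, sub_zero] at h2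
  -- a linear relation
  have h3 : (a - t) • v + b • (θ *ᵥ v) + a • w + (b - 1) • (θ *ᵥ w) = 0 := by
    have h2' := sub_eq_zero.2 h2
    calc (a - t) • v + b • (θ *ᵥ v) + a • w + (b - 1) • (θ *ᵥ w)
        = -((θ *ᵥ w + t • v) - (a • (w + v) + b • (θ *ᵥ w + θ *ᵥ v))) := by module
      _ = 0 := by rw [h2', neg_zero]
  have h4 := Fintype.linearIndependent_iff.1 hli ![a - t, b, a, b - 1] (by
    simpa [Fin.sum_univ_four] using h3)
  have hb := h4 1
  have hb1 := h4 3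
  simp at hb hb1
  rw [hb] at hb1
  simp at hb1

theorem oustrict_main (hn : 7 ≤ n) (ks : KS Q f θ t N) (vf : VFacts Q f) (hG : SgGroupQ Q f G)
    (ex_sing_perp : ∀ S : Submodule F (Fin n → F), 2 * Module.finrank F S + 3 ≤ n →
      ∃ w, Q w = 0 ∧ (∀ s ∈ S, f s w = 0) ∧ w ∉ S) :
    ∃ g ∈ G, ¬ ∃ a b : F, (g : Matrix (Fin n) (Fin n) F) * θ *
      ((g⁻¹ : Matrix.GeneralLinearGroup (Fin n) F) : Matrix (Fin n) (Fin n) F) =
        a • (1 : Matrix (Fin n) (Fin n) F) + b • θ := by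
  have hq := ks.hq
  have hf := hq.sym
  obtain ⟨u, hu, hu0⟩ := vf.sing
  have hS : 2 * Module.finrank F (Kl θ u) + 3 ≤ n := by
    have := kl_finrank_le θ u
    omega
  obtain ⟨v, hv, hvS, hvn⟩ := ex_sing_perp (Kl θ u) hS
  have huv : f u v = 0 := hvS u (Submodule.subset_span (by simp))
  have hθuv : f (θ *ᵥ u) v = 0 := hvS _ (Submodule.subset_span (by simp))
  have hv0 : v ≠ 0 := by
    rintro rfl
    exact hvn (Submodule.zero_mem _)
  have hli4 := kl_li4 ks hu0 hvn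
  have hfj : ∀ i, f (![u, θ *ᵥ u, v, θ *ᵥ v] i) (![u, θ *ᵥ u, v, θ *ᵥ v] 0) = 0 := by
    intro i
    fin_cases i
    · show f u u = 0
      rw [f_self hq, hu, mul_zero]
    · show f (θ *ᵥ u) u = 0
      exact (oustrict_sing ks hu).2.2
    · show f v u = 0
      rw [s_symm hf, huv]
    · show f (θ *ᵥ v) u = 0
      rw [ks.adj, s_symm hf v u, huv, s_symm hf v (θ *ᵥ u), hθuv]
      ring
  obtain ⟨w, hw, hwc⟩ := ex_sing_solve hq ![u, θ *ᵥ u, v, θ *ᵥ v] hli4 ![1, 0, 0, 0] 0 (by simp)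
    (by simpa using hu) hfj
  have huw : f u w = 1 := by simpa using hwc 0
  have hθuw : f (θ *ᵥ u) w = 0 := by simpa using hwc 1
  have hvw : f v w = 0 := by simpa using hwc 2
  have hθvw : f (θ *ᵥ v) w = 0 := by simpa using hwc 3
  have hwn : w ∉ Kl θ v := by
    intro hmem
    obtain ⟨α, β, rfl⟩ := Submodule.mem_span_pair.1 hmem
    rw [f_add_right hf, s_smul_right hf, s_smul_right hf, huv, oustrict_adj' ks, huv, hθuv] at huw
    simp at huw
  exact oustrict_core ks hG u v w hu hv huv huw hθuw hvw hθvw (kl_li4 ks hv0 hwn)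

end Cfsg.Agent.Lib.Helper19.OU
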