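import Mathlib
import Cfsg.Prelude.Def_GeometricClasses
import Cfsg.Agent.Lib.Helper19.OU.Defs
import Cfsg.Agent.Lib.Helper11.OUEXSPb
import Cfsg.Agent.Lib.Helper21.OUSTRICTcore

set_option autoImplicit false
set_option linter.unusedVariables false
set_option linter.unusedSectionVars false

/-!
# Project OU (leader: helper19) -> S5700 : piece STRICT (helper21), verbatim
-/

namespace Cfsg.Agent.Lib.Helper19.OU

open Matrix Cfsg.Agent.Lib.Helper28.HForm Cfsg.Agent.Lib.Helper28.OGen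
  Cfsg.Agent.Lib.Helper28.OMax Cfsg.Agent.Lib.Helper28.OQ Cfsg.Agent.Lib.Helper28.OMax2
  Cfsg.Agent.Lib.Helper28.OIwa Cfsg.Agent.Lib.Helper28.OPair

variable {n : ℕ} {F : Type*} [Field F] {Q : (Fin n → F) → F}
  {f : (Fin n → F) → (Fin n → F) → F} {θ : Matrix (Fin n) (Fin n) F} {t N : F}
  {G M : Subgroup (Matrix.GeneralLinearGroup (Fin n) F)}

/-- STRICT [M-L] : some element of `Ω` does not normalise `K`. -/
theorem strict [Fintype F] (hn : 7 ≤ n) (ks : KS Q f θ t N) (vf : VFacts Q f) (hG : SgGroupQ Q f G) :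
    ∃ g ∈ G, ¬ ∃ a b : F, (g : Matrix (Fin n) (Fin n) F) * θ *
      ((g⁻¹ : Matrix.GeneralLinearGroup (Fin n) F) : Matrix (Fin n) (Fin n) F) =
        a • (1 : Matrix (Fin n) (Fin n) F) + b • θ :=
  oustrict_main hn ks vf hG (fun S hS => ouexspb_ex_sing_perp ks.hq S hS)

end Cfsg.Agent.Lib.Helper19.OU
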