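import Mathlib
import Cfsg.Prelude.Def_Characters
import Cfsg.Prelude.Def_Blocks
import Cfsg.Prelude.Def_Local
import Cfsg.Prelude.Def_CaseTheorems
import Cfsg.Agent.Lib.Helper11.IndNormal
import Cfsg.Agent.Lib.Helper5.PConstrDual
import Cfsg.Agent.Lib.Helper5.PConstr
import Cfsg.Agent.Lib.Helper25.SylowDerivedLength

set_option autoImplicit false

namespace Cfsg.Agent.Lib.Helper10.PSB

open Cfsg.Agent.Lib.Helper11

-- piece HH
theorem cent_compl_le {G : Type*} [Group G] [Finite G] (p : ℕ) [Fact p.Prime]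
    (hsolv : Cfsg.IsPSolvable p G) (H : Subgroup G)
    (hHK : H ⊔ Cfsg.pCore p G =
      (Cfsg.pPrimeCore p (G ⧸ Cfsg.pCore p G)).comap (QuotientGroup.mk' (Cfsg.pCore p G)))
    (x : G) (hx : x ∈ Subgroup.centralizer (H : Set G)) (k : ℕ) (hxk : x ^ p ^ k = 1) :
    x ∈ Cfsg.pCore p G := by
  have hπs : Function.Surjective (QuotientGroup.mk' (Cfsg.pCore p G)) := QuotientGroup.mk'_surjective _
  have hsolv' : Cfsg.IsPSolvable p (G ⧸ Cfsg.pCore p G) :=
    Cfsg.Agent.Lib.Helper5.h5_isPSolvable_of_surjective _ hπs hsolv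
  have hO : Cfsg.pCore p (G ⧸ Cfsg.pCore p G) = ⊥ := Cfsg.Agent.Lib.Helper25.sdl_pCore_quot p
  have hcent := Cfsg.Agent.Lib.Helper5.h5_centralizer_pPrimeCore_le hsolv' hO
  -- image of H is the p'-core of the quotient
  have hmap : H.map (QuotientGroup.mk' (Cfsg.pCore p G)) = Cfsg.pPrimeCore p (G ⧸ Cfsg.pCore p G) := by
    have h1 : (H ⊔ Cfsg.pCore p G).map (QuotientGroup.mk' (Cfsg.pCore p G)) = H.map (QuotientGroup.mk' (Cfsg.pCore p G)) := by
      rw [Subgroup.map_sup]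
      have : (Cfsg.pCore p G).map (QuotientGroup.mk' (Cfsg.pCore p G)) = ⊥ := by
        apply (Subgroup.map_eq_bot_iff _).mpr
        rw [QuotientGroup.ker_mk']
      rw [this, sup_bot_eq]
    rw [← h1, hHK, Subgroup.map_comap_eq_self_of_surjective hπs]
  -- (QuotientGroup.mk' (Cfsg.pCore p G) x) centralizes the p'-core
  have hxc : (QuotientGroup.mk' (Cfsg.pCore p G) x) ∈ Subgroup.centralizer ((Cfsg.pPrimeCore p (G ⧸ Cfsg.pCore p G) : Subgroup (G ⧸ Cfsg.pCore p G)) : Set (G ⧸ Cfsg.pCore p G)) := by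
    rw [Subgroup.mem_centralizer_iff]
    intro y hy
    rw [SetLike.mem_coe, ← hmap] at hy
    obtain ⟨h, hh, rfl⟩ := hy
    have := (Subgroup.mem_centralizer_iff.mp hx) h hh
    rw [← map_mul, ← map_mul, this]
  have hxO : (QuotientGroup.mk' (Cfsg.pCore p G) x) ∈ Cfsg.pPrimeCore p (G ⧸ Cfsg.pCore p G) := hcent hxc
  have hcop : (Nat.card (Cfsg.pPrimeCore p (G ⧸ Cfsg.pCore p G))).Coprime p :=
    Cfsg.Agent.Lib.Helper1.pPrimeCore_card_coprime p
  -- order of (QuotientGroup.mk' (Cfsg.pCore p G) x) divides p^k and the coprime card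
  have hpx : ((QuotientGroup.mk' (Cfsg.pCore p G) x)) ^ p ^ k = 1 := by rw [← map_pow, hxk, map_one]
  have hord1 : orderOf ((QuotientGroup.mk' (Cfsg.pCore p G) x)) ∣ p ^ k := orderOf_dvd_of_pow_eq_one hpx
  have hord2 : orderOf ((QuotientGroup.mk' (Cfsg.pCore p G) x)) ∣ Nat.card (Cfsg.pPrimeCore p (G ⧸ Cfsg.pCore p G)) := by
    have := Subgroup.orderOf_dvd_natCard (Cfsg.pPrimeCore p (G ⧸ Cfsg.pCore p G)) hxO
    exact this
  have hone : orderOf ((QuotientGroup.mk' (Cfsg.pCore p G) x)) = 1 := by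
    have hc : (p ^ k).Coprime (Nat.card (Cfsg.pPrimeCore p (G ⧸ Cfsg.pCore p G))) :=
      (Nat.Coprime.pow_left k hcop.symm)
    exact Nat.eq_one_of_dvd_coprimes hc hord1 hord2
  have : (QuotientGroup.mk' (Cfsg.pCore p G) x) = 1 := orderOf_eq_one_iff.mp hone
  exact (QuotientGroup.eq_one_iff x).mp this

end Cfsg.Agent.Lib.Helper10.PSB
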