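import Mathlib
import Cfsg.Agent.Lib.helper3.SU5.Defs
import Cfsg.Agent.Lib.helper8.STULA1
import Cfsg.Agent.Lib.Helper24.STUM0
import Cfsg.Agent.Lib.Helper24.STUM3

/-!
# Project SU5 (designer helper3), row F1 (helper21): `match_all` VERBATIM vs `helper3/SU5/Skel.lean.txt`: a homomorphism matching the four simple root maps matches all root maps
(`S₀.hW_all` of `Helper24.STUM3` in the target).  Extras: `su5f1_map_cj`, `Dat.su5f1_nA`, `Dat.su5f1_nB`, `Dat.su5f1_xC`, `Dat.su5f1_yC`, `Dat.su5f1_xD`, `Dat.su5f1_yD`.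
-/

set_option autoImplicit false
set_option linter.unusedSectionVars false

namespace Cfsg.Agent.Lib.helper3.SU5

open Cfsg.Agent.Lib.helper15.St2 Cfsg.Agent.Lib.Helper27.STU
open Cfsg.Agent.Lib.helper3.STC (ng sws)

universe u v w w₀

theorem su5f1_map_cj {G : Type w} [Group G] {G₀ : Type w₀} [Group G₀] (π : G →* G₀) (g x : G) : π (cj g x) = cj (π g) (π x) := by
  unfold cj
  rw [map_mul, map_mul, map_inv]

namespace Dat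

variable {F : Type u} [Field F] [StarRing F] {G : Type w} [Group G] (D : Dat F G)

section F1

variable {G₀ : Type w₀} [Group G₀] (S₀ : SysU F True (Fin 2) G₀) (π : G →* G₀)

theorem su5f1_nA (hxA : ∀ t, π (D.xA t) = S₀.xs (Sum.inl 0) (Sum.inl 1) t) (hyA : ∀ t, π (D.yA t) = S₀.xs (Sum.inl 1) (Sum.inl 0) t) :
    π D.nA = S₀.ws (Sum.inl 0) (Sum.inl 1) 1 := by
  unfold Dat.nA SysU.ws
  rw [map_mul, map_mul, hxA, hyA, inv_one]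

theorem su5f1_nB (hxB : ∀ ξ, π (D.xB ξ) = S₀.xl (Sum.inl 1) ξ) (hyB : ∀ ξ, π (D.yB ξ) = S₀.xl (Sum.inr 1) ξ) :
    π D.nB = S₀.wl (Sum.inl 1) D.ξ₀ := by
  unfold Dat.nB SysU.wl
  rw [map_mul, map_mul, hxB, hyB, hxB]
  rfl

theorem su5f1_xC (hxA : ∀ t, π (D.xA t) = S₀.xs (Sum.inl 0) (Sum.inl 1) t) (hyA : ∀ t, π (D.yA t) = S₀.xs (Sum.inl 1) (Sum.inl 0) t)
    (hxB : ∀ ξ, π (D.xB ξ) = S₀.xl (Sum.inl 1) ξ) (ξ : Lam F True) : π (D.xC ξ) = S₀.xl (Sum.inl 0) ξ := by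
  have hWA := S₀.hW_all.1 (Sum.inl 0) (Sum.inl 1) (by decide) (by decide) 1 one_ne_zero
  unfold Dat.xC
  rw [su5f1_map_cj, D.su5f1_nA S₀ π hxA hyA, hxB, hWA.2.2]
  have e1 : sws (Sum.inl 0) (Sum.inl 1) (Sum.inl 1 : Fin 2 ⊕ Fin 2) = Sum.inl 0 := by decide
  have e2 : dws (Sum.inl 0) (Sum.inl 1) (1 : F) (Sum.inl 1 : Fin 2 ⊕ Fin 2) = 1 := by simp [dws]
  rw [e1, e2, inv_one, mul_one, Lam.act_one]

theorem su5f1_yC (hxA : ∀ t, π (D.xA t) = S₀.xs (Sum.inl 0) (Sum.inl 1) t) (hyA : ∀ t, π (D.yA t) = S₀.xs (Sum.inl 1) (Sum.inl 0) t)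
    (hyB : ∀ ξ, π (D.yB ξ) = S₀.xl (Sum.inr 1) ξ) (ξ : Lam F True) : π (D.yC ξ) = S₀.xl (Sum.inr 0) ξ := by
  have hWA := S₀.hW_all.1 (Sum.inl 0) (Sum.inl 1) (by decide) (by decide) 1 one_ne_zero
  unfold Dat.yC
  rw [su5f1_map_cj, D.su5f1_nA S₀ π hxA hyA, hyB, hWA.2.2]
  have e1 : sws (Sum.inl 0) (Sum.inl 1) (Sum.inr 1 : Fin 2 ⊕ Fin 2) = Sum.inr 0 := by decide
  have e2 : dws (Sum.inl 0) (Sum.inl 1) (1 : F) (Sum.inr 1 : Fin 2 ⊕ Fin 2) = 1 := by simp [dws, ng]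
  rw [e1, e2, inv_one, mul_one, Lam.act_one]

theorem su5f1_xD (hc : D.ξ₀.c ≠ 0) (hxA : ∀ t, π (D.xA t) = S₀.xs (Sum.inl 0) (Sum.inl 1) t)
    (hxB : ∀ ξ, π (D.xB ξ) = S₀.xl (Sum.inl 1) ξ) (hyB : ∀ ξ, π (D.yB ξ) = S₀.xl (Sum.inr 1) ξ) (t : F) :
    π (D.xD t) = S₀.xs (Sum.inl 0) (Sum.inr 1) t := by
  have hsc : star D.ξ₀.c ≠ 0 := fun h => hc (by simpa using congrArg star h)
  have hWB := S₀.hW_all.2 (Sum.inl 1) D.ξ₀ hc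
  unfold Dat.xD
  rw [su5f1_map_cj, D.su5f1_nB S₀ π hxB hyB, hxA, hWB.2.1 _ _ (by decide) (by decide)]
  have e1 : Equiv.swap (Sum.inl 1) (ng (Sum.inl 1)) (Sum.inl 0 : Fin 2 ⊕ Fin 2) = Sum.inl 0 := by decide
  have e2 : Equiv.swap (Sum.inl 1) (ng (Sum.inl 1)) (Sum.inl 1 : Fin 2 ⊕ Fin 2) = Sum.inr 1 := by decide
  have e3 : dwl (Sum.inl 1) D.ξ₀ (Sum.inl 0 : Fin 2 ⊕ Fin 2) = 1 := by simp [dwl, ng]
  have e4 : dwl (Sum.inl 1) D.ξ₀ (Sum.inl 1 : Fin 2 ⊕ Fin 2) = (star D.ξ₀.c)⁻¹ := by simp [dwl]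
  rw [e1, e2, e3, e4]
  congr 1
  field_simp

theorem su5f1_yD (hc : D.ξ₀.c ≠ 0) (hyA : ∀ t, π (D.yA t) = S₀.xs (Sum.inl 1) (Sum.inl 0) t)
    (hxB : ∀ ξ, π (D.xB ξ) = S₀.xl (Sum.inl 1) ξ) (hyB : ∀ ξ, π (D.yB ξ) = S₀.xl (Sum.inr 1) ξ) (t : F) :
    π (D.yD t) = S₀.xs (Sum.inr 1) (Sum.inl 0) t := by
  have hsc : star D.ξ₀.c ≠ 0 := fun h => hc (by simpa using congrArg star h)
  have hWB := S₀.hW_all.2 (Sum.inl 1) D.ξ₀ hc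
  unfold Dat.yD
  rw [su5f1_map_cj, D.su5f1_nB S₀ π hxB hyB, hyA, hWB.2.1 _ _ (by decide) (by decide)]
  have e1 : Equiv.swap (Sum.inl 1) (ng (Sum.inl 1)) (Sum.inl 0 : Fin 2 ⊕ Fin 2) = Sum.inl 0 := by decide
  have e2 : Equiv.swap (Sum.inl 1) (ng (Sum.inl 1)) (Sum.inl 1 : Fin 2 ⊕ Fin 2) = Sum.inr 1 := by decide
  have e3 : dwl (Sum.inl 1) D.ξ₀ (Sum.inl 0 : Fin 2 ⊕ Fin 2) = 1 := by simp [dwl, ng]
  have e4 : dwl (Sum.inl 1) D.ξ₀ (Sum.inl 1 : Fin 2 ⊕ Fin 2) = (star D.ξ₀.c)⁻¹ := by simp [dwl]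
  rw [e1, e2, e3, e4]
  congr 1
  field_simp

end F1

/-- F1 [M]  a homomorphism matching the four simple root maps matches all root maps. -/
theorem match_all (hc : D.ξ₀.c ≠ 0) {G₀ : Type w₀} [Group G₀] (S₀ : SysU F True (Fin 2) G₀) (π : G →* G₀)
    (hxA : ∀ t, π (D.xA t) = S₀.xs (Sum.inl 0) (Sum.inl 1) t) (hyA : ∀ t, π (D.yA t) = S₀.xs (Sum.inl 1) (Sum.inl 0) t)
    (hxB : ∀ ξ, π (D.xB ξ) = S₀.xl (Sum.inl 1) ξ) (hyB : ∀ ξ, π (D.yB ξ) = S₀.xl (Sum.inr 1) ξ) :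
    (∀ a b, a ≠ b → a ≠ ng b → ∀ t, π (D.xs a b t) = S₀.xs a b t) ∧ ∀ a ξ, π (D.xl a ξ) = S₀.xl a ξ := by
  have hxC := D.su5f1_xC S₀ π hxA hyA hxB
  have hyC := D.su5f1_yC S₀ π hxA hyA hyB
  have hxD := D.su5f1_xD S₀ π hc hxA hxB hyB
  have hyD := D.su5f1_yD S₀ π hc hyA hxB hyB
  have h1 : ∀ t, π (D.xs (Sum.inl 0) (Sum.inl 1) t) = S₀.xs (Sum.inl 0) (Sum.inl 1) t := hxA
  have h2 : ∀ t, π (D.xs (Sum.inl 1) (Sum.inl 0) t) = S₀.xs (Sum.inl 1) (Sum.inl 0) t := hyA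
  have h3 : ∀ t, π (D.xs (Sum.inl 0) (Sum.inr 1) t) = S₀.xs (Sum.inl 0) (Sum.inr 1) t := hxD
  have h4 : ∀ t, π (D.xs (Sum.inr 1) (Sum.inl 0) t) = S₀.xs (Sum.inr 1) (Sum.inl 0) t := hyD
  have h5 : ∀ t, π (D.xs (Sum.inl 1) (Sum.inr 0) t) = S₀.xs (Sum.inl 1) (Sum.inr 0) t := fun t =>
    (hxD _).trans (S₀.sym (Sum.inl 1) (Sum.inr 0) (by decide) (by decide) t).symm
  have h6 : ∀ t, π (D.xs (Sum.inr 0) (Sum.inl 1) t) = S₀.xs (Sum.inr 0) (Sum.inl 1) t := fun t =>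
    (hyD _).trans (S₀.sym (Sum.inr 0) (Sum.inl 1) (by decide) (by decide) t).symm
  have h7 : ∀ t, π (D.xs (Sum.inr 0) (Sum.inr 1) t) = S₀.xs (Sum.inr 0) (Sum.inr 1) t := fun t =>
    (hyA _).trans (S₀.sym (Sum.inr 0) (Sum.inr 1) (by decide) (by decide) t).symm
  have h8 : ∀ t, π (D.xs (Sum.inr 1) (Sum.inr 0) t) = S₀.xs (Sum.inr 1) (Sum.inr 0) t := fun t =>
    (hxA _).trans (S₀.sym (Sum.inr 1) (Sum.inr 0) (by decide) (by decide) t).symm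
  constructor
  · intro a b hab hab' t
    rcases a with a | a <;> rcases b with b | b <;> fin_cases a <;> fin_cases b
    all_goals first
      | exact absurd rfl hab
      | exact absurd rfl hab'
      | exact h1 t
      | exact h2 t
      | exact h3 t
      | exact h4 t
      | exact h5 t
      | exact h6 t
      | exact h7 t
      | exact h8 t
  · intro a ξ
    rcases a with a | a <;> fin_cases a
    · exact hxC ξ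
    · exact hxB ξ
    · exact hyC ξ
    · exact hyB ξ

end Dat

end Cfsg.Agent.Lib.helper3.SU5
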