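import Mathlib
import Cfsg.Agent.Lib.helper3.SU5.Defs
import Cfsg.Agent.Lib.helper8.STULA1
import Cfsg.Agent.Lib.Helper24.STUM0

/-!
# Project SU5 (designer helper3), row G0 (helper21): `cj_cm`, `Mon.xs_eq`, `Mon.xl_eq` VERBATIM vs `helper3/SU5/Skel.lean.txt`.
Extras: `su5g0_ng_ng`, `su5g0_ne_ng`, `Mon.su5g0_e_ne`, `Mon.su5g0_s_ne`.
-/

set_option autoImplicit false
set_option linter.unusedSectionVars false

namespace Cfsg.Agent.Lib.helper3.SU5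

open Cfsg.Agent.Lib.helper15.St2 Cfsg.Agent.Lib.Helper27.STU
open Cfsg.Agent.Lib.helper3.STC (ng sws)

universe u v w w₀

namespace Pre

section G

variable {F : Type u} [Field F] [StarRing F] {od : Prop} {ι : Type v} {G : Type w} [Group G] (P : Pre F od ι G)
  {g : G} {π : Equiv.Perm (ι ⊕ ι)} {d : ι ⊕ ι → F} {d0 : F}

/-- `ng` is an involution -/
theorem su5g0_ng_ng (a : ι ⊕ ι) : ng (ng a) = a := Cfsg.Agent.Lib.helper3.STC.ng_ng a

/-- `a ≠ ng b → b ≠ ng a` -/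
theorem su5g0_ne_ng {a b : ι ⊕ ι} (h : a ≠ ng b) : b ≠ ng a := by
  intro e
  apply h
  rw [e, su5g0_ng_ng]

/-- the short scalar is not zero -/
theorem Mon.su5g0_e_ne (hg : P.Mon g π d d0) (a b : ι ⊕ ι) : d a * (d b)⁻¹ ≠ 0 :=
  mul_ne_zero (hg.1.d_ne a) (inv_ne_zero (hg.1.d_ne b))

/-- the long scalar is not zero -/
theorem Mon.su5g0_s_ne (hg : P.Mon g π d d0) (a : ι ⊕ ι) : d a * d0⁻¹ ≠ 0 :=
  mul_ne_zero (hg.1.d_ne a) (inv_ne_zero hg.1.d0_ne)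

/-- G0 [S]  conjugation and commutators (`unfold cj cm; group`); the scalars of `MonData`: `e := d a * (d b)⁻¹ ≠ 0` (`MonData.d_ne`). -/
theorem cj_cm (g x y : G) : cj g (cm x y) = cm (cj g x) (cj g y) := by
  unfold cj cm
  group

theorem Mon.xs_eq (hg : P.Mon g π d d0) {a b : ι ⊕ ι} (hab : a ≠ b) (hab' : a ≠ ng b) (t : F) :
    P.xs (π a) (π b) t = cj g (P.xs a b ((d a * (d b)⁻¹)⁻¹ * t)) := by
  rw [hg.2.1 a b hab hab', mul_inv_cancel_left₀ (hg.su5g0_e_ne P a b)]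

theorem Mon.xl_eq (hg : P.Mon g π d d0) (a : ι ⊕ ι) (ξ : Lam F od) :
    P.xl (π a) ξ = cj g (P.xl a (Lam.act (d a * d0⁻¹)⁻¹ ξ)) := by
  rw [hg.2.2 a, Lam.act_act, mul_inv_cancel₀ (hg.su5g0_s_ne P a), Lam.act_one]

end G

end Pre

end Cfsg.Agent.Lib.helper3.SU5
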