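import Mathlib
import Cfsg.Agent.Lib.helper3.SU5.Defs
import Cfsg.Agent.Lib.helper8.STULA1
import Cfsg.Agent.Lib.Helper24.STUM0
import Cfsg.Agent.Lib.Helper21.SU5G0

/-!
# Project SU5 (designer helper3), row G3 (helper21): `Mon.ssl` VERBATIM vs `helper3/SU5/Skel.lean.txt` (on row G0 `Helper21/SU5G0.lean`).
Extras: `Mon.su5g3_star_d_ne`, `Mon.su5g3_star_d0_ne`.
-/

set_option autoImplicit false
set_option linter.unusedSectionVars false

namespace Cfsg.Agent.Lib.helper3.SU5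

open Cfsg.Agent.Lib.helper15.St2 Cfsg.Agent.Lib.Helper27.STU
open Cfsg.Agent.Lib.helper3.STC (ng sws)

universe u v w w₀

namespace Pre

section G

variable {F : Type u} [Field F] [StarRing F] {od : Prop} {ι : Type v} {G : Type w} [Group G] (P : Pre F od ι G)
  {g : G} {π : Equiv.Perm (ι ⊕ ι)} {d : ι ⊕ ι → F} {d0 : F}

theorem Mon.su5g3_star_d_ne (hg : P.Mon g π d d0) (a : ι ⊕ ι) : star (d a) ≠ 0 := by
  intro h
  apply hg.1.d_ne a
  have := congrArg star h
  rwa [star_star, star_zero] at this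

theorem Mon.su5g3_star_d0_ne (hg : P.Mon g π d d0) : star d0 ≠ 0 := by
  intro h
  apply hg.1.d0_ne
  have := congrArg star h
  rwa [star_star, star_zero] at this

/-- G3 [M]  `ssl` transports. -/
theorem Mon.ssl (hg : P.Mon g π d d0) {a b : ι ⊕ ι} (hab : a ≠ b) (hab' : a ≠ ng b) (h : P.Ssl a b) : P.Ssl (π a) (π b) := by
  intro t u
  have hba : b ≠ ng a := su5g0_ne_ng hab'
  have hba' : b ≠ ng (ng a) := by rw [su5g0_ng_ng]; exact hab.symm
  have hda := hg.1.d_ne a
  have hdb := hg.1.d_ne b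
  have hd0 := hg.1.d0_ne
  have hsa := hg.su5g3_star_d_ne P a
  have hs0 := hg.su5g3_star_d0_ne P
  have h0 := hg.1.d0_norm
  rw [← hg.1.pi_ng a, hg.xs_eq P hab hab' t, hg.xs_eq P hba hba' u, ← cj_cm, h, hg.2.2 a, Lam.act_tr]
  congr 2
  rw [hg.1.d_ng_eq a]
  simp only [star_mul', star_inv₀]
  field_simp
  linear_combination (-(t * u)) * h0

end G

end Pre

end Cfsg.Agent.Lib.helper3.SU5
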