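import Mathlib
import Cfsg.Agent.Lib.Helper19.SU5.Defs
import Cfsg.Agent.Lib.Helper19.SU5.Defs2
import Cfsg.Agent.Lib.Helper5.SU5T0

/-!
# Project SU5 (designer helper19; S2291 odd case), row Z1 CORE (helper21): `su5z1_core` = the EXACT conclusion of Z1 `match_dictU`, with the statement of Z0 `wu_eq_huU` (for the given `P`) as
hypothesis `hZ0`.  Extras: `su5z1_wM` (`wM = xm 1 * ym (-1) * xm 1`), `su5z1_hM` (`hM s = (xm s * ym (-s⁻¹) * xm s) * (xm (-1) * ym (-(-1)⁻¹) * xm (-1))`).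
-/

set_option autoImplicit false
set_option linter.unusedSectionVars false
set_option linter.unusedVariables false

namespace Cfsg.Agent.Lib.Helper19.SU5

open Cfsg.Agent.Lib.helper17.SLP Cfsg.Agent.Lib.helper3.SP4 Cfsg.Agent.Lib.Helper22.SU4
open Cfsg.Agent.Lib.Helper27.STU (Lam XpM XmM XpS XmS SUm XpU XmU SysU)
open Cfsg.Agent.Lib.helper3.STC (ng sws)

universe u v w

theorem su5z1_wM {F : Type u} [Field F] :
    (wM : Matrix.SpecialLinearGroup (Fin 2) F) =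
      Cfsg.Agent.Lib.helper15.St2.xm 1 * Cfsg.Agent.Lib.helper15.St2.ym (-1) * Cfsg.Agent.Lib.helper15.St2.xm 1 := by
  apply Subtype.ext
  rw [Matrix.SpecialLinearGroup.coe_mul, Matrix.SpecialLinearGroup.coe_mul]
  ext i j
  fin_cases i <;> fin_cases j <;>
    simp [wM, Cfsg.Agent.Lib.helper15.St2.xm, Cfsg.Agent.Lib.helper15.St2.ym, Matrix.mul_apply, Fin.sum_univ_two]

theorem su5z1_hM {F : Type u} [Field F] (s : Fˣ) :
    (hM s : Matrix.SpecialLinearGroup (Fin 2) F) =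
      (Cfsg.Agent.Lib.helper15.St2.xm (s : F) * Cfsg.Agent.Lib.helper15.St2.ym (-(s : F)⁻¹) * Cfsg.Agent.Lib.helper15.St2.xm (s : F)) *
        (Cfsg.Agent.Lib.helper15.St2.xm (-1) * Cfsg.Agent.Lib.helper15.St2.ym (-(-1 : F)⁻¹) * Cfsg.Agent.Lib.helper15.St2.xm (-1)) := by
  have hs : (s : F) ≠ 0 := s.ne_zero
  apply Subtype.ext
  simp only [Matrix.SpecialLinearGroup.coe_mul]
  ext i j
  fin_cases i <;> fin_cases j <;>
    simp [hM, Cfsg.Agent.Lib.helper15.St2.xm, Cfsg.Agent.Lib.helper15.St2.ym, Matrix.mul_apply, Fin.sum_univ_two]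

section Z

variable {F : Type u} {K : Type u} [Field F] [Field K] [StarRing F] [Fintype F] [Fintype K] {D : Tw F K}

variable {G₀ : Type v} [Group G₀] (S : SysU F True (Fin 2) G₀)

/-- `ψb (WU η) = S.wl 2 η` -/
theorem su5z1_WU (ψa : Matrix.SpecialLinearGroup (Fin 2) F →* G₀) (ψb : ↥(SUm F True) →* G₀) (M : MatchU S ψa ψb)
    (η : Lam F True) : ψb (WU η) = S.wl (Sum.inl 1) η := by
  unfold WU SysU.wl
  rw [map_mul, map_mul, M.xb, M.yb, M.xb]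
  rfl

/-- the first six parts of Z1 (they do not need Z0). -/
theorem su5z1_dict6 (P : RO D)
    (ψa : Matrix.SpecialLinearGroup (Fin 2) F →* G₀) (ψb : ↥(SUm F True) →* G₀) (M : MatchU S ψa ψb) :
    (∀ t, rx ψa t = S.xs (Sum.inl 0) (Sum.inl 1) t) ∧ rn ψa = S.ws (Sum.inl 0) (Sum.inl 1) 1 ∧
      (∀ s : Fˣ, rh ψa s = S.hs (Sum.inl 0) (Sum.inl 1) (s : F)) ∧
      (∀ ξ, yb ψb ξ = S.xl (Sum.inl 1) ξ) ∧ (∀ ξ, ybm ψb ξ = S.xl (Sum.inr 1) ξ) ∧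
      rn (phiL P ψb) = S.wl (Sum.inl 1) (Lam.tr (P.ζ : F)) := by
  have hT0 := (phiL_basicU P ψa ψb).2.1
  refine ⟨fun t => M.xa t, ?_, ?_, fun ξ => M.xb ξ, fun ξ => M.yb ξ, ?_⟩
  · unfold rn SysU.ws
    rw [su5z1_wM, map_mul, map_mul, M.xa, M.ya, inv_one]
  · intro s
    unfold rh SysU.hs SysU.ws
    rw [su5z1_hM, map_mul, map_mul, map_mul, map_mul, map_mul, M.xa, M.ya, M.xa, M.ya]
  · rw [hT0, su5z1_WU S ψa ψb M]

/-- Z1 core: `hZ0` is the statement of Z0 `wu_eq_huU` for `P`. -/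
theorem su5z1_core (P : RO D)
    (hZ0 : ∀ (η : Lam F True) (r : Fˣ), η.c = (r : F) * P.kap → WU η = P.HU r * WU (Lam.tr (P.ζ : F)))
    (ψa : Matrix.SpecialLinearGroup (Fin 2) F →* G₀) (ψb : ↥(SUm F True) →* G₀) (M : MatchU S ψa ψb) :
    (∀ t, rx ψa t = S.xs (Sum.inl 0) (Sum.inl 1) t) ∧ rn ψa = S.ws (Sum.inl 0) (Sum.inl 1) 1 ∧
      (∀ s : Fˣ, rh ψa s = S.hs (Sum.inl 0) (Sum.inl 1) (s : F)) ∧
      (∀ ξ, yb ψb ξ = S.xl (Sum.inl 1) ξ) ∧ (∀ ξ, ybm ψb ξ = S.xl (Sum.inr 1) ξ) ∧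
      rn (phiL P ψb) = S.wl (Sum.inl 1) (Lam.tr (P.ζ : F)) ∧
      ∀ (r : Fˣ) (η : Lam F True), η.c = (r : F) * P.kap →
        hbF P ψb r = S.hl (Sum.inl 1) η (Lam.tr (P.ζ : F)) := by
  obtain ⟨h1, h2, h3, h4, h5, h6⟩ := su5z1_dict6 S P ψa ψb M
  refine ⟨h1, h2, h3, h4, h5, h6, ?_⟩
  intro r η hη
  unfold hbF SysU.hl
  have e1 : P.HU r = WU η * (WU (Lam.tr (P.ζ : F)))⁻¹ := by
    rw [hZ0 η r hη, mul_inv_cancel_right]
  rw [e1, map_mul, map_inv, su5z1_WU S ψa ψb M, su5z1_WU S ψa ψb M]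

end Z

end Cfsg.Agent.Lib.Helper19.SU5
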