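import Mathlib
import Cfsg.Agent.Lib.Helper19.SU5.Defs
import Cfsg.Agent.Lib.Helper19.SU5.Defs2
import Cfsg.Agent.Lib.Helper5.SU5T0
import Cfsg.Agent.Lib.Helper5.SU5F8
import Cfsg.Agent.Lib.helper8.STULA1
import Cfsg.Agent.Lib.Helper24.STUM3
import Cfsg.Agent.Lib.Helper21.SU5Z1core

/-!
# Project SU5 (designer helper19; S2291 odd case), row Z2 (helper21): `match_rootsU` VERBATIM vs `Helper19/SU5/Skel2.lean.txt`
(on `su5z1_dict6` of `Helper21/SU5Z1core.lean` = the first six parts of Z1, part 1 T0 `Helper5/SU5T0.lean`, `su5f8_kap_ne` of `Helper5/SU5F8.lean`, STU `isMon_ws`, `isMon_wl`).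
Extra: `su5z2_cj_inv` (`g * x * g⁻¹ = y → g⁻¹ * y * g = x`).
-/

set_option autoImplicit false
set_option linter.unusedSectionVars false
set_option linter.unusedVariables false

namespace Cfsg.Agent.Lib.Helper19.SU5

open Cfsg.Agent.Lib.helper17.SLP Cfsg.Agent.Lib.helper3.SP4 Cfsg.Agent.Lib.Helper22.SU4
open Cfsg.Agent.Lib.Helper27.STU (Lam XpM XmM XpS XmS SUm XpU XmU SysU)
open Cfsg.Agent.Lib.helper3.STC (ng sws)
open Cfsg.Agent.Lib.helper3.SU5 (Dat Tab5 Pre)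

universe u v w

theorem su5z2_cj_inv {G : Type*} [Group G] {g x y : G} (h : Cfsg.Agent.Lib.helper15.St2.cj g x = y) : g⁻¹ * y * g = x := by
  rw [← h]
  unfold Cfsg.Agent.Lib.helper15.St2.cj
  group

section Z

variable {F : Type u} {K : Type u} [Field F] [Field K] [StarRing F] [Fintype F] [Fintype K] {D : Tw F K}

variable {G₀ : Type v} [Group G₀] (S : SysU F True (Fin 2) G₀)

/-- Z2 [M] -/
theorem match_rootsU (hFK : Fintype.card F = Fintype.card K ^ 2) (P : RO D)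
    (ψa : Matrix.SpecialLinearGroup (Fin 2) F →* G₀) (ψb : ↥(SUm F True) →* G₀) (M : MatchU S ψa ψb) :
    (∀ t, xcU P ψa ψb t = S.xs (Sum.inl 0) (Sum.inr 1) (P.kap * t)) ∧
      (∀ ξ, ydU ψa ψb ξ = S.xl (Sum.inl 0) (Lam.act (-1) ξ)) ∧
      (∀ u : K, rx (phiL P ψb) u = S.xl (Sum.inl 1) (Lam.tr ((P.ζ : F) * D.ι u))) ∧
      ∀ u : K, xDU P ψa ψb u = S.xl (Sum.inl 0) (Lam.tr ((P.ζ : F) * D.ι u)) := by
  obtain ⟨hrx, hrn, -, hyb, -, hwb⟩ := su5z1_dict6 S P ψa ψb M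
  obtain ⟨hT1, -, -, hT4, -⟩ := phiL_basicU P ψa ψb
  have hk : P.kap ≠ 0 := su5f8_kap_ne hFK P
  have hc : (Lam.tr (P.ζ : F) : Lam F True).c = P.kap := rfl
  have hc0 : (Lam.tr (P.ζ : F) : Lam F True).c ≠ 0 := by rw [hc]; exact hk
  have hWA := S.isMon_ws (a := Sum.inl 0) (b := Sum.inl 1) (by decide) (by decide) 1 one_ne_zero
  have hWB := S.isMon_wl (Sum.inl 1) hc0
  -- `y_d`
  have hyd : ∀ ξ, ydU ψa ψb ξ = S.xl (Sum.inl 0) (Lam.act (-1) ξ) := by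
    intro ξ
    unfold ydU
    rw [hrn, hyb]
    apply su5z2_cj_inv
    rw [hWA.2.2]
    have e1 : sws (Sum.inl 0) (Sum.inl 1) (Sum.inl 0 : Fin 2 ⊕ Fin 2) = Sum.inl 1 := by decide
    have e2 : Cfsg.Agent.Lib.Helper27.STU.dws (Sum.inl 0) (Sum.inl 1) (1 : F) (Sum.inl 0 : Fin 2 ⊕ Fin 2) = -1 := by
      simp [Cfsg.Agent.Lib.Helper27.STU.dws]
    rw [e1, e2, inv_one, mul_one, Lam.act_act]
    have e3 : (-1 : F) * -1 = 1 := by ring
    rw [e3, Lam.act_one]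
  refine ⟨?_, hyd, ?_, ?_⟩
  · intro t
    unfold xcU xcT
    rw [hwb, hrx]
    apply su5z2_cj_inv
    rw [hWB.2.1 _ _ (by decide) (by decide)]
    have e1 : Equiv.swap (Sum.inl 1) (ng (Sum.inl 1)) (Sum.inl 0 : Fin 2 ⊕ Fin 2) = Sum.inl 0 := by decide
    have e2 : Equiv.swap (Sum.inl 1) (ng (Sum.inl 1)) (Sum.inr 1 : Fin 2 ⊕ Fin 2) = Sum.inl 1 := by decide
    have e3 : Cfsg.Agent.Lib.Helper27.STU.dwl (Sum.inl 1) (Lam.tr (P.ζ : F) : Lam F True) (Sum.inl 0 : Fin 2 ⊕ Fin 2) = 1 := by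
      simp [Cfsg.Agent.Lib.Helper27.STU.dwl, ng]
    have e4 : Cfsg.Agent.Lib.Helper27.STU.dwl (Sum.inl 1) (Lam.tr (P.ζ : F) : Lam F True) (Sum.inr 1 : Fin 2 ⊕ Fin 2) = P.kap := by
      simp [Cfsg.Agent.Lib.Helper27.STU.dwl, ng]
      rfl
    rw [e1, e2, e3, e4]
    congr 1
    field_simp
  · intro u
    rw [hT1, hyb]
  · intro u
    rw [hT4, hyd, Lam.act_tr]
    congr 2
    rw [star_neg, star_one]
    ring

end Z

end Cfsg.Agent.Lib.Helper19.SU5
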