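import Mathlib
import Cfsg.Prelude.Def_Transfer
import Cfsg.Agent.Lib.Helper20.QuadCount
import Cfsg.Agent.Lib.Helper1.Frat
import Cfsg.Agent.Lib.helper17.Frattini

set_option autoImplicit false
open scoped commutatorElement

namespace Cfsg.Agent.Lib.Helper21

open Cfsg.Agent.Lib.Helper20

/-- element-level axioms of an extraspecial 2-group with centre `{1, z}` -/
structure XS2 (E : Type*) [Group E] (z : E) : Prop where
  z_ne : z ≠ 1
  z_sq : z * z = 1
  z_comm : ∀ g : E, g * z = z * g
  center : ∀ x : E, (∀ y : E, x * y = y * x) → x = 1 ∨ x = z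
  comm : ∀ x y : E, ⁅x, y⁆ = 1 ∨ ⁅x, y⁆ = z
  sq : ∀ x : E, x ^ 2 = 1 ∨ x ^ 2 = z
  nonab : ∃ x y : E, x * y ≠ y * x

namespace XS2

variable {E : Type*} [Group E] {z : E}

theorem z_inv (h : XS2 E z) : z⁻¹ = z := inv_eq_of_mul_eq_one_right h.z_sq

theorem z_pow (h : XS2 E z) : z ^ 2 = 1 := by rw [pow_two]; exact h.z_sq

theorem comm_central (h : XS2 E z) (x y g : E) : g * ⁅x, y⁆ = ⁅x, y⁆ * g := by
  rcases h.comm x y with e | e <;> rw [e]
  · simp
  · exact h.z_comm g

theorem comm_eq_z (h : XS2 E z) {x y : E} (hxy : x * y ≠ y * x) : ⁅x, y⁆ = z := by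
  rcases h.comm x y with e | e
  · exact absurd (commutatorElement_eq_one_iff_mul_comm.mp e) hxy
  · exact e

theorem comm_mul_left (h : XS2 E z) (a b g : E) : ⁅a * b, g⁆ = ⁅a, g⁆ * ⁅b, g⁆ := by
  have h1 : ⁅a * b, g⁆ = a * ⁅b, g⁆ * a⁻¹ * ⁅a, g⁆ := by
    simp [commutatorElement_def, mul_assoc]
  rw [h1, h.comm_central b g a]
  simp only [mul_assoc, mul_inv_cancel_left]
  rw [h.comm_central a g]

theorem comm_mul_right' (h : XS2 E z) (g a b : E) : ⁅g, a * b⁆ = ⁅g, a⁆ * ⁅g, b⁆ :=
  comm_mul_right g a b (fun k => h.comm_central g b k)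

theorem comm_symm (h : XS2 E z) (a b : E) : ⁅a, b⁆ = ⁅b, a⁆ := by
  have h1 : ⁅a, b⁆ = ⁅b, a⁆⁻¹ := (commutatorElement_inv b a).symm
  rw [h1]
  rcases h.comm b a with e | e <;> rw [e]
  · simp
  · exact h.z_inv

theorem sq_sq (h : XS2 E z) (x : E) : (x ^ 2) ^ 2 = 1 := by
  rcases h.sq x with e | e <;> rw [e]
  · simp
  · exact h.z_pow

theorem isPGroup (h : XS2 E z) : IsPGroup 2 E := by
  intro g
  refine ⟨2, ?_⟩
  have := h.sq_sq g
  rw [← pow_mul] at this
  simpa using this

theorem orderOf_z (h : XS2 E z) : orderOf z = 2 :=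
  orderOf_eq_prime h.z_pow h.z_ne

theorem mem_zpowers_iff (h : XS2 E z) (a : E) : a ∈ Subgroup.zpowers z ↔ a = 1 ∨ a = z := by
  constructor
  · rintro ⟨k, rfl⟩
    rcases Int.even_or_odd' k with ⟨m, hm | hm⟩
    · left
      show z ^ k = 1
      rw [hm, zpow_mul, zpow_ofNat, h.z_pow, one_zpow]
    · right
      show z ^ k = z
      rw [hm, zpow_add, zpow_mul, zpow_ofNat, h.z_pow, one_zpow, one_mul, zpow_one]
  · rintro (rfl | rfl)
    · exact one_mem _
    · exact Subgroup.mem_zpowers a

theorem center_eq (h : XS2 E z) : Subgroup.center E = Subgroup.zpowers z := by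
  apply le_antisymm
  · intro c hc
    rw [Subgroup.mem_center_iff] at hc
    rw [h.mem_zpowers_iff]
    exact h.center c (fun y => (hc y).symm)
  · rw [Subgroup.zpowers_le, Subgroup.mem_center_iff]
    exact h.z_comm

theorem mem_center_iff (h : XS2 E z) (a : E) : a ∈ Subgroup.center E ↔ a = 1 ∨ a = z := by
  rw [h.center_eq, h.mem_zpowers_iff]

theorem commutator_eq (h : XS2 E z) : commutator E = Subgroup.zpowers z := by
  apply le_antisymm
  · rw [commutator_def, Subgroup.commutator_le]
    intro a _ b _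
    rw [h.mem_zpowers_iff]
    exact h.comm a b
  · rw [Subgroup.zpowers_le]
    obtain ⟨x, y, hxy⟩ := h.nonab
    rw [← h.comm_eq_z hxy, commutator_def]
    exact Subgroup.commutator_mem_commutator (Subgroup.mem_top x) (Subgroup.mem_top y)

theorem card_zpowers (h : XS2 E z) : Nat.card (Subgroup.zpowers z) = 2 := by
  rw [Nat.card_zpowers, h.orderOf_z]

theorem isExtraspecial [Finite E] (h : XS2 E z) : Cfsg.IsExtraspecial 2 E := by
  haveI : Fact (Nat.Prime 2) := ⟨Nat.prime_two⟩
  refine ⟨⟨h.isPGroup, ?_, ?_⟩, ?_⟩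
  · apply le_antisymm
    · apply Cfsg.Agent.Lib.helper17.frattini_le_of_comm_pow_mem (p := 2) (Subgroup.center E)
      · intro a b
        rw [h.mem_center_iff]; exact h.comm a b
      · intro a
        rw [h.mem_center_iff]; exact h.sq a
    · rw [h.center_eq, ← h.commutator_eq]
      exact Cfsg.Agent.Lib.Helper1.pgroup_commutator_le_frattini h.isPGroup
  · rw [h.center_eq, h.commutator_eq]
  · rw [h.center_eq, h.card_zpowers]

theorem exists_of_isExtraspecial [Finite E] (hE : Cfsg.IsExtraspecial 2 E) : ∃ z : E, XS2 E z := by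
  haveI : Fact (Nat.Prime 2) := ⟨Nat.prime_two⟩
  obtain ⟨⟨hP, hΦ, hcomm⟩, hcard⟩ := hE
  obtain ⟨⟨z, hzc⟩, hz1', hzall⟩ := (Nat.card_eq_two_iff' (1 : Subgroup.center E)).mp hcard
  have hz1 : z ≠ 1 := fun hh => hz1' (Subtype.ext hh)
  have hall : ∀ c ∈ Subgroup.center E, c = 1 ∨ c = z := by
    intro c hc
    by_cases hc1 : c = 1
    · left; exact hc1
    · right
      have := hzall ⟨c, hc⟩ (fun h' => hc1 (congrArg Subtype.val h'))
      exact congrArg Subtype.val this
  have hzz : z * z = 1 := by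
    rcases hall _ ((Subgroup.center E).mul_mem hzc hzc) with e | e
    · exact e
    · exact absurd (by simpa using e) hz1
  refine ⟨z, hz1, hzz, ?_, ?_, ?_, ?_, ?_⟩
  · intro g
    exact (Subgroup.mem_center_iff.mp hzc g)
  · intro x hx
    apply hall
    rw [Subgroup.mem_center_iff]
    intro g
    exact (hx g).symm
  · intro x y
    apply hall
    rw [← hcomm, commutator_def]
    exact Subgroup.commutator_mem_commutator (Subgroup.mem_top x) (Subgroup.mem_top y)
  · intro x
    apply hall
    rw [← hΦ]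
    exact Cfsg.Agent.Lib.Helper1.pgroup_pow_mem_frattini hP x
  · by_contra hab
    push_neg at hab
    have hbot : commutator E = ⊥ := by
      rw [commutator_def, Subgroup.commutator_eq_bot_iff_le_centralizer]
      intro a _
      rw [Subgroup.mem_centralizer_iff]
      intro b _
      exact hab b a
    rw [hbot] at hcomm
    rw [← hcomm] at hcard
    simp at hcard

end XS2

/-- the signed count `#{x | x² = 1} - #{x | x² ≠ 1}` -/
noncomputable def xsS (E : Type*) [Group E] : ℤ :=
  2 * (Nat.card {x : E // x ^ 2 = 1} : ℤ) - (Nat.card E : ℤ)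

theorem xsS_eq_sum {E : Type*} [Group E] [Fintype E] : xsS E = ∑ x : E, qsgn (x ^ 2) := by
  have := sum_qsgn_eq (G := E)
  have hc : (Nat.card E : ℤ) = (Fintype.card E : ℤ) := by rw [Nat.card_eq_fintype_card]
  unfold xsS
  rw [hc]
  linarith

theorem xsS_congr {E E' : Type*} [Group E] [Group E'] (e : E ≃* E') : xsS E = xsS E' := by
  unfold xsS
  have h1 : Nat.card {x : E // x ^ 2 = 1} = Nat.card {x : E' // x ^ 2 = 1} := by
    apply Nat.card_congr
    refine e.toEquiv.subtypeEquiv ?_
    intro a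
    constructor
    · intro ha
      show (e a) ^ 2 = 1
      rw [← map_pow, ha, map_one]
    · intro ha
      have h2 : e (a ^ 2) = e 1 := by rw [map_pow, map_one]; exact ha
      exact e.injective h2
  rw [h1, Nat.card_congr e.toEquiv]

namespace XS2

variable {E : Type*} [Group E] {z : E}

theorem qsgn_z (h : XS2 E z) : qsgn z = -1 := qsgn_of_ne h.z_ne

theorem qsgn_mul' (h : XS2 E z) {a b : E} (ha : a = 1 ∨ a = z) (hb : b = 1 ∨ b = z) :
    qsgn (a * b) = qsgn a * qsgn b := qsgn_mul h.z_sq h.z_ne ha hb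

open Classical in
theorem xsS_sq [Finite E] (h : XS2 E z) : xsS E * xsS E = 2 * (Nat.card E : ℤ) := by
  have := Fintype.ofFinite E
  rw [xsS_eq_sum, gauss_sq h.z_sq h.z_ne h.z_comm h.sq h.comm, Nat.card_eq_fintype_card]
  have hc : (∑ t : E, (if t ∈ Subgroup.center E then qsgn (t ^ 2) else 0)) = 2 := by
    rw [← Finset.sum_filter]
    have hf : (Finset.univ.filter fun t : E => t ∈ Subgroup.center E) = {1, z} := by
      ext t
      simp only [Finset.mem_filter, Finset.mem_univ, true_and, Finset.mem_insert,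
        Finset.mem_singleton]
      exact h.mem_center_iff t
    rw [hf, Finset.sum_pair (Ne.symm h.z_ne), one_pow, qsgn_one, h.z_pow, qsgn_one]
    norm_num
  rw [hc]; ring

open Classical in
/-- character sum over a subgroup -/
theorem sum_qsgn_comm_sub [Fintype E] (h : XS2 E z) (B : Subgroup E) (g : E) :
    ∑ b : B, qsgn ⁅(b : E), g⁆ =
      if g ∈ Subgroup.centralizer (B : Set E) then (Fintype.card B : ℤ) else 0 := by
  split_ifs with hg
  · rw [Subgroup.mem_centralizer_iff] at hg
    have : ∀ b : B, qsgn ⁅(b : E), g⁆ = 1 := by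
      intro b
      have : ⁅(b : E), g⁆ = 1 := commutatorElement_eq_one_iff_mul_comm.mpr (hg b b.2)
      rw [this, qsgn_one]
    simp [this]
  · rw [Subgroup.mem_centralizer_iff] at hg
    push_neg at hg
    obtain ⟨b₀, hb₀, hne⟩ := hg
    have hz : ⁅b₀, g⁆ = z := h.comm_eq_z hne
    have key : ∀ b : B, qsgn ⁅((⟨b₀, hb₀⟩ * b : B) : E), g⁆ = - qsgn ⁅(b : E), g⁆ := by
      intro b
      show qsgn ⁅b₀ * (b : E), g⁆ = _
      rw [h.comm_mul_left, h.qsgn_mul' (h.comm b₀ g) (h.comm (b : E) g), hz, h.qsgn_z]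
      ring
    have h1 := Equiv.sum_comp (Equiv.mulLeft (⟨b₀, hb₀⟩ : B)) (fun b : B => qsgn ⁅(b : E), g⁆)
    simp only [Equiv.coe_mulLeft] at h1
    rw [Finset.sum_congr rfl (fun b _ => key b), Finset.sum_neg_distrib] at h1
    linarith

open Classical in
theorem card_mul_card_centralizer [Finite E] (h : XS2 E z) (B : Subgroup E) (hzB : z ∈ B) :
    Nat.card B * Nat.card (Subgroup.centralizer (B : Set E)) = 2 * Nat.card E := by
  have := Fintype.ofFinite E
  have h1 : ∑ g : E, ∑ b : B, qsgn ⁅(b : E), g⁆ =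
      (Nat.card B : ℤ) * (Nat.card (Subgroup.centralizer (B : Set E)) : ℤ) := by
    simp only [h.sum_qsgn_comm_sub B]
    rw [← Finset.sum_filter, Finset.sum_const, nsmul_eq_mul]
    have e1 : Nat.card (Subgroup.centralizer (B : Set E)) =
        (Finset.univ.filter fun g : E => g ∈ Subgroup.centralizer (B : Set E)).card :=
      Nat.subtype_card _ (by simp)
    have e2 : (Fintype.card B : ℤ) = (Nat.card B : ℤ) := by rw [Nat.card_eq_fintype_card]
    rw [e1, e2]
    ring
  have h2 : ∑ g : E, ∑ b : B, qsgn ⁅(b : E), g⁆ = 2 * (Nat.card E : ℤ) := by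
    rw [Finset.sum_comm]
    have : ∀ b : B, ∑ g : E, qsgn ⁅(b : E), g⁆ =
        if (b : E) ∈ Subgroup.center E then (Fintype.card E : ℤ) else 0 :=
      fun b => sum_qsgn_comm h.z_sq h.z_ne h.z_comm h.comm (b : E)
    simp only [this]
    rw [← Finset.sum_filter, Finset.sum_const, nsmul_eq_mul, Nat.card_eq_fintype_card]
    have hf : (Finset.univ.filter fun b : B => (b : E) ∈ Subgroup.center E) =
        {1, ⟨z, hzB⟩} := by
      ext t
      simp only [Finset.mem_filter, Finset.mem_univ, true_and, Finset.mem_insert,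
        Finset.mem_singleton]
      rw [h.mem_center_iff]
      constructor
      · rintro (e | e)
        · left; exact Subtype.ext e
        · right; exact Subtype.ext e
      · rintro (e | e)
        · left; rw [e]; rfl
        · right; rw [e]
    rw [hf, Finset.card_pair]
    · push_cast; ring
    · intro e
      exact h.z_ne (congrArg Subtype.val e).symm
  have h3 := h1.symm.trans h2
  exact_mod_cast h3

open Classical in
theorem xsS_eq_sum_centralizer [Fintype E] (h : XS2 E z) (A : Subgroup E)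
    (hA : ∀ a ∈ A, a ^ 2 = 1) :
    xsS E = ∑ x : E, if x ∈ Subgroup.centralizer (A : Set E) then qsgn (x ^ 2) else 0 := by
  have hkey : ∀ (x : E) (a : A), qsgn ((x * (a : E)) ^ 2) = qsgn ⁅(a : E), x⁆ * qsgn (x ^ 2) := by
    intro x a
    rw [sq_mul_eq x (a : E) (fun g => h.comm_central _ _ g), hA a a.2, mul_one,
      h.qsgn_mul' (h.comm _ _) (h.sq x)]
  have h1 : ∑ a : A, ∑ x : E, qsgn ((x * (a : E)) ^ 2) = (Fintype.card A : ℤ) * xsS E := by
    have : ∀ a : A, ∑ x : E, qsgn ((x * (a : E)) ^ 2) = xsS E := by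
      intro a
      rw [xsS_eq_sum]
      exact Equiv.sum_comp (Equiv.mulRight (a : E)) (fun x => qsgn (x ^ 2))
    simp [this]
  have h2 : ∑ a : A, ∑ x : E, qsgn ((x * (a : E)) ^ 2) = (Fintype.card A : ℤ) *
      ∑ x : E, if x ∈ Subgroup.centralizer (A : Set E) then qsgn (x ^ 2) else 0 := by
    rw [Finset.sum_comm, Finset.mul_sum]
    refine Finset.sum_congr rfl fun x _ => ?_
    simp only [hkey]
    rw [← Finset.sum_mul, h.sum_qsgn_comm_sub A x]
    split_ifs <;> simp
  have h3 : (Fintype.card A : ℤ) ≠ 0 := by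
    have : 0 < Fintype.card A := Fintype.card_pos
    exact_mod_cast this.ne'
  exact mul_left_cancel₀ h3 (h1.symm.trans h2)

/-- a subgroup all of whose elements square to `1` is abelian -/
theorem comm_of_sq_one (A : Subgroup E) (hA : ∀ a ∈ A, a ^ 2 = 1) :
    ∀ a ∈ A, ∀ b ∈ A, a * b = b * a := by
  intro a ha b hb
  have h1 := hA (a * b) (A.mul_mem ha hb)
  have h2 := hA a ha
  have h3 := hA b hb
  rw [pow_two] at h1 h2 h3
  have ha' : a⁻¹ = a := inv_eq_of_mul_eq_one_right h2
  have hb' : b⁻¹ = b := inv_eq_of_mul_eq_one_right h3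
  have : (a * b)⁻¹ = a * b := inv_eq_of_mul_eq_one_right h1
  rw [mul_inv_rev, ha', hb'] at this
  exact this.symm

theorem le_centralizer_of_sq_one (A : Subgroup E) (hA : ∀ a ∈ A, a ^ 2 = 1) :
    A ≤ Subgroup.centralizer (A : Set E) := by
  intro a ha
  rw [Subgroup.mem_centralizer_iff]
  intro b hb
  exact comm_of_sq_one A hA b hb a ha

theorem card_sq_le [Finite E] (h : XS2 E z) (A : Subgroup E) (hA : ∀ a ∈ A, a ^ 2 = 1)
    (hzA : z ∈ A) : Nat.card A * Nat.card A ≤ 2 * Nat.card E := by
  rw [← h.card_mul_card_centralizer A hzA]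
  exact Nat.mul_le_mul_left _ (Subgroup.card_le_of_le (le_centralizer_of_sq_one A hA))

open Classical in
theorem xsS_of_lagrangian [Finite E] (h : XS2 E z) (A : Subgroup E) (hA : ∀ a ∈ A, a ^ 2 = 1)
    (hzA : z ∈ A) (hcard : Nat.card A * Nat.card A = 2 * Nat.card E) :
    xsS E = (Nat.card A : ℤ) := by
  have := Fintype.ofFinite E
  have hle := le_centralizer_of_sq_one A hA
  have hcc : Nat.card (Subgroup.centralizer (A : Set E)) = Nat.card A := by
    have h1 := h.card_mul_card_centralizer A hzA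
    rw [← hcard] at h1
    have hpos : 0 < Nat.card A := Nat.card_pos
    exact Nat.eq_of_mul_eq_mul_left hpos h1
  have heq : Subgroup.centralizer (A : Set E) = A :=
    (Subgroup.eq_of_le_of_card_ge hle (le_of_eq hcc)).symm
  rw [h.xsS_eq_sum_centralizer A hA, heq]
  have : ∀ x : E, (if x ∈ A then qsgn (x ^ 2) else 0) = if x ∈ A then (1 : ℤ) else 0 := by
    intro x
    split_ifs with hx
    · rw [hA x hx, qsgn_one]
    · rfl
  simp only [this]
  rw [← Finset.sum_filter, Finset.sum_const, nsmul_eq_mul, mul_one]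
  have e1 : Nat.card A = (Finset.univ.filter fun g : E => g ∈ A).card :=
    Nat.subtype_card _ (by simp)
  rw [e1]

end XS2

/-- extend a subgroup by a commuting involution outside it -/
theorem exists_extend_invol {G : Type*} [Group G] (B : Subgroup G) (t : G) (ht : t * t = 1)
    (htB : t ∉ B) (hc : ∀ b ∈ B, t * b = b * t) :
    ∃ A : Subgroup G, (∀ a, a ∈ A ↔ a ∈ B ∨ a * t ∈ B) ∧ Nat.card A = 2 * Nat.card B := by
  have hti : t⁻¹ = t := inv_eq_of_mul_eq_one_right ht
  have hcomm' : ∀ b, b * t ∈ B → t * b = b * t := by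
    intro b hb
    have h1 := hc _ hb
    calc t * b = t * (b * t) * t⁻¹ := by group
      _ = (b * t * t) * t⁻¹ := by rw [h1]
      _ = b * t := by group
  let A : Subgroup G :=
    { carrier := {a | a ∈ B ∨ a * t ∈ B}
      mul_mem' := by
        rintro a b (ha | ha) (hb | hb)
        · left; exact B.mul_mem ha hb
        · right
          have : a * b * t = a * (b * t) := by group
          rw [this]; exact B.mul_mem ha hb
        · right
          have : a * b * t = (a * t) * b := by
            rw [mul_assoc, ← hc b hb, ← mul_assoc]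
          rw [this]; exact B.mul_mem ha hb
        · left
          have : a * b = (a * t) * (b * t) := by
            symm
            calc (a * t) * (b * t) = a * (t * b) * t := by group
              _ = a * (b * t) * t := by rw [hcomm' b hb]
              _ = a * b * (t * t) := by group
              _ = a * b := by rw [ht, mul_one]
          rw [this]; exact B.mul_mem ha hb
      one_mem' := Or.inl B.one_mem
      inv_mem' := by
        rintro a (ha | ha)
        · left; exact B.inv_mem ha
        · right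
          have h1 : (a * t)⁻¹ ∈ B := B.inv_mem ha
          have h2 := hcomm' a ha
          have : a⁻¹ * t = (a * t)⁻¹ := by
            rw [mul_inv_rev, hti]
            calc a⁻¹ * t = a⁻¹ * (t * a) * a⁻¹ := by group
              _ = a⁻¹ * (a * t) * a⁻¹ := by rw [h2]
              _ = t * a⁻¹ := by group
          rw [this]; exact h1 }
  have hmem : ∀ a, a ∈ A ↔ a ∈ B ∨ a * t ∈ B := fun a => Iff.rfl
  refine ⟨A, hmem, ?_⟩
  let φ : B × Fin 2 → A := fun p =>
    if p.2 = 0 then ⟨p.1, (hmem _).mpr (Or.inl p.1.2)⟩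
    else ⟨p.1 * t, (hmem _).mpr (Or.inr (by rw [mul_assoc, ht, mul_one]; exact p.1.2))⟩
  have hφ0 : ∀ b : B, ((φ (b, 0) : A) : G) = b := fun b => by simp [φ]
  have hφ1 : ∀ b : B, ((φ (b, 1) : A) : G) = b * t := fun b => by simp [φ]
  have hbij : Function.Bijective φ := by
    constructor
    · rintro ⟨b, i⟩ ⟨b', j⟩ hh
      have hh' : ((φ (b, i) : A) : G) = ((φ (b', j) : A) : G) := congrArg Subtype.val hh
      fin_cases i <;> fin_cases j
      · simp only [Fin.zero_eta, Fin.isValue] at hh' ⊢
        rw [hφ0, hφ0] at hh'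
        rw [Subtype.ext hh']
      · exfalso
        simp only [Fin.zero_eta, Fin.isValue, Fin.mk_one] at hh'
        rw [hφ0, hφ1] at hh'
        apply htB
        have : t = (b' : G)⁻¹ * b := by rw [hh']; group
        rw [this]; exact B.mul_mem (B.inv_mem b'.2) b.2
      · exfalso
        simp only [Fin.zero_eta, Fin.isValue, Fin.mk_one] at hh'
        rw [hφ0, hφ1] at hh'
        apply htB
        have : t = (b : G)⁻¹ * b' := by rw [← hh']; group
        rw [this]; exact B.mul_mem (B.inv_mem b.2) b'.2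
      · simp only [Fin.isValue, Fin.mk_one] at hh' ⊢
        rw [hφ1, hφ1] at hh'
        rw [Subtype.ext (mul_right_cancel hh')]
    · rintro ⟨a, ha⟩
      rcases (hmem a).mp ha with hB | hB
      · exact ⟨(⟨a, hB⟩, 0), Subtype.ext (hφ0 _)⟩
      · refine ⟨(⟨a * t, hB⟩, 1), Subtype.ext ?_⟩
        rw [hφ1]
        show a * t * t = a
        rw [mul_assoc, ht, mul_one]
  rw [← Nat.card_congr (Equiv.ofBijective φ hbij), Nat.card_prod, mul_comm]
  simp

end Cfsg.Agent.Lib.Helper21
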