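import Mathlib
import Cfsg.Agent.Lib.Helper20.GLO.Defs
import Cfsg.Agent.Lib.Helper20.GLO.DefsM
import Cfsg.Agent.Lib.Helper20.GLOM9

/-!
# Project GLO (designer helper20, odd gluing for S2291), row M15 (helper21): `glue_M`, the gluing relations hold in `SU_n(q)`, `n = 2 m + 1`
(port of GLE M15 in `Helper20/GLEM9.lean`; the parameter is `1` only), VERBATIM vs `Helper20/GLO/SkelM.lean.txt`.  On the landed rows M9 - M14 (`Helper20/GLOM9.lean`, with its extras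
`glom15_lamC_uA`, `glom15_lam_uA`, `glom15_B1_induction`).
-/

set_option autoImplicit false
set_option linter.unusedSectionVars false

namespace Cfsg.Agent.Lib.Helper20.GLO

open Matrix
open Cfsg.Agent.Lib.helper15.SUn (R)
open Cfsg.Agent.Lib.helper3.STC (ng ab)
open Cfsg.Agent.Lib.helper3.SPM (Pts pe sgm sn sig2 ptsFin pe2)
open Cfsg.Agent.Lib.Helper27.STU
open Cfsg.Agent.Lib.Helper19.MOD (Ctx)
open Cfsg.Agent.Lib.helper17.SLP (cm)
open Cfsg.Agent.Lib.Helper20.GLE (lamC lamP)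

universe u

section M

variable {F : Type u} [Field F] [StarRing F] {n q m : ℕ} (C : Ctx F n q m True) (C₂ : Ctx F 5 q 2 True) (p : Pts (Fin m))

/-- M15 [M-L]  as GLE M15 (the parameter is `1` only). -/
theorem glue_M (S₀ : SysU F True (Fin m) ↥(Cfsg.SU n F q)) (h₀s : ∀ a b t, S₀.xs a b t = C.xsE a b t)
    (h₀l : ∀ a ξ, S₀.xl a ξ = C.xlE a ξ)
    (S₂ : SysU F True (Fin 2) ↥(Cfsg.SU 5 F q)) (h₂s : ∀ a b t, S₂.xs a b t = C₂.xsE a b t)
    (h₂l : ∀ a ξ, S₂.xl a ξ = C₂.xlE a ξ) :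
    Glue S₂ (nuM C₂ (Equiv.swap 0 1)) p (nuM C) (lamM C C₂ p) := by
  have ab_ng := @Cfsg.Agent.Lib.helper3.STC.ab_ng (Fin m)
  have hne01 : (Sum.inl p.o0 : Fin m ⊕ Fin m) ≠ Sum.inl p.o1 := fun h => p.h01 (Sum.inl.inj h)
  have hne02 : (Sum.inl p.o0 : Fin m ⊕ Fin m) ≠ Sum.inl p.o2 := fun h => p.h02 (Sum.inl.inj h)
  have hne12 : (Sum.inl p.o1 : Fin m ⊕ Fin m) ≠ Sum.inl p.o2 := fun h => p.h12 (Sum.inl.inj h)
  have hnn : ∀ i j : Fin m, (Sum.inl i : Fin m ⊕ Fin m) ≠ ng (Sum.inl j) := by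
    intro i j h
    simp [ng] at h
  constructor
  · -- sw
    exact (lamM_sw C C₂ p).symm
  · -- stab1
    intro σ hσ g hg
    refine glom15_B1_induction C₂ S₂ h₂l (P := fun g => nuM C σ * lamM C C₂ p g * (nuM C σ)⁻¹ = lamM C C₂ p g)
      ?_ ?_ ?_ ?_ hg
    · rw [map_one, mul_one, mul_inv_cancel]
    · intro x y hx hy
      rw [map_mul]
      calc nuM C σ * (lamM C C₂ p x * lamM C C₂ p y) * (nuM C σ)⁻¹
          = (nuM C σ * lamM C C₂ p x * (nuM C σ)⁻¹) * (nuM C σ * lamM C C₂ p y * (nuM C σ)⁻¹) := by group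
        _ = _ := by rw [hx, hy]
    · intro x hx
      rw [map_inv]
      calc nuM C σ * (lamM C C₂ p x)⁻¹ * (nuM C σ)⁻¹
          = (nuM C σ * lamM C C₂ p x * (nuM C σ)⁻¹)⁻¹ := by group
        _ = _ := by rw [hx]
    · intro a ξ ha
      rw [← Cfsg.Agent.Lib.Helper20.GLE.glem12_lamC_apply, lamC_M_xl, lamM_xl, Cfsg.Agent.Lib.Helper20.GLE.glem11_sgm_fix]
      rw [Cfsg.Agent.Lib.Helper20.GLE.glem15_pe_of_ab_one p ha, hσ]
  · -- stab01
    intro σ h0 h1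
    rw [← Cfsg.Agent.Lib.Helper20.GLE.glem12_lamC_apply, glom15_lamC_uA C C₂ p S₂ h₂s, glom15_lam_uA C C₂ p S₂ h₂s, h0, h1]
  · -- d3
    intro g hg
    rw [glom15_lam_uA C C₂ p S₂ h₂s]
    refine glom15_B1_induction C₂ S₂ h₂l
      (P := fun g => Commute (C.xsE (Sum.inl p.o0) (Sum.inl p.o1) 1) (lamC (nuM C) (lamM C C₂ p) (Equiv.swap p.o1 p.o2) g))
      ?_ ?_ ?_ ?_ hg
    · rw [map_one]
      exact Commute.one_right _
    · intro x y hx hy
      rw [map_mul]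
      exact hx.mul_right hy
    · intro x hx
      rw [map_inv]
      exact hx.inv_right
    · intro a ξ ha
      rw [lamC_M_xl]
      have hc : ab (sgm (Equiv.swap p.o1 p.o2) (pe p a)) = p.o2 := by
        rw [Cfsg.Agent.Lib.helper3.SPM.ab_sgm, Cfsg.Agent.Lib.Helper20.GLE.glem15_pe_of_ab_one p ha, Equiv.swap_apply_left]
      set c := sgm (Equiv.swap p.o1 p.o2) (pe p a) with hcdef
      have h1 : (Sum.inl p.o0 : Fin m ⊕ Fin m) ≠ ng c := by
        intro h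
        have := congrArg ab h
        rw [ab_ng, hc] at this
        exact p.h02 this
      have h2 : (Sum.inl p.o1 : Fin m ⊕ Fin m) ≠ c := by
        intro h
        have := congrArg ab h
        rw [hc] at this
        exact p.h12 this
      have h := S₀.comm_ls c (Sum.inl p.o0) (Sum.inl p.o1) hne01 (hnn _ _) h1 h2 ξ 1
      rw [h₀s, h₀l] at h
      exact h.symm
  · -- d4
    intro x hx
    obtain ⟨hx0, hx1, hx2⟩ := p.h3 x hx
    rw [glom15_lam_uA C C₂ p S₂ h₂s, glom15_lamC_uA C C₂ p S₂ h₂s]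
    have e0 : (Equiv.swap p.o0 p.o2 * Equiv.swap p.o1 x) p.o0 = p.o2 := by
      rw [Equiv.Perm.mul_apply, Equiv.swap_apply_of_ne_of_ne p.h01 hx0.symm, Equiv.swap_apply_left]
    have e1 : (Equiv.swap p.o0 p.o2 * Equiv.swap p.o1 x) p.o1 = x := by
      rw [Equiv.Perm.mul_apply, Equiv.swap_apply_left, Equiv.swap_apply_of_ne_of_ne hx0 hx2]
    rw [e0, e1]
    have h := S₀.comm_ss (Sum.inl p.o0) (Sum.inl p.o1) (Sum.inl p.o2) (Sum.inl x) hne01 (hnn _ _)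
      (fun h => hx2 (Sum.inl.inj h).symm) (hnn _ _) hne12 (fun h => hx0 (Sum.inl.inj h).symm) (hnn _ _) (hnn _ _) 1 1
    rw [h₀s, h₀s] at h
    exact h
  · -- c1
    rw [glom15_lam_uA C C₂ p S₂ h₂s, glom15_lamC_uA C C₂ p S₂ h₂s, glom15_lamC_uA C C₂ p S₂ h₂s]
    have e0 : (Equiv.swap p.o0 p.o1 * Equiv.swap p.o1 p.o2) p.o0 = p.o1 := by
      rw [Equiv.Perm.mul_apply, Equiv.swap_apply_of_ne_of_ne p.h01 p.h02, Equiv.swap_apply_left]
    have e1 : (Equiv.swap p.o0 p.o1 * Equiv.swap p.o1 p.o2) p.o1 = p.o2 := by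
      rw [Equiv.Perm.mul_apply, Equiv.swap_apply_left, Equiv.swap_apply_of_ne_of_ne p.h02.symm p.h12.symm]
    rw [e0, e1, Equiv.swap_apply_of_ne_of_ne p.h01 p.h02, Equiv.swap_apply_left]
    have h := S₀.comm3 (Sum.inl p.o0) (Sum.inl p.o1) (Sum.inl p.o2) hne01 (hnn _ _) hne12 (hnn _ _) hne02 (hnn _ _) 1 1
    rw [h₀s, h₀s, h₀s, mul_one] at h
    exact h
  · -- c2
    rw [glom15_lam_uA C C₂ p S₂ h₂s, glom15_lamC_uA C C₂ p S₂ h₂s,
      Equiv.swap_apply_of_ne_of_ne p.h01 p.h02, Equiv.swap_apply_left]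
    have h := S₀.comm_ss (Sum.inl p.o0) (Sum.inl p.o1) (Sum.inl p.o0) (Sum.inl p.o2) hne01 (hnn _ _) hne02 (hnn _ _)
      hne01.symm hne02 (hnn _ _) (hnn _ _) 1 1
    rw [h₀s, h₀s] at h
    exact h

end M

end Cfsg.Agent.Lib.Helper20.GLO
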