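import Mathlib
import Cfsg.Agent.Lib.helper8.A7R.Defs
import Cfsg.Agent.Lib.helper8.SylowBasic
import Cfsg.Agent.Lib.helper8.SylowConj
import Cfsg.Agent.Lib.helper8.SubgroupCard
import Cfsg.Agent.Lib.helper8.Burnside

set_option autoImplicit false
set_option linter.style.haveILetI false
set_option linter.unusedVariables false

/-!
# Project A7R, row B07 (`centP`): Sylow 3-subgroups of a simple group of order 2520 without subgroups of index 7
are self-centralizing.
-/

namespace Cfsg.Agent.Lib.helper8.A7R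

open Subgroup

universe u

variable {G : Type u} [Group G]

/-- the order of the normalizer of a Sylow 3-subgroup -/
theorem a7rb07_cardN (hS : Std G) (h2 : St2 G) (P : Sylow 3 G) :
    Nat.card (Nz (P : Subgroup G)) = 36 := by
  haveI := hS.finite
  haveI : Fact (Nat.Prime 3) := ⟨by norm_num⟩
  have h := Cfsg.Agent.Lib.helper8.h8_card_normalizer_sylow 3 P
  rw [h2.syl3, hS.card] at h
  unfold Nz
  omega

/-- the order of a Sylow 3-subgroup -/
theorem a7rb07_cardP (hS : Std G) (P : Sylow 3 G) : Nat.card (P : Subgroup G) = 9 := by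
  haveI := hS.finite
  haveI : Fact (Nat.Prime 3) := ⟨by norm_num⟩
  have h := Cfsg.Agent.Lib.helper8.h8_sylow_card 3 2 280 (by rw [hS.card]; norm_num) (by norm_num) P
  simpa using h

/-- a Sylow 3-subgroup is abelian, so it lies in its centralizer -/
theorem a7rb07_le_cs (hS : Std G) (P : Sylow 3 G) : (P : Subgroup G) ≤ Cs (P : Subgroup G) := by
  haveI : Fact (Nat.Prime 3) := ⟨by norm_num⟩
  have hab := Cfsg.Agent.Lib.helper8.h8_comm_of_card_prime_sq 3 (P : Subgroup G)
    (by rw [a7rb07_cardP hS P]; norm_num)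
  intro x hx
  rw [Subgroup.mem_centralizer_iff]
  intro y hy
  exact hab y hy x hx

/-- if `C(P)` has order 18 it has a unique involution -/
theorem a7rb07_unique_inv (hS : Std G) (P : Sylow 3 G) (h18 : Nat.card (Cs (P : Subgroup G)) = 18)
    (i j : G) (hi : i ∈ Cs (P : Subgroup G)) (hj : j ∈ Cs (P : Subgroup G))
    (hi2 : orderOf i = 2) (hj2 : orderOf j = 2) : j = i := by
  haveI := hS.finite
  have hle := a7rb07_le_cs hS P
  have hcP := a7rb07_cardP hS P
  -- `P` has index 2 in `C(P)`
  have hidx : ((P : Subgroup G).subgroupOf (Cs (P : Subgroup G))).index = 2 := by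
    have h := Cfsg.Agent.Lib.helper8.h8_card_mul_relIndex hle
    rw [hcP, h18] at h
    unfold Subgroup.relIndex at h
    omega
  have hnot : ∀ t : G, orderOf t = 2 → t ∉ (P : Subgroup G) := by
    intro t ht htP
    have h1 : orderOf t ∣ Nat.card (P : Subgroup G) := by
      have := orderOf_dvd_natCard (⟨t, htP⟩ : (P : Subgroup G))
      rwa [Subgroup.orderOf_mk] at this
    rw [ht, hcP] at h1
    omega
  have hmul := Subgroup.mul_mem_iff_of_index_two hidx
    (a := (⟨i, hi⟩ : Cs (P : Subgroup G))) (b := (⟨j, hj⟩ : Cs (P : Subgroup G)))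
  have hx : i * j ∈ (P : Subgroup G) := by
    have h1 : (⟨i, hi⟩ : Cs (P : Subgroup G)) * ⟨j, hj⟩ ∈
        (P : Subgroup G).subgroupOf (Cs (P : Subgroup G)) := by
      rw [hmul]
      constructor
      · intro h; exact absurd (Subgroup.mem_subgroupOf.mp h) (hnot i hi2)
      · intro h; exact absurd (Subgroup.mem_subgroupOf.mp h) (hnot j hj2)
    exact Subgroup.mem_subgroupOf.mp h1
  -- `i` commutes with `x = i j`
  have hcomm : (i * j) * i = i * (i * j) := by
    have := (Subgroup.mem_centralizer_iff.mp hi) (i * j) hx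
    exact this
  have hii : i * i = 1 := by
    have := pow_orderOf_eq_one i
    rw [hi2, pow_two] at this
    exact this
  have hjj : j * j = 1 := by
    have := pow_orderOf_eq_one j
    rw [hj2, pow_two] at this
    exact this
  -- `(i j)^2 = 1`
  have hji : j * i = i * j := by
    have h1 : i * (j * i) = i * (i * j) := by rw [← mul_assoc]; exact hcomm
    exact mul_left_cancel h1
  have hsq : (i * j) ^ 2 = 1 := by
    rw [pow_two]
    calc i * j * (i * j) = i * (j * i) * j := by group
      _ = i * (i * j) * j := by rw [hji]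
      _ = (i * i) * (j * j) := by group
      _ = 1 := by rw [hii, hjj, one_mul]
  have hord : orderOf (i * j) ∣ 2 := orderOf_dvd_of_pow_eq_one hsq
  have hord9 : orderOf (i * j) ∣ 9 := by
    have := orderOf_dvd_natCard (⟨i * j, hx⟩ : (P : Subgroup G))
    rw [Subgroup.orderOf_mk, hcP] at this
    exact this
  have hone : orderOf (i * j) = 1 := by
    have h3 : orderOf (i * j) ∣ Nat.gcd 2 9 := Nat.dvd_gcd hord hord9
    have : Nat.gcd 2 9 = 1 := by norm_num
    rw [this] at h3
    exact Nat.dvd_one.mp h3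
  have hij : i * j = 1 := orderOf_eq_one_iff.mp hone
  have : j = i⁻¹ := by
    rw [eq_inv_iff_mul_eq_one, hji]; exact hij
  rw [this]
  exact inv_eq_of_mul_eq_one_right hii

/-- `N(P)` normalizes `C(P)` -/
theorem a7rb07_conj_mem_cs (P : Sylow 3 G) (g c : G) (hg : g ∈ Nz (P : Subgroup G))
    (hc : c ∈ Cs (P : Subgroup G)) : g * c * g⁻¹ ∈ Cs (P : Subgroup G) := by
  rw [Subgroup.mem_centralizer_iff]
  intro h hh
  have hg' : g⁻¹ ∈ Nz (P : Subgroup G) := inv_mem hg
  have h1 : g⁻¹ * h * g ∈ (P : Subgroup G) := by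
    have := (Subgroup.mem_normalizer_iff.mp hg' h).mp hh
    simpa using this
  have h2 := (Subgroup.mem_centralizer_iff.mp hc) (g⁻¹ * h * g) h1
  calc h * (g * c * g⁻¹) = g * ((g⁻¹ * h * g) * c) * g⁻¹ := by group
    _ = g * (c * (g⁻¹ * h * g)) * g⁻¹ := by rw [h2]
    _ = g * c * g⁻¹ * h := by group

/-- the Sylow count in a subgroup `M` containing `N(P)`: `|M| = 36 m` with `m ≡ 1 mod 3` -/
theorem a7rb07_sylow_in (hS : Std G) (h2 : St2 G) (P : Sylow 3 G) (M : Subgroup G)
    (hNM : Nz (P : Subgroup G) ≤ M) :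
    ∃ m : ℕ, Nat.card M = 36 * m ∧ m % 3 = 1 := by
  haveI := hS.finite
  haveI : Fact (Nat.Prime 3) := ⟨by norm_num⟩
  have hPM : (P : Subgroup G) ≤ M := le_trans Subgroup.le_normalizer hNM
  refine ⟨(Nz (P : Subgroup G)).relIndex M, ?_, ?_⟩
  · have h := Cfsg.Agent.Lib.helper8.h8_card_mul_relIndex hNM
    rw [a7rb07_cardN hS h2 P] at h
    exact h.symm
  · have h1 := (P.subtype hPM).card_eq_index_normalizer
    have h1' : Nat.card (Sylow 3 M) =
        (normalizer (((P : Subgroup G).subgroupOf M : Subgroup M) : Set M)).index := h1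
    rw [← Subgroup.subgroupOf_normalizer_eq hPM] at h1'
    have h1 : Nat.card (Sylow 3 M) = (Nz (P : Subgroup G)).relIndex M := h1'
    have h3 := Cfsg.Agent.Lib.helper8.h8_nsylow_mod (G := M) 3
    rw [h1] at h3
    exact h3

/-- B07 [L]: `C(P) = P`. -/
theorem centP (hS : Std G) (h1 : St1 G) (h2 : St2 G) (hinv : InvC8 G) (P : Sylow 3 G) :
    Cs (P : Subgroup G) = (P : Subgroup G) := by
  haveI := hS.finite
  haveI := hS.simple
  haveI : Fact (Nat.Prime 3) := ⟨by norm_num⟩
  haveI : Fact (Nat.Prime 2) := ⟨by norm_num⟩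
  have hle := a7rb07_le_cs hS P
  have hcP := a7rb07_cardP hS P
  have hcN := a7rb07_cardN hS h2 P
  have hCN : Cs (P : Subgroup G) ≤ Nz (P : Subgroup G) := Subgroup.centralizer_le_normalizer _
  have hd1 : 9 ∣ Nat.card (Cs (P : Subgroup G)) := by
    rw [← hcP]; exact Subgroup.card_dvd_of_le hle
  have hd2 : Nat.card (Cs (P : Subgroup G)) ∣ 36 := by
    rw [← hcN]; exact Subgroup.card_dvd_of_le hCN
  have hcases : Nat.card (Cs (P : Subgroup G)) = 9 ∨ Nat.card (Cs (P : Subgroup G)) = 18 ∨
      Nat.card (Cs (P : Subgroup G)) = 36 := by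
    obtain ⟨k, hk⟩ := hd1
    rw [hk] at hd2 ⊢
    have hk4 : k ∣ 4 := by
      have : 9 * k ∣ 9 * 4 := hd2
      exact Nat.dvd_of_mul_dvd_mul_left (by norm_num) this
    have hk' : k ∈ Nat.divisors 4 := Nat.mem_divisors.mpr ⟨hk4, by norm_num⟩
    have hdiv : Nat.divisors 4 = {1, 2, 4} := by decide
    rw [hdiv] at hk'
    simp only [Finset.mem_insert, Finset.mem_singleton] at hk'
    rcases hk' with rfl | rfl | rfl <;> simp
  rcases hcases with h9 | h18 | h36
  · -- `|C(P)| = 9`
    symm
    apply Subgroup.eq_of_le_of_card_ge hle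
    rw [h9, hcP]
  · -- `|C(P)| = 18`
    exfalso
    obtain ⟨i0, hi0⟩ := exists_prime_orderOf_dvd_card' (G := Cs (P : Subgroup G)) 2
      (by rw [h18]; norm_num)
    set i : G := (i0 : G) with hidef
    have hi : i ∈ Cs (P : Subgroup G) := i0.2
    have hi2 : orderOf i = 2 := by
      rw [hidef, Subgroup.orderOf_coe]; exact hi0
    -- `N(P) ≤ C(i)`
    have hNC : Nz (P : Subgroup G) ≤ Cz i := by
      intro g hg
      have hc := a7rb07_conj_mem_cs P g i hg hi
      have ho : orderOf (g * i * g⁻¹) = 2 := by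
        have := Cfsg.Agent.Lib.helper8.h8_orderOf_conj g⁻¹ i
        rw [inv_inv] at this
        rw [this, hi2]
      have heq := a7rb07_unique_inv hS P h18 i (g * i * g⁻¹) hi hc hi2 ho
      rw [Subgroup.mem_centralizer_iff]
      intro y hy
      rw [Set.mem_singleton_iff] at hy
      rw [hy]
      calc i * g = (g * i * g⁻¹) * g := by rw [heq]
        _ = g * i := by group
    obtain ⟨m, hm, hm3⟩ := a7rb07_sylow_in hS h2 P (Cz i) hNC
    have h8 : 8 ∣ Nat.card (Cz i) := hinv i hi2
    have hdvd : Nat.card (Cz i) ∣ 2520 := by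
      rw [← hS.card]; exact Subgroup.card_subgroup_dvd_card _
    rw [hm] at h8 hdvd
    have hm70 : m ∣ 70 := by
      have : 36 * m ∣ 36 * 70 := hdvd
      exact Nat.dvd_of_mul_dvd_mul_left (by norm_num) this
    have hm' : m ∈ Nat.divisors 70 := Nat.mem_divisors.mpr ⟨hm70, by norm_num⟩
    have hdiv : Nat.divisors 70 = {1, 2, 5, 7, 10, 14, 35, 70} := by decide
    rw [hdiv] at hm'
    simp only [Finset.mem_insert, Finset.mem_singleton] at hm'
    have hm10 : m = 10 ∨ m = 70 := by
      rcases hm' with rfl | rfl | rfl | rfl | rfl | rfl | rfl | rfl <;> omega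
    rcases hm10 with rfl | rfl
    · -- index 7
      apply hS.no7 (Cz i)
      have := (Cz i).card_mul_index
      rw [hm, hS.card] at this
      omega
    · -- `i` is central
      have htop : Cz i = ⊤ := by
        apply Subgroup.eq_top_of_card_eq
        rw [hm, hS.card]
      have hcen : ∀ g : G, g * i = i * g := by
        intro g
        have hg : g ∈ Cz i := by rw [htop]; trivial
        have := (Subgroup.mem_centralizer_iff.mp hg) i (Set.mem_singleton i)
        exact this.symm
      haveI : (Subgroup.zpowers i).Normal := by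
        constructor
        intro n hn g
        obtain ⟨k, rfl⟩ := Subgroup.mem_zpowers_iff.mp hn
        have : g * i ^ k * g⁻¹ = i ^ k := by
          have hc : Commute g (i ^ k) := (show Commute g i from hcen g).zpow_right k
          rw [hc.eq, mul_assoc, mul_inv_cancel, mul_one]
        rw [this]
        exact hn
      have hz := Cfsg.Agent.Lib.helper8.h8_simple_card_normal (Subgroup.zpowers i)
      rw [Nat.card_zpowers, hi2, hS.card] at hz
      omega
  · -- `|C(P)| = 36`: Burnside
    exfalso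
    have heq : Cs (P : Subgroup G) = Nz (P : Subgroup G) := by
      apply Subgroup.eq_of_le_of_card_ge hCN
      rw [h36, hcN]
    apply Cfsg.Agent.Lib.helper8.h8_simple_not_normalizer_le_centralizer 3 2 280
      (by rw [hS.card]; norm_num) (by norm_num) (by norm_num) (by norm_num) P
    show Nz (P : Subgroup G) ≤ Cs (P : Subgroup G)
    rw [heq]

end Cfsg.Agent.Lib.helper8.A7R
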