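import Mathlib
import Cfsg.Agent.Lib.helper8.A7R.Defs
import Cfsg.Agent.Lib.helper8.SylowBasic
import Cfsg.Agent.Lib.helper8.SylowConj
import Cfsg.Agent.Lib.helper8.SubgroupCard
import Cfsg.Agent.Lib.helper8.CountOrder

set_option autoImplicit false
set_option linter.style.haveILetI false
set_option linter.unusedVariables false

/-!
# Project A7R, row B09c (`klein_count`): the counting contradiction in the Klein case.
-/

namespace Cfsg.Agent.Lib.helper8.A7R

open Subgroup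

universe u

variable {G : Type u} [Group G]

/-- the data attached to one of the two special subgroups of order 3 of a Sylow 3-subgroup -/
structure A7rb09cKD (P : Sylow 3 G) (u y w : G) : Prop where
  uN : u ∈ Nz (P : Subgroup G)
  u2 : orderOf u = 2
  yP : y ∈ (P : Subgroup G)
  wP : w ∈ (P : Subgroup G)
  y3 : orderOf y = 3
  w3 : orderOf w = 3
  wy : w ∉ Subgroup.zpowers y
  uy : u * y = y * u
  nz : Nz (Subgroup.zpowers y) = Nz (P : Subgroup G)

theorem a7rb09c_cardP (hS : Std G) (P : Sylow 3 G) : Nat.card (P : Subgroup G) = 9 := by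
  haveI := hS.finite
  haveI : Fact (Nat.Prime 3) := ⟨by norm_num⟩
  have h := Cfsg.Agent.Lib.helper8.h8_sylow_card 3 2 280 (by rw [hS.card]; norm_num) (by norm_num) P
  simpa using h

theorem a7rb09c_comm (hS : Std G) (P : Sylow 3 G) (a b : G) (ha : a ∈ (P : Subgroup G))
    (hb : b ∈ (P : Subgroup G)) : a * b = b * a := by
  haveI : Fact (Nat.Prime 3) := ⟨by norm_num⟩
  exact Cfsg.Agent.Lib.helper8.h8_comm_of_card_prime_sq 3 (P : Subgroup G)
    (by rw [a7rb09c_cardP hS P]; norm_num) a ha b hb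

theorem a7rb09c_mem_cz (u y : G) : y ∈ Cz u ↔ u * y = y * u := by
  unfold Cz
  rw [Subgroup.mem_centralizer_iff]
  constructor
  · intro h; exact h u (Set.mem_singleton u)
  · intro h z hz
    rw [Set.mem_singleton_iff] at hz
    rw [hz]; exact h

/-- `u` does not centralize `w` -/
theorem a7rb09c_not_comm (hS : Std G)
    (hc : ∀ P : Sylow 3 G, Cs (P : Subgroup G) = (P : Subgroup G))
    (P : Sylow 3 G) (u y w : G) (h : A7rb09cKD P u y w) : u * w ≠ w * u := by
  haveI := hS.finite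
  intro huw
  -- `P ⊓ C(u)` contains `y` and `w`
  have hcP := a7rb09c_cardP hS P
  set D : Subgroup G := (P : Subgroup G) ⊓ Cz u with hD
  have hyD : y ∈ D := Subgroup.mem_inf.mpr ⟨h.yP, (a7rb09c_mem_cz u y).mpr h.uy⟩
  have hwD : w ∈ D := Subgroup.mem_inf.mpr ⟨h.wP, (a7rb09c_mem_cz u w).mpr huw⟩
  have hDP : D ≤ (P : Subgroup G) := inf_le_left
  have hzy : Subgroup.zpowers y ≤ D := by rw [Subgroup.zpowers_le]; exact hyD
  have hlt : Nat.card (Subgroup.zpowers y) < Nat.card D :=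
    Cfsg.Agent.Lib.helper8.h8_card_lt_of_lt _ _ hzy w hwD h.wy
  rw [Nat.card_zpowers, h.y3] at hlt
  have hdvd : Nat.card D ∣ 9 := by rw [← hcP]; exact Subgroup.card_dvd_of_le hDP
  have hD9 : Nat.card D = 9 := by
    have hmem : Nat.card D ∈ Nat.divisors 9 := Nat.mem_divisors.mpr ⟨hdvd, by norm_num⟩
    have hdiv : Nat.divisors 9 = {1, 3, 9} := by decide
    rw [hdiv] at hmem
    simp only [Finset.mem_insert, Finset.mem_singleton] at hmem
    rcases hmem with h1 | h1 | h1 <;> omega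
  have hDeq : D = (P : Subgroup G) := by
    apply Subgroup.eq_of_le_of_card_ge hDP
    rw [hD9, hcP]
  have huC : u ∈ Cs (P : Subgroup G) := by
    rw [Subgroup.mem_centralizer_iff]
    intro z hz
    rw [← hDeq] at hz
    have := (a7rb09c_mem_cz u z).mp (Subgroup.mem_inf.mp hz).2
    exact this.symm
  rw [hc P] at huC
  have hord : orderOf u ∣ 9 := by
    have := orderOf_dvd_natCard (⟨u, huC⟩ : (P : Subgroup G))
    rwa [Subgroup.orderOf_mk, hcP] at this
  rw [h.u2] at hord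
  omega

/-- the elements of order 6 attached to the data `(u, y, w)` -/
def a7rb09c_elt (u y w : G) (e : Fin 2) (j : Fin 3) : G :=
  w ^ (j : ℕ) * (u * y ^ ((e : ℕ) + 1)) * (w ^ (j : ℕ))⁻¹

theorem a7rb09c_base_order (u y : G) (hu : orderOf u = 2) (hy : orderOf y = 3) (huy : u * y = y * u)
    (k : ℕ) (hk : Nat.Coprime 3 k) : orderOf (u * y ^ k) = 6 := by
  have h1 : orderOf (y ^ k) = 3 := by
    rw [Nat.Coprime.orderOf_pow (by rw [hy]; exact hk), hy]
  have hc : Commute u (y ^ k) := (show Commute u y from huy).pow_right k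
  rw [hc.orderOf_mul_eq_mul_orderOf_of_coprime (by rw [hu, h1]; norm_num), hu, h1]

theorem a7rb09c_base_sq (u y : G) (hu : orderOf u = 2) (huy : u * y = y * u) (k : ℕ) :
    (u * y ^ k) ^ 2 = y ^ (2 * k) := by
  have hc : Commute u (y ^ k) := (show Commute u y from huy).pow_right k
  rw [hc.mul_pow, ← hu, pow_orderOf_eq_one, one_mul, ← pow_mul, mul_comm]

theorem a7rb09c_base_cube (u y : G) (hu : orderOf u = 2) (hy : orderOf y = 3) (huy : u * y = y * u) (k : ℕ) :
    (u * y ^ k) ^ 3 = u := by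
  have hc : Commute u (y ^ k) := (show Commute u y from huy).pow_right k
  have h1 : u ^ 3 = u := by
    have : u ^ 2 = 1 := by rw [← hu]; exact pow_orderOf_eq_one u
    rw [pow_succ, this, one_mul]
  have h2 : (y ^ k) ^ 3 = 1 := by
    rw [← pow_mul, mul_comm, pow_mul, ← hy, pow_orderOf_eq_one, one_pow]
  rw [hc.mul_pow, h1, h2, mul_one]

theorem a7rb09c_elt_order (hS : Std G) (P : Sylow 3 G) (u y w : G) (h : A7rb09cKD P u y w)
    (e : Fin 2) (j : Fin 3) : orderOf (a7rb09c_elt u y w e j) = 6 := by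
  unfold a7rb09c_elt
  have h1 := Cfsg.Agent.Lib.helper8.h8_orderOf_conj (w ^ (j : ℕ))⁻¹ (u * y ^ ((e : ℕ) + 1))
  rw [inv_inv] at h1
  rw [h1]
  apply a7rb09c_base_order u y h.u2 h.y3 h.uy
  have : (e : ℕ) = 0 ∨ (e : ℕ) = 1 := by omega
  rcases this with h0 | h0 <;> rw [h0] <;> norm_num

theorem a7rb09c_elt_sq (hS : Std G) (P : Sylow 3 G) (u y w : G) (h : A7rb09cKD P u y w)
    (e : Fin 2) (j : Fin 3) : (a7rb09c_elt u y w e j) ^ 2 = y ^ (2 * ((e : ℕ) + 1)) := by
  unfold a7rb09c_elt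
  rw [conj_pow, a7rb09c_base_sq u y h.u2 h.uy]
  have hcomm : w ^ (j : ℕ) * y ^ (2 * ((e : ℕ) + 1)) = y ^ (2 * ((e : ℕ) + 1)) * w ^ (j : ℕ) :=
    a7rb09c_comm hS P _ _ (pow_mem h.wP _) (pow_mem h.yP _)
  rw [hcomm, mul_assoc, mul_inv_cancel, mul_one]

theorem a7rb09c_elt_cube (hS : Std G) (P : Sylow 3 G) (u y w : G) (h : A7rb09cKD P u y w)
    (e : Fin 2) (j : Fin 3) :
    (a7rb09c_elt u y w e j) ^ 3 = w ^ (j : ℕ) * u * (w ^ (j : ℕ))⁻¹ := by
  unfold a7rb09c_elt
  rw [conj_pow, a7rb09c_base_cube u y h.u2 h.y3 h.uy]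

theorem a7rb09c_zpowers_pow (y : G) [Finite G] (hy : orderOf y = 3) (k : ℕ) (hk : Nat.Coprime 3 k) :
    Subgroup.zpowers (y ^ k) = Subgroup.zpowers y := by
  apply Subgroup.eq_of_le_of_card_ge
  · rw [Subgroup.zpowers_le]; exact pow_mem (Subgroup.mem_zpowers y) k
  · rw [Nat.card_zpowers, Nat.card_zpowers, Nat.Coprime.orderOf_pow (by rw [hy]; exact hk)]

/-- a Sylow 3-subgroup is determined by its normalizer -/
theorem a7rb09c_sylow_of_nz (hS : Std G) (P1 P2 : Sylow 3 G)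
    (h : Nz (P1 : Subgroup G) = Nz (P2 : Subgroup G)) : P1 = P2 := by
  haveI := hS.finite
  haveI : Fact (Nat.Prime 3) := ⟨by norm_num⟩
  have hle : (P1 : Subgroup G) ≤ Nz (P2 : Subgroup G) := by
    rw [← h]; exact Subgroup.le_normalizer
  have h1 := Cfsg.Agent.Lib.helper8.h8_le_sylow_of_le_normalizer 3 P2 (P1 : Subgroup G) P1.2 hle
  exact Cfsg.Agent.Lib.helper8.h8_sylow_eq_of_le 3 P1 P2 h1

/-- the exponent `j` is determined by the cube -/
theorem a7rb09c_j_inj (u w : G) (hw : orderOf w = 3) (hne : u * w ≠ w * u) (j1 j2 : Fin 3)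
    (h : w ^ (j1 : ℕ) * u * (w ^ (j1 : ℕ))⁻¹ = w ^ (j2 : ℕ) * u * (w ^ (j2 : ℕ))⁻¹) : j1 = j2 := by
  have hw3 : w ^ 3 = 1 := by rw [← hw]; exact pow_orderOf_eq_one w
  have c1 : w * u * w⁻¹ = u → False := by
    intro h1
    apply hne
    have := mul_inv_eq_iff_eq_mul.mp h1
    exact this.symm
  have c2 : w ^ 2 * u * (w ^ 2)⁻¹ = u → False := by
    intro h1
    apply hne
    have h2 : w ^ 2 * u = u * w ^ 2 := mul_inv_eq_iff_eq_mul.mp h1
    have hc : Commute u (w ^ 2) := h2.symm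
    have hc2 : Commute u ((w ^ 2) ^ 2) := hc.pow_right 2
    have : (w ^ 2) ^ 2 = w := by
      rw [← pow_mul]
      show w ^ 4 = w
      rw [show 4 = 3 + 1 from rfl, pow_add, hw3, one_mul, pow_one]
    rw [this] at hc2
    exact hc2
  fin_cases j1 <;> fin_cases j2 <;> simp at h ⊢
  · exact c1 h.symm
  · exact c2 h.symm
  · exact c1 h
  · -- `w u w⁻¹ = w² u w⁻²`
    have : u = w * u * w⁻¹ := by
      calc u = w⁻¹ * (w * u * w⁻¹) * w := by group
        _ = w⁻¹ * (w ^ 2 * u * (w ^ 2)⁻¹) * w := by rw [h]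
        _ = w * u * w⁻¹ := by group
    exact c1 this.symm
  · exact c2 h
  · have : u = w * u * w⁻¹ := by
      calc u = w⁻¹ * (w * u * w⁻¹) * w := by group
        _ = w⁻¹ * (w ^ 2 * u * (w ^ 2)⁻¹) * w := by rw [h]
        _ = w * u * w⁻¹ := by group
    exact c1 this.symm

/-- the hypothesis `hK` of the row, packaged -/
def A7rb09cHK (G : Type u) [Group G] : Prop :=
  ∀ P : Sylow 3 G, ∃ a b x x' : G, a ∈ Nz (P : Subgroup G) ∧ b ∈ Nz (P : Subgroup G) ∧ orderOf a = 2 ∧ orderOf b = 2 ∧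
      x ∈ (P : Subgroup G) ∧ x' ∈ (P : Subgroup G) ∧ orderOf x = 3 ∧ orderOf x' = 3 ∧ x' ∉ Subgroup.zpowers x ∧
      a * x = x * a ∧ b * x' = x' * b ∧
      Nz (Subgroup.zpowers x) = Nz (P : Subgroup G) ∧ Nz (Subgroup.zpowers x') = Nz (P : Subgroup G) ∧
      Nat.card (Cz a) = 120

/-- the two triples of data of a Sylow 3-subgroup -/
theorem a7rb09c_data (hS : Std G) (hK : A7rb09cHK G) (P : Sylow 3 G) :
    ∃ t : Fin 2 → G × G × G, (∀ s, A7rb09cKD P (t s).1 (t s).2.1 (t s).2.2) ∧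
      Subgroup.zpowers (t 0).2.1 ≠ Subgroup.zpowers (t 1).2.1 := by
  haveI := hS.finite
  obtain ⟨a, b, x, x', ha, hb, ha2, hb2, hx, hx', hx3, hx'3, hne, hax, hbx', hnx, hnx', -⟩ := hK P
  have hne' : x ∉ Subgroup.zpowers x' := by
    intro hmem
    apply hne
    have hle : Subgroup.zpowers x ≤ Subgroup.zpowers x' := by rw [Subgroup.zpowers_le]; exact hmem
    have heq : Subgroup.zpowers x = Subgroup.zpowers x' := by
      apply Subgroup.eq_of_le_of_card_ge hle
      rw [Nat.card_zpowers, Nat.card_zpowers, hx3, hx'3]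
    rw [heq]; exact Subgroup.mem_zpowers x'
  refine ⟨![(a, x, x'), (b, x', x)], ?_, ?_⟩
  · intro s
    fin_cases s
    · exact ⟨ha, ha2, hx, hx', hx3, hx'3, hne, hax, hnx⟩
    · exact ⟨hb, hb2, hx', hx, hx'3, hx3, hne', hbx', hnx'⟩
  · intro heq
    apply hne
    show x' ∈ Subgroup.zpowers x
    have h1 : Subgroup.zpowers x = Subgroup.zpowers x' := heq
    rw [h1]; exact Subgroup.mem_zpowers x'

/-- at least 840 elements of order 6 -/
theorem a7rb09c_cnt6 (hS : Std G)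
    (hc : ∀ P : Sylow 3 G, Cs (P : Subgroup G) = (P : Subgroup G))
    (h2 : St2 G) (hK : A7rb09cHK G) : 840 ≤ cnt G 6 := by
  haveI := hS.finite
  choose t ht htne using a7rb09c_data hS hK
  let Φ : Sylow 3 G × Fin 2 × Fin 2 × Fin 3 → {g : G // orderOf g = 6} := fun q =>
    ⟨a7rb09c_elt (t q.1 q.2.1).1 (t q.1 q.2.1).2.1 (t q.1 q.2.1).2.2 q.2.2.1 q.2.2.2,
      a7rb09c_elt_order hS q.1 _ _ _ (ht q.1 q.2.1) _ _⟩
  have hinj : Function.Injective Φ := by
    rintro ⟨P1, s1, e1, j1⟩ ⟨P2, s2, e2, j2⟩ hΦ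
    have hg : a7rb09c_elt (t P1 s1).1 (t P1 s1).2.1 (t P1 s1).2.2 e1 j1 =
        a7rb09c_elt (t P2 s2).1 (t P2 s2).2.1 (t P2 s2).2.2 e2 j2 := congrArg Subtype.val hΦ
    have hk1 := ht P1 s1
    have hk2 := ht P2 s2
    have hcop : ∀ e : Fin 2, Nat.Coprime 3 (2 * ((e : ℕ) + 1)) := by
      intro e
      have : (e : ℕ) = 0 ∨ (e : ℕ) = 1 := by omega
      rcases this with h0 | h0 <;> rw [h0] <;> norm_num
    -- squares
    have hsq : (t P1 s1).2.1 ^ (2 * ((e1 : ℕ) + 1)) = (t P2 s2).2.1 ^ (2 * ((e2 : ℕ) + 1)) := by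
      rw [← a7rb09c_elt_sq hS P1 _ _ _ hk1 e1 j1, ← a7rb09c_elt_sq hS P2 _ _ _ hk2 e2 j2, hg]
    have hz : Subgroup.zpowers (t P1 s1).2.1 = Subgroup.zpowers (t P2 s2).2.1 := by
      rw [← a7rb09c_zpowers_pow _ hk1.y3 _ (hcop e1), ← a7rb09c_zpowers_pow _ hk2.y3 _ (hcop e2), hsq]
    have hP : P1 = P2 := by
      apply a7rb09c_sylow_of_nz hS
      rw [← hk1.nz, ← hk2.nz, hz]
    subst hP
    have hs : s1 = s2 := by
      by_contra hne
      have : (s1 = 0 ∧ s2 = 1) ∨ (s1 = 1 ∧ s2 = 0) := by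
        fin_cases s1 <;> fin_cases s2 <;> simp at hne ⊢
      rcases this with ⟨h1, h2'⟩ | ⟨h1, h2'⟩
      · rw [h1, h2'] at hz; exact htne P1 hz
      · rw [h1, h2'] at hz; exact htne P1 hz.symm
    subst hs
    have he : e1 = e2 := by
      by_contra hne
      have hy3 := hk1.y3
      have hy1 : (t P1 s1).2.1 ^ 3 = 1 := by rw [← hy3]; exact pow_orderOf_eq_one _
      have : (t P1 s1).2.1 ^ 2 = (t P1 s1).2.1 ^ 4 := by
        fin_cases e1 <;> fin_cases e2 <;> simp at hne hsq ⊢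
        · exact hsq
        · exact hsq.symm
      have h4 : (t P1 s1).2.1 ^ 4 = (t P1 s1).2.1 := by
        rw [show 4 = 3 + 1 from rfl, pow_add, hy1, one_mul, pow_one]
      rw [h4] at this
      have h1 : (t P1 s1).2.1 = 1 := by
        have h5 : (t P1 s1).2.1 * (t P1 s1).2.1 = (t P1 s1).2.1 * 1 := by
          rw [mul_one, ← pow_two]; exact this
        exact mul_left_cancel h5
      rw [h1, orderOf_one] at hy3
      omega
    subst he
    have hj : j1 = j2 := by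
      apply a7rb09c_j_inj (t P1 s1).1 (t P1 s1).2.2 hk1.w3
        (a7rb09c_not_comm hS hc P1 _ _ _ hk1)
      rw [← a7rb09c_elt_cube hS P1 _ _ _ hk1 e1 j1, ← a7rb09c_elt_cube hS P1 _ _ _ hk1 e1 j2, hg]
    subst hj
    rfl
  have hcard := Nat.card_le_card_of_injective Φ hinj
  have hdom : Nat.card (Sylow 3 G × Fin 2 × Fin 2 × Fin 3) = 840 := by
    rw [Nat.card_prod, Nat.card_prod, Nat.card_prod, h2.syl3]
    simp
  rw [hdom] at hcard
  exact hcard

/-- every element of order 5 commutes with an involution -/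
theorem a7rb09c_inv_of_five (hS : Std G) (a : G) (ha2 : orderOf a = 2) (h120 : Nat.card (Cz a) = 120)
    (d : G) (hd : orderOf d = 5) : ∃ v : G, orderOf v = 2 ∧ v * d = d * v := by
  haveI := hS.finite
  haveI : Fact (Nat.Prime 5) := ⟨by norm_num⟩
  obtain ⟨c0, hc0⟩ := exists_prime_orderOf_dvd_card' (G := Cz a) 5 (by rw [h120]; norm_num)
  set c : G := (c0 : G) with hcdef
  have hc5 : orderOf c = 5 := by rw [hcdef, Subgroup.orderOf_coe]; exact hc0
  have hac : a * c = c * a := (a7rb09c_mem_cz a c).mp c0.2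
  -- a Sylow 5-subgroup containing `c`
  have hpc : IsPGroup 5 (Subgroup.zpowers c) := by
    apply IsPGroup.of_card (n := 1)
    rw [Nat.card_zpowers, hc5, pow_one]
  obtain ⟨S, hS5⟩ := hpc.exists_le_sylow
  have hcS : Nat.card (S : Subgroup G) = 5 := by
    have := Cfsg.Agent.Lib.helper8.h8_sylow_card 5 1 504 (by rw [hS.card]; norm_num) (by norm_num) S
    simpa using this
  have hSeq : Subgroup.zpowers c = (S : Subgroup G) := by
    apply Subgroup.eq_of_le_of_card_ge hS5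
    rw [hcS, Nat.card_zpowers, hc5]
  have hpd : IsPGroup 5 (Subgroup.zpowers d) := by
    apply IsPGroup.of_card (n := 1)
    rw [Nat.card_zpowers, hd, pow_one]
  obtain ⟨n, -, hn⟩ := Cfsg.Agent.Lib.helper8.h8_sylow_conj_in_subgroup 5 ⊤ S le_top
    (Subgroup.zpowers d) hpd le_top
  have hmem : n * d * n⁻¹ ∈ Subgroup.zpowers c := by
    rw [hSeq]; exact hn d (Subgroup.mem_zpowers d)
  obtain ⟨k, hk⟩ := Subgroup.mem_zpowers_iff.mp hmem
  have hcomm : a * (n * d * n⁻¹) = (n * d * n⁻¹) * a := by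
    rw [← hk]
    exact ((show Commute a c from hac).zpow_right k).eq
  refine ⟨n⁻¹ * a * n, ?_, ?_⟩
  · rw [Cfsg.Agent.Lib.helper8.h8_orderOf_conj n a, ha2]
  · calc n⁻¹ * a * n * d = n⁻¹ * (a * (n * d * n⁻¹)) * n := by group
      _ = n⁻¹ * ((n * d * n⁻¹) * a) * n := by rw [hcomm]
      _ = d * (n⁻¹ * a * n) := by group

/-- at least 504 elements of order 10 -/
theorem a7rb09c_cnt10 (hS : Std G) (h2 : St2 G) (a : G) (ha2 : orderOf a = 2)
    (h120 : Nat.card (Cz a) = 120) : 504 ≤ cnt G 10 := by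
  haveI := hS.finite
  have hex : ∀ d : {g : G // orderOf g = 5}, ∃ v : G, orderOf v = 2 ∧ v * (d : G) = (d : G) * v :=
    fun d => a7rb09c_inv_of_five hS a ha2 h120 d.1 d.2
  choose v hv2 hvd using hex
  have hord : ∀ d : {g : G // orderOf g = 5}, orderOf (v d * (d : G)) = 10 := by
    intro d
    have hc : Commute (v d) (d : G) := hvd d
    rw [hc.orderOf_mul_eq_mul_orderOf_of_coprime (by rw [hv2 d, d.2]; norm_num), hv2 d, d.2]
  let Ψ : {g : G // orderOf g = 5} → {g : G // orderOf g = 10} := fun d => ⟨v d * (d : G), hord d⟩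
  have hpow : ∀ d : {g : G // orderOf g = 5}, (v d * (d : G)) ^ 6 = (d : G) := by
    intro d
    have hc : Commute (v d) (d : G) := hvd d
    have h1 : (v d) ^ 6 = 1 := by
      have : (v d) ^ 2 = 1 := by rw [← hv2 d]; exact pow_orderOf_eq_one _
      rw [show 6 = 2 * 3 from rfl, pow_mul, this, one_pow]
    have h5 : (d : G) ^ 6 = (d : G) := by
      have : (d : G) ^ 5 = 1 := by
        have h := pow_orderOf_eq_one (d : G)
        rwa [d.2] at h
      rw [show 6 = 5 + 1 from rfl, pow_add, this, one_mul, pow_one]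
    rw [hc.mul_pow, h1, h5, one_mul]
  have hinj : Function.Injective Ψ := by
    intro d1 d2 h
    have h' : v d1 * (d1 : G) = v d2 * (d2 : G) := congrArg Subtype.val h
    apply Subtype.ext
    rw [← hpow d1, ← hpow d2, h']
  have hcard := Nat.card_le_card_of_injective Ψ hinj
  have h5 : Nat.card {g : G // orderOf g = 5} = 504 := h2.cnt5
  rw [h5] at hcard
  exact hcard

/-- B09c [L]: the Klein case, the count. -/
theorem klein_count (hS : Std G) (h1 : St1 G) (h2 : St2 G)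
    (hc : ∀ P : Sylow 3 G, Cs (P : Subgroup G) = (P : Subgroup G))
    (he : ∀ P : Sylow 3 G, ∀ x ∈ (P : Subgroup G), x ^ 3 = 1)
    (hK : ∀ P : Sylow 3 G, ∃ a b x x' : G, a ∈ Nz (P : Subgroup G) ∧ b ∈ Nz (P : Subgroup G) ∧ orderOf a = 2 ∧ orderOf b = 2 ∧
      x ∈ (P : Subgroup G) ∧ x' ∈ (P : Subgroup G) ∧ orderOf x = 3 ∧ orderOf x' = 3 ∧ x' ∉ Subgroup.zpowers x ∧
      a * x = x * a ∧ b * x' = x' * b ∧
      Nz (Subgroup.zpowers x) = Nz (P : Subgroup G) ∧ Nz (Subgroup.zpowers x') = Nz (P : Subgroup G) ∧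
      Nat.card (Cz a) = 120) : False := by
  haveI := hS.finite
  haveI : Fact (Nat.Prime 3) := ⟨by norm_num⟩
  have hK' : A7rb09cHK G := hK
  obtain ⟨P⟩ : Nonempty (Sylow 3 G) := inferInstance
  obtain ⟨a, b, x, x', -, -, ha2, -, -, -, -, -, -, -, -, -, -, h120⟩ := hK P
  have h6 := a7rb09c_cnt6 hS hc h2 hK'
  have h10 := a7rb09c_cnt10 hS h2 a ha2 h120
  have hsum := Cfsg.Agent.Lib.helper8.h8_sum_card_orderOf_le (G := G) ({5, 6, 7, 10} : Finset ℕ)
  rw [hS.card] at hsum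
  have h5 : Nat.card {g : G // orderOf g = 5} = 504 := h2.cnt5
  have h7 : Nat.card {g : G // orderOf g = 7} = 720 := h1.cnt7
  have h6' : 840 ≤ Nat.card {g : G // orderOf g = 6} := h6
  have h10' : 504 ≤ Nat.card {g : G // orderOf g = 10} := h10
  rw [Finset.sum_insert (by decide), Finset.sum_insert (by decide), Finset.sum_insert (by decide),
    Finset.sum_singleton] at hsum
  omega

end Cfsg.Agent.Lib.helper8.A7R
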