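import Mathlib
import Cfsg.Agent.Lib.helper8.A7R.Defs

set_option autoImplicit false
set_option linter.style.haveILetI false
set_option linter.unusedVariables false

/-!
# Project A7R, row H4 (`t_act`): the action of `t` on the hexagon of `j`-invariant Sylow 3-subgroups.
-/

namespace Cfsg.Agent.Lib.helper8.A7R

open Subgroup

universe u

variable {G : Type u} [Group G]

theorem a7rh4_conjS_mul (a b : G) (H : Subgroup G) : conjS a (conjS b H) = conjS (a * b) H := by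
  ext x
  rw [mem_conjS, mem_conjS, mem_conjS]
  have : b⁻¹ * (a⁻¹ * x * a) * b = (a * b)⁻¹ * x * (a * b) := by group
  rw [this]

theorem a7rh4_conjS_of_mem_nz (n : G) (H : Subgroup G) (hn : n ∈ Nz H) : conjS n H = H := by
  ext x
  rw [mem_conjS]
  have hn' : n⁻¹ ∈ Nz H := inv_mem hn
  have := Subgroup.mem_normalizer_iff.mp hn' x
  rw [inv_inv] at this
  exact this.symm

theorem a7rh4_mem_cz (u y : G) : y ∈ Cz u ↔ u * y = y * u := by
  unfold Cz
  rw [Subgroup.mem_centralizer_iff]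
  constructor
  · intro h; exact h u (Set.mem_singleton u)
  · intro h z hz
    rw [Set.mem_singleton_iff] at hz
    rw [hz]; exact h

theorem a7rh4_mem_zpowers_two (j x : G) (hj : orderOf j = 2) (hx : x ∈ Subgroup.zpowers j) :
    x = 1 ∨ x = j := by
  obtain ⟨i, rfl⟩ := Subgroup.mem_zpowers_iff.mp hx
  rw [← zpow_mod_orderOf, hj]
  have : i % ((2 : ℕ) : ℤ) = 0 ∨ i % ((2 : ℕ) : ℤ) = 1 := by omega
  rcases this with h | h <;> rw [h] <;> simp

theorem a7rh4_mem_zpowers_four (k x : G) (hk : orderOf k = 4) (hx : x ∈ Subgroup.zpowers k) :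
    x = 1 ∨ x = k ∨ x = k ^ 2 ∨ x = k ^ 3 := by
  obtain ⟨i, rfl⟩ := Subgroup.mem_zpowers_iff.mp hx
  rw [← zpow_mod_orderOf, hk]
  have : i % ((4 : ℕ) : ℤ) = 0 ∨ i % ((4 : ℕ) : ℤ) = 1 ∨ i % ((4 : ℕ) : ℤ) = 2 ∨
      i % ((4 : ℕ) : ℤ) = 3 := by omega
  rcases this with h | h | h | h <;> rw [h]
  · left; simp
  · right; left; simp
  · right; right; left; exact zpow_natCast k 2
  · right; right; right; exact zpow_natCast k 3

/-- `V` is abelian -/
theorem a7rh4_V_comm {k xj w : G} {V : Subgroup G} (hH : Hex k xj w V) (a b : G) (ha : a ∈ V) (hb : b ∈ V) :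
    a * b = b * a := by
  have h1 : a * a = 1 := by have := hH.V_exp a ha; rwa [pow_two] at this
  have h2 : b * b = 1 := by have := hH.V_exp b hb; rwa [pow_two] at this
  have h3 : (a * b) * (a * b) = 1 := by
    have := hH.V_exp (a * b) (mul_mem ha hb); rwa [pow_two] at this
  calc a * b = a * b * (b * a * (a * b)) := by
        rw [show b * a * (a * b) = b * (a * a) * b by group, h1, mul_one, h2, mul_one]
    _ = (a * b) * (b * a) * (a * b) := by group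
    _ = a * (b * b) * a * (a * b) := by group
    _ = a * b := by rw [h2, mul_one, h1, one_mul]
    _ = b * a * ((a * b) * (a * b)) := by rw [h3, mul_one]; exact (by
        calc a * b = (b * b) * (a * b) * (a * a) := by rw [h1, h2, one_mul, mul_one]
          _ = b * (b * a) * (b * a) * a := by group
          _ = b * a := by
            have h4 : (b * a) * (b * a) = 1 := by
              have := hH.V_exp (b * a) (mul_mem hb ha); rwa [pow_two] at this
            calc b * (b * a) * (b * a) * a = b * ((b * a) * (b * a)) * a := by group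
              _ = b * a := by rw [h4, mul_one])
    _ = b * a := by rw [h3, mul_one]

theorem a7rh4_k4 {k : G} (hk4 : orderOf k = 4) : k ^ 4 = 1 := by
  rw [← hk4]; exact pow_orderOf_eq_one k

theorem a7rh4_j_ne_one {k : G} (hk4 : orderOf k = 4) : k ^ 2 ≠ 1 := by
  intro h
  have := orderOf_dvd_of_pow_eq_one h
  rw [hk4] at this
  omega

theorem a7rh4_j_order {k : G} (hk4 : orderOf k = 4) : orderOf (k ^ 2) = 2 := by
  apply orderOf_eq_prime
  · rw [← pow_mul]; exact a7rh4_k4 hk4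
  · exact a7rh4_j_ne_one hk4

/-- `t` commutes with `j = k^2` -/
theorem a7rh4_t_comm_j {k t : G} (hk4 : orderOf k = 4) (htk : t * k * t⁻¹ = k⁻¹) :
    k ^ 2 * t = t * k ^ 2 := by
  have h1 : t * k ^ 2 * t⁻¹ = (k⁻¹) ^ 2 := by
    rw [← htk, conj_pow]
  have h2 : (k⁻¹) ^ 2 = k ^ 2 := by
    have h4 := a7rh4_k4 hk4
    have : k ^ 2 * k ^ 2 = 1 := by rw [← pow_add]; exact h4
    rw [inv_pow]
    exact inv_eq_of_mul_eq_one_right this
  rw [h2] at h1
  have := mul_inv_eq_iff_eq_mul.mp h1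
  exact this.symm

/-- an element `xj^i v` (`v ∈ V`) whose square is trivial lies in `V` -/
theorem a7rh4_sq_one {k xj w : G} {V : Subgroup G} (hH : Hex k xj w V) (i : ℕ) (v : G) (hv : v ∈ V)
    (hsq : (xj ^ i * v) ^ 2 = 1) : xj ^ i = 1 := by
  have hc : Commute (xj ^ i) v := by
    have := (a7rh4_mem_cz xj v).mp (hH.V_le hv)
    exact (show Commute xj v from this).pow_left i
  rw [hc.mul_pow, hH.V_exp v hv, mul_one, ← pow_mul] at hsq
  have h3 : orderOf xj ∣ i * 2 := orderOf_dvd_of_pow_eq_one hsq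
  rw [hH.xjA.1] at h3
  have h3' : 3 ∣ i := by
    have : Nat.Coprime 3 2 := by norm_num
    exact this.dvd_of_dvd_mul_right h3
  obtain ⟨c, rfl⟩ := h3'
  rw [pow_mul, ← hH.xjA.1, pow_orderOf_eq_one, one_pow]

/-- `t` inverts `xj` -/
theorem a7rh4_t_inv {P : Sylow 3 G} {k t xj w : G} {V : Subgroup G} (hC : Ctx P k t) (hH : Hex k xj w V)
    (htV : t ∉ V) : t * xj * t⁻¹ = xj⁻¹ := by
  have htj : t ∈ Cz (k ^ 2) := (a7rh4_mem_cz _ _).mpr (a7rh4_t_comm_j hC.hk4 hC.htk)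
  rcases hH.Cj_dich t htj with ⟨-, i, v, hv, htv⟩ | h
  · exfalso
    apply htV
    have hsq : (xj ^ i * v) ^ 2 = 1 := by
      rw [← htv, ← hC.ht2]; exact pow_orderOf_eq_one t
    rw [htv, a7rh4_sq_one hH i v hv hsq, one_mul]
    exact hv
  · exact h

/-- `k` inverts `xj` -/
theorem a7rh4_k_inv {P : Sylow 3 G} {k t xj w : G} {V : Subgroup G} (hC : Ctx P k t) (hH : Hex k xj w V) :
    k * xj * k⁻¹ = xj⁻¹ := by
  have hkj : k ∈ Cz (k ^ 2) := by
    rw [a7rh4_mem_cz]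
    rw [← pow_succ, ← pow_succ']
  rcases hH.Cj_dich k hkj with ⟨-, i, v, hv, hkv⟩ | h
  · exfalso
    have hc : Commute (xj ^ i) v := by
      have := (a7rh4_mem_cz xj v).mp (hH.V_le hv)
      exact (show Commute xj v from this).pow_left i
    have h6 : k ^ 6 = 1 := by
      rw [hkv, hc.mul_pow, ← pow_mul]
      have h1 : xj ^ (i * 6) = 1 := by
        rw [show i * 6 = 3 * (i * 2) by ring, pow_mul, ← hH.xjA.1, pow_orderOf_eq_one, one_pow]
      have h2 : v ^ 6 = 1 := by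
        rw [show 6 = 2 * 3 from rfl, pow_mul, hH.V_exp v hv, one_pow]
      rw [h1, h2, one_mul]
    have := orderOf_dvd_of_pow_eq_one h6
    rw [hC.hk4] at this
    omega
  · exact h

/-- an element of `V` outside `{1, j}` is `w` or `w j` -/
theorem a7rh4_V_elems {k xj w : G} {V : Subgroup G} (hk4 : orderOf k = 4) (hH : Hex k xj w V) (v : G)
    (hv : v ∈ V) (hv1 : v ≠ 1) (hvj : v ≠ k ^ 2) : v = w ∨ v = w * k ^ 2 := by
  haveI : Finite V := Nat.finite_of_card_ne_zero (by rw [hH.V_card]; norm_num)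
  have hjo := a7rh4_j_order hk4
  have hle : Subgroup.zpowers (k ^ 2) ≤ V := by rw [Subgroup.zpowers_le]; exact hH.j_mem
  have hidx : ((Subgroup.zpowers (k ^ 2)).subgroupOf V).index = 2 := by
    have h1 := Subgroup.card_mul_index ((Subgroup.zpowers (k ^ 2)).subgroupOf V)
    have h2 : Nat.card ((Subgroup.zpowers (k ^ 2)).subgroupOf V) = 2 := by
      rw [Nat.card_congr (Subgroup.subgroupOfEquivOfLe hle).toEquiv, Nat.card_zpowers, hjo]
    rw [h2, hH.V_card] at h1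
    omega
  have hnot : ∀ z : G, z ∈ V → z ≠ 1 → z ≠ k ^ 2 → z ∉ Subgroup.zpowers (k ^ 2) := by
    intro z _ h1 h2 hz
    rcases a7rh4_mem_zpowers_two (k ^ 2) z hjo hz with h | h
    · exact h1 h
    · exact h2 h
  have hmul := Subgroup.mul_mem_iff_of_index_two hidx
    (a := (⟨w, hH.w_mem⟩ : V)) (b := (⟨v, hv⟩ : V))
  have hx : w * v ∈ Subgroup.zpowers (k ^ 2) := by
    have h1 : (⟨w, hH.w_mem⟩ : V) * ⟨v, hv⟩ ∈ (Subgroup.zpowers (k ^ 2)).subgroupOf V := by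
      rw [hmul]
      constructor
      · intro h; exact absurd (Subgroup.mem_subgroupOf.mp h) (hnot w hH.w_mem hH.w_ne1 hH.w_nej)
      · intro h; exact absurd (Subgroup.mem_subgroupOf.mp h) (hnot v hv hv1 hvj)
    exact Subgroup.mem_subgroupOf.mp h1
  have hww : w * w = 1 := by have := hH.V_exp w hH.w_mem; rwa [pow_two] at this
  rcases a7rh4_mem_zpowers_two (k ^ 2) (w * v) hjo hx with h | h
  · left
    calc v = (w * w) * v := by rw [hww, one_mul]
      _ = w * (w * v) := by group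
      _ = w := by rw [h, mul_one]
  · right
    calc v = (w * w) * v := by rw [hww, one_mul]
      _ = w * (w * v) := by group
      _ = w * k ^ 2 := by rw [h]

/-- `t = v k` with `v ∈ {w, w j}` -/
theorem a7rh4_t_form {P : Sylow 3 G} {k t xj w : G} {V : Subgroup G} (hC : Ctx P k t) (hH : Hex k xj w V)
    (htV : t ∉ V) : ∃ v ∈ V, t = v * k ∧ (v = w ∨ v = w * k ^ 2) := by
  have hk4 := hC.hk4
  have htj : k ^ 2 * t = t * k ^ 2 := a7rh4_t_comm_j hk4 hC.htk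
  have htt : t * t = 1 := by
    have := pow_orderOf_eq_one t
    rwa [hC.ht2, pow_two] at this
  have htinv : t⁻¹ = t := inv_eq_of_mul_eq_one_right htt
  -- `u = t k⁻¹` lies in `C(j)` and centralizes `xj`
  have hkj : k ^ 2 * k⁻¹ = k⁻¹ * k ^ 2 := by group
  have huj : t * k⁻¹ ∈ Cz (k ^ 2) := by
    rw [a7rh4_mem_cz]
    calc k ^ 2 * (t * k⁻¹) = (k ^ 2 * t) * k⁻¹ := by group
      _ = t * (k ^ 2 * k⁻¹) := by rw [htj]; group
      _ = t * k⁻¹ * k ^ 2 := by rw [hkj]; group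
  have hti := a7rh4_t_inv hC hH htV
  have hki := a7rh4_k_inv hC hH
  have hki' : k⁻¹ * xj * k = xj⁻¹ := by
    have : xj = k⁻¹ * xj⁻¹ * k := by rw [← hki]; group
    calc k⁻¹ * xj * k = (k⁻¹ * xj⁻¹ * k)⁻¹ := by group
      _ = xj⁻¹ := by rw [← this]
  have hucent : (t * k⁻¹) * xj * (t * k⁻¹)⁻¹ = xj := by
    calc (t * k⁻¹) * xj * (t * k⁻¹)⁻¹ = t * (k⁻¹ * xj * k) * t⁻¹ := by group
      _ = t * xj⁻¹ * t⁻¹ := by rw [hki']
      _ = (t * xj * t⁻¹)⁻¹ := by group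
      _ = xj := by rw [hti, inv_inv]
  have hxj3 := hH.xjA.1
  rcases hH.Cj_dich (t * k⁻¹) huj with ⟨-, i, v, hv, huv⟩ | h
  · -- `(t k⁻¹)^2 = 1`
    have hsq : (t * k⁻¹) ^ 2 = 1 := by
      have h1 : t * k⁻¹ * t⁻¹ = k := by
        have : t * k⁻¹ * t⁻¹ = (t * k * t⁻¹)⁻¹ := by group
        rw [this, hC.htk, inv_inv]
      rw [htinv] at h1
      rw [pow_two]
      calc t * k⁻¹ * (t * k⁻¹) = (t * k⁻¹ * t) * k⁻¹ := by group
        _ = 1 := by rw [h1, mul_inv_cancel]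
    have hxi : xj ^ i = 1 := a7rh4_sq_one hH i v hv (by rw [← huv]; exact hsq)
    rw [hxi, one_mul] at huv
    have htvk : t = v * k := by rw [← huv]; group
    have hv1 : v ≠ 1 := by
      intro h1
      apply hC.htK
      rw [htvk, h1, one_mul]
      exact Subgroup.mem_zpowers k
    have hvj : v ≠ k ^ 2 := by
      intro h1
      apply hC.htK
      rw [htvk, h1, ← pow_succ]
      exact Subgroup.pow_mem _ (Subgroup.mem_zpowers k) 3
    exact ⟨v, hv, htvk, a7rh4_V_elems hk4 hH v hv hv1 hvj⟩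
  · exfalso
    rw [hucent] at h
    have h2 : xj ^ 2 = 1 := by
      rw [pow_two]
      calc xj * xj = xj * xj⁻¹ := by rw [← h]
        _ = 1 := mul_inv_cancel xj
    have := orderOf_dvd_of_pow_eq_one h2
    rw [hxj3] at this
    omega

/-- `k w k⁻¹ = w j` -/
theorem a7rh4_k_w (hS : Std G) (h4 : St4 G) {k xj w : G} {V : Subgroup G} (hk4 : orderOf k = 4)
    (hH : Hex k xj w V) : k * w * k⁻¹ = w * k ^ 2 := by
  haveI := hS.finite
  have hkj : k ∈ Cz (k ^ 2) := by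
    rw [a7rh4_mem_cz]
    rw [← pow_succ, ← pow_succ']
  have hcV : k * w * k⁻¹ ∈ V := hH.Cj_norm k hkj w hH.w_mem
  have hc1 : k * w * k⁻¹ ≠ 1 := by
    intro h
    apply hH.w_ne1
    calc w = k⁻¹ * (k * w * k⁻¹) * k := by group
      _ = 1 := by rw [h]; group
  have hcj : k * w * k⁻¹ ≠ k ^ 2 := by
    intro h
    apply hH.w_nej
    calc w = k⁻¹ * (k * w * k⁻¹) * k := by group
      _ = k ^ 2 := by rw [h]; group
  rcases a7rh4_V_elems hk4 hH _ hcV hc1 hcj with h | h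
  · exfalso
    -- `w ∈ C(k) = ⟨k⟩`
    have hwk : k * w = w * k := mul_inv_eq_iff_eq_mul.mp h
    have hwC : w ∈ Cz k := (a7rh4_mem_cz k w).mpr hwk
    have hle : Subgroup.zpowers k ≤ Cz k := by
      rw [Subgroup.zpowers_le]
      exact (a7rh4_mem_cz k k).mpr rfl
    have heq : Subgroup.zpowers k = Cz k := by
      apply Subgroup.eq_of_le_of_card_ge hle
      rw [h4.cent4 k hk4, Nat.card_zpowers, hk4]
    rw [← heq] at hwC
    have hw2 : w ^ 2 = 1 := hH.V_exp w hH.w_mem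
    rcases a7rh4_mem_zpowers_four k w hk4 hwC with h1 | h1 | h1 | h1
    · exact hH.w_ne1 h1
    · rw [h1] at hw2
      exact a7rh4_j_ne_one hk4 hw2
    · exact hH.w_nej h1
    · rw [h1, ← pow_mul] at hw2
      have := orderOf_dvd_of_pow_eq_one hw2
      rw [hk4] at this
      omega
  · exact h

/-- `t w t⁻¹ = w j` -/
theorem a7rh4_t_w (hS : Std G) (h4 : St4 G) {P : Sylow 3 G} {k t xj w : G} {V : Subgroup G}
    (hC : Ctx P k t) (hH : Hex k xj w V) (htV : t ∉ V) : t * w * t⁻¹ = w * k ^ 2 := by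
  obtain ⟨v, hv, htv, -⟩ := a7rh4_t_form hC hH htV
  have hkw := a7rh4_k_w hS h4 hC.hk4 hH
  have hwj : w * k ^ 2 ∈ V := mul_mem hH.w_mem hH.j_mem
  have hcomm := a7rh4_V_comm hH v (w * k ^ 2) hv hwj
  calc t * w * t⁻¹ = v * (k * w * k⁻¹) * v⁻¹ := by rw [htv]; group
    _ = v * (w * k ^ 2) * v⁻¹ := by rw [hkw]
    _ = (w * k ^ 2) * v * v⁻¹ := by rw [hcomm]
    _ = w * k ^ 2 := by group

theorem a7rh4_xj_w {k xj w : G} {V : Subgroup G} (hH : Hex k xj w V) : Commute xj w :=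
  (a7rh4_mem_cz xj w).mp (hH.V_le hH.w_mem)

theorem a7rh4_j_g {k xj w : G} {V : Subgroup G} (hH : Hex k xj w V) : Commute (k ^ 2) (xj * w) := by
  have h1 : Commute (k ^ 2) xj := ((a7rh4_mem_cz xj (k ^ 2)).mp (hH.V_le hH.j_mem)).symm
  have h2 : Commute (k ^ 2) w := a7rh4_V_comm hH _ _ hH.j_mem hH.w_mem
  exact h1.mul_right h2

theorem a7rh4_g6 {k xj w : G} {V : Subgroup G} (hH : Hex k xj w V) : (xj * w) ^ 6 = 1 := by
  rw [(a7rh4_xj_w hH).mul_pow]
  have h1 : xj ^ 6 = 1 := by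
    rw [show 6 = 3 * 2 from rfl, pow_mul, ← hH.xjA.1, pow_orderOf_eq_one, one_pow]
  have h2 : w ^ 6 = 1 := by
    rw [show 6 = 2 * 3 from rfl, pow_mul, hH.V_exp w hH.w_mem, one_pow]
  rw [h1, h2, one_mul]

theorem a7rh4_g3 {k xj w : G} {V : Subgroup G} (hH : Hex k xj w V) : (xj * w) ^ 3 = w := by
  rw [(a7rh4_xj_w hH).mul_pow]
  have h1 : xj ^ 3 = 1 := by rw [← hH.xjA.1, pow_orderOf_eq_one]
  have h2 : w ^ 3 = w := by
    rw [show 3 = 2 + 1 from rfl, pow_add, hH.V_exp w hH.w_mem, one_mul, pow_one]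
  rw [h1, h2, one_mul]

/-- `t g t⁻¹ = g⁻¹ j` -/
theorem a7rh4_t_g (hS : Std G) (h4 : St4 G) {P : Sylow 3 G} {k t xj w : G} {V : Subgroup G}
    (hC : Ctx P k t) (hH : Hex k xj w V) (htV : t ∉ V) :
    t * (xj * w) * t⁻¹ = (xj * w)⁻¹ * k ^ 2 := by
  have h1 := a7rh4_t_inv hC hH htV
  have h2 := a7rh4_t_w hS h4 hC hH htV
  have hww : w * w = 1 := by have := hH.V_exp w hH.w_mem; rwa [pow_two] at this
  have hwinv : w⁻¹ = w := inv_eq_of_mul_eq_one_right hww
  have hc : Commute xj⁻¹ w := (a7rh4_xj_w hH).inv_left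
  calc t * (xj * w) * t⁻¹ = (t * xj * t⁻¹) * (t * w * t⁻¹) := by group
    _ = xj⁻¹ * (w * k ^ 2) := by rw [h1, h2]
    _ = (xj⁻¹ * w) * k ^ 2 := by group
    _ = (w * xj⁻¹) * k ^ 2 := by rw [hc.eq]
    _ = (xj * w)⁻¹ * k ^ 2 := by rw [mul_inv_rev, hwinv]

/-- `t P t⁻¹ = g^3 P g^(-3)` -/
theorem a7rh4_t_P {P : Sylow 3 G} {k t xj w : G} {V : Subgroup G}
    (hC : Ctx P k t) (hH : Hex k xj w V) (htV : t ∉ V) :
    conjS t (P : Subgroup G) = conjS ((xj * w) ^ 3) (P : Subgroup G) := by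
  rw [a7rh4_g3 hH]
  obtain ⟨v, hv, htv, hvw⟩ := a7rh4_t_form hC hH htV
  have hkP : conjS k (P : Subgroup G) = (P : Subgroup G) := a7rh4_conjS_of_mem_nz k _ hC.hk
  have hjP : conjS (k ^ 2) (P : Subgroup G) = (P : Subgroup G) :=
    a7rh4_conjS_of_mem_nz (k ^ 2) _ (pow_mem hC.hk 2)
  rw [htv, ← a7rh4_conjS_mul, hkP]
  rcases hvw with h | h
  · rw [h]
  · rw [h, ← a7rh4_conjS_mul, hjP]

/-- H4 [M-L]: the action of `t` on the hexagon. -/
theorem t_act (hS : Std G) (h4 : St4 G) {P : Sylow 3 G} {k t xj w : G} {V : Subgroup G} (hC : Ctx P k t) (hH : Hex k xj w V) (htV : t ∉ V)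
    (n m : ℕ) (hnm : (n + m) % 6 = 3) : conjS t (Pn P xj w n) = Pn P xj w m := by
  unfold Pn
  set g : G := xj * w with hg
  have htg := a7rh4_t_g hS h4 hC hH htV
  have hjg : Commute (k ^ 2) g := a7rh4_j_g hH
  have hg6 : g ^ 6 = 1 := a7rh4_g6 hH
  -- `t g^n = (g⁻¹ j)^n t`
  have h1 : t * g ^ n = (g⁻¹ * k ^ 2) ^ n * t := by
    have : t * g ^ n * t⁻¹ = (g⁻¹ * k ^ 2) ^ n := by rw [← htg, conj_pow]
    calc t * g ^ n = (t * g ^ n * t⁻¹) * t := by group
      _ = (g⁻¹ * k ^ 2) ^ n * t := by rw [this]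
  -- `(g⁻¹ j)^n g^3 = g^m j^n`
  have h2 : (g⁻¹ * k ^ 2) ^ n * g ^ 3 = g ^ m * (k ^ 2) ^ n := by
    have hc1 : Commute g⁻¹ (k ^ 2) := hjg.symm.inv_left
    rw [hc1.mul_pow]
    have hc2 : Commute ((k ^ 2) ^ n) (g ^ 3) := (hjg.pow_left n).pow_right 3
    have hgm : (g⁻¹) ^ n * g ^ 3 = g ^ m := by
      obtain ⟨q, hq⟩ : ∃ q, n + m = 6 * q + 3 := ⟨(n + m) / 6, by omega⟩
      have h3 : g ^ n * g ^ m = g ^ 3 := by
        rw [← pow_add, hq, pow_add, pow_mul, hg6, one_pow, one_mul]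
      rw [inv_pow, ← h3]; group
    calc g⁻¹ ^ n * (k ^ 2) ^ n * g ^ 3 = g⁻¹ ^ n * ((k ^ 2) ^ n * g ^ 3) := by group
      _ = g⁻¹ ^ n * (g ^ 3 * (k ^ 2) ^ n) := by rw [hc2.eq]
      _ = (g⁻¹ ^ n * g ^ 3) * (k ^ 2) ^ n := by group
      _ = g ^ m * (k ^ 2) ^ n := by rw [hgm]
  have hjP : conjS ((k ^ 2) ^ n) (P : Subgroup G) = (P : Subgroup G) :=
    a7rh4_conjS_of_mem_nz _ _ (pow_mem (pow_mem hC.hk 2) n)
  rw [a7rh4_conjS_mul, h1, ← a7rh4_conjS_mul, a7rh4_t_P hC hH htV, a7rh4_conjS_mul, h2,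
    ← a7rh4_conjS_mul, hjP]

end Cfsg.Agent.Lib.helper8.A7R
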