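import Mathlib
import Cfsg.Agent.Lib.helper8.A7R.Defs
import Cfsg.Agent.Lib.helper8.SylowBasic
import Cfsg.Agent.Lib.helper8.SylowConj
import Cfsg.Agent.Lib.Helper21.A7RH4

set_option autoImplicit false
set_option linter.style.haveILetI false
set_option linter.unusedVariables false

/-!
# Project A7R, row H3a (`jinv_conj`): a Sylow 3-subgroup normalized by `j = k^2` is `c P c⁻¹` with `c ∈ C(j)`.
-/

namespace Cfsg.Agent.Lib.helper8.A7R

open Subgroup

universe u

variable {G : Type u} [Group G]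

theorem a7rh3a_mem_nz_of_conjS (n : G) (H : Subgroup G) (h : conjS n H = H) : n ∈ Nz H := by
  have h1 : n⁻¹ ∈ Nz H := by
    unfold Nz
    rw [Subgroup.mem_normalizer_iff]
    intro x
    rw [inv_inv]
    conv_lhs => rw [← h]
    rw [mem_conjS]
  have := inv_mem h1
  rwa [inv_inv] at this

theorem a7rh3a_smul_eq_conjS (h : G) (P : Sylow 3 G) :
    ((h • P : Sylow 3 G) : Subgroup G) = conjS h (P : Subgroup G) := by
  ext x
  rw [Cfsg.Agent.Lib.helper8.h8_mem_smul_sylow, mem_conjS]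

/-- H3a [M] -/
theorem jinv_conj (hS : Std G) {P : Sylow 3 G} {k t : G} (hC : Ctx P k t) (R : Sylow 3 G) (hR : k ^ 2 ∈ Nz (R : Subgroup G)) :
    ∃ c ∈ Cz (k ^ 2), (R : Subgroup G) = conjS c (P : Subgroup G) := by
  haveI := hS.finite
  haveI : Fact (Nat.Prime 3) := ⟨by norm_num⟩
  have hk4 := hC.hk4
  have hcP : Nat.card (P : Subgroup G) = 9 := by
    have h := Cfsg.Agent.Lib.helper8.h8_sylow_card 3 2 280 (by rw [hS.card]; norm_num) (by norm_num) P
    simpa using h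
  have hpow9 : ∀ y ∈ (P : Subgroup G), y ^ 9 = 1 := by
    intro y hy
    have h1 : orderOf y ∣ 9 := by
      have := orderOf_dvd_natCard (⟨y, hy⟩ : (P : Subgroup G))
      rwa [Subgroup.orderOf_mk, hcP] at this
    exact orderOf_dvd_iff_pow_eq_one.mp h1
  obtain ⟨h, hh⟩ := MulAction.exists_smul_eq G P R
  have hRP : (R : Subgroup G) = conjS h (P : Subgroup G) := by
    rw [← hh]; exact a7rh3a_smul_eq_conjS h P
  set j : G := k ^ 2 with hj
  have hjj : j * j = 1 := by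
    rw [hj, ← pow_add]; exact a7rh4_k4 hk4
  have hjne : j ≠ 1 := a7rh4_j_ne_one hk4
  set i : G := h⁻¹ * j * h with hi
  -- `i ∈ N(P)`
  have hiN : i ∈ Nz (P : Subgroup G) := by
    apply a7rh3a_mem_nz_of_conjS
    have h1 : conjS j (R : Subgroup G) = (R : Subgroup G) := a7rh4_conjS_of_mem_nz j _ hR
    have h2 : conjS h⁻¹ (R : Subgroup G) = (P : Subgroup G) := by
      rw [hRP, a7rh4_conjS_mul, inv_mul_cancel]
      ext x; rw [mem_conjS]; simp
    calc conjS i (P : Subgroup G) = conjS h⁻¹ (conjS j (conjS h (P : Subgroup G))) := by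
          rw [a7rh4_conjS_mul, a7rh4_conjS_mul, hi, mul_assoc]
      _ = (P : Subgroup G) := by rw [← hRP, h1, h2]
  have hii : i * i = 1 := by
    calc i * i = h⁻¹ * (j * j) * h := by rw [hi]; group
      _ = 1 := by rw [hjj]; group
  have hine : i ≠ 1 := by
    intro h1
    apply hjne
    calc j = h * i * h⁻¹ := by rw [hi]; group
      _ = 1 := by rw [h1]; group
  obtain ⟨x, hx, e, hie⟩ := hC.prod i hiN
  -- `x' = k^e x k^(-e) ∈ P`
  have hkeN : k ^ e ∈ Nz (P : Subgroup G) := pow_mem hC.hk e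
  have hx' : k ^ e * x * (k ^ e)⁻¹ ∈ (P : Subgroup G) :=
    (Subgroup.mem_normalizer_iff.mp hkeN x).mp hx
  have hz : (k ^ e) ^ 2 ∈ (P : Subgroup G) := by
    have h1 : (x * (k ^ e * x * (k ^ e)⁻¹)) * (k ^ e) ^ 2 = 1 := by
      calc (x * (k ^ e * x * (k ^ e)⁻¹)) * (k ^ e) ^ 2 = (x * k ^ e) * (x * k ^ e) := by group
        _ = 1 := by rw [← hie]; exact hii
    have h2 : (k ^ e) ^ 2 = (x * (k ^ e * x * (k ^ e)⁻¹))⁻¹ := eq_inv_of_mul_eq_one_right h1
    rw [h2]
    exact inv_mem (mul_mem hx hx')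
  have hz1 : (k ^ e) ^ 2 = 1 := by
    have h9 := hpow9 _ hz
    have h4 : ((k ^ e) ^ 2) ^ 4 = 1 := by
      rw [← pow_mul, ← pow_mul, show e * (2 * 4) = 4 * (e * 2) by ring, pow_mul, a7rh4_k4 hk4, one_pow]
    have h1 : orderOf ((k ^ e) ^ 2) ∣ Nat.gcd 9 4 :=
      Nat.dvd_gcd (orderOf_dvd_of_pow_eq_one h9) (orderOf_dvd_of_pow_eq_one h4)
    have : Nat.gcd 9 4 = 1 := by norm_num
    rw [this] at h1
    exact orderOf_eq_one_iff.mp (Nat.dvd_one.mp h1)
  have hke : k ^ e = 1 ∨ k ^ e = k ^ 2 := by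
    rcases a7rh4_mem_zpowers_four k (k ^ e) hk4 (Subgroup.pow_mem _ (Subgroup.mem_zpowers k) e)
      with h1 | h1 | h1 | h1
    · left; exact h1
    · exfalso; rw [h1] at hz1; exact a7rh4_j_ne_one hk4 hz1
    · right; exact h1
    · exfalso
      rw [h1, ← pow_mul] at hz1
      have := orderOf_dvd_of_pow_eq_one hz1
      rw [hk4] at this
      omega
  rcases hke with h1 | h1
  · -- `i = x ∈ P` of order 2: impossible
    exfalso
    rw [h1, mul_one] at hie
    apply hine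
    rw [hie]
    have h9 := hpow9 x hx
    have h2 : x ^ 2 = 1 := by rw [pow_two, ← hie]; exact hii
    have h3 : orderOf x ∣ Nat.gcd 9 2 :=
      Nat.dvd_gcd (orderOf_dvd_of_pow_eq_one h9) (orderOf_dvd_of_pow_eq_one h2)
    have : Nat.gcd 9 2 = 1 := by norm_num
    rw [this] at h3
    exact orderOf_eq_one_iff.mp (Nat.dvd_one.mp h3)
  · -- `i = x j = ν j ν⁻¹`, `ν = x^5`
    rw [h1] at hie
    set ν : G := x ^ 5 with hν
    have hνP : ν ∈ (P : Subgroup G) := pow_mem hx 5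
    have hν2 : ν * ν = x := by
      rw [hν, ← pow_add]
      show x ^ 10 = x
      rw [show 10 = 9 + 1 from rfl, pow_add, hpow9 x hx, one_mul, pow_one]
    have hinv : j * ν⁻¹ * j⁻¹ = ν := by
      have := hC.inv ν⁻¹ (inv_mem hνP)
      rw [inv_inv] at this
      exact this
    have hconj : ν * j * ν⁻¹ = i := by
      calc ν * j * ν⁻¹ = ν * (j * ν⁻¹ * j⁻¹) * j := by group
        _ = (ν * ν) * j := by rw [hinv]
        _ = i := by rw [hν2, hie]
    refine ⟨h * ν, ?_, ?_⟩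
    · rw [a7rh4_mem_cz]
      -- `j (h ν) = (h ν) j`
      have h2 : h⁻¹ * j * h = ν * j * ν⁻¹ := by rw [hconj]
      calc j * (h * ν) = h * (h⁻¹ * j * h) * ν := by group
        _ = h * (ν * j * ν⁻¹) * ν := by rw [h2]
        _ = h * ν * j := by group
    · rw [← a7rh4_conjS_mul, a7rh4_conjS_of_mem_nz ν _ (Subgroup.le_normalizer hνP), hRP]

end Cfsg.Agent.Lib.helper8.A7R
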