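import Mathlib
import Cfsg.Prelude.Def_GeometricClasses
import Cfsg.Agent.Lib.Helper27.ASC.Defs
import Cfsg.Agent.Lib.Helper21.ASCES5core

set_option autoImplicit false
set_option linter.unusedVariables false

namespace Cfsg.Agent.Lib.Helper27.ASC

open Cfsg Cfsg.Geo
open scoped MatrixGroups Matrix

variable {n : ℕ} {F : Type*} [Field F] [Fintype F]

omit [Fintype F] in
/-- conjugating an element of a Heisenberg group into standard shape -/
theorem asch21es4_conj {r : ℕ} {N : Subgroup (GL (Fin r) F)} {x y : GL (Fin r) F} {ω : F}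
    (hd : HeisData r N x y ω) (B : GL (Fin r) F) (X Y : Matrix (Fin r) (Fin r) F)
    (hBx : (B : Matrix (Fin r) (Fin r) F) * (x : Matrix (Fin r) (Fin r) F) *
        ((B⁻¹ : GL (Fin r) F) : Matrix (Fin r) (Fin r) F) = X)
    (hBy : (B : Matrix (Fin r) (Fin r) F) * (y : Matrix (Fin r) (Fin r) F) *
        ((B⁻¹ : GL (Fin r) F) : Matrix (Fin r) (Fin r) F) = Y)
    (g : GL (Fin r) F) (hg : g ∈ N) :
    ∃ i j k : ℕ, (B : Matrix (Fin r) (Fin r) F) * (g : Matrix (Fin r) (Fin r) F) *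
        ((B⁻¹ : GL (Fin r) F) : Matrix (Fin r) (Fin r) F) = ω ^ k • (X ^ i * Y ^ j) := by
  classical
  set Bm : Matrix (Fin r) (Fin r) F := (B : Matrix (Fin r) (Fin r) F) with hBm
  set Bi : Matrix (Fin r) (Fin r) F := ((B⁻¹ : GL (Fin r) F) : Matrix (Fin r) (Fin r) F) with hBi
  have hBiBm : Bi * Bm = 1 := by
    rw [hBi, hBm, ← Matrix.GeneralLinearGroup.coe_mul, inv_mul_cancel]; rfl
  have hBmBi : Bm * Bi = 1 := by
    rw [hBi, hBm, ← Matrix.GeneralLinearGroup.coe_mul, mul_inv_cancel]; rfl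
  have hconjpow : ∀ (Z : Matrix (Fin r) (Fin r) F) (i : ℕ), Bm * Z ^ i * Bi = (Bm * Z * Bi) ^ i := by
    intro Z i
    induction i with
    | zero => rw [pow_zero, pow_zero, Matrix.mul_one, hBmBi]
    | succ i ih =>
      rw [pow_succ, pow_succ, ← ih]
      calc Bm * (Z ^ i * Z) * Bi = Bm * Z ^ i * (1 * Z) * Bi := by
            rw [Matrix.one_mul]; simp only [Matrix.mul_assoc]
        _ = Bm * Z ^ i * ((Bi * Bm) * Z) * Bi := by rw [hBiBm]
        _ = Bm * Z ^ i * Bi * (Bm * Z * Bi) := by simp only [Matrix.mul_assoc]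
  obtain ⟨i, j, k, hgen⟩ := hd.gen g hg
  refine ⟨i, j, k, ?_⟩
  rw [hgen, ← hBx, ← hBy, ← hconjpow, ← hconjpow, Matrix.mul_smul, Matrix.smul_mul]
  congr 1
  calc Bm * ((x : Matrix (Fin r) (Fin r) F) ^ i * (y : Matrix (Fin r) (Fin r) F) ^ j) * Bi
      = Bm * (x : Matrix (Fin r) (Fin r) F) ^ i * (1 * (y : Matrix (Fin r) (Fin r) F) ^ j) * Bi := by
        rw [Matrix.one_mul]; simp only [Matrix.mul_assoc]
    _ = Bm * (x : Matrix (Fin r) (Fin r) F) ^ i * ((Bi * Bm) * (y : Matrix (Fin r) (Fin r) F) ^ j) * Bi := by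
        rw [hBiBm]
    _ = _ := by simp only [Matrix.mul_assoc]

/-- all entries in the subfield -/
def asch21es4_E (F₀ : Subfield F) (m : Matrix (Fin n) (Fin n) F) : Prop := ∀ i j, m i j ∈ F₀

omit [Fintype F] in
theorem asch21es4_E_mul (F₀ : Subfield F) {m₁ m₂ : Matrix (Fin n) (Fin n) F} (h₁ : asch21es4_E F₀ m₁)
    (h₂ : asch21es4_E F₀ m₂) : asch21es4_E F₀ (m₁ * m₂) := by
  intro i j
  rw [Matrix.mul_apply]
  exact Subfield.sum_mem F₀ (fun l _ => F₀.mul_mem (h₁ i l) (h₂ l j))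

omit [Fintype F] in
theorem asch21es4_E_one (F₀ : Subfield F) : asch21es4_E F₀ (1 : Matrix (Fin n) (Fin n) F) := by
  intro i j
  rw [Matrix.one_apply]
  split_ifs
  · exact F₀.one_mem
  · exact F₀.zero_mem

omit [Fintype F] in
theorem asch21es4_E_pow (F₀ : Subfield F) {m : Matrix (Fin n) (Fin n) F} (h : asch21es4_E F₀ m) (i : ℕ) :
    asch21es4_E F₀ (m ^ i) := by
  induction i with
  | zero => rw [pow_zero]; exact asch21es4_E_one F₀
  | succ i ih => rw [pow_succ]; exact asch21es4_E_mul F₀ ih h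

omit [Fintype F] in
theorem asch21es4_E_smul (F₀ : Subfield F) (t : F) (ht : t ∈ F₀) {m : Matrix (Fin n) (Fin n) F}
    (h : asch21es4_E F₀ m) : asch21es4_E F₀ (t • m) := by
  intro i j
  rw [Matrix.smul_apply, smul_eq_mul]
  exact F₀.mul_mem ht (h i j)

/-- ES4 core: realisability over a subfield containing `ω` (conclusion of ES0 as hypothesis). -/
theorem asch21es4_core {r : ℕ} (hr : r.Prime) {N : Subgroup (GL (Fin r) F)} {x y : GL (Fin r) F} {ω : F}
    (hd : HeisData r N x y ω) (B : GL (Fin r) F) (c : F) (hc : c ^ r = 1)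
    (hBx : (B : Matrix (Fin r) (Fin r) F) * (x : Matrix (Fin r) (Fin r) F) *
        ((B⁻¹ : GL (Fin r) F) : Matrix (Fin r) (Fin r) F) =
        c • Matrix.diagonal (fun i : Fin r => ω ^ (i : ℕ)))
    (hBy : (B : Matrix (Fin r) (Fin r) F) * (y : Matrix (Fin r) (Fin r) F) *
        ((B⁻¹ : GL (Fin r) F) : Matrix (Fin r) (Fin r) F) =
        Matrix.of (fun j i : Fin r => if j = finRotate r i then (1 : F) else 0))
    (F₀ : Subfield F) (hω : ω ∈ F₀) : RealisableOver F₀ (matrixSet N) := by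
  classical
  refine ⟨B, ?_⟩
  rintro s ⟨g, hg, rfl⟩
  obtain ⟨i, j, k, hconj⟩ := asch21es4_conj hd B _ _ hBx hBy g hg
  show asch21es4_E F₀ _
  rw [hconj]
  obtain ⟨ic, hic⟩ := asch21es5_pow_of_root hr ω c hd.hω1 hd.hωr hc
  have hcF : c ∈ F₀ := by rw [← hic]; exact F₀.pow_mem hω ic
  have hEx : asch21es4_E F₀ (c • Matrix.diagonal (fun i : Fin r => ω ^ (i : ℕ))) := by
    apply asch21es4_E_smul F₀ c hcF
    intro a b
    rw [Matrix.diagonal_apply]
    split_ifs
    · exact F₀.pow_mem hω _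
    · exact F₀.zero_mem
  have hEy : asch21es4_E F₀ (Matrix.of (fun j i : Fin r => if j = finRotate r i then (1 : F) else 0)) := by
    intro a b
    rw [Matrix.of_apply]
    split_ifs
    · exact F₀.one_mem
    · exact F₀.zero_mem
  exact asch21es4_E_smul F₀ _ (F₀.pow_mem hω k)
    (asch21es4_E_mul F₀ (asch21es4_E_pow F₀ hEx i) (asch21es4_E_pow F₀ hEy j))

end Cfsg.Agent.Lib.Helper27.ASC
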