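import Mathlib
import Cfsg.Prelude.Def_GeometricClasses
import Cfsg.Agent.Lib.Helper27.ASC.Defs
import Cfsg.Agent.Lib.Helper19.ASG.Defs
import Cfsg.Agent.Lib.Helper18.ASP.Defs
import Cfsg.Agent.Lib.Lead.Reindex
import Cfsg.Agent.Lib.Helper21.ASPTRCcore

set_option autoImplicit false
set_option linter.unusedVariables false
set_option linter.unusedSectionVars false

namespace Cfsg.Agent.Lib.Helper18.ASP

open Cfsg Cfsg.Geo Cfsg.Agent.Lib.Helper27.ASC Cfsg.Agent.Lib.Helper19.ASG
open scoped MatrixGroups Matrix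

variable {n : ℕ} {F : Type*} [Field F] [Fintype F]

section transport

open Cfsg.Agent.Lib.Lead

variable {ι κ : Type} [Fintype ι] [DecidableEq ι] [Fintype κ] [DecidableEq κ]

/-- TR-C3 : non-degenerate decomposition -/
theorem tr_c3 (e : ι ≃ κ) (f : (ι → F) → (ι → F) → F) (M : Subgroup (GL ι F))
    (h : ∃ (t k : ℕ) (D : Fin t → Submodule F (ι → F)), IsNondegenerateMDecomposition f k D ∧
      M = decompositionStabilizer D ⊓ isoGL f) :
    ∃ (t k : ℕ) (D : Fin t → Submodule F (κ → F)),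
      IsNondegenerateMDecomposition (fun x y : κ → F => f (x ∘ e) (y ∘ e)) k D ∧
      M.map (RI.glReindex (F := F) e).toMonoidHom =
        decompositionStabilizer D ⊓ isoGL (fun x y : κ → F => f (x ∘ e) (y ∘ e)) := by
  obtain ⟨t, k, D, hD, rfl⟩ := h
  refine ⟨t, k, fun i => (D i).comap (LinearMap.funLeft F F e), ⟨?_, ?_, ?_⟩, ?_⟩
  · exact asptrc_mdecomp e k D hD.decomp
  · intro i
    exact asptrc_nondeg e f (D i) (hD.nondegenerate i)
  · intro i j hij
    exact asptrc_orth e f (D i) (D j) (hD.orthogonal i j hij)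
  · rw [asptrc_map_inf, Cfsg.Agent.Lib.Helper28.OFrameT.map_decomp]

end transport

end Cfsg.Agent.Lib.Helper18.ASP
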