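import Mathlib
import Cfsg.Prelude.Def_Involutions
import Cfsg.Prelude.Def_LieExceptional
import Cfsg.Agent.Lib.helper6.AbCent.Defs
import Cfsg.Agent.Lib.helper2.AbCentB
import Cfsg.Agent.Lib.Helper21.AbCentR
import Cfsg.Agent.Lib.Helper22.CamA
import Cfsg.Agent.Lib.Helper1.NonCyclic
import Cfsg.Agent.Lib.helper2.AbCentK
import Cfsg.Agent.Lib.helper17.AbCentT

/-!
# AbCent, piece F: two-transitivity on the Sylow 2-subgroups when `K(P)` is semiregular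
(project of helper6 for S2202; statements verbatim from the project skeleton)
-/

set_option autoImplicit false

namespace Cfsg.Agent.Lib.Helper21.AbCent
open Cfsg.Agent.Lib.helper6.AbCent
open Cfsg.Agent.Lib.helper2.AbCent
open Cfsg.Agent.Lib.helper17.AbCent

universe u
variable {G : Type u} [Group G] [Finite G]

/-- an abelian group acting fixed-point-freely on a nontrivial abelian group of coprime order is
cyclic -/
theorem f_cyclic_of_fpf {X : Type*} [CommGroup X] [Finite X] {A : Type*} [CommGroup A] [Finite A]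
    (φ : X →* MulAut A) (hcop : (Nat.card X).Coprime (Nat.card A))
    (hfpf : ∀ x : X, x ≠ 1 → ∀ a : A, φ x a = a → a = 1) (hA : ∃ a : A, a ≠ 1) : IsCyclic X := by
  by_contra hnc
  obtain ⟨r, hr, x, y, hx1, hxr, hyr, hyx⟩ := Cfsg.Agent.Lib.Helper1.exists_noncyclic_pair hnc
  obtain ⟨a, ha⟩ := hA
  apply ha
  haveI : Fact r.Prime := ⟨hr⟩
  have hrX : r ∣ Nat.card X := by
    have h1 : orderOf x = r := orderOf_eq_prime hxr hx1
    rw [← h1]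
    exact orderOf_dvd_natCard x
  have hrA : ¬ r ∣ Nat.card A := by
    intro h
    have h1 : r ∣ 1 := by
      rw [← Nat.Coprime.gcd_eq_one hcop]
      exact Nat.dvd_gcd hrX h
    exact hr.one_lt.ne' (Nat.dvd_one.mp h1)
  refine Cfsg.Agent.Lib.Helper22.CamA.noncyclic_fpf r hr hrA (φ y) (φ x) ?_ ?_ ?_ ?_ ?_ a
  · show φ y * φ x = φ x * φ y
    rw [← map_mul, ← map_mul, mul_comm]
  · rw [← map_pow, hyr, map_one]
  · rw [← map_pow, hxr, map_one]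
  · exact hfpf x hx1
  · intro j a' ha'
    have h1 : φ y * φ x ^ j = φ (y * x ^ j) := by rw [map_mul, map_pow]
    rw [h1] at ha'
    refine hfpf (y * x ^ j) ?_ a' ha'
    intro h2
    apply hyx
    have h3 : y = (x ^ j)⁻¹ := eq_inv_of_mul_eq_one_left h2
    rw [h3]
    exact Subgroup.inv_mem _ (Subgroup.pow_mem _ (Subgroup.mem_zpowers x) j)

theorem f_exists_swap (hS : Setup G) (P Q : Sylow 2 G) (hPQ : P ≠ Q) :
    ∃ u : G, orderOf u = 2 ∧ u • P = Q := by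
  have h3 := three_le_nI hS P
  rw [← swap_count hS P Q hPQ] at h3
  have hpos : 0 < Nat.card {i : G // orderOf i = 2 ∧ i • P = Q} := by omega
  obtain ⟨⟨u, hu⟩⟩ := (Nat.card_pos_iff.mp hpos).1
  exact ⟨u, hu⟩

section F
variable (hS : Setup G) (hsemi : ∀ P Q : Sylow 2 G, P ≠ Q → KK P ⊓ NN Q = ⊥)
include hS hsemi

theorem f_D_inf_KK (P Q : Sylow 2 G) (hPQ : P ≠ Q) : NN P ⊓ NN Q ⊓ KK P = ⊥ := by
  rw [eq_bot_iff, ← hsemi P Q hPQ]
  intro x hx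
  exact ⟨hx.2, hx.1.2⟩

theorem f_eq_one_of_mem_CC (P Q : Sylow 2 G) (hPQ : P ≠ Q) {x : G} (hx : x ∈ NN P ⊓ NN Q)
    (hxc : x ∈ CC P) : x = 1 := by
  have h1 : x ∈ NN P ⊓ NN Q ⊓ CC P := ⟨hx, hxc⟩
  rw [r_D_inf_CC hS P Q hPQ, f_D_inf_KK hS hsemi P Q hPQ] at h1
  exact Subgroup.mem_bot.mp h1

theorem F_card_D (P Q : Sylow 2 G) (hPQ : P ≠ Q) :
    Nat.card ↥(NN P ⊓ NN Q) = nI (P : Subgroup G) := by
  have h1 := card_D hS P Q hPQ
  rw [f_D_inf_KK hS hsemi P Q hPQ, Subgroup.card_bot, mul_one] at h1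
  exact h1

theorem F_inverted (P Q : Sylow 2 G) (hPQ : P ≠ Q) {u : G} (hu : orderOf u = 2) (huP : u • P = Q) :
    ∀ y ∈ NN P ⊓ NN Q, u * y * u⁻¹ = y⁻¹ := by
  intro y hy
  obtain ⟨y₁, hy₁, hyi, hk⟩ := exists_inverted hS P Q hPQ hu huP hy
  have h1 : y⁻¹ * y₁ ∈ NN P ⊓ NN Q ⊓ KK P :=
    ⟨Subgroup.mul_mem _ (Subgroup.inv_mem _ hy) hy₁, hk⟩
  rw [f_D_inf_KK hS hsemi P Q hPQ, Subgroup.mem_bot] at h1
  have h2 : y₁ = y := by
    have : y₁ = y * (y⁻¹ * y₁) := by group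
    rw [this, h1, mul_one]
  rw [← h2]
  exact hyi

theorem f_D_comm (P Q : Sylow 2 G) (hPQ : P ≠ Q) :
    ∀ a ∈ NN P ⊓ NN Q, ∀ b ∈ NN P ⊓ NN Q, a * b = b * a := by
  intro a ha b hb
  obtain ⟨u, hu, huP⟩ := f_exists_swap hS P Q hPQ
  have hinv := F_inverted hS hsemi P Q hPQ hu huP
  have h1 := hinv (a * b) (Subgroup.mul_mem _ ha hb)
  have h2 : u * (a * b) * u⁻¹ = (u * a * u⁻¹) * (u * b * u⁻¹) := by group
  rw [h2, hinv a ha, hinv b hb] at h1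
  have h3 : (a⁻¹ * b⁻¹)⁻¹ = ((a * b)⁻¹)⁻¹ := by rw [h1]
  rw [inv_inv, mul_inv_rev, inv_inv, inv_inv] at h3
  exact h3.symm

open scoped IsMulCommutative in
theorem F_cyclic (P Q : Sylow 2 G) (hPQ : P ≠ Q) : IsCyclic ↥(NN P ⊓ NN Q) := by
  haveI hDc : IsMulCommutative ↥(NN P ⊓ NN Q) :=
    ⟨⟨fun a b => Subtype.ext (f_D_comm hS hsemi P Q hPQ a a.2 b b.2)⟩⟩
  haveI hPc : IsMulCommutative ↥(P : Subgroup G) :=
    ⟨⟨fun a b => Subtype.ext (sylow_comm hS.ac P a a.2 b b.2)⟩⟩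
  let φ : ↥(NN P ⊓ NN Q) →* MulAut ↥(P : Subgroup G) :=
    (Subgroup.normalizerMonoidHom (P : Subgroup G)).comp (Subgroup.inclusion inf_le_left)
  have hφ : ∀ (d : ↥(NN P ⊓ NN Q)) (a : ↥(P : Subgroup G)),
      ((φ d a : ↥(P : Subgroup G)) : G) = (d : G) * (a : G) * (d : G)⁻¹ := fun d a => rfl
  refine f_cyclic_of_fpf φ ?_ ?_ ?_
  · obtain ⟨n, hn⟩ := (P.2).exists_card_eq
    rw [hn]
    exact Nat.Coprime.pow_right n (odd_inf_normalizer hS.ac P Q hPQ).coprime_two_right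
  · intro d hd a hda
    by_contra ha
    have ha' : (a : G) ≠ 1 := fun h => ha (Subtype.ext h)
    obtain ⟨m, hm⟩ := exists_pow_invol (two_pow_of_mem_sylow P a.2) ha'
    have h1 : (d : G) * a * (d : G)⁻¹ = a := by rw [← hφ, hda]
    have h2 : Commute (d : G) (a : G) := by
      show (d : G) * a = a * d
      calc (d : G) * a = d * a * (d : G)⁻¹ * d := by group
        _ = a * d := by rw [h1]
    have h3 : Commute (d : G) ((a : G) ^ m) := h2.pow_right m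
    have h4 : (d : G) ∈ CC P := by
      rw [← cent_invol hS.ac P hm (Subgroup.pow_mem _ a.2 m),
        Subgroup.mem_centralizer_singleton_iff]
      exact h3.eq
    exact hd (Subtype.ext (f_eq_one_of_mem_CC hS hsemi P Q hPQ d.2 h4))
  · obtain ⟨t, htP, ht⟩ := r_exists_invol hS P
    refine ⟨⟨t, htP⟩, fun h => ?_⟩
    have h1 : t = 1 := congrArg Subtype.val h
    rw [h1, orderOf_one] at ht
    omega

theorem F_fix (P Q R : Sylow 2 G) (hPQ : P ≠ Q) (hR : NN P ⊓ NN Q ≤ NN R) : R = P ∨ R = Q := by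
  by_contra hcon
  push Not at hcon
  obtain ⟨hRP, hRQ⟩ := hcon
  have key : ∀ R' : Sylow 2 G, P ≠ R' → NN P ⊓ NN Q ≤ NN R' → ∀ v : G, orderOf v = 2 →
      v • P = R' → ∀ y ∈ NN P ⊓ NN Q, v * y * v⁻¹ = y⁻¹ := by
    intro R' hPR' hR' v hv hvP y hy
    have hle : NN P ⊓ NN Q ≤ NN P ⊓ NN R' := le_inf inf_le_left hR'
    exact F_inverted hS hsemi P R' hPR' hv hvP y (hle hy)
  obtain ⟨u, hu, huP⟩ := f_exists_swap hS P Q hPQ
  obtain ⟨v, hv, hvP⟩ := f_exists_swap hS P R (Ne.symm hRP)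
  have hinvu := F_inverted hS hsemi P Q hPQ hu huP
  have hinvv := key R (Ne.symm hRP) hR v hv hvP
  have hncent : ∀ y ∈ NN P ⊓ NN Q, (u * v) * y * (u * v)⁻¹ = y := by
    intro y hy
    have h1 : (u * v) * y * (u * v)⁻¹ = u * (v * y * v⁻¹) * u⁻¹ := by group
    rw [h1, hinvv y hy]
    have h2 := hinvu y⁻¹ (Subgroup.inv_mem _ hy)
    rw [h2, inv_inv]
  have hnP : (u * v) • P ≠ P := by
    intro h
    rw [mul_smul, hvP] at h
    have h3 : u • (u • R) = u • P := by rw [h]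
    rw [← mul_smul, r_invol_sq hu, one_smul, huP] at h3
    exact hRQ h3
  have hDR' : NN P ⊓ NN Q ≤ NN ((u * v) • P) := by
    intro y hy
    rw [r_mem_NN_iff, ← mul_smul]
    have h1 : y * (u * v) = (u * v) * y := by
      have := hncent y hy
      calc y * (u * v) = ((u * v) * y * (u * v)⁻¹) * (u * v) := by rw [this]
        _ = (u * v) * y := by group
    rw [h1, mul_smul, (r_mem_NN_iff P y).mp hy.1]
  obtain ⟨v', hv', hv'P⟩ := f_exists_swap hS P ((u * v) • P) (Ne.symm hnP)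
  have hinvv' := key ((u * v) • P) (Ne.symm hnP) hDR' v' hv' hv'P
  have hmP : v' * (u * v) ∈ NN P := by
    rw [r_mem_NN_iff, mul_smul, ← hv'P, ← mul_smul, r_invol_sq hv', one_smul]
  have hminv : ∀ y ∈ NN P ⊓ NN Q, (v' * (u * v)) * y * (v' * (u * v))⁻¹ = y⁻¹ := by
    intro y hy
    have h1 : (v' * (u * v)) * y * (v' * (u * v))⁻¹ = v' * ((u * v) * y * (u * v)⁻¹) * v'⁻¹ := by
      group
    rw [h1, hncent y hy, hinvv' y hy]
  obtain ⟨d, hd, c, hc, hmdc⟩ := NN_eq_D_mul_CC hS P Q hPQ hmP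
  have hcinv : ∀ y ∈ NN P ⊓ NN Q, c * y * c⁻¹ = y⁻¹ := by
    intro y hy
    have h1 : c = d⁻¹ * (v' * (u * v)) := by rw [hmdc]; group
    have h2 : c * y * c⁻¹ = d⁻¹ * ((v' * (u * v)) * y * (v' * (u * v))⁻¹) * d := by
      rw [h1]; group
    rw [h2, hminv y hy]
    have h3 := f_D_comm hS hsemi P Q hPQ d hd y⁻¹ (Subgroup.inv_mem _ hy)
    calc d⁻¹ * y⁻¹ * d = d⁻¹ * (y⁻¹ * d) := by group
      _ = d⁻¹ * (d * y⁻¹) := by rw [h3]
      _ = y⁻¹ := by group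
  have hall : ∀ y ∈ NN P ⊓ NN Q, y = 1 := by
    intro y hy
    have h1 : y⁻¹ * y⁻¹ ∈ NN P ⊓ NN Q :=
      Subgroup.mul_mem _ (Subgroup.inv_mem _ hy) (Subgroup.inv_mem _ hy)
    have h2 : y⁻¹ * y⁻¹ ∈ CC P := by
      have h3 : y⁻¹ * y⁻¹ = c * (y * c⁻¹ * y⁻¹) := by
        rw [← hcinv y hy]; group
      rw [h3]
      exact Subgroup.mul_mem _ hc (r_conj_mem_CC P hy.1 (Subgroup.inv_mem _ hc))
    have h4 := f_eq_one_of_mem_CC hS hsemi P Q hPQ h1 h2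
    have h5 : y * y = 1 := by
      have : y * y = (y⁻¹ * y⁻¹)⁻¹ := by rw [mul_inv_rev, inv_inv]
      rw [this, h4, inv_one]
    exact r_eq_one_of_sq_of_odd h5 (r_odd_of_mem_D hS P Q hPQ hy)
  have hbot : NN P ⊓ NN Q = ⊥ := (Subgroup.eq_bot_iff_forall _).mpr hall
  have hcard := F_card_D hS hsemi P Q hPQ
  rw [hbot, Subgroup.card_bot] at hcard
  have := three_le_nI hS P
  omega

/-- an element of `C(P)` commuting with `D = N(P) ⊓ N(Q)` elementwise is trivial -/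
theorem f_cent_D_trivial (P Q : Sylow 2 G) (hPQ : P ≠ Q) {c : G} (hc : c ∈ CC P)
    (hcD : ∀ y ∈ NN P ⊓ NN Q, c * y = y * c) : c = 1 := by
  have hcP : c ∈ NN P := r_CC_le_NN P hc
  have hfix : NN P ⊓ NN Q ≤ NN (c • Q) := by
    intro y hy
    rw [r_mem_NN_iff, ← mul_smul, ← hcD y hy, mul_smul, (r_mem_NN_iff Q y).mp hy.2]
  rcases F_fix hS hsemi P Q (c • Q) hPQ hfix with h | h
  · exfalso
    have h1 : c • Q = c • P := by rw [h, (r_mem_NN_iff P c).mp hcP]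
    exact hPQ (smul_left_cancel c h1).symm
  · exact f_eq_one_of_mem_CC hS hsemi P Q hPQ ⟨hcP, (r_mem_NN_iff Q c).mpr h⟩ hc

theorem F_trans (P Q R : Sylow 2 G) (hQ : Q ≠ P) (hR : R ≠ P) : ∃ a ∈ CC P, a • Q = R := by
  have hPQ : P ≠ Q := Ne.symm hQ
  haveI := F_cyclic hS hsemi P Q hPQ
  obtain ⟨h₀, hgen⟩ := IsCyclic.exists_generator (α := ↥(NN P ⊓ NN Q))
  have hhD : (h₀ : G) ∈ NN P ⊓ NN Q := h₀.2
  have hpow : ∀ y ∈ NN P ⊓ NN Q, ∃ k : ℤ, y = (h₀ : G) ^ k := by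
    intro y hy
    obtain ⟨k, hk⟩ := Subgroup.mem_zpowers_iff.mp (hgen ⟨y, hy⟩)
    refine ⟨k, ?_⟩
    have := congrArg Subtype.val hk
    rw [Subgroup.coe_zpow] at this
    exact this.symm
  obtain ⟨d, hd, a, ha, hda⟩ := NN_eq_D_mul_CC hS P R (Ne.symm hR) hhD.1
  have hhinv : (h₀ : G)⁻¹ ∈ NN P := Subgroup.inv_mem _ hhD.1
  let φ : ↥(CC P) → ↥(CC P) := fun b =>
    ⟨(h₀ : G)⁻¹ * b * ((h₀ : G)⁻¹)⁻¹ * (b : G)⁻¹,
      Subgroup.mul_mem _ (r_conj_mem_CC P hhinv b.2) (Subgroup.inv_mem _ b.2)⟩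
  have hinj : Function.Injective φ := by
    intro b b' hbb
    have h1 : (h₀ : G)⁻¹ * b * ((h₀ : G)⁻¹)⁻¹ * (b : G)⁻¹ =
        (h₀ : G)⁻¹ * b' * ((h₀ : G)⁻¹)⁻¹ * (b' : G)⁻¹ := congrArg Subtype.val hbb
    have hc : (b' : G)⁻¹ * b ∈ CC P := Subgroup.mul_mem _ (Subgroup.inv_mem _ b'.2) b.2
    have hch : ((b' : G)⁻¹ * b) * (h₀ : G) = (h₀ : G) * ((b' : G)⁻¹ * b) := by
      have h1' : (b : G) * h₀ * (b : G)⁻¹ = (b' : G) * h₀ * (b' : G)⁻¹ := by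
        have h2 : (h₀ : G)⁻¹ * ((b : G) * h₀ * (b : G)⁻¹) =
            (h₀ : G)⁻¹ * ((b' : G) * h₀ * (b' : G)⁻¹) := by
          rw [inv_inv] at h1
          simpa [mul_assoc] using h1
        exact mul_left_cancel h2
      calc ((b' : G)⁻¹ * b) * (h₀ : G) = (b' : G)⁻¹ * ((b : G) * h₀ * (b : G)⁻¹) * b := by group
        _ = (b' : G)⁻¹ * ((b' : G) * h₀ * (b' : G)⁻¹) * b := by rw [h1']
        _ = (h₀ : G) * ((b' : G)⁻¹ * b) := by group
    have hcD : ∀ y ∈ NN P ⊓ NN Q, ((b' : G)⁻¹ * b) * y = y * ((b' : G)⁻¹ * b) := by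
      intro y hy
      obtain ⟨k, rfl⟩ := hpow y hy
      exact (Commute.zpow_right (show Commute ((b' : G)⁻¹ * b) (h₀ : G) from hch) k).eq
    have h3 := f_cent_D_trivial hS hsemi P Q hPQ hc hcD
    exact Subtype.ext (inv_mul_eq_one.mp h3).symm
  have hsurj : Function.Surjective φ := Finite.injective_iff_surjective.mp hinj
  obtain ⟨b, hb⟩ := hsurj ⟨a⁻¹, Subgroup.inv_mem _ ha⟩
  have hb1 : (h₀ : G)⁻¹ * b * ((h₀ : G)⁻¹)⁻¹ * (b : G)⁻¹ = a⁻¹ := congrArg Subtype.val hb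
  have hbd : (b : G) * h₀ * (b : G)⁻¹ = d := by
    have h1 : (b : G) * h₀ * (b : G)⁻¹ =
        h₀ * ((h₀ : G)⁻¹ * b * ((h₀ : G)⁻¹)⁻¹ * (b : G)⁻¹) := by group
    rw [h1, hb1, hda]; group
  have hbP : (b : G) ∈ NN P := r_CC_le_NN P b.2
  have hfix : NN P ⊓ NN Q ≤ NN ((b : G)⁻¹ • R) := by
    intro y hy
    obtain ⟨k, rfl⟩ := hpow y hy
    have h1 : (b : G) * (h₀ : G) ^ k * (b : G)⁻¹ ∈ NN R := by
      rw [← conj_zpow, hbd]
      exact Subgroup.zpow_mem _ hd.2 k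
    rw [r_mem_NN_iff, ← mul_smul]
    have h2 : (h₀ : G) ^ k * (b : G)⁻¹ = (b : G)⁻¹ * ((b : G) * (h₀ : G) ^ k * (b : G)⁻¹) := by
      group
    rw [h2, mul_smul, (r_mem_NN_iff R _).mp h1]
  refine ⟨b, b.2, ?_⟩
  rcases F_fix hS hsemi P Q ((b : G)⁻¹ • R) hPQ hfix with h | h
  · exfalso
    apply hR
    have h1 : R = (b : G) • ((b : G)⁻¹ • R) := by rw [← mul_smul, mul_inv_cancel, one_smul]
    rw [h1, h, (r_mem_NN_iff P _).mp hbP]
  · rw [← h, ← mul_smul, mul_inv_cancel, one_smul]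

theorem F_card_sylow (P : Sylow 2 G) :
    Nat.card (Sylow 2 G) = Nat.card ↥(CC P) + 1 := by
  classical
  obtain ⟨Q, hPQ⟩ := r_exists_ne hS P
  have hne : ∀ a : ↥(CC P), (a : G) • Q ≠ P := by
    intro a h
    have h1 : (a : G) • Q = (a : G) • P := by
      rw [h, (r_mem_NN_iff P _).mp (r_CC_le_NN P a.2)]
    exact hPQ (smul_left_cancel _ h1).symm
  let ψ : ↥(CC P) → {R : Sylow 2 G // R ≠ P} := fun a => ⟨(a : G) • Q, hne a⟩
  have hbij : Function.Bijective ψ := by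
    constructor
    · intro a a' haa
      have h1 : (a : G) • Q = (a' : G) • Q := congrArg Subtype.val haa
      have h2 : ((a' : G)⁻¹ * a) • Q = Q := by
        rw [mul_smul, h1, ← mul_smul, inv_mul_cancel, one_smul]
      have hc : (a' : G)⁻¹ * a ∈ CC P := Subgroup.mul_mem _ (Subgroup.inv_mem _ a'.2) a.2
      have h3 := f_eq_one_of_mem_CC hS hsemi P Q hPQ
        ⟨r_CC_le_NN P hc, (r_mem_NN_iff Q _).mpr h2⟩ hc
      exact Subtype.ext (inv_mul_eq_one.mp h3).symm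
    · rintro ⟨R, hR⟩
      obtain ⟨a, ha, haR⟩ := F_trans hS hsemi P Q R (Ne.symm hPQ) hR
      exact ⟨⟨a, ha⟩, Subtype.ext haR⟩
  rw [Nat.card_congr (Equiv.optionSubtypeNe P).symm, Finite.card_option,
    ← Nat.card_eq_of_bijective ψ hbij]

end F

end Cfsg.Agent.Lib.Helper21.AbCent
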