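import Mathlib
import Cfsg.Agent.Lib.Lead.B3P.Defs

/-!
# Project B3P (S4427) : piece VPHI (`exists_phi_zeta`)
-/

set_option autoImplicit false
set_option linter.unusedVariables false
set_option linter.unusedSectionVars false
set_option linter.style.haveILetI false
open scoped ComplexConjugate
open Classical

namespace Cfsg.Agent.Lib.Lead.B3P

open Cfsg.Agent.Lib.helper7 Cfsg.Agent.Lib.helper7.Br Polynomial

variable {G : Type*} [Group G]

/-- the unit `ζ • σ` of the group algebra of `ℤ/N` -/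
noncomputable def b3pvphi_unit {O : Type*} [CommRing O] (N m : ℕ) (hm : 0 < m) (ζ : O)
    (hζ : ζ ^ m = 1) : (MonoidAlgebra O (Multiplicative (ZMod N)))ˣ where
  val := MonoidAlgebra.single (Multiplicative.ofAdd (1 : ZMod N)) ζ
  inv := MonoidAlgebra.single (Multiplicative.ofAdd (-1 : ZMod N)) (ζ ^ (m - 1))
  val_inv := by
    rw [MonoidAlgebra.single_mul_single, ← ofAdd_add, add_neg_cancel, ← pow_succ',
      Nat.sub_add_cancel hm, hζ]
    rfl
  inv_val := by
    rw [MonoidAlgebra.single_mul_single, ← ofAdd_add, neg_add_cancel, ← pow_succ,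
      Nat.sub_add_cancel hm, hζ]
    rfl

theorem b3pvphi_unit_pow {O : Type*} [CommRing O] (N m : ℕ) (hm : 0 < m) (ζ : O)
    (hζ : ζ ^ m = 1) (k : ℕ) :
    ((b3pvphi_unit N m hm ζ hζ ^ k : (MonoidAlgebra O (Multiplicative (ZMod N)))ˣ) :
      MonoidAlgebra O (Multiplicative (ZMod N))) =
      MonoidAlgebra.single (Multiplicative.ofAdd ((k : ℕ) : ZMod N)) (ζ ^ k) := by
  rw [Units.val_pow_eq_pow_val]
  show (MonoidAlgebra.single (Multiplicative.ofAdd (1 : ZMod N)) ζ) ^ k = _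
  rw [MonoidAlgebra.single_pow, ← ofAdd_nsmul, nsmul_one]

/-- piece VPHI : the homomorphism `y^k ↦ ζ^k • σ^k` from `⟨y⟩` to the group algebra of `ℤ/p^s` -/
theorem exists_phi_zeta {O : Type*} [CommRing O] (p s m : ℕ) (y : G) (hy : orderOf y = p ^ s * m)
    (hpos : 0 < p ^ s * m) (ζ : O) (hζ : ζ ^ m = 1) :
    ∃ φ : Subgroup.zpowers y →* MonoidAlgebra O (Multiplicative (ZMod (p ^ s))),
      ∀ k : ℕ, φ ⟨y ^ k, Subgroup.npow_mem_zpowers y k⟩ =
        MonoidAlgebra.single (Multiplicative.ofAdd ((k : ℕ) : ZMod (p ^ s))) (ζ ^ k) := by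
  have hm : 0 < m := Nat.pos_of_mul_pos_left hpos
  set g : Subgroup.zpowers y := ⟨y, Subgroup.mem_zpowers y⟩ with hgdef
  have hg : ∀ x : Subgroup.zpowers y, x ∈ Subgroup.zpowers g := by
    intro x
    obtain ⟨k, hk⟩ := Subgroup.mem_zpowers_iff.mp x.2
    rw [Subgroup.mem_zpowers_iff]
    refine ⟨k, ?_⟩
    apply Subtype.ext
    rw [Subgroup.coe_zpow]
    exact hk
  have hord : orderOf g = p ^ s * m := by
    rw [← hy]
    exact Subgroup.orderOf_mk y (Subgroup.mem_zpowers y)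
  set u := b3pvphi_unit (p ^ s) m hm ζ hζ with hu
  have hu' : orderOf u ∣ orderOf g := by
    rw [hord]
    apply orderOf_dvd_of_pow_eq_one
    apply Units.ext
    rw [b3pvphi_unit_pow]
    have h1 : ((p ^ s * m : ℕ) : ZMod (p ^ s)) = 0 := by
      rw [ZMod.natCast_eq_zero_iff]
      exact Dvd.intro _ rfl
    have h2 : ζ ^ (p ^ s * m) = 1 := by
      rw [mul_comm, pow_mul, hζ, one_pow]
    rw [h1, h2]
    rfl
  refine ⟨(Units.coeHom _).comp (monoidHomOfForallMemZpowers hg hu'), ?_⟩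
  intro k
  have h3 : (⟨y ^ k, Subgroup.npow_mem_zpowers y k⟩ : Subgroup.zpowers y) = g ^ k := by
    apply Subtype.ext
    rw [Subgroup.coe_pow]
  rw [h3, map_pow, MonoidHom.comp_apply, monoidHomOfForallMemZpowers_apply_gen, ← map_pow,
    Units.coeHom_apply, b3pvphi_unit_pow]

end Cfsg.Agent.Lib.Lead.B3P
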