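import Mathlib
import Cfsg.Agent.Lib.Lead.B3P.Defs
import Cfsg.Agent.Lib.Helper19.B3PLOC
import Cfsg.Agent.Lib.Helper16.B3PROOTS
import Cfsg.Agent.Lib.helper14.B3PVMAIN

/-!
# Project B3P (S4427) : piece VAN (`vanish`)
-/

set_option autoImplicit false
set_option linter.unusedVariables false
set_option linter.unusedSectionVars false
set_option linter.style.haveILetI false
open scoped ComplexConjugate
open Classical

namespace Cfsg.Agent.Lib.Lead.B3P

open Cfsg.Agent.Lib.helper7 Cfsg.Agent.Lib.helper7.Br Polynomial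

variable {G : Type*} [Group G]

/-- piece VAN : instantiation for the local ring at `M` -/
theorem vanish [Fintype G] {p : ℕ} [Fact p.Prime] {M : Ideal Cfsg.AlgInt}
    (hMp : Cfsg.IsPModular p M) (hM : M.IsPrime) (f : GA (locRing M hM) G) (hf : f * f = f)
    (y : G) (hy : p ∣ orderOf y) : Phi (toC f) y = 0 := by
  haveI : IsLocalRing (locRing M hM) := locRing_isLocalRing M hM
  have hp := locRing_p_mem hMp hM
  have hroots := locRing_roots M hM
  have hy' : p ∣ orderOf y⁻¹ := by rw [orderOf_inv]; exact hy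
  have h := vanish_core (O := locRing M hM) p hp hroots f hf y⁻¹ hy'
  rw [Phi_apply]
  have h2 : ∑ z : G, toC f (z⁻¹ * y⁻¹ * z) =
      (((∑ z : G, f (z⁻¹ * y⁻¹ * z) : locRing M hM)) : ℂ) := by
    push_cast
    rfl
  rw [h2, h]
  rfl

end Cfsg.Agent.Lib.Lead.B3P
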