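import Mathlib
import Cfsg.Agent.Lib.Lead.BCG.Defs
import Cfsg.Agent.Lib.helper8.S5955X4
import Cfsg.Agent.Lib.Helper11.BCGX2
import Cfsg.Agent.Lib.Helper11.BCGX3

set_option autoImplicit false

/-!
# Project BCG, row S3 (helper21, first half): from an abstract symplectic model to matrices.
An abstract symplectic space of dimension `2n` with an isometry `x'`, `x' ^ (2 s) = -1`, `x' ^ 4 ≠ 1`
(`s` prime) gives commuting `t, y ∈ Sp_{2n}(F)` with `orderOf y = s` and `t * t = negOne`.
-/

namespace Cfsg.Agent.Lib.Lead.BCG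

open Polynomial Module Matrix Cfsg.Agent.Lib.Helper13.S5955 Cfsg.Agent.Lib.helper15.S5972
  Cfsg.Agent.Lib.Helper18.ONE Cfsg.Agent.Lib.Lead.BCS

/-- intertwining passes to powers -/
theorem bcgs3_intertwine_pow {F : Type*} [Field F] {V V' : Type*} [AddCommGroup V] [Module F V]
    [AddCommGroup V'] [Module F V'] (y : Module.End F V) (x' : Module.End F V')
    (ψ : V ≃ₗ[F] V') (hψ : ∀ u, ψ (y u) = x' (ψ u)) (k : ℕ) (u : V) :
    ψ ((y ^ k) u) = (x' ^ k) (ψ u) := by
  induction k generalizing u with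
  | zero => rw [pow_zero, pow_zero, Module.End.one_apply, Module.End.one_apply]
  | succ k ih =>
    rw [pow_succ, pow_succ, Module.End.mul_apply, Module.End.mul_apply, ih, hψ]

/-- S3, first half: an abstract model gives the matrices. -/
theorem bcgs3_of_model {F : Type*} [Field F] (n s : ℕ) [Fact s.Prime]
    {V' : Type*} [AddCommGroup V'] [Module F V'] [FiniteDimensional F V']
    (B' : LinearMap.BilinForm F V') (x' : Module.End F V')
    (h : SCtx (4 * s) B' x') (hV : finrank F V' = 2 * n)
    (hneg : x' ^ (2 * s) = -1) (hne : x' ^ 4 ≠ 1) :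
    ∃ t y : Matrix.symplecticGroup (Fin n) F, Commute t y ∧ orderOf y = s ∧
      t * t = Cfsg.Agent.S0246.negOne F n := by
  obtain ⟨y0, ψ, hctx, -, hψ⟩ := transport B' x' h n hV
  obtain ⟨X, hX⟩ := sp_realize n y0 hctx.pres
  have hpow := bcgs3_intertwine_pow y0 x' ψ hψ
  have hy0neg : y0 ^ (2 * s) = -1 := by
    apply LinearMap.ext
    intro u
    apply ψ.injective
    rw [hpow, hneg, LinearMap.neg_apply, LinearMap.neg_apply, Module.End.one_apply,
      Module.End.one_apply, map_neg]
  have hy0ne : y0 ^ 4 ≠ 1 := by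
    intro h1
    apply hne
    apply LinearMap.ext
    intro v
    obtain ⟨u, rfl⟩ := ψ.surjective v
    rw [← hpow, h1, Module.End.one_apply, Module.End.one_apply]
  refine ⟨X ^ s, X ^ 4, (Commute.refl X).pow_pow s 4, ?_, ?_⟩
  · apply orderOf_eq_prime
    · rw [← pow_mul, sp_same, hX]
      exact hctx.pow
    · intro h1
      apply hy0ne
      rw [sp_same, hX] at h1
      exact h1
  · rw [← pow_add, ← two_mul]
    apply Subtype.ext
    rw [Cfsg.Agent.S0246.negOne_coe, SubmonoidClass.coe_pow]
    apply Matrix.toLin'.injective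
    rw [← bcgx3_toLin_pow, hX, hy0neg, map_neg, Matrix.toLin'_one]
    rfl

end Cfsg.Agent.Lib.Lead.BCG
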