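import Mathlib
import Cfsg.Agent.Lib.Lead.BCG.Defs

set_option autoImplicit false

/-!
# Project BCG, row S3 (helper21, second half, part 1): the hermitian trace form of a quadratic
field extension is a symplectic context for the norm-one elements.
`K / F` finite separable, `σ` an `F`-automorphism of order `2`, `σ θ = -θ ≠ 0`:
`(u, v) ↦ trace (θ u σ v)` is alternating and nondegenerate, and multiplication by `a`
with `a σ a = 1` preserves it.
-/

namespace Cfsg.Agent.Lib.Lead.BCG

open Polynomial Module Matrix Cfsg.Agent.Lib.Helper13.S5955 Cfsg.Agent.Lib.helper15.S5972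
  Cfsg.Agent.Lib.Helper18.ONE Cfsg.Agent.Lib.Lead.BCS

/-- the form `(u, v) ↦ trace (θ u σ v)` -/
noncomputable def bcgs3h21_form {F K : Type*} [Field F] [Field K] [Algebra F K] (σ : K ≃ₐ[F] K)
    (θ : K) : LinearMap.BilinForm F K :=
  (Algebra.traceForm F K).comp (LinearMap.mulLeft F θ) σ.toLinearMap

theorem bcgs3h21_form_apply {F K : Type*} [Field F] [Field K] [Algebra F K] (σ : K ≃ₐ[F] K)
    (θ u v : K) : bcgs3h21_form σ θ u v = Algebra.trace F K (θ * u * σ v) := rfl

/-- the context -/
theorem bcgs3h21_field_ctx {F K : Type*} [Field F] [Field K] [Algebra F K] [FiniteDimensional F K]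
    [Algebra.IsSeparable F K] (h2 : (2 : F) ≠ 0) (σ : K ≃ₐ[F] K) (hσ : ∀ x, σ (σ x) = x)
    (θ : K) (hθ0 : θ ≠ 0) (hθ : σ θ = -θ) (a : K) (ha : a * σ a = 1) (N : ℕ)
    (haN : a ^ N = 1) :
    SCtx N (bcgs3h21_form σ θ) (LinearMap.mulLeft F a) := by
  refine ⟨?_, ?_, ?_, ?_⟩
  · intro v
    rw [bcgs3h21_form_apply]
    have h1 : σ (θ * v * σ v) = -(θ * v * σ v) := by
      rw [map_mul σ, map_mul σ, hσ, hθ]
      ring
    have h3 := Algebra.trace_eq_of_algEquiv σ (θ * v * σ v)
    rw [h1, map_neg] at h3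
    have h4 : (2 : F) * Algebra.trace F K (θ * v * σ v) = 0 := by
      linear_combination -h3
    rcases mul_eq_zero.mp h4 with h5 | h5
    · exact absurd h5 h2
    · exact h5
  · intro u hu
    have h1 : θ * u = 0 := by
      apply (traceForm_nondegenerate F K).1
      intro w
      have := hu (σ w)
      rw [bcgs3h21_form_apply, hσ] at this
      rw [Algebra.traceForm_apply]
      exact this
    rcases mul_eq_zero.mp h1 with h5 | h5
    · exact absurd h5 hθ0
    · exact h5
  · intro u v
    rw [bcgs3h21_form_apply, bcgs3h21_form_apply, LinearMap.mulLeft_apply, LinearMap.mulLeft_apply,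
      map_mul σ a v]
    have : θ * (a * u) * (σ a * σ v) = (a * σ a) * (θ * u * σ v) := by ring
    rw [this, ha, one_mul]
  · rw [LinearMap.pow_mulLeft, haN, LinearMap.mulLeft_one]
    rfl

end Cfsg.Agent.Lib.Lead.BCG
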