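import Mathlib

set_option autoImplicit false

/-!
# Project BCG, row S3 (helper21, second half, part 2): the elements of the field model.
A finite field `K` with `Q ^ 2` elements, `Q ≡ 3 (mod 4)`, `s` an odd prime dividing `Q + 1`:
`θ ≠ 0` with `θ ^ Q = -θ` and `a` with `a ^ (Q + 1) = 1`, `a ^ (2 s) = -1`, `a ^ 4 ≠ 1`.
-/

namespace Cfsg.Agent.Lib.Lead.BCG

theorem bcgs3h21_elts {K : Type*} [Field K] [Finite K] (Q s : ℕ) (hK : Nat.card K = Q ^ 2)
    (hQ4 : Q % 4 = 3) (hs : s.Prime) (hs2 : s ≠ 2) (hsQ : s ∣ Q + 1) :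
    ∃ θ a : K, θ ≠ 0 ∧ θ ^ Q = -θ ∧ a * a ^ Q = 1 ∧ a ^ (4 * s) = 1 ∧ a ^ (2 * s) = -1 ∧
      a ^ 4 ≠ 1 := by
  obtain ⟨g, hg⟩ := IsCyclic.exists_generator (α := Kˣ)
  have hord : orderOf g = Q ^ 2 - 1 := by
    rw [orderOf_eq_card_of_forall_mem_zpowers hg, Nat.card_units, hK]
  -- arithmetic
  have h4 : 4 ∣ Q + 1 := by omega
  have hcop : Nat.Coprime 4 s := by
    have : Nat.Coprime 2 s := by
      rw [Nat.coprime_primes Nat.prime_two hs]
      exact fun h => hs2 h.symm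
    exact Nat.Coprime.pow_left 2 this
  obtain ⟨M, hM⟩ := Nat.Coprime.mul_dvd_of_dvd_of_dvd hcop h4 hsQ
  obtain ⟨R, hR⟩ : ∃ R, Q = R + 1 := ⟨Q - 1, by omega⟩
  have hR2 : 2 ≤ R := by omega
  have hs1 : 2 ≤ s := hs.two_le
  have hM1 : 1 ≤ M := by
    rcases Nat.eq_zero_or_pos M with h0 | h0
    · rw [h0, mul_zero] at hM
      omega
    · exact h0
  have hQ2 : Q ^ 2 - 1 = R * (4 * s * M) := by
    rw [← hM, hR]
    have : (R + 1) ^ 2 = R * (R + 1 + 1) + 1 := by ring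
    rw [this, Nat.add_sub_cancel]
  have hpos : 0 < R * M * s := by positivity
  set a' : Kˣ := g ^ (R * M) with ha'
  have ha4s : a' ^ (4 * s) = 1 := by
    rw [ha', ← pow_mul]
    have : R * M * (4 * s) = orderOf g := by
      rw [hord, hQ2]
      ring
    rw [this, pow_orderOf_eq_one]
  have ha2s : a' ^ (2 * s) ≠ 1 := by
    intro h1
    rw [ha', ← pow_mul] at h1
    have hd := orderOf_dvd_of_pow_eq_one h1
    rw [hord, hQ2] at hd
    have hle := Nat.le_of_dvd (by positivity) hd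
    nlinarith
  have ha4 : a' ^ 4 ≠ 1 := by
    intro h1
    rw [ha', ← pow_mul] at h1
    have hd := orderOf_dvd_of_pow_eq_one h1
    rw [hord, hQ2] at hd
    have hle := Nat.le_of_dvd (by positivity) hd
    nlinarith
  have hsq : ((a' ^ (2 * s) : Kˣ) : K) * ((a' ^ (2 * s) : Kˣ) : K) = 1 := by
    have h22 : 2 * s + 2 * s = 4 * s := by ring
    rw [← Units.val_mul, ← pow_add, h22, ha4s, Units.val_one]
  have hneg : ((a' ^ (2 * s) : Kˣ) : K) = -1 := by
    rcases mul_self_eq_one_iff.mp hsq with h1 | h1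
    · exact absurd (Units.ext h1) ha2s
    · exact h1
  have haQ : a' * a' ^ Q = 1 := by
    rw [← pow_succ', hM, pow_mul, ha4s, one_pow]
  refine ⟨((g ^ (2 * s * M) : Kˣ) : K), (a' : K), Units.ne_zero _, ?_, ?_, ?_, ?_, ?_⟩
  · have h1 : (g ^ (2 * s * M)) ^ R = a' ^ (2 * s) := by
      rw [ha', ← pow_mul, ← pow_mul]
      congr 1
      ring
    rw [hR, pow_succ, ← Units.val_pow_eq_pow_val, h1, hneg]
    ring
  · rw [← Units.val_pow_eq_pow_val, ← Units.val_mul, haQ, Units.val_one]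
  · rw [← Units.val_pow_eq_pow_val, ha4s, Units.val_one]
  · rw [← Units.val_pow_eq_pow_val, hneg]
  · intro h1
    apply ha4
    apply Units.ext
    rw [Units.val_pow_eq_pow_val, h1, Units.val_one]

end Cfsg.Agent.Lib.Lead.BCG
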