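import Mathlib
import Cfsg.Agent.Lib.Lead.BCG.Defs
import Cfsg.Agent.Lib.Helper21.BCGS3h21a
import Cfsg.Agent.Lib.Helper21.BCGS3h21b
import Cfsg.Agent.Lib.Helper21.BCGS3h21c

set_option autoImplicit false

/-!
# Project BCG, row S3 (helper21): `sp_torus_minus` by the field model
`K = FiniteField.Extension F p (2 n)`, `σ = Frob ^ n`, `(u, v) ↦ trace (θ u σ v)`, `x' = a •`.
-/

namespace Cfsg.Agent.Lib.Lead.BCG

open Polynomial Module Matrix Cfsg.Agent.Lib.Helper13.S5955 Cfsg.Agent.Lib.helper15.S5972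
  Cfsg.Agent.Lib.Helper18.ONE Cfsg.Agent.Lib.Lead.BCS

/-- S3 [L], the whole row under a seat name -/
theorem bcgs3_h21model {F : Type*} [Field F] [Fintype F] {p : ℕ} [Fact p.Prime] [CharP F p]
    (n : ℕ) (hn : 1 ≤ n) (h4 : Fintype.card F ^ n % 4 = 3) (s : ℕ) [Fact s.Prime] (hs2 : s ≠ 2)
    (hs : s ∣ Fintype.card F ^ n + 1) :
    ∃ t y : Matrix.symplecticGroup (Fin n) F, Commute t y ∧ orderOf y = s ∧
      t * t = Cfsg.Agent.S0246.negOne F n := by
  have : NeZero (2 * n) := ⟨by omega⟩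
  have h2 : (2 : F) ≠ 0 := by
    intro h
    have : CharP F 2 := CharTwo.of_one_ne_zero_of_two_eq_zero one_ne_zero h
    have h3 : ringChar F = 2 := ringChar.eq F 2
    have h5 : Fintype.card F % 2 = 0 := FiniteField.even_card_iff_char_two.mp h3
    have h6 : Fintype.card F ^ n % 2 = 0 := by
      obtain ⟨m, rfl⟩ : ∃ m, n = m + 1 := ⟨n - 1, by omega⟩
      rw [pow_succ, Nat.mul_mod, h5, mul_zero, Nat.zero_mod]
    omega
  have hcard : Nat.card (FiniteField.Extension F p (2 * n)) = (Fintype.card F ^ n) ^ 2 := by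
    rw [FiniteField.natCard_extension, Nat.card_eq_fintype_card, ← pow_mul, mul_comm]
  obtain ⟨θ, a, hθ0, hθ, ha, ha4s, ha2s, ha4⟩ :=
    bcgs3h21_elts (K := FiniteField.Extension F p (2 * n)) (Fintype.card F ^ n) s hcard h4
      Fact.out hs2 hs
  have hσ : ∀ x : FiniteField.Extension F p (2 * n),
      ((FiniteField.Extension.frob F p (2 * n)) ^ n) x = x ^ (Fintype.card F ^ n) := by
    intro x
    rw [FiniteField.Extension.frob_iterate_apply, Nat.card_eq_fintype_card]
  have hσσ : ∀ x : FiniteField.Extension F p (2 * n),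
      ((FiniteField.Extension.frob F p (2 * n)) ^ n)
        (((FiniteField.Extension.frob F p (2 * n)) ^ n) x) = x := by
    intro x
    rw [hσ, hσ, ← pow_mul, ← sq, ← hcard]
    let := Fintype.ofFinite (FiniteField.Extension F p (2 * n))
    rw [Nat.card_eq_fintype_card, FiniteField.pow_card]
  have hctx := bcgs3h21_field_ctx h2 ((FiniteField.Extension.frob F p (2 * n)) ^ n) hσσ θ hθ0
    (by rw [hσ, hθ]) a (by rw [hσ]; exact ha) (4 * s) ha4s
  refine bcgs3_of_model n s (bcgs3h21_form ((FiniteField.Extension.frob F p (2 * n)) ^ n) θ)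
    (LinearMap.mulLeft F a) hctx (FiniteField.finrank_extension F p (2 * n)) ?_ ?_
  · rw [LinearMap.pow_mulLeft, ha2s]
    apply LinearMap.ext
    intro x
    rw [LinearMap.mulLeft_apply, LinearMap.neg_apply, Module.End.one_apply, neg_one_mul]
  · intro h1
    rw [LinearMap.pow_mulLeft] at h1
    apply ha4
    have h3 := LinearMap.congr_fun h1 1
    rw [LinearMap.mulLeft_apply, mul_one, Module.End.one_apply] at h3
    exact h3

end Cfsg.Agent.Lib.Lead.BCG
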