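import Mathlib
import Cfsg.Agent.Lib.Lead.BCS.Defs
import Cfsg.Agent.Lib.Helper21.BCSA6Bh21w

set_option autoImplicit false
set_option linter.unusedVariables false
set_option linter.unusedSectionVars false

/-!
# Project BCS (designer lead), row A6b (verbatim): `bcs_unip_cyc_split` = `bcsa6b_h21`.
-/

namespace Cfsg.Agent.Lib.Lead.BCS

open Polynomial Module Matrix Cfsg.Agent.Lib.Helper13.S5955 Cfsg.Agent.Lib.helper15.S5972
  Cfsg.Agent.Lib.Helper18.ONE

theorem bcs_unip_cyc_split {F : Type*} [Field F] [Fintype F] {p : ℕ} [Fact p.Prime] [CharP F p]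
    (h2 : (2 : F) ≠ 0) {V : Type*} [AddCommGroup V] [Module F V] [FiniteDimensional F V]
    {ℓ : ℕ} [Fact ℓ.Prime] (hℓp : ℓ ≠ p) {B : LinearMap.BilinForm F V}
    {y u : Module.End F V} (h : OCtx ℓ B y) (hu : OCtx p B u) (hc : Commute u y) (m : ℕ)
    (hmo : Odd m) (hord : orderOf ((Fintype.card F : ℕ) : ZMod ℓ) = m)
    (hdim : finrank F (cycS ℓ y) = 2 * m) :
    ∀ w ∈ cycS ℓ y, u w = w :=
  bcsa6b_h21 h2 hℓp h hu hc m hmo hord hdim

end Cfsg.Agent.Lib.Lead.BCS
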