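import Mathlib
import Cfsg.Agent.Lib.Helper21.BG13o
import Cfsg.Agent.Lib.Helper28.BGtT
import Cfsg.Agent.S1428

set_option autoImplicit false

/-! # The `κ ∩ τ₃` configuration: a `τ₁`-subgroup of prime order centralizing `P` centralizes
`C_{M_σ}(P)` (helper21) -/

namespace Cfsg.Agent.Lib.Helper21.BG13n

open Cfsg Cfsg.Agent.Lib.Helper18 Cfsg.Agent.Lib.Helper28.BGt

variable {G : Type*} [Group G] [Finite G]

/-- the setting: `p ∈ τ₃(M)`, `P ≤ E` of order `p`, `C_{M_σ}(P) ≠ 1`, `H` maximal over `N_G(P)` -/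
structure Cfg (M E P H : Subgroup G) (p : ℕ) : Prop where
  hG : Cfsg.IsMinSimpleOddOrder G
  hM : IsCoatom M
  hE : Cfsg.IsComplIn E (Cfsg.sigmaCore M) M
  hp3 : p ∈ Cfsg.tau3 M
  hPE : P ≤ E
  hPc : Nat.card P = p
  hY : Cfsg.sigmaCore M ⊓ Subgroup.centralizer (P : Set G) ≠ ⊥
  hH : IsCoatom H
  hNH : Subgroup.normalizer (P : Set G) ≤ H

namespace Cfg

variable {M E P H : Subgroup G} {p : ℕ}

theorem prime (c : Cfg M E P H p) : p.Prime := c.hp3.1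
theorem hpσ (c : Cfg M E P H p) : p ∉ Cfsg.sigma M := c.hp3.2.1
theorem hr1 (c : Cfg M E P H p) : Cfsg.PRankLE p 1 ↥M := c.hp3.2.2.2
theorem hPM (c : Cfg M E P H p) : P ≤ M := c.hPE.trans c.hE.1
theorem hPp (c : Cfg M E P H p) : IsPGroup p P :=
  IsPGroup.of_card (n := 1) (by rw [c.hPc, pow_one])
theorem hP1 (c : Cfg M E P H p) : P ≠ ⊥ := by
  intro h
  have := c.hPc
  rw [h, Subgroup.card_bot] at this
  exact c.prime.one_lt.ne this

theorem hEP (c : Cfg M E P H p) : E ≤ Subgroup.normalizer (P : Set G) := by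
  haveI : Fact p.Prime := ⟨c.prime⟩
  exact Cfsg.Agent.Lib.Helper21.BG13s.tau3_prime_normal c.hG c.hM c.hE c.hp3 c.hPE c.hPc

theorem hEH (c : Cfg M E P H p) : E ≤ H := c.hEP.trans c.hNH

theorem partner (c : Cfg M E P H p) :
    (∀ g : G, H ≠ conjSub g M) ∧ p ∈ Cfsg.sigma H ∧ P ≤ Cfsg.sigmaCore H := by
  haveI : Fact p.Prime := ⟨c.prime⟩
  exact Cfsg.Agent.Lib.Helper21.BG13t.le_sigmaCore_of_normalizer_le c.hG c.hM c.hH c.hpσ c.hr1
    c.hPc c.hPM c.hNH c.hY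

theorem hHM (c : Cfg M E P H p) : H ≠ M := by
  intro h
  apply c.partner.1 1
  rw [conjSub_one]; exact h

theorem tau2_empty (c : Cfg M E P H p) (r : ℕ) : r ∉ Cfsg.tau2 M := by
  haveI : Fact p.Prime := ⟨c.prime⟩
  exact Cfsg.Agent.Lib.Helper21.BG13s.tau2_empty_of_tau3_kappa c.hG c.hM c.hE c.hp3 c.hPE c.hPc
    c.hY r

theorem inf_eq (c : Cfg M E P H p) :
    Cfsg.sigmaCore M ⊓ H = Cfsg.sigmaCore M ⊓ Subgroup.centralizer (P : Set G) := by
  haveI : Fact p.Prime := ⟨c.prime⟩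
  exact Cfsg.Agent.Lib.Helper10.ThirteenTwo.inf_eq_cent c.hG c.hM c.hH c.hpσ c.hr1 c.hPp c.hP1
    c.hPM c.hNH

/-- a prime `t ∉ σ(M)`, `t ∉ τ₁(H)`: the `t`-elements of `M ∩ H` centralize `C_{M_σ}(P)` -/
theorem cent_of_not_tau1 (c : Cfg M E P H p) {t : ℕ} (ht : t.Prime) (htσ : t ∉ Cfsg.sigma M)
    (htτ : t ∉ Cfsg.tau1 H) {x : G} (hxM : x ∈ M) (hxH : x ∈ H) (hxt : x ^ t = 1) :
    Cfsg.sigmaCore M ⊓ Subgroup.centralizer (P : Set G) ≤ Subgroup.centralizer ({x} : Set G) := by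
  haveI : Fact p.Prime := ⟨c.prime⟩
  haveI : Fact t.Prime := ⟨ht⟩
  have hb := Cfsg.Agent.Lib.Helper10.ThirteenTwo.part_b c.hG c.hM c.hH c.hpσ c.hr1 c.hPp c.hP1
    c.hPM c.hNH htσ htτ x ⟨hxM, hxH⟩ ⟨1, by rw [pow_one]; exact hxt⟩
  intro d hd
  rw [← c.inf_eq] at hd
  rw [Subgroup.mem_centralizer_singleton_iff]
  exact (hb d hd).symm

/-- the primes of `E`: in `τ₁(M)` or `τ₃(M)` -/
theorem type_cases (c : Cfg M E P H p) {u : ℕ} (hu : u.Prime) (huE : u ∣ Nat.card E) :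
    u ∈ Cfsg.tau1 M ∨ u ∈ Cfsg.tau3 M := by
  have huσ := compl_prime_not_sigma c.hG c.hM c.hE hu huE
  have huM : u ∣ Nat.card M := huE.trans (Subgroup.card_dvd_of_le c.hE.1)
  rcases Cfsg.Agent.Lib.Helper11.LemLA.type_cases c.hG c.hM hu huM huσ with h | h | h
  · exact Or.inl h
  · exact absurd h (c.tau2_empty u)
  · exact Or.inr h

/-- elements of `E` of `τ₃(M)`-order centralize `P` -/
theorem tau3_elt_cent (c : Cfg M E P H p) {x : G} (hxE : x ∈ E)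
    (hx : ∀ q : ℕ, q.Prime → q ∣ orderOf x → q ∈ Cfsg.tau3 M) :
    x ∈ Subgroup.centralizer (P : Set G) := by
  haveI hEs : Group.IsSolvable ↥E := Cfsg.Agent.Lib.Helper1.BG12b.compl_solvable c.hG c.hM c.hE.1
  obtain ⟨E₃, hE₃, hPE₃⟩ := Cfsg.Agent.Lib.Helper11.LemLA.exists_piHallOf_ge (Cfsg.tau3 M) E
    c.hPE (by
      intro q hq hqd
      rw [c.hPc] at hqd
      rw [(Nat.prime_dvd_prime_iff_eq hq c.prime).mp hqd]
      exact c.hp3)
  obtain ⟨hcyc, -, hn⟩ := (Cfsg.Agent.S1415.result c.hG M c.hM E c.hE).2.2 E₃ hE₃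
  have hxE₃ : x ∈ E₃ := Cfsg.Agent.Lib.Helper1.BG12b.mem_of_piHall_normal hE₃ hn hxE hx
  rw [Subgroup.mem_centralizer_iff]
  intro g hg
  letI := IsCyclic.commGroup (α := E₃)
  exact congrArg Subtype.val (mul_comm (⟨g, hPE₃ hg⟩ : E₃) ⟨x, hxE₃⟩)

/-- **(K0)** a subgroup `B ≤ E` of prime order `r ∈ τ₁(M)` centralizing `P` centralizes
`C_{M_σ}(P)` -/
theorem cent_of_cent (c : Cfg M E P H p) {r : ℕ} (hr1 : r ∈ Cfsg.tau1 M) {B : Subgroup G}
    (hBE : B ≤ E) (hBc : Nat.card B = r) (hBP : B ≤ Subgroup.centralizer (P : Set G)) :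
    Cfsg.sigmaCore M ⊓ Subgroup.centralizer (P : Set G) ≤ Subgroup.centralizer (B : Set G) := by
  classical
  by_contra hnc
  have hG := c.hG
  have hM := c.hM
  have hE := c.hE
  have hH := c.hH
  haveI : Fact p.Prime := ⟨c.prime⟩
  haveI hEs : Group.IsSolvable ↥E := Cfsg.Agent.Lib.Helper1.BG12b.compl_solvable hG hM hE.1
  have hr := hr1.1
  -- a Hall `τ₁(M)`-subgroup `E₁ ⊇ B`
  obtain ⟨E₁, hE₁, hBE₁⟩ := Cfsg.Agent.Lib.Helper11.LemLA.exists_piHallOf_ge (Cfsg.tau1 M) E hBE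
    (by
      intro q hq hqd
      rw [hBc] at hqd
      rw [(Nat.prime_dvd_prime_iff_eq hq hr).mp hqd]
      exact hr1)
  have hE₁cyc : IsCyclic E₁ := (Cfsg.Agent.S1415.result hG M hM E hE).2.1 E₁ hE₁
  have hcomm : ∀ a ∈ E₁, ∀ b ∈ E₁, a * b = b * a := by
    intro a ha b hb
    letI := IsCyclic.commGroup (α := E₁)
    exact congrArg Subtype.val (mul_comm (⟨a, ha⟩ : E₁) ⟨b, hb⟩)
  have hPAM := Cfsg.Agent.Lib.Helper21.BG13r.tau1_prime_action hG hM hE hE₁.1 hE₁.2.1 hcomm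
  -- every prime of `E₁` is in `τ₁(H)`
  have hτH : ∀ u : ℕ, u.Prime → u ∣ Nat.card E₁ → u ∈ Cfsg.tau1 H := by
    intro u hu hud
    by_contra huH
    haveI : Fact u.Prime := ⟨hu⟩
    obtain ⟨k, hk⟩ := exists_prime_orderOf_dvd_card' (G := ↥E₁) u hud
    have hkE₁ : (k : G) ∈ E₁ := k.2
    have hko : orderOf (k : G) = u := by rw [Subgroup.orderOf_coe]; exact hk
    have hk1 : (k : G) ≠ 1 := by
      intro h
      rw [h, orderOf_one] at hko
      exact hu.one_lt.ne hko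
    have huτ : u ∈ Cfsg.tau1 M := hE₁.2.1 u hu hud
    have h1 := c.cent_of_not_tau1 hu huτ.2.1 huH (hE.1 (hE₁.1 hkE₁)) (c.hEH (hE₁.1 hkE₁))
      (by rw [← hko]; exact pow_orderOf_eq_one _)
    apply hnc
    intro d hd
    have h2 : d ∈ Cfsg.sigmaCore M ⊓ Subgroup.centralizer ({(k : G)} : Set G) := ⟨hd.1, h1 hd⟩
    rw [hPAM (k : G) hkE₁ hk1] at h2
    exact (Subgroup.centralizer_le (show (B : Set G) ⊆ (E₁ : Set G) from hBE₁)) h2.2
  -- a complement of `H_σ` containing `E₁`, prime action in `H`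
  have hE₁H : E₁ ≤ H := hE₁.1.trans c.hEH
  obtain ⟨EH, hEH, hE₁EH⟩ := exists_compl_ge hG hH hE₁H
    (fun q hq hqd => (hτH q hq hqd).2.1)
  have hPAH := Cfsg.Agent.Lib.Helper21.BG13r.tau1_prime_action hG hH hEH hE₁EH hτH hcomm
  -- `E₁` centralizes `P`
  have hB1 : B ≠ ⊥ := by
    intro h
    rw [h, Subgroup.card_bot] at hBc
    exact hr.one_lt.ne hBc
  obtain ⟨b, hbB, hb1⟩ := (Subgroup.ne_bot_iff_exists_ne_one.mp hB1 |> fun ⟨⟨x, hx⟩, h⟩ =>
    (⟨x, hx, fun h' => h (Subtype.ext h')⟩ : ∃ x : G, x ∈ B ∧ x ≠ 1))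
  have hPE₁ : P ≤ Subgroup.centralizer (E₁ : Set G) := by
    intro g hg
    have h1 : g ∈ Cfsg.sigmaCore H ⊓ Subgroup.centralizer ({b} : Set G) := by
      refine ⟨c.partner.2.2 hg, ?_⟩
      show g ∈ Subgroup.centralizer ({b} : Set G)
      rw [Subgroup.mem_centralizer_singleton_iff]
      exact Subgroup.mem_centralizer_iff.mp (hBP hbB) g hg
    rw [hPAH b (hBE₁ hbB) hb1] at h1
    exact h1.2
  -- a moving element
  obtain ⟨r', k, x, hr', hr'p, hxE, hxo, hxP⟩ :=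
    Cfsg.Agent.Lib.Helper21.BG13q.exists_moving_elt hG hM hE c.hp3 c.hPE c.hPc
  haveI : Fact r'.Prime := ⟨hr'⟩
  have hr'E : r' ∣ Nat.card E := by
    have h1 : orderOf x ∣ Nat.card E := by
      have := orderOf_dvd_natCard (⟨x, hxE⟩ : ↥E)
      rwa [Subgroup.orderOf_mk] at this
    rw [hxo] at h1
    exact (dvd_pow_self r' (Nat.succ_ne_zero k)).trans h1
  have hr'τ : r' ∈ Cfsg.tau1 M := by
    rcases c.type_cases hr' hr'E with h | h
    · exact h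
    · exfalso
      apply hxP
      apply c.tau3_elt_cent hxE
      intro q hq hqd
      rw [hxo] at hqd
      rw [(Nat.prime_dvd_prime_iff_eq hq hr').mp (hq.dvd_of_dvd_pow hqd)]
      exact h
  -- conjugate `x` into `E₁`
  obtain ⟨U, hU, -⟩ := exists_isSylowIn_ge (p := r') (bot_le : (⊥ : Subgroup G) ≤ E₁)
    IsPGroup.of_bot
  have hUE : IsSylowIn r' U E := by
    refine ⟨hU.le.trans hE₁.1, hU.isPGroup, ?_⟩
    rw [← Subgroup.relIndex_mul_relIndex U E₁ E hU.le hE₁.1]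
    intro hd
    rcases (Nat.Prime.dvd_mul hr').mp hd with h' | h'
    · exact hU.not_dvd h'
    · exact hE₁.2.2 r' hr' hr'τ h'
  have hxp : IsPGroup r' (Subgroup.zpowers x) :=
    IsPGroup.of_card (n := k + 1) (by rw [Nat.card_zpowers, hxo])
  obtain ⟨e, he, hle⟩ := hUE.exists_conj_le (Subgroup.zpowers_le.mpr hxE) hxp
  have hdE₁ : e * x * e⁻¹ ∈ E₁ := by
    apply hU.le
    apply hle
    rw [mem_conjSub]
    have : e⁻¹ * (e * x * e⁻¹) * e = x := by group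
    rw [this]
    exact Subgroup.mem_zpowers x
  apply hxP
  rw [Subgroup.mem_centralizer_iff]
  intro g hg
  have hg' : e * g * e⁻¹ ∈ P := (Subgroup.mem_normalizer_iff.mp (c.hEP he) g).mp hg
  have h1 : (e * x * e⁻¹) * (e * g * e⁻¹) = (e * g * e⁻¹) * (e * x * e⁻¹) :=
    Subgroup.mem_centralizer_iff.mp (hPE₁ hg') _ hdE₁
  have h2 : e * (x * g) * e⁻¹ = e * (g * x) * e⁻¹ := by
    calc e * (x * g) * e⁻¹ = (e * x * e⁻¹) * (e * g * e⁻¹) := by group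
      _ = (e * g * e⁻¹) * (e * x * e⁻¹) := h1
      _ = e * (g * x) * e⁻¹ := by group
  exact (mul_left_cancel (mul_right_cancel h2)).symm

end Cfg

end Cfsg.Agent.Lib.Helper21.BG13n
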