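import Mathlib
import Cfsg.Agent.Lib.Helper21.BG13n
import Cfsg.Agent.Lib.Helper18.Asym13D
import Cfsg.Agent.S1420
import Cfsg.Agent.Lib.Helper13.BG14D

set_option autoImplicit false

/-! # The `κ ∩ τ₃` configuration: all of `E` acts in a prime manner (B & G 13.10) (helper21) -/

namespace Cfsg.Agent.Lib.Helper21.BG13m

open Cfsg Cfsg.Agent.Lib.Helper18 Cfsg.Agent.Lib.Helper28.BGt Cfsg.Agent.Lib.Helper21.BG13n

variable {G : Type*} [Group G] [Finite G]

/-- Frobenius argument: `X ≤ E` of prime order `r` normalizing `Q ≤ E` of prime order `s ≠ r`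
with `C_{M_σ}(X) ≤ C(Q)` and `M_σ ≰ C(Q)` centralizes `Q` -/
theorem frob_cent (hG : Cfsg.IsMinSimpleOddOrder G) {M E : Subgroup G}
    (hM : IsCoatom M) (hE : Cfsg.IsComplIn E (Cfsg.sigmaCore M) M)
    {r s : ℕ} (hr : r.Prime) [hs : Fact s.Prime] (hrs : r ≠ s) {X Q : Subgroup G}
    (hXE : X ≤ E) (hQE : Q ≤ E) (hXc : Nat.card X = r) (hQc : Nat.card Q = s)
    (hXQ : X ≤ Subgroup.normalizer (Q : Set G))
    (hle : Cfsg.sigmaCore M ⊓ Subgroup.centralizer (X : Set G) ≤ Subgroup.centralizer (Q : Set G))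
    (hnot : ¬ Cfsg.sigmaCore M ≤ Subgroup.centralizer (Q : Set G)) :
    X ≤ Subgroup.centralizer (Q : Set G) := by
  classical
  by_contra hnc
  haveI : Fact r.Prime := ⟨hr⟩
  have hQp : IsPGroup s Q := IsPGroup.of_card (n := 1) (by rw [hQc, pow_one])
  have hrE : r ∣ Nat.card E := by rw [← hXc]; exact Subgroup.card_dvd_of_le hXE
  have hsE : s ∣ Nat.card E := by rw [← hQc]; exact Subgroup.card_dvd_of_le hQE
  have hrσ : r ∉ Cfsg.sigma M := compl_prime_not_sigma hG hM hE hr hrE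
  have hsσ : s ∉ Cfsg.sigma M := compl_prime_not_sigma hG hM hE hs.out hsE
  have hreg : Q ⊓ Subgroup.centralizer (X : Set G) = ⊥ := by
    by_contra hne
    have hle' : Q ⊓ Subgroup.centralizer (X : Set G) ≤ Q := inf_le_left
    have hd : Nat.card ↥(Q ⊓ Subgroup.centralizer (X : Set G)) ∣ s := by
      rw [← hQc]; exact Subgroup.card_dvd_of_le hle'
    rcases (Nat.dvd_prime hs.out).mp hd with h | h
    · exact hne (Subgroup.card_eq_one.mp h)
    · have heq : Q ⊓ Subgroup.centralizer (X : Set G) = Q :=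
        Subgroup.eq_of_le_of_card_ge hle' (by rw [h, hQc])
      apply hnc
      intro x hx
      rw [Subgroup.mem_centralizer_iff]
      intro y hy
      have hy' : y ∈ Subgroup.centralizer (X : Set G) := by
        have : y ∈ Q ⊓ Subgroup.centralizer (X : Set G) := by rw [heq]; exact hy
        exact this.2
      rw [Subgroup.mem_centralizer_iff] at hy'
      exact (hy' x hx).symm
  obtain ⟨C, hC⟩ : ∃ C : Subgroup G,
      C = Cfsg.sigmaCore M ⊓ Subgroup.centralizer (Q : Set G) := ⟨_, rfl⟩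
  have hCσ : C ≤ Cfsg.sigmaCore M := by rw [hC]; exact inf_le_left
  have hri : C.relIndex (Cfsg.sigmaCore M) ≠ 1 := by
    intro h
    apply hnot
    have := Subgroup.relIndex_eq_one.mp h
    exact (this.trans (by rw [hC]; exact inf_le_right))
  obtain ⟨t, ht, htd⟩ := Nat.exists_prime_and_dvd hri
  haveI : Fact t.Prime := ⟨ht⟩
  have htσ : t ∈ Cfsg.sigma M :=
    prime_sigmaCore hG hM ht (htd.trans (Subgroup.relIndex_dvd_card _ _))
  have hts : t ≠ s := by rintro rfl; exact hsσ htσ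
  have htr : t ≠ r := by rintro rfl; exact hrσ htσ
  have hEs : Group.IsSolvable ↥E := Cfsg.Agent.Lib.Helper1.BG12b.compl_solvable hG hM hE.1
  have hcop : (Nat.card E).Coprime (Nat.card (Cfsg.sigmaCore M)) := by
    apply Nat.coprime_of_dvd
    intro q hq hqE hqs
    exact compl_prime_not_sigma hG hM hE hq hqE (prime_sigmaCore hG hM hq hqs)
  have hEn : E ≤ Subgroup.normalizer ((Cfsg.sigmaCore M : Subgroup G) : Set G) :=
    hE.1.trans (Cfsg.Agent.Lib.Helper1.BG12.le_normalizer_sigmaCore M)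
  obtain ⟨T, hT, hET, -⟩ := Cfsg.Agent.Lib.Helper11.BenderP.exists_inv_sylow_ge E
    (Cfsg.sigmaCore M) hEn hcop hEs t ⊥ bot_le IsPGroup.of_bot (by
      intro e _
      rw [Subgroup.mem_normalizer_iff]
      intro h
      simp [Subgroup.mem_bot])
  have hTnc : ¬ T ≤ Subgroup.centralizer (Q : Set G) := by
    intro h
    have hTC : T ≤ C := by rw [hC]; exact le_inf hT.le h
    have h1 := Subgroup.relIndex_mul_relIndex T C (Cfsg.sigmaCore M) hTC hCσ
    apply hT.not_dvd
    rw [← h1]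
    exact Dvd.dvd.mul_left htd _
  have hle' : T ⊓ Subgroup.centralizer (X : Set G) ≤ Subgroup.centralizer (Q : Set G) :=
    fun y hy => hle ⟨hT.le hy.1, hy.2⟩
  exact hTnc (Cfsg.Agent.Lib.Helper21.BG13p.frob_centralizes_of_cent_le hr hts htr T Q X
    hT.isPGroup hQp hXc (hQE.trans hET) (hXE.trans hET) hXQ hreg hle')

/-- a cyclic `s`-group `S` with its subgroup `X` of order `s`: a subgroup `R` not centralizing `X`
acts fixed-point-freely on `S`, and `N(S) ≤ N(X)` -/
theorem cyclic_aux {S X R : Subgroup G} {s : ℕ} [hs : Fact s.Prime] (hScyc : IsCyclic S)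
    (hSp : IsPGroup s S) (hXS : X ≤ S) (hXc : Nat.card X = s) :
    (¬ R ≤ Subgroup.centralizer (X : Set G) → S ⊓ Subgroup.centralizer (R : Set G) = ⊥) ∧
      Subgroup.normalizer (S : Set G) ≤ Subgroup.normalizer (X : Set G) := by
  constructor
  · intro hR
    by_contra hne
    have hp' : IsPGroup s ↥(S ⊓ Subgroup.centralizer (R : Set G)) := hSp.to_le inf_le_left
    obtain ⟨n, hn⟩ := IsPGroup.iff_card.mp hp'
    have hsd : s ∣ Nat.card ↥(S ⊓ Subgroup.centralizer (R : Set G)) := by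
      rw [hn]
      apply dvd_pow_self
      rintro rfl
      rw [pow_zero] at hn
      exact hne (Subgroup.card_eq_one.mp hn)
    obtain ⟨w, hw⟩ := exists_prime_orderOf_dvd_card' s hsd
    obtain ⟨W, hW⟩ : ∃ W : Subgroup G, W = Subgroup.zpowers (w : G) := ⟨_, rfl⟩
    have hWc : Nat.card W = s := by rw [hW, Nat.card_zpowers, Subgroup.orderOf_coe, hw]
    have hWS : W ≤ S := by rw [hW, Subgroup.zpowers_le]; exact w.2.1
    have hWR : W ≤ Subgroup.centralizer (R : Set G) := by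
      rw [hW, Subgroup.zpowers_le]; exact w.2.2
    have hWX : W = X := Cfsg.Agent.Lib.Helper10.SigmaJsubA.eq_of_card_eq_of_le_cyclic hScyc hWS hXS
      (by rw [hWc, hXc])
    apply hR
    intro z hz
    rw [Subgroup.mem_centralizer_iff]
    intro x hx
    have hx' : x ∈ Subgroup.centralizer (R : Set G) := hWR (by rw [hWX]; exact hx)
    exact (Subgroup.mem_centralizer_iff.mp hx' z hz).symm
  · intro g hg
    apply mem_normalizer_of_conjSub_le
    have h1 : conjSub g X ≤ S := by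
      have := conjSub_mono (g := g) hXS
      rwa [conjSub_eq_of_mem_normalizer hg] at this
    have h2 := Cfsg.Agent.Lib.Helper10.SigmaJsubA.eq_of_card_eq_of_le_cyclic hScyc h1 hXS
      (card_conjSub g X)
    rw [h2]

end Cfsg.Agent.Lib.Helper21.BG13m

namespace Cfsg.Agent.Lib.Helper21.BG13n.Cfg

open Cfsg Cfsg.Agent.Lib.Helper18 Cfsg.Agent.Lib.Helper28.BGt Cfsg.Agent.Lib.Helper21.BG13m
open scoped commutatorElement

variable {G : Type*} [Group G] [Finite G] {M E P H : Subgroup G} {p : ℕ}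

/-- the facts about a subgroup `X ≤ C_{M_σ}(P)` of prime order `q`, seen from `H` -/
theorem xfacts (c : Cfg M E P H p) {q : ℕ} [hq : Fact q.Prime] {X : Subgroup G}
    (hXc : Nat.card X = q)
    (hXY : X ≤ Cfsg.sigmaCore M ⊓ Subgroup.centralizer (P : Set G)) :
    q ∈ Cfsg.sigma M ∧ q ∉ Cfsg.sigma H ∧ X ≤ H ∧ Subgroup.normalizer (X : Set G) ≤ M ∧
      (q ∈ Cfsg.tau1 H ∨ q ∈ Cfsg.tau3 H) ∧
      Cfsg.sigmaCore H ⊓ M = Cfsg.sigmaCore H ⊓ Subgroup.centralizer (X : Set G) ∧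
      P ≤ Cfsg.sigmaCore H ⊓ Subgroup.centralizer (X : Set G) := by
  classical
  have hG := c.hG
  have hM := c.hM
  have hH := c.hH
  haveI : IsSimpleGroup G := hG.2.1
  haveI : Fact p.Prime := ⟨c.prime⟩
  have hXσ : X ≤ Cfsg.sigmaCore M := hXY.trans inf_le_left
  have hXP : X ≤ Subgroup.centralizer (P : Set G) := hXY.trans inf_le_right
  have hXq : IsPGroup q X := IsPGroup.of_card (n := 1) (by rw [hXc, pow_one])
  have hX1 : X ≠ ⊥ := by
    intro h
    rw [h, Subgroup.card_bot] at hXc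
    exact hq.out.one_lt.ne hXc
  have hqσM : q ∈ Cfsg.sigma M := by
    apply prime_sigmaCore hG hM hq.out
    rw [← hXc]; exact Subgroup.card_dvd_of_le hXσ
  have hqσH : q ∉ Cfsg.sigma H :=
    Cfsg.Agent.Lib.Helper21.BG13z.not_sigma_of_nonconj hG hM hH c.partner.1 hqσM
  have hXH : X ≤ H := (hXP.trans (Subgroup.centralizer_le_normalizer _)).trans c.hNH
  have hXtop : X ≠ ⊤ := Cfsg.Agent.Lib.Helper11.MaxSubD.pgroup_ne_top hG q X hXq
  have hNne : Subgroup.normalizer (X : Set G) ≠ ⊤ :=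
    Cfsg.Agent.Lib.Helper11.normalizer_ne_top_of_simple hX1 hXtop
  obtain ⟨L, hL, hNL⟩ := Cfsg.Agent.Lib.Helper11.BenderE.exists_coatom_ge _ hNne
  have hLM : L = M := eq_of_normalizer_le_of_kappa_cent hG hM c.hpσ c.hr1 c.hPc c.hPM hXc hXσ hXP
    hL hNL
  have hNM : Subgroup.normalizer (X : Set G) ≤ M := hLM ▸ hNL
  have hPX : P ≤ Subgroup.centralizer (X : Set G) := by
    intro g hg
    rw [Subgroup.mem_centralizer_iff]
    intro x hx
    exact (Subgroup.mem_centralizer_iff.mp (hXP hx) g hg).symm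
  have hPD : P ≤ Cfsg.sigmaCore H ⊓ Subgroup.centralizer (X : Set G) := le_inf c.partner.2.2 hPX
  -- `q ∉ τ₂(H)`
  have hq2 : q ∉ Cfsg.tau2 H := by
    intro hq2
    obtain ⟨x, hxX, hx1⟩ := (Subgroup.ne_bot_iff_exists_ne_one.mp hX1 |> fun ⟨⟨x, hx⟩, h⟩ =>
      (⟨x, hx, fun h' => h (Subtype.ext h')⟩ : ∃ x : G, x ∈ X ∧ x ≠ 1))
    obtain ⟨g, hgP, hg1⟩ := (Subgroup.ne_bot_iff_exists_ne_one.mp c.hP1 |> fun ⟨⟨x, hx⟩, h⟩ =>
      (⟨x, hx, fun h' => h (Subtype.ext h')⟩ : ∃ x : G, x ∈ P ∧ x ≠ 1))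
    obtain ⟨EH, hEH⟩ := Cfsg.Agent.Lib.Helper18.BGTwelveA.exists_complIn_sigmaCore hG H hH
    have hxo : orderOf x ∣ q := by
      have := orderOf_dvd_natCard (⟨x, hxX⟩ : ↥X)
      rwa [Subgroup.orderOf_mk, hXc] at this
    have h4 := (Cfsg.Agent.S1420.result hG H hH EH hEH).2.2.2 x (hXH hxX) hx1
      (by
        intro u hu hud
        rw [(Nat.prime_dvd_prime_iff_eq hu hq.out).mp (hud.trans hxo)]
        exact hq2)
      ⟨hXH hxX, g, c.partner.2.2 hgP, hg1, (Subgroup.mem_centralizer_iff.mp (hXP hxX) g hgP).symm⟩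
    have hCM : Subgroup.centralizer ({x} : Set G) ≤ M := by
      refine le_trans ?_ hNM
      intro w hw
      have hwx : w * x = x * w := Subgroup.mem_centralizer_singleton_iff.mp hw
      -- `X = ⟨x⟩`
      have hzX : Subgroup.zpowers x = X := by
        apply Subgroup.eq_of_le_of_card_ge (Subgroup.zpowers_le.mpr hxX)
        rw [Nat.card_zpowers, hXc]
        have h5 : orderOf x ≠ 1 := fun h => hx1 (orderOf_eq_one_iff.mp h)
        rcases (Nat.dvd_prime hq.out).mp hxo with h | h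
        · exact absurd h h5
        · exact h.ge
      apply (Subgroup.centralizer_le_normalizer (X : Set G))
      rw [← hzX, Cfsg.Agent.Lib.Helper11.RegD.centralizer_zpowers_eq,
        Subgroup.mem_centralizer_singleton_iff]
      exact hwx
    exact c.hHM (h4.2 M hM hCM).symm
  have hqH : q ∣ Nat.card H := by rw [← hXc]; exact Subgroup.card_dvd_of_le hXH
  have hcase : q ∈ Cfsg.tau1 H ∨ q ∈ Cfsg.tau3 H := by
    rcases Cfsg.Agent.Lib.Helper11.LemLA.type_cases hG hH hq.out hqH hqσH with h | h | h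
    · exact Or.inl h
    · exact absurd h hq2
    · exact Or.inr h
  have hq1 : Cfsg.PRankLE q 1 ↥H := by
    rcases hcase with h | h
    · exact h.2.2.2.2
    · exact h.2.2.2
  refine ⟨hqσM, hqσH, hXH, hNM, hcase, ?_, hPD⟩
  exact Cfsg.Agent.Lib.Helper10.ThirteenTwo.inf_eq_cent hG hH hM hqσH hq1 hXq hX1 hXH hNM

/-- **(K1)** a subgroup `R ≤ E` of prime order `r ∉ σ(H)` centralizing a subgroup `X ≤ C_{M_σ}(P)`
of prime order centralizes `H_σ ∩ M = C_{H_σ}(X)` -/
theorem cent_D (c : Cfg M E P H p) {q : ℕ} [hq : Fact q.Prime] {X : Subgroup G}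
    (hXc : Nat.card X = q)
    (hXY : X ≤ Cfsg.sigmaCore M ⊓ Subgroup.centralizer (P : Set G)) {r : ℕ} (hr : r.Prime)
    (hrσH : r ∉ Cfsg.sigma H) {R : Subgroup G} (hRE : R ≤ E) (hRc : Nat.card R = r)
    (hRX : R ≤ Subgroup.centralizer (X : Set G)) :
    Cfsg.sigmaCore H ⊓ Subgroup.centralizer (X : Set G) ≤ Subgroup.centralizer (R : Set G) := by
  classical
  have hG := c.hG
  have hM := c.hM
  have hH := c.hH
  obtain ⟨hqσM, hqσH, hXH, hNM, hcase, hinf, hPD⟩ := c.xfacts hXc hXY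
  have hRH : R ≤ H := hRE.trans c.hEH
  have hRNX : R ≤ Subgroup.normalizer (X : Set G) :=
    hRX.trans (Subgroup.centralizer_le_normalizer _)
  have hcard := Cfsg.Agent.Lib.Helper11.ThirteenB.card_sup_dvd X R hRNX
  obtain ⟨EH, hEH, hle⟩ := exists_compl_ge hG hH (sup_le hXH hRH) (by
    intro u hu hud
    rcases (Nat.Prime.dvd_mul hu).mp (hud.trans hcard) with h | h
    · rw [hXc] at h
      rw [(Nat.prime_dvd_prime_iff_eq hu hq.out).mp h]; exact hqσH
    · rw [hRc] at h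
      rw [(Nat.prime_dvd_prime_iff_eq hu hr).mp h]; exact hrσH)
  have hXEH : X ≤ EH := le_sup_left.trans hle
  have hREH : R ≤ EH := le_sup_right.trans hle
  rcases hcase with h1 | h3
  · have := Cfsg.Agent.S1428.result hG H hH EH hEH q h1 X hXEH hXc R (le_inf hREH hRX)
      (by rw [hRc]; exact hr)
    exact this.trans inf_le_right
  · have hY' : Cfsg.sigmaCore H ⊓ Subgroup.centralizer (X : Set G) ≠ ⊥ := by
      intro h
      rw [h] at hPD
      exact c.hP1 (le_bot_iff.mp hPD)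
    have c' : Cfg H EH X M q := ⟨hG, hH, hEH, h3, hXEH, hXc, hY', hM, hNM⟩
    have hrEH : r ∣ Nat.card EH := by rw [← hRc]; exact Subgroup.card_dvd_of_le hREH
    rcases c'.type_cases hr hrEH with hr1 | hr3
    · exact c'.cent_of_cent hr1 hREH hRc hRX
    · haveI hEs : Group.IsSolvable ↥EH :=
        Cfsg.Agent.Lib.Helper1.BG12b.compl_solvable hG hH hEH.1
      obtain ⟨E₃, hE₃, hXE₃⟩ := Cfsg.Agent.Lib.Helper11.LemLA.exists_piHallOf_ge (Cfsg.tau3 H) EH
        hXEH (by
          intro u hu hud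
          rw [hXc] at hud
          rw [(Nat.prime_dvd_prime_iff_eq hu hq.out).mp hud]
          exact h3)
      have hn : EH ≤ Subgroup.normalizer (E₃ : Set G) :=
        ((Cfsg.Agent.S1415.result hG H hH EH hEH).2.2 E₃ hE₃).2.2
      have hRE₃ : R ≤ E₃ := by
        intro z hz
        apply Cfsg.Agent.Lib.Helper1.BG12b.mem_of_piHall_normal hE₃ hn (hREH hz)
        intro u hu hud
        have hzo : orderOf z ∣ r := by
          have := orderOf_dvd_natCard (⟨z, hz⟩ : ↥R)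
          rwa [Subgroup.orderOf_mk, hRc] at this
        rw [(Nat.prime_dvd_prime_iff_eq hu hr).mp (hud.trans hzo)]
        exact hr3
      have hX1 : X ≠ ⊥ := by
        intro h
        rw [h, Subgroup.card_bot] at hXc
        exact hq.out.one_lt.ne hXc
      obtain ⟨x, hxX, hx1⟩ := (Subgroup.ne_bot_iff_exists_ne_one.mp hX1 |> fun ⟨⟨x, hx⟩, h⟩ =>
        (⟨x, hx, fun h' => h (Subtype.ext h')⟩ : ∃ x : G, x ∈ X ∧ x ≠ 1))
      have h133 := thirteen_three_b hG hH hEH hE₃ (hXE₃ hxX) hx1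
      intro d hd
      have h1 : d ∈ Cfsg.sigmaCore H ⊓ Subgroup.centralizer ({x} : Set G) := by
        refine ⟨hd.1, ?_⟩
        exact (Subgroup.centralizer_le (by
          intro w hw
          rw [Set.mem_singleton_iff] at hw
          rw [hw]; exact hxX)) hd.2
      exact (Subgroup.centralizer_le (show (R : Set G) ⊆ (E₃ : Set G) from hRE₃)) (h133 h1)

/-- `M_σ` does not centralize `P` -/
theorem not_le (c : Cfg M E P H p) :
    ¬ Cfsg.sigmaCore M ≤ Subgroup.centralizer (P : Set G) := by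
  intro h
  have h1 : Cfsg.sigmaCore M ≤ H := by
    have : Cfsg.sigmaCore M ≤ Cfsg.sigmaCore M ⊓ Subgroup.centralizer (P : Set G) :=
      le_inf le_rfl h
    rw [← c.inf_eq] at this
    exact this.trans inf_le_right
  have hMH : M ≤ H := by
    intro m hm
    obtain ⟨a, ha, b, hb, rfl⟩ := c.hE.2.2.2 m hm
    exact H.mul_mem (c.hEH ha) (h1 hb)
  rcases eq_or_lt_of_le hMH with h2 | h2
  · exact c.hHM h2.symm
  · exact c.hH.1 (c.hM.2 _ h2)

/-- **the (F) kill**: every subgroup of `E` of prime order `r ∈ τ₁(M)` centralizes `P` -/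
theorem tau1_cent (c : Cfg M E P H p) {r : ℕ} (hr1 : r ∈ Cfsg.tau1 M) {R : Subgroup G}
    (hRE : R ≤ E) (hRc : Nat.card R = r) : R ≤ Subgroup.centralizer (P : Set G) := by
  classical
  by_contra hRP
  have hG := c.hG
  have hM := c.hM
  have hE := c.hE
  have hH := c.hH
  haveI : IsSimpleGroup G := hG.2.1
  haveI : Fact p.Prime := ⟨c.prime⟩
  have hr := hr1.1
  haveI : Fact r.Prime := ⟨hr⟩
  have hRp : IsPGroup r R := IsPGroup.of_card (n := 1) (by rw [hRc, pow_one])
  have hR1 : R ≠ ⊥ := by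
    intro h
    rw [h, Subgroup.card_bot] at hRc
    exact hr.one_lt.ne hRc
  have hRM : R ≤ M := hRE.trans hE.1
  have hRH : R ≤ H := hRE.trans c.hEH
  have hrp : r ≠ p := by
    rintro rfl
    exact hr1.2.2.2.1 c.hp3.2.2.1
  have hrσM : r ∉ Cfsg.sigma M := hr1.2.1
  -- notation `Y`
  obtain ⟨Y, hYdef⟩ : ∃ Y : Subgroup G,
      Y = Cfsg.sigmaCore M ⊓ Subgroup.centralizer (P : Set G) := ⟨_, rfl⟩
  have hY1 : Y ≠ ⊥ := by rw [hYdef]; exact c.hY
  have hYσ : Y ≤ Cfsg.sigmaCore M := by rw [hYdef]; exact inf_le_left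
  have hYH : Y ≤ H := by
    rw [hYdef, ← c.inf_eq]; exact inf_le_right
  -- a subgroup `X ≤ Y` of prime order
  have hYc : Nat.card Y ≠ 1 := fun h => hY1 (Subgroup.card_eq_one.mp h)
  obtain ⟨q, hq, hqd⟩ := Nat.exists_prime_and_dvd hYc
  haveI : Fact q.Prime := ⟨hq⟩
  obtain ⟨x0, hx0⟩ := exists_prime_orderOf_dvd_card' q hqd
  obtain ⟨X, hXdef⟩ : ∃ X : Subgroup G, X = Subgroup.zpowers (x0 : G) := ⟨_, rfl⟩
  have hXc : Nat.card X = q := by rw [hXdef, Nat.card_zpowers, Subgroup.orderOf_coe, hx0]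
  have hXY : X ≤ Cfsg.sigmaCore M ⊓ Subgroup.centralizer (P : Set G) := by
    rw [← hYdef, hXdef, Subgroup.zpowers_le]; exact x0.2
  by_cases hrσH : r ∈ Cfsg.sigma H
  · -- (B1)
    have hRσ : R ≤ Cfsg.sigmaCore H :=
      Cfsg.Agent.Lib.Helper1.BG12.pgroup_le_sigmaCore hG H hH r hrσH R hRH hRp
    obtain ⟨hqσM, hqσH, hXH, hNM, hcase, hinf, hPD⟩ := c.xfacts hXc hXY
    have hRX : R ≤ Subgroup.centralizer (X : Set G) := by
      have : R ≤ Cfsg.sigmaCore H ⊓ M := le_inf hRσ hRM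
      rw [hinf] at this
      exact this.trans inf_le_right
    have hq1 : Cfsg.PRankLE q 1 ↥H := by
      rcases hcase with h | h
      · exact h.2.2.2.2
      · exact h.2.2.2
    have hRtop : R ≠ ⊤ := Cfsg.Agent.Lib.Helper11.MaxSubD.pgroup_ne_top hG r R hRp
    have hNne : Subgroup.normalizer (R : Set G) ≠ ⊤ :=
      Cfsg.Agent.Lib.Helper11.normalizer_ne_top_of_simple hR1 hRtop
    obtain ⟨L, hL, hNL⟩ := Cfsg.Agent.Lib.Helper11.BenderE.exists_coatom_ge _ hNne
    have hLH : L = H := eq_of_normalizer_le_of_kappa_cent hG hH hqσH hq1 hXc hXH hRc hRσ hRX hL hNL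
    have hNRH : Subgroup.normalizer (R : Set G) ≤ H := hLH ▸ hNL
    have hinfR := Cfsg.Agent.Lib.Helper10.ThirteenTwo.inf_eq_cent hG hM hH hrσM hr1.2.2.2.2 hRp hR1
      hRM hNRH
    have hle : Cfsg.sigmaCore M ⊓ Subgroup.centralizer (R : Set G) ≤
        Subgroup.centralizer (P : Set G) := by
      rw [← hinfR, c.inf_eq]; exact inf_le_right
    exact hRP (frob_cent hG hM hE hr hrp hRE c.hPE hRc c.hPc (hRE.trans c.hEP) hle c.not_le)
  · by_cases hex : ∃ (q' : ℕ) (X' : Subgroup G), q'.Prime ∧ Nat.card X' = q' ∧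
        X' ≤ Cfsg.sigmaCore M ⊓ Subgroup.centralizer (P : Set G) ∧
        R ≤ Subgroup.centralizer (X' : Set G)
    · -- (B2)
      obtain ⟨q', X', hq', hX'c, hX'Y, hRX'⟩ := hex
      haveI : Fact q'.Prime := ⟨hq'⟩
      have h1 := c.cent_D hX'c hX'Y hr hrσH hRE hRc hRX'
      have hPD := (c.xfacts hX'c hX'Y).2.2.2.2.2.2
      apply hRP
      intro z hz
      rw [Subgroup.mem_centralizer_iff]
      intro g hg
      exact (Subgroup.mem_centralizer_iff.mp (h1 (hPD hg)) z hz).symm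
    · -- (B3a)
      push Not at hex
      have hRX : ¬ R ≤ Subgroup.centralizer (X : Set G) := hex q X hq hXc hXY
      -- `r ∈ τ₁(H)`
      have hrτH : r ∈ Cfsg.tau1 H := by
        by_contra h
        apply hRX
        intro z hz
        have hzr : z ^ r = 1 := by
          have h4 : (⟨z, hz⟩ : R) ^ Nat.card R = 1 := pow_card_eq_one'
          rw [hRc] at h4
          simpa using congrArg Subtype.val h4
        have h5 := c.cent_of_not_tau1 hr hrσM h (hRM hz) (hRH hz) hzr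
        rw [Subgroup.mem_centralizer_iff]
        intro x hx
        exact Subgroup.mem_centralizer_singleton_iff.mp (h5 (hXY hx))
      -- `R` normalizes `Y`
      have hRY : R ≤ Subgroup.normalizer (Y : Set G) := by
        intro z hz
        have hz1 := Cfsg.Agent.Lib.Helper1.BG12.le_normalizer_sigmaCore M (hRM hz)
        have hz2 : z ∈ Subgroup.normalizer ((Subgroup.centralizer (P : Set G) : Subgroup G) : Set G) :=
          normalizer_le_normalizer_centralizer P (c.hEP (hRE hz))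
        rw [hYdef, Subgroup.mem_normalizer_iff]
        intro w
        constructor
        · intro hw
          exact ⟨(Subgroup.mem_normalizer_iff.mp hz1 w).mp hw.1,
            (Subgroup.mem_normalizer_iff.mp hz2 w).mp hw.2⟩
        · intro hw
          exact ⟨(Subgroup.mem_normalizer_iff.mp hz1 w).mpr hw.1,
            (Subgroup.mem_normalizer_iff.mp hz2 w).mpr hw.2⟩
      -- the primes of `Y` are in `σ(M)`, not in `σ(H)`
      have hYprime : ∀ u : ℕ, u.Prime → u ∣ Nat.card Y → u ∈ Cfsg.sigma M := fun u hu hud =>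
        prime_sigmaCore hG hM hu (hud.trans (Subgroup.card_dvd_of_le hYσ))
      have hcard := Cfsg.Agent.Lib.Helper11.ThirteenB.card_sup_dvd Y R hRY
      obtain ⟨EH, hEH, hle⟩ := exists_compl_ge hG hH (sup_le hYH hRH) (by
        intro u hu hud
        rcases (Nat.Prime.dvd_mul hu).mp (hud.trans hcard) with h | h
        · exact Cfsg.Agent.Lib.Helper21.BG13z.not_sigma_of_nonconj hG hM hH c.partner.1
            (hYprime u hu h)
        · rw [hRc] at h
          rw [(Nat.prime_dvd_prime_iff_eq hu hr).mp h]; exact hrσH)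
      have hYEH : Y ≤ EH := le_sup_left.trans hle
      have hREH : R ≤ EH := le_sup_right.trans hle
      -- a non-trivial commutator
      have hXYle : X ≤ Y := by rw [hYdef]; exact hXY
      obtain ⟨z, hzR, x, hxX, hzx⟩ : ∃ z ∈ R, ∃ x ∈ X, x * z ≠ z * x := by
        by_contra hcon
        push Not at hcon
        apply hRX
        intro z hz
        rw [Subgroup.mem_centralizer_iff]
        intro x hx
        exact hcon z hz x hx
      obtain ⟨c₀, hc₀⟩ : ∃ c₀ : G, c₀ = x * z * x⁻¹ * z⁻¹ := ⟨_, rfl⟩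
      have hc₀1 : c₀ ≠ 1 := by
        intro h
        apply hzx
        rw [hc₀] at h
        have : x * z = (x * z * x⁻¹ * z⁻¹) * (z * x) := by group
        rw [this, h, one_mul]
      have hc₀Y : c₀ ∈ Y := by
        have h1 : z * x⁻¹ * z⁻¹ ∈ Y :=
          (Subgroup.mem_normalizer_iff.mp (hRY hzR) x⁻¹).mp (Y.inv_mem (hXYle hxX))
        have : c₀ = x * (z * x⁻¹ * z⁻¹) := by rw [hc₀]; group
        rw [this]
        exact Y.mul_mem (hXYle hxX) h1
      have hc₀D : c₀ ∈ ⁅EH, EH⁆ := by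
        have : c₀ = ⁅x, z⁆ := by rw [hc₀, commutatorElement_def]
        rw [this]
        exact Subgroup.commutator_mem_commutator (hYEH (hXYle hxX)) (hREH hzR)
      -- a subgroup `X'` of prime order of `⟨c₀⟩`
      have hn1 : orderOf c₀ ≠ 1 := fun h => hc₀1 (orderOf_eq_one_iff.mp h)
      obtain ⟨q', hq', hq'd⟩ := Nat.exists_prime_and_dvd hn1
      haveI : Fact q'.Prime := ⟨hq'⟩
      obtain ⟨m, hm⟩ := hq'd
      have hm0 : m ≠ 0 := by
        rintro rfl
        rw [mul_zero] at hm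
        exact (orderOf_pos c₀).ne' hm
      obtain ⟨w, hw⟩ : ∃ w : G, w = c₀ ^ m := ⟨_, rfl⟩
      have hwo : orderOf w = q' := by
        rw [hw, orderOf_pow_of_dvd hm0 ⟨q', by rw [hm, mul_comm]⟩, hm,
          Nat.mul_div_cancel _ (Nat.pos_of_ne_zero hm0)]
      obtain ⟨X', hX'def⟩ : ∃ X' : Subgroup G, X' = Subgroup.zpowers w := ⟨_, rfl⟩
      have hX'c : Nat.card X' = q' := by rw [hX'def, Nat.card_zpowers, hwo]
      have hwY : w ∈ Y := by rw [hw]; exact Y.pow_mem hc₀Y m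
      have hwD : w ∈ ⁅EH, EH⁆ := by rw [hw]; exact Subgroup.pow_mem _ hc₀D m
      have hX'Yle : X' ≤ Y := by rw [hX'def, Subgroup.zpowers_le]; exact hwY
      have hX'Y : X' ≤ Cfsg.sigmaCore M ⊓ Subgroup.centralizer (P : Set G) := by
        rw [← hYdef]; exact hX'Yle
      obtain ⟨hq'σM, hq'σH, hX'H, hN'M, hcase', hinf', hPD'⟩ := c.xfacts hX'c hX'Y
      have hq'3 : q' ∈ Cfsg.tau3 H := by
        rcases hcase' with h | h
        · exfalso
          apply h.2.2.2.1
          have h1 : ⁅EH, EH⁆ ≤ ⁅H, H⁆ := Subgroup.commutator_mono hEH.1 hEH.1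
          have h2 : orderOf w ∣ Nat.card ↥⁅H, H⁆ := by
            have := orderOf_dvd_natCard (⟨w, h1 hwD⟩ : ↥⁅H, H⁆)
            rwa [Subgroup.orderOf_mk] at this
          rwa [hwo] at h2
        · exact h
      have hX'EH : X' ≤ EH := hX'Yle.trans hYEH
      have hEHX' := Cfsg.Agent.Lib.Helper21.BG13s.tau3_prime_normal hG hH hEH hq'3 hX'EH hX'c
      have hRNX' : R ≤ Subgroup.normalizer (X' : Set G) := hREH.trans hEHX'
      have hRX' : ¬ R ≤ Subgroup.centralizer (X' : Set G) := hex q' X' hq' hX'c hX'Y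
      have hX'q : IsPGroup q' X' := IsPGroup.of_card (n := 1) (by rw [hX'c, pow_one])
      have hX'1 : X' ≠ ⊥ := by
        intro h
        rw [h, Subgroup.card_bot] at hX'c
        exact hq'.one_lt.ne hX'c
      -- the `p`-side
      obtain ⟨S, hS, hPS⟩ := exists_isSylowIn_ge c.hPE c.hPp
      have hES : E ≤ Subgroup.normalizer (S : Set G) :=
        sylow_tau3_normal hG hM hE c.hpσ c.hp3.2.2.1 c.hr1 hS
      have hpM : p ∣ Nat.card M := by rw [← c.hPc]; exact Subgroup.card_dvd_of_le c.hPM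
      have hp2 : p ≠ 2 := Cfsg.Agent.Lib.Helper1.BG10.prime_ne_two hG p M hpM
      have hScyc : IsCyclic S :=
        Cfsg.Agent.Lib.Helper11.BenderQ.isCyclic_of_pRankLE_one p hp2 hS.isPGroup
          (Cfsg.Agent.Lib.Helper1.BG12.pRankLE_of_le (hS.le.trans hE.1) c.hr1)
      have hSM : IsSylowIn p S M := by
        refine ⟨hS.le.trans hE.1, hS.isPGroup, ?_⟩
        rw [← Subgroup.relIndex_mul_relIndex S E M hS.le hE.1, relIndex_compl hE]
        intro hd
        rcases (Nat.Prime.dvd_mul c.prime).mp hd with h | h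
        · exact hS.not_dvd h
        · exact c.hpσ (prime_sigmaCore hG hM c.prime h)
      have hSMH : IsSylowIn p S (M ⊓ H) :=
        hSM.of_le (le_inf (hS.le.trans hE.1) (hS.le.trans c.hEH)) inf_le_left
      obtain ⟨hSf, hSN⟩ := cyclic_aux (R := R) hScyc hS.isPGroup hPS c.hPc
      have hS1 : S ≠ ⊥ := fun h => c.hP1 (le_bot_iff.mp (h ▸ hPS))
      -- the `q'`-side
      have hRs : Group.IsSolvable ↥R := Cfsg.Agent.Lib.Helper1.BG12b.compl_solvable hG hM hRM
      have hcopRY : (Nat.card R).Coprime (Nat.card Y) := by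
        rw [hRc]
        apply (Nat.Prime.coprime_iff_not_dvd hr).mpr
        intro h
        exact hrσM (hYprime r hr h)
      obtain ⟨Yq, hYq, hRYq, hX'Yq⟩ := Cfsg.Agent.Lib.Helper11.BenderP.exists_inv_sylow_ge R Y hRY
        hcopRY hRs q' X' hX'Yle hX'q hRNX'
      have hYqMH : Yq ≤ M ⊓ H :=
        le_inf (hYq.le.trans (hYσ.trans (sigmaCore_le M))) (hYq.le.trans hYH)
      have hYqSyl : IsSylowIn q' Yq (M ⊓ H) := by
        obtain ⟨S', hS', hYqS'⟩ := exists_isSylowIn_ge hYqMH hYq.isPGroup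
        have hS'σ : S' ≤ Cfsg.sigmaCore M :=
          Cfsg.Agent.Lib.Helper1.BG12.pgroup_le_sigmaCore hG M hM q' hq'σM S'
            (hS'.le.trans inf_le_left) hS'.isPGroup
        have hS'Y : S' ≤ Y := by
          rw [hYdef, ← c.inf_eq]
          exact le_inf hS'σ (hS'.le.trans inf_le_right)
        have := hYq.eq_of_le hS'Y hS'.isPGroup hYqS'
        rw [← this]; exact hS'
      have hq'1 : Cfsg.PRankLE q' 1 ↥H := hq'3.2.2.2
      have hq'H : q' ∣ Nat.card H := by rw [← hX'c]; exact Subgroup.card_dvd_of_le hX'H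
      have hq'2 : q' ≠ 2 := Cfsg.Agent.Lib.Helper1.BG10.prime_ne_two hG q' H hq'H
      have hYqcyc : IsCyclic Yq :=
        Cfsg.Agent.Lib.Helper11.BenderQ.isCyclic_of_pRankLE_one q' hq'2 hYq.isPGroup
          (Cfsg.Agent.Lib.Helper1.BG12.pRankLE_of_le (hYq.le.trans hYH) hq'1)
      obtain ⟨hYqf, hYqN⟩ := cyclic_aux (R := R) hYqcyc hYq.isPGroup hX'Yq hX'c
      have hYq1 : Yq ≠ ⊥ := fun h => hX'1 (le_bot_iff.mp (h ▸ hX'Yq))
      exact Cfsg.Agent.Lib.Helper18.Asym13D.twelve_thirteen_tau1 hG hM hH c.partner.1 hr1 hrτH hRc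
        (le_inf hRM hRH) hSMH hYqSyl hS1 hYq1 (hRE.trans hES) hRYq (hSf hRP) (hYqf hRX')
        (hSN.trans c.hNH) (hYqN.trans hN'M)

/-- **B & G 13.10(b)**: in the `κ ∩ τ₃` configuration all of `E` acts in a prime manner on `M_σ` -/
theorem prime_action (c : Cfg M E P H p) :
    ∀ e ∈ E, e ≠ 1 → Cfsg.sigmaCore M ⊓ Subgroup.centralizer ({e} : Set G) =
      Cfsg.sigmaCore M ⊓ Subgroup.centralizer (E : Set G) := by
  classical
  have hG := c.hG
  have hM := c.hM
  have hE := c.hE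
  haveI : Fact p.Prime := ⟨c.prime⟩
  obtain ⟨r', k, x, hr', hr'p, hxE, hxo, hxP⟩ :=
    Cfsg.Agent.Lib.Helper21.BG13q.exists_moving_elt hG hM hE c.hp3 c.hPE c.hPc
  haveI : Fact r'.Prime := ⟨hr'⟩
  have hr'E : r' ∣ Nat.card E := by
    have h1 : orderOf x ∣ Nat.card E := by
      have := orderOf_dvd_natCard (⟨x, hxE⟩ : ↥E)
      rwa [Subgroup.orderOf_mk] at this
    rw [hxo] at h1
    exact (dvd_pow_self r' (Nat.succ_ne_zero k)).trans h1
  have hr'τ : r' ∈ Cfsg.tau1 M := by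
    rcases c.type_cases hr' hr'E with h | h
    · exact h
    · exfalso
      apply hxP
      apply c.tau3_elt_cent hxE
      intro q hq hqd
      rw [hxo] at hqd
      rw [(Nat.prime_dvd_prime_iff_eq hq hr').mp (hq.dvd_of_dvd_pow hqd)]
      exact h
  obtain ⟨z, hz⟩ := exists_prime_orderOf_dvd_card' (G := ↥E) r' hr'E
  have hzo : orderOf (z : G) = r' := by rw [Subgroup.orderOf_coe]; exact hz
  obtain ⟨R, hR⟩ : ∃ R : Subgroup G, R = Subgroup.zpowers (z : G) := ⟨_, rfl⟩
  have hRc : Nat.card R = r' := by rw [hR, Nat.card_zpowers, hzo]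
  have hRE : R ≤ E := by rw [hR, Subgroup.zpowers_le]; exact z.2
  have hRP := c.tau1_cent hr'τ hRE hRc
  have hYR := c.cent_of_cent hr'τ hRE hRc hRP
  have hPR : P ≤ Subgroup.centralizer (R : Set G) := by
    intro g hg
    rw [Subgroup.mem_centralizer_iff]
    intro w hw
    exact (Subgroup.mem_centralizer_iff.mp (hRP hw) g hg).symm
  have h28 := Cfsg.Agent.S1428.result hG M hM E hE r' hr'τ R hRE hRc P (le_inf c.hPE hPR)
    (by rw [c.hPc]; exact c.prime)
  have hzP : Cfsg.sigmaCore M ⊓ Subgroup.centralizer ({(z : G)} : Set G) =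
      Cfsg.sigmaCore M ⊓ Subgroup.centralizer (P : Set G) := by
    rw [← Cfsg.Agent.Lib.Helper11.RegD.centralizer_zpowers_eq, ← hR]
    exact le_antisymm h28 (le_inf inf_le_left hYR)
  exact Cfsg.Agent.Lib.Helper21.BG13o.prime_action_pa2 hG hM hE c.tau2_empty c.hp3 c.hPE c.hPc hr'τ
    z.2 hzo hzP

end Cfsg.Agent.Lib.Helper21.BG13n.Cfg

namespace Cfsg.Agent.Lib.Helper21.BG13m

open Cfsg Cfsg.Agent.Lib.Helper18 Cfsg.Agent.Lib.Helper28.BGt Cfsg.Agent.Lib.Helper21.BG13n

variable {G : Type*} [Group G] [Finite G]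

/-- **B & G, Lemma 13.10** (`tau13_nonregular`), in the form of helper13's `Nonreg1310`: if
`p ∈ κ(M) ∩ τ₃(M)` then for every complement `E` of `M_σ` in `M`: every prime divisor of `|E|` lies
in `κ(M)`, all of `E` acts in a prime manner on `M_σ`, and every subgroup of prime order of `E` is
normal in `E` -/
theorem nonreg_structure (hG : Cfsg.IsMinSimpleOddOrder G) {M : Subgroup G} (hM : IsCoatom M)
    (E : Subgroup G) (p : ℕ) (hE : Cfsg.IsComplIn E (Cfsg.sigmaCore M) M)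
    (hpκ : p ∈ Cfsg.kappa M) (hp3 : p ∈ Cfsg.tau3 M) :
    (∀ q : ℕ, q.Prime → q ∣ Nat.card E → q ∈ Cfsg.kappa M) ∧
      (∀ e ∈ E, e ≠ 1 → Cfsg.sigmaCore M ⊓ Subgroup.centralizer ({e} : Set G) =
        Cfsg.sigmaCore M ⊓ Subgroup.centralizer (E : Set G)) ∧
      ∀ X : Subgroup G, X ≤ E → (Nat.card X).Prime → E ≤ Subgroup.normalizer (X : Set G) := by
  classical
  haveI : IsSimpleGroup G := hG.2.1
  have hp := hpκ.1
  haveI : Fact p.Prime := ⟨hp⟩
  have hpσ : p ∉ Cfsg.sigma M := hp3.2.1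
  -- `p ∣ |E|`
  have hpE : p ∣ Nat.card E := by
    have h1 : p ∣ Nat.card M := hpκ.2.1
    rw [card_compl hE] at h1
    rcases (Nat.Prime.dvd_mul hp).mp h1 with h | h
    · exact absurd (prime_sigmaCore hG hM hp h) hpσ
    · exact h
  obtain ⟨g, hg⟩ := exists_prime_orderOf_dvd_card' (G := ↥E) p hpE
  have hgo : orderOf (g : G) = p := by rw [Subgroup.orderOf_coe]; exact hg
  obtain ⟨P, hP⟩ : ∃ P : Subgroup G, P = Subgroup.zpowers (g : G) := ⟨_, rfl⟩
  have hPc : Nat.card P = p := by rw [hP, Nat.card_zpowers, hgo]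
  have hPE : P ≤ E := by rw [hP, Subgroup.zpowers_le]; exact g.2
  have hPp : IsPGroup p P := IsPGroup.of_card (n := 1) (by rw [hPc, pow_one])
  have hP1 : P ≠ ⊥ := by
    intro h
    rw [h, Subgroup.card_bot] at hPc
    exact hp.one_lt.ne hPc
  have hY : Cfsg.sigmaCore M ⊓ Subgroup.centralizer (P : Set G) ≠ ⊥ := by
    obtain ⟨y, hy, hy1, hgy⟩ := Cfsg.Agent.Lib.Helper13.BG14.bg14_kappa_fixed hpκ (hE.1 g.2) hgo
    intro h
    apply hy1
    have : y ∈ Cfsg.sigmaCore M ⊓ Subgroup.centralizer (P : Set G) := by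
      refine ⟨hy, ?_⟩
      show y ∈ Subgroup.centralizer (P : Set G)
      rw [hP, Cfsg.Agent.Lib.Helper11.RegD.centralizer_zpowers_eq,
        Subgroup.mem_centralizer_singleton_iff]
      exact hgy.symm
    rw [h] at this
    exact Subgroup.mem_bot.mp this
  have hPtop : P ≠ ⊤ := Cfsg.Agent.Lib.Helper11.MaxSubD.pgroup_ne_top hG p P hPp
  have hNne : Subgroup.normalizer (P : Set G) ≠ ⊤ :=
    Cfsg.Agent.Lib.Helper11.normalizer_ne_top_of_simple hP1 hPtop
  obtain ⟨H, hH, hNH⟩ := Cfsg.Agent.Lib.Helper11.BenderE.exists_coatom_ge _ hNne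
  have c : Cfg M E P H p := ⟨hG, hM, hE, hp3, hPE, hPc, hY, hH, hNH⟩
  have hPA := c.prime_action
  obtain ⟨h1, h3⟩ := Cfsg.Agent.Lib.Helper21.BG13p.nonreg_of_prime_action hG hM hE hp3 hPE hPc hY hPA
  exact ⟨h1, hPA, h3⟩

end Cfsg.Agent.Lib.Helper21.BG13m
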