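import Mathlib
import Cfsg.Agent.Lib.Helper21.NarrowF
import Cfsg.Agent.Lib.Helper11.BenderR
import Cfsg.Agent.Lib.Helper1.BG12b.Transfer

set_option autoImplicit false
open scoped commutatorElement

/-! # Lemma L, step (8a2): the derived group of an `r'`-group normalizing a narrow Sylow
`r`-subgroup centralizes it (helper21) -/

namespace Cfsg.Agent.Lib.Helper21.BG13u

open Cfsg

variable {G : Type*} [Group G] [Finite G]

/-- **(8a2)**: `S` a Sylow `r`-subgroup of `G` containing a maximal elementary abelian subgroup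
`A` of order `r ^ 2`, `V ≤ N_G(S)` an `r'`-group: `[V, V] ≤ C_G(S)` -/
theorem der_compl_centralizes (hG : Cfsg.IsMinSimpleOddOrder G) {r : ℕ} [hr : Fact r.Prime]
    (S : Sylow r G) {A V : Subgroup G} (hAS : A ≤ (S : Subgroup G))
    (hAe : Cfsg.IsElementaryAbelian r A) (hA2 : Nat.card A = r ^ 2)
    (hmax : ∀ B : Subgroup G, B ≤ (S : Subgroup G) → Cfsg.IsElementaryAbelian r B → A ≤ B →
      B = A)
    (hVN : V ≤ Subgroup.normalizer ((S : Subgroup G) : Set G))
    (hVr : (Nat.card V).Coprime r) :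
    ⁅V, V⁆ ≤ Subgroup.centralizer ((S : Subgroup G) : Set G) := by
  have hrG : r ∣ Nat.card G := by
    have : Nat.card A ∣ Nat.card G := Subgroup.card_subgroup_dvd_card A
    rw [hA2] at this
    exact (dvd_pow_self r (by norm_num)).trans this
  have hr2 : r ≠ 2 := by
    rintro rfl
    exact (Nat.not_even_iff_odd.mpr hG.1) (even_iff_two_dvd.mpr hrG)
  have hn : Cfsg.IsNarrow r ↥(S : Subgroup G) :=
    Cfsg.Agent.Lib.Helper11.BenderR.narrow_of_max_sq_sub r hr2 (S : Subgroup G) S.isPGroup' A hAS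
      hAe hA2 hmax
  have hrV : ¬ r ∣ Nat.card V := by
    intro h
    have := Nat.Coprime.eq_one_of_dvd hVr.symm h
    exact hr.out.one_lt.ne' this
  have hVtop : V ≠ ⊤ := by
    rintro rfl
    apply hrV
    rw [Subgroup.card_top]
    exact hrG
  haveI : Group.IsSolvable ↥V := hG.2.2.2 V hVtop
  have hodd : Odd (Nat.card ↥V) := Odd.of_dvd_nat hG.1 (Subgroup.card_subgroup_dvd_card V)
  rw [← Subgroup.map_subtype_commutator]
  rintro _ ⟨g, hg, rfl⟩
  have h1 := Cfsg.Agent.Lib.Helper21.Narrow.narrow_der_trivial r hr2 S.isPGroup' hn hodd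
    (Cfsg.Agent.Lib.Helper1.BG12b.conjHom V (S : Subgroup G) hVN) g hg (Nat.card ↥V)
    pow_card_eq_one' hrV
  rw [Subgroup.mem_centralizer_iff]
  intro s hs
  have h2 := congrArg (fun f : MulAut ↥(S : Subgroup G) => ((f ⟨s, hs⟩ : ↥(S : Subgroup G)) : G)) h1
  simp only [Cfsg.Agent.Lib.Helper1.BG12b.conjHom_coe, MulAut.one_apply] at h2
  -- h2 : g * s * g⁻¹ = s
  show s * (V.subtype g) = (V.subtype g) * s
  rw [Subgroup.subtype_apply]
  calc s * (g : G) = ((g : G) * s * (g : G)⁻¹) * (g : G) := by rw [h2]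
    _ = (g : G) * s := by group

end Cfsg.Agent.Lib.Helper21.BG13u
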