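import Mathlib
import Cfsg.Agent.Lib.Helper21.BG14e

set_option autoImplicit false

/-!
# B&G Theorem 14.6 (`S1379`) from Theorem 14.3 (`S1366`, `S1367`, `S1369`) and 14.2(f) (`S1431`)
-/

namespace Cfsg.Agent.Lib.Helper21.BG14f

open Cfsg Cfsg.Agent.Lib.Helper18

variable {G : Type*} [Group G] [Finite G]

theorem s1379_of (hG : Cfsg.IsMinSimpleOddOrder G)
    (h66 : ∀ (M : Subgroup G) (_ : IsCoatom M) (K U : Subgroup G)
      (_ : Cfsg.IsSigmaDecomposition M K U) (_ : K ≠ ⊥),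
      ∃ Mstar : Subgroup G, IsCoatom Mstar ∧ K = Cfsg.sigmaCore Mstar ⊓ Subgroup.centralizer ((Cfsg.sigmaCore M ⊓ Subgroup.centralizer (K : Set G)) : Set G) ∧
        Cfsg.IsPiHallOf (Cfsg.kappa Mstar) (Cfsg.sigmaCore M ⊓ Subgroup.centralizer (K : Set G)) Mstar)
    (h67 : ∀ (M : Subgroup G) (_ : IsCoatom M) (K U : Subgroup G)
      (_ : Cfsg.IsSigmaDecomposition M K U) (_ : K ≠ ⊥) (Mstar : Subgroup G) (_ : IsCoatom Mstar)
      (_ : K = Cfsg.sigmaCore Mstar ⊓ Subgroup.centralizer ((Cfsg.sigmaCore M ⊓ Subgroup.centralizer (K : Set G)) : Set G))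
      (_ : Cfsg.IsPiHallOf (Cfsg.kappa Mstar) (Cfsg.sigmaCore M ⊓ Subgroup.centralizer (K : Set G)) Mstar),
      (∀ X : Subgroup G, X ≤ (Cfsg.sigmaCore M ⊓ Subgroup.centralizer (K : Set G)) → (Nat.card X).Prime →
        Subgroup.centralizer (X : Set G) ≤ M ∧ ∀ L : Subgroup G, IsCoatom L → Subgroup.centralizer (X : Set G) ≤ L → L = M) ∧
      (∀ Y : Subgroup G, Y ≤ K → (Nat.card Y).Prime →
        Subgroup.centralizer (Y : Set G) ≤ Mstar ∧ ∀ L : Subgroup G, IsCoatom L → Subgroup.centralizer (Y : Set G) ≤ L → L = Mstar))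
    (h69 : ∀ (M : Subgroup G) (_ : IsCoatom M) (K U : Subgroup G)
      (_ : Cfsg.IsSigmaDecomposition M K U) (_ : K ≠ ⊥) (Mstar : Subgroup G) (_ : IsCoatom Mstar)
      (_ : K = Cfsg.sigmaCore Mstar ⊓ Subgroup.centralizer ((Cfsg.sigmaCore M ⊓ Subgroup.centralizer (K : Set G)) : Set G))
      (_ : Cfsg.IsPiHallOf (Cfsg.kappa Mstar) (Cfsg.sigmaCore M ⊓ Subgroup.centralizer (K : Set G)) Mstar),
      ∀ H : Subgroup G, IsCoatom H → (Cfsg.kappa H).Nonempty →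
        ∃ g : G, H = M.map (MulAut.conj g).toMonoidHom ∨ H = Mstar.map (MulAut.conj g).toMonoidHom)
    (h31 : ∀ (M : Subgroup G) (_ : IsCoatom M) (K : Subgroup G)
      (_ : Cfsg.IsPiHallOf (Cfsg.kappa M) K M) (_ : K ≠ ⊥),
      ∀ g : G, g ∉ M → (Cfsg.sigmaCore M ⊓ Subgroup.centralizer (K : Set G)) ⊓ M.map (MulAut.conj g).toMonoidHom = ⊥) :
    (∀ M N : Subgroup G, IsCoatom M → IsCoatom N → (∀ g : G, N ≠ M.map (MulAut.conj g).toMonoidHom) → Cfsg.tildeOf M ((Cfsg.sigmaCore M : Set G) \ {1}) ∩ Cfsg.tildeOf N ((Cfsg.sigmaCore N : Set G) \ {1}) = ∅) ∧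
      ((∀ M : Subgroup G, IsCoatom M → Cfsg.kappa M = ∅) →
        ∀ g : G, g ≠ 1 → ∃ M : Subgroup G, IsCoatom M ∧ g ∈ Cfsg.tildeOf M ((Cfsg.sigmaCore M : Set G) \ {1})) ∧
      ∀ (M K U : Subgroup G), IsCoatom M → Cfsg.IsSigmaDecomposition M K U → K ≠ ⊥ →
        (∀ g : G, g ≠ 1 → (∃ N : Subgroup G, IsCoatom N ∧ g ∈ Cfsg.tildeOf N ((Cfsg.sigmaCore N : Set G) \ {1})) ∨
            ∃ y : G, ∃ z ∈ ((↑(K ⊔ (Cfsg.sigmaCore M ⊓ Subgroup.centralizer (K : Set G))) : Set G) \ ((K : Set G) ∪ ↑(Cfsg.sigmaCore M ⊓ Subgroup.centralizer (K : Set G)))), g = y * z * y⁻¹) ∧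
        ∀ N : Subgroup G, IsCoatom N → ∀ y : G, ∀ z ∈ ((↑(K ⊔ (Cfsg.sigmaCore M ⊓ Subgroup.centralizer (K : Set G))) : Set G) \ ((K : Set G) ∪ ↑(Cfsg.sigmaCore M ⊓ Subgroup.centralizer (K : Set G)))), y * z * y⁻¹ ∉ Cfsg.tildeOf N ((Cfsg.sigmaCore N : Set G) \ {1}) := by
  refine ⟨?_, ?_, ?_⟩
  · intro M N hM hN hnc
    exact Cfsg.Agent.Lib.Helper1.BG14b.tilde_disjoint hG hM hN hnc
  · intro hκ g hg
    exact Cfsg.Agent.Lib.Helper21.BG14d.cover_of_kappa_empty hG hκ g hg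
  · intro M K U hM hKU hK1
    obtain ⟨Mstar, hMstar, hKst, hKstH⟩ := h66 M hM K U hKU hK1
    have h67' := h67 M hM K U hKU hK1 Mstar hMstar hKst hKstH
    refine ⟨?_, ?_⟩
    · intro g hg
      exact Cfsg.Agent.Lib.Helper21.BG14e.clause3a hG hM hKU.hall hMstar hKst hKstH
        (h69 M hM K U hKU hK1 Mstar hMstar hKst hKstH) g hg
    · intro N hN y z hz
      exact Cfsg.Agent.Lib.Helper21.BG14e.clause3b hG hM hKU.hall hMstar hKst hKstH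
        (fun M₀ K₀ hM₀ hK₀ hK₀1 => h31 M₀ hM₀ K₀ hK₀ hK₀1)
        (fun X hX hXp => (h67'.1 X hX hXp).1) (fun Y hY hYp => (h67'.2 Y hY hYp).1) N hN y z hz

end Cfsg.Agent.Lib.Helper21.BG14f
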