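import Mathlib

set_option autoImplicit false

/-!
# B&G Theorem 15.8(e), `p`-group part: elementary lemmas
-/

namespace Cfsg.Agent.Lib.Helper21.BG16a

variable {X : Type*} [Group X]

/-- auxiliary: `b ^ n * a = a * b ^ n * c ^ n` when `b * a = a * b * c` and `c` commutes with `b` -/
theorem pow_mul_comm_class_two {a b c : X} (h : b * a = a * b * c) (hcb : c * b = b * c) (n : ℕ) :
    b ^ n * a = a * b ^ n * c ^ n := by
  induction n with
  | zero => simp
  | succ n ih =>
    have hcbn : c ^ n * b = b * c ^ n := by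
      have : Commute c b := hcb
      exact (this.pow_left n).eq
    calc b ^ (n + 1) * a = b ^ n * (b * a) := by rw [pow_succ, mul_assoc]
      _ = b ^ n * (a * b * c) := by rw [h]
      _ = (b ^ n * a) * b * c := by simp only [mul_assoc]
      _ = (a * b ^ n * c ^ n) * b * c := by rw [ih]
      _ = a * b ^ n * (c ^ n * b) * c := by simp only [mul_assoc]
      _ = a * b ^ n * (b * c ^ n) * c := by rw [hcbn]
      _ = a * b ^ (n + 1) * c ^ (n + 1) := by
        rw [pow_succ, pow_succ]
        simp only [mul_assoc]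

/-- the class-two power formula -/
theorem mul_pow_class_two {a b c : X} (h : b * a = a * b * c) (hca : c * a = a * c)
    (hcb : c * b = b * c) (n : ℕ) :
    (a * b) ^ n = a ^ n * b ^ n * c ^ (∑ i ∈ Finset.range n, i) := by
  induction n with
  | zero => simp
  | succ n ih =>
    have hca' : Commute c a := hca
    have hcb' : Commute c b := hcb
    obtain ⟨t, ht⟩ : ∃ t, t = ∑ i ∈ Finset.range n, i := ⟨_, rfl⟩
    rw [← ht] at ih
    have h1 : c ^ t * a = a * c ^ t := (hca'.pow_left t).eq
    have h2 : c ^ t * b = b * c ^ t := (hcb'.pow_left t).eq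
    have h3 : c ^ n * b = b * c ^ n := (hcb'.pow_left n).eq
    have h4 := pow_mul_comm_class_two h hcb n
    rw [Finset.sum_range_succ, ← ht]
    calc (a * b) ^ (n + 1) = (a * b) ^ n * (a * b) := pow_succ _ _
      _ = a ^ n * b ^ n * c ^ t * (a * b) := by rw [ih]
      _ = a ^ n * b ^ n * (c ^ t * a) * b := by simp only [mul_assoc]
      _ = a ^ n * b ^ n * (a * c ^ t) * b := by rw [h1]
      _ = a ^ n * (b ^ n * a) * (c ^ t * b) := by simp only [mul_assoc]
      _ = a ^ n * (a * b ^ n * c ^ n) * (b * c ^ t) := by rw [h4, h2]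
      _ = a ^ n * a * b ^ n * (c ^ n * b) * c ^ t := by simp only [mul_assoc]
      _ = a ^ n * a * b ^ n * (b * c ^ n) * c ^ t := by rw [h3]
      _ = a ^ (n + 1) * b ^ (n + 1) * c ^ (t + n) := by
        rw [pow_succ, pow_succ, add_comm t n, pow_add]
        simp only [mul_assoc]

/-- for an odd prime `p`, `p` divides `0 + 1 + ⋯ + (p - 1)` -/
theorem prime_dvd_sum_range {p : ℕ} (hp : p.Prime) (hp2 : p ≠ 2) :
    p ∣ ∑ i ∈ Finset.range p, i := by
  have h1 : (∑ i ∈ Finset.range p, i) * 2 = p * (p - 1) := Finset.sum_range_id_mul_two p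
  have h2 : p ∣ (∑ i ∈ Finset.range p, i) * 2 := by rw [h1]; exact dvd_mul_right _ _
  have h3 : Nat.Coprime p 2 := by
    rw [Nat.coprime_primes hp Nat.prime_two]
    exact hp2
  exact h3.dvd_of_dvd_mul_right h2

/-- the `p`-th power map is multiplicative in class two, for odd `p` -/
theorem mul_pow_prime_class_two {p : ℕ} (hp : p.Prime) (hp2 : p ≠ 2) {a b c : X}
    (h : b * a = a * b * c) (hca : c * a = a * c) (hcb : c * b = b * c) (hc : c ^ p = 1) :
    (a * b) ^ p = a ^ p * b ^ p := by
  rw [mul_pow_class_two h hca hcb p]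
  obtain ⟨m, hm⟩ := prime_dvd_sum_range hp hp2
  rw [hm, pow_mul, hc, one_pow, mul_one]

/-- lifting a fixed point modulo a centralized element of coprime order -/
theorem eq_one_of_conj_eq_mul {k w z : X} {p : ℕ} (h : k * w * k⁻¹ = w * z) (hkz : k * z = z * k)
    (hz : z ^ p = 1) (hcop : (orderOf k).Coprime p) : z = 1 := by
  have key : ∀ n : ℕ, k ^ n * w * (k ^ n)⁻¹ = w * z ^ n := by
    intro n
    induction n with
    | zero => simp
    | succ n ih =>
      have hkzn : k * z ^ n = z ^ n * k := by
        have : Commute k z := hkz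
        exact (this.pow_right n).eq
      calc k ^ (n + 1) * w * (k ^ (n + 1))⁻¹ = k * (k ^ n * w * (k ^ n)⁻¹) * k⁻¹ := by
            rw [pow_succ']; group
        _ = k * (w * z ^ n) * k⁻¹ := by rw [ih]
        _ = (k * w * k⁻¹) * (k * z ^ n) * k⁻¹ := by group
        _ = (w * z) * (z ^ n * k) * k⁻¹ := by rw [h, hkzn]
        _ = w * z ^ (n + 1) := by rw [pow_succ']; group
  have h1 := key (orderOf k)
  rw [pow_orderOf_eq_one, one_mul, inv_one, mul_one] at h1
  have h2 : z ^ orderOf k = 1 := by
    have : w * 1 = w * z ^ orderOf k := by rw [mul_one]; exact h1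
    exact (mul_left_cancel this).symm
  have h3 : orderOf z ∣ orderOf k := orderOf_dvd_of_pow_eq_one h2
  have h4 : orderOf z ∣ p := orderOf_dvd_of_pow_eq_one hz
  have h5 : orderOf z ∣ 1 := by
    have := Nat.dvd_gcd h3 h4
    rwa [hcop] at this
  exact orderOf_eq_one_iff.mp (Nat.dvd_one.mp h5)

/-- a group acting with trivial point stabilizers has order dividing the size of the set -/
theorem card_dvd_of_semiregular {K : Type*} [Group K] [Finite K] {Ω : Type*} [Finite Ω]
    [MulAction K Ω] (hsemi : ∀ k : K, ∀ ω : Ω, k • ω = ω → k = 1) :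
    Nat.card K ∣ Nat.card Ω := by
  classical
  haveI : Fintype Ω := Fintype.ofFinite Ω
  have e := MulAction.selfEquivSigmaOrbitsQuotientStabilizer K Ω
  haveI : Fintype (Quotient (MulAction.orbitRel K Ω)) := Fintype.ofFinite _
  rw [Nat.card_congr e, Nat.card_sigma]
  apply Finset.dvd_sum
  intro ω _
  have h := Subgroup.card_eq_card_quotient_mul_card_subgroup (MulAction.stabilizer K ω.out)
  have hst : MulAction.stabilizer K ω.out = ⊥ := by
    rw [Subgroup.eq_bot_iff_forall]
    intro k hk
    exact hsemi k _ hk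
  have hc : Nat.card (MulAction.stabilizer K ω.out) = 1 := by
    rw [hst, Subgroup.card_bot]
  rw [hc, mul_one] at h
  rw [← h]

end Cfsg.Agent.Lib.Helper21.BG16a
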