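import Mathlib
import Cfsg.Agent.Lib.Helper21.BG16a

set_option autoImplicit false

/-!
# B&G Theorem 15.8(e), `p`-group part: counting lemmas for subgroups
-/

namespace Cfsg.Agent.Lib.Helper21.BG16b

open Cfsg.Agent.Lib.Helper21.BG16a

variable {X : Type*} [Group X]

/-- if all commutators `[t, t₀]`, `t ∈ T`, lie in a subgroup `Z1 ≤ T` central in `T`, then
`|T : C_T(t₀)| ≤ |Z1|` -/
theorem card_le_mul_card_centralizer [Finite X] (T Z1 : Subgroup X) (t₀ : X) (hZT : Z1 ≤ T)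
    (hcen : ∀ z ∈ Z1, ∀ t ∈ T, z * t = t * z)
    (hcomm : ∀ t ∈ T, t * t₀ * t⁻¹ * t₀⁻¹ ∈ Z1) :
    Nat.card T ≤ Nat.card Z1 * Nat.card ↥(T ⊓ Subgroup.centralizer ({t₀} : Set X)) := by
  classical
  let f : ↥T →* ↥Z1 :=
    { toFun := fun t => ⟨(t : X) * t₀ * (t : X)⁻¹ * t₀⁻¹, hcomm t t.2⟩
      map_one' := by
        apply Subtype.ext
        simp
      map_mul' := by
        intro t₁ t₂
        apply Subtype.ext
        obtain ⟨c₂, hc₂⟩ : ∃ c₂, c₂ = (t₂ : X) * t₀ * (t₂ : X)⁻¹ * t₀⁻¹ := ⟨_, rfl⟩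
        have hc₂Z : c₂ ∈ Z1 := hc₂ ▸ hcomm t₂ t₂.2
        have h1 : c₂ * (t₁ : X) = (t₁ : X) * c₂ := hcen c₂ hc₂Z t₁ t₁.2
        obtain ⟨c₁, hc₁⟩ : ∃ c₁, c₁ = (t₁ : X) * t₀ * (t₁ : X)⁻¹ * t₀⁻¹ := ⟨_, rfl⟩
        have hc₁Z : c₁ ∈ Z1 := hc₁ ▸ hcomm t₁ t₁.2
        have h2 : c₂ * c₁ = c₁ * c₂ := hcen c₂ hc₂Z c₁ (hZT hc₁Z)
        show ((t₁ * t₂ : ↥T) : X) * t₀ * ((t₁ * t₂ : ↥T) : X)⁻¹ * t₀⁻¹ =
          ((t₁ : X) * t₀ * (t₁ : X)⁻¹ * t₀⁻¹) * ((t₂ : X) * t₀ * (t₂ : X)⁻¹ * t₀⁻¹)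
        rw [← hc₁, ← hc₂, Subgroup.coe_mul]
        calc (t₁ : X) * (t₂ : X) * t₀ * ((t₁ : X) * (t₂ : X))⁻¹ * t₀⁻¹
            = (t₁ : X) * ((t₂ : X) * t₀ * (t₂ : X)⁻¹ * t₀⁻¹) * t₀ * (t₁ : X)⁻¹ * t₀⁻¹ := by group
          _ = ((t₁ : X) * c₂) * t₀ * (t₁ : X)⁻¹ * t₀⁻¹ := by rw [← hc₂]
          _ = (c₂ * (t₁ : X)) * t₀ * (t₁ : X)⁻¹ * t₀⁻¹ := by rw [h1]
          _ = c₂ * ((t₁ : X) * t₀ * (t₁ : X)⁻¹ * t₀⁻¹) := by group
          _ = c₂ * c₁ := by rw [← hc₁]
          _ = c₁ * c₂ := h2 }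
  have hker : ∀ t : ↥T, t ∈ f.ker ↔ (t : X) ∈ Subgroup.centralizer ({t₀} : Set X) := by
    intro t
    rw [MonoidHom.mem_ker, Subgroup.mem_centralizer_singleton_iff]
    constructor
    · intro h
      have h1 : (t : X) * t₀ * (t : X)⁻¹ * t₀⁻¹ = 1 := congrArg Subtype.val h
      calc (t : X) * t₀ = ((t : X) * t₀ * (t : X)⁻¹ * t₀⁻¹) * (t₀ * (t : X)) := by group
        _ = t₀ * (t : X) := by rw [h1, one_mul]
    · intro h
      apply Subtype.ext
      show (t : X) * t₀ * (t : X)⁻¹ * t₀⁻¹ = 1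
      rw [h]
      group
  have h1 : Nat.card ↥f.ker = Nat.card ↥(T ⊓ Subgroup.centralizer ({t₀} : Set X)) := by
    have e : (f.ker).map T.subtype = T ⊓ Subgroup.centralizer ({t₀} : Set X) := by
      ext y
      constructor
      · rintro ⟨t, ht, rfl⟩
        exact Subgroup.mem_inf.mpr ⟨t.2, (hker t).mp ht⟩
      · intro hy
        exact ⟨⟨y, hy.1⟩, (hker ⟨y, hy.1⟩).mpr hy.2, rfl⟩
    rw [← e]
    exact (Subgroup.card_map_of_injective T.subtype_injective).symm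
  have h2 : Nat.card ↥T = Nat.card ↥f.ker * f.ker.index := (Subgroup.card_mul_index f.ker).symm
  have h3 : f.ker.index = Nat.card ↥f.range := Subgroup.index_ker f
  have h4 : Nat.card ↥f.range ≤ Nat.card ↥Z1 := Subgroup.card_le_card_group _
  rw [h2, h3, h1, mul_comm]
  exact Nat.mul_le_mul_right _ h4

/-- a group of fixed-point-free conjugations of a subgroup `V` has order dividing `|V| - 1` -/
theorem card_dvd_card_sub_one_of_fpf [Finite X] (V K : Subgroup X)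
    (hKV : K ≤ Subgroup.normalizer (V : Set X))
    (hfpf : ∀ k ∈ K, k ≠ 1 → V ⊓ Subgroup.centralizer ({k} : Set X) = ⊥) :
    Nat.card K ∣ Nat.card V - 1 := by
  classical
  let Ω := {v : ↥V // v ≠ 1}
  have hconj : ∀ k : ↥K, ∀ v : ↥V, (k : X) * (v : X) * (k : X)⁻¹ ∈ V := fun k v =>
    (Subgroup.mem_normalizer_iff.mp (hKV k.2) v).mp v.2
  let inst : MulAction ↥K Ω :=
    { smul := fun k v => ⟨⟨(k : X) * (v.1 : X) * (k : X)⁻¹, hconj k v.1⟩, by
        intro h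
        apply v.2
        have h1 : (k : X) * (v.1 : X) * (k : X)⁻¹ = 1 := congrArg Subtype.val h
        apply Subtype.ext
        show (v.1 : X) = 1
        calc (v.1 : X) = (k : X)⁻¹ * ((k : X) * (v.1 : X) * (k : X)⁻¹) * (k : X) := by group
          _ = 1 := by rw [h1]; group⟩
      one_smul := by
        intro v
        apply Subtype.ext
        apply Subtype.ext
        show ((1 : ↥K) : X) * (v.1 : X) * ((1 : ↥K) : X)⁻¹ = (v.1 : X)
        simp
      mul_smul := by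
        intro k k' v
        apply Subtype.ext
        apply Subtype.ext
        show ((k * k' : ↥K) : X) * (v.1 : X) * ((k * k' : ↥K) : X)⁻¹ =
          (k : X) * ((k' : X) * (v.1 : X) * (k' : X)⁻¹) * (k : X)⁻¹
        rw [Subgroup.coe_mul]
        group }
  have hsm : ∀ (k : ↥K) (v : Ω), (((k • v : Ω).1 : ↥V) : X) = (k : X) * (v.1 : X) * (k : X)⁻¹ :=
    fun _ _ => rfl
  have key : Nat.card ↥K ∣ Nat.card Ω := by
    apply card_dvd_of_semiregular
    intro k v hkv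
    by_contra hk1
    have hk1' : (k : X) ≠ 1 := fun h => hk1 (Subtype.ext h)
    have h1 : (k : X) * (v.1 : X) * (k : X)⁻¹ = (v.1 : X) := by
      rw [← hsm, hkv]
    have h2 : (v.1 : X) ∈ V ⊓ Subgroup.centralizer ({(k : X)} : Set X) := by
      refine Subgroup.mem_inf.mpr ⟨v.1.2, ?_⟩
      rw [Subgroup.mem_centralizer_singleton_iff]
      calc (v.1 : X) * (k : X) = ((k : X) * (v.1 : X) * (k : X)⁻¹) * (k : X) := by rw [h1]
        _ = (k : X) * (v.1 : X) := by group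
    rw [hfpf k k.2 hk1', Subgroup.mem_bot] at h2
    exact v.2 (Subtype.ext h2)
  have hΩ : Nat.card Ω = Nat.card ↥V - 1 := by
    haveI : Fintype ↥V := Fintype.ofFinite _
    rw [Nat.card_eq_fintype_card, Nat.card_eq_fintype_card]
    exact Fintype.card_subtype_compl (fun v : ↥V => v = 1) |>.trans (by
      rw [Fintype.card_subtype_eq])
  rwa [hΩ] at key

/-- a group of conjugations of `V` all of whose nonidentity elements have their fixed points in
`Z ≤ V` has order dividing `|V| - |Z|` -/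
theorem card_dvd_card_sub_card [Finite X] (V Z K : Subgroup X) (hZV : Z ≤ V)
    (hKV : K ≤ Subgroup.normalizer (V : Set X)) (hKZ : K ≤ Subgroup.normalizer (Z : Set X))
    (hfix : ∀ k ∈ K, k ≠ 1 → ∀ v ∈ V, k * v = v * k → v ∈ Z) :
    Nat.card K ∣ Nat.card V - Nat.card Z := by
  classical
  let Ω := {v : ↥V // (v : X) ∉ Z}
  have hconj : ∀ k : ↥K, ∀ v : ↥V, (k : X) * (v : X) * (k : X)⁻¹ ∈ V := fun k v =>
    (Subgroup.mem_normalizer_iff.mp (hKV k.2) v).mp v.2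
  let inst : MulAction ↥K Ω :=
    { smul := fun k v => ⟨⟨(k : X) * (v.1 : X) * (k : X)⁻¹, hconj k v.1⟩, by
        intro h
        apply v.2
        exact (Subgroup.mem_normalizer_iff.mp (hKZ k.2) (v.1 : X)).mpr h⟩
      one_smul := by
        intro v
        apply Subtype.ext
        apply Subtype.ext
        show ((1 : ↥K) : X) * (v.1 : X) * ((1 : ↥K) : X)⁻¹ = (v.1 : X)
        simp
      mul_smul := by
        intro k k' v
        apply Subtype.ext
        apply Subtype.ext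
        show ((k * k' : ↥K) : X) * (v.1 : X) * ((k * k' : ↥K) : X)⁻¹ =
          (k : X) * ((k' : X) * (v.1 : X) * (k' : X)⁻¹) * (k : X)⁻¹
        rw [Subgroup.coe_mul]
        group }
  have hsm : ∀ (k : ↥K) (v : Ω), (((k • v : Ω).1 : ↥V) : X) = (k : X) * (v.1 : X) * (k : X)⁻¹ :=
    fun _ _ => rfl
  have key : Nat.card ↥K ∣ Nat.card Ω := by
    apply card_dvd_of_semiregular
    intro k v hkv
    by_contra hk1
    have hk1' : (k : X) ≠ 1 := fun h => hk1 (Subtype.ext h)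
    have h1 : (k : X) * (v.1 : X) * (k : X)⁻¹ = (v.1 : X) := by
      rw [← hsm, hkv]
    apply v.2
    apply hfix k k.2 hk1' _ v.1.2
    calc (k : X) * (v.1 : X) = ((k : X) * (v.1 : X) * (k : X)⁻¹) * (k : X) := by group
      _ = (v.1 : X) * (k : X) := by rw [h1]
  have hΩ : Nat.card Ω = Nat.card ↥V - Nat.card ↥Z := by
    haveI : Fintype ↥V := Fintype.ofFinite _
    have h1 : Nat.card {v : ↥V // (v : X) ∈ Z} = Nat.card ↥Z := by
      apply Nat.card_congr
      exact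
        { toFun := fun v => ⟨(v.1 : X), v.2⟩
          invFun := fun z => ⟨⟨(z : X), hZV z.2⟩, z.2⟩
          left_inv := fun v => rfl
          right_inv := fun z => rfl }
    rw [← h1, Nat.card_eq_fintype_card, Nat.card_eq_fintype_card, Nat.card_eq_fintype_card]
    exact Fintype.card_subtype_compl (fun v : ↥V => (v : X) ∈ Z)
  rwa [hΩ] at key

end Cfsg.Agent.Lib.Helper21.BG16b
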