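import Mathlib
import Cfsg.Agent.Lib.Helper21.BG16b

set_option autoImplicit false

/-!
# B&G Theorem 15.8(e), `p`-group part: the configuration `(P, K, Z1)`
-/

namespace Cfsg.Agent.Lib.Helper21.BG16c

open Cfsg.Agent.Lib.Helper21.BG16a Cfsg.Agent.Lib.Helper21.BG16b

variable {X : Type*} [Group X]

/-- a `p`-group `P`, a central subgroup `Z1` of order `p`, and a `p'`-group `K` normalizing `P`,
centralizing `Z1`, with `C_P(k) ≤ Z1` for all `k ∈ K#` -/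
structure Cfg (p : ℕ) (P K Z1 : Subgroup X) : Prop where
  hp : p.Prime
  hp2 : p ≠ 2
  hP : IsPGroup p P
  hKP : K ≤ Subgroup.normalizer (P : Set X)
  hZ1P : Z1 ≤ P
  hZ1c : ∀ z ∈ Z1, ∀ y ∈ P, z * y = y * z
  hZ1card : Nat.card Z1 = p
  hKZ : ∀ k ∈ K, ∀ z ∈ Z1, k * z = z * k
  hfix : ∀ k ∈ K, k ≠ 1 → ∀ w ∈ P, k * w = w * k → w ∈ Z1
  hKcop : ∀ k ∈ K, (orderOf k).Coprime p
  hK1 : K ≠ ⊥

namespace Cfg

variable {p : ℕ} {P K Z1 : Subgroup X}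

theorem conj_mem_P (c : Cfg p P K Z1) {k w : X} (hk : k ∈ K) (hw : w ∈ P) : k * w * k⁻¹ ∈ P :=
  (Subgroup.mem_normalizer_iff.mp (c.hKP hk) w).mp hw

theorem pow_eq_one_of_mem_Z1 [Finite X] (c : Cfg p P K Z1) {z : X} (hz : z ∈ Z1) : z ^ p = 1 := by
  have h1 : (⟨z, hz⟩ : Z1) ^ Nat.card Z1 = 1 := pow_card_eq_one'
  rw [c.hZ1card] at h1
  exact congrArg Subtype.val h1

/-- `K` acts without fixed points on `P / Z1` -/
theorem fpf_mod [Finite X] (c : Cfg p P K Z1) {k w : X} (hk : k ∈ K) (hk1 : k ≠ 1) (hw : w ∈ P)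
    (h : k * w * k⁻¹ * w⁻¹ ∈ Z1) : w ∈ Z1 := by
  obtain ⟨z, hz⟩ : ∃ z, z = k * w * k⁻¹ * w⁻¹ := ⟨_, rfl⟩
  rw [← hz] at h
  have h1 : k * w * k⁻¹ = w * z := by
    have : z * w = w * z := c.hZ1c z h w hw
    rw [← this, hz]
    group
  have h2 := eq_one_of_conj_eq_mul h1 (c.hKZ k hk z h) (c.pow_eq_one_of_mem_Z1 h) (c.hKcop k hk)
  rw [h2, mul_one] at h1
  apply c.hfix k hk hk1 w hw
  calc k * w = (k * w * k⁻¹) * k := by group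
    _ = w * k := by rw [h1]

/-- the preimage of `Z(P / Z1)` -/
def Z2 (c : Cfg p P K Z1) : Subgroup X where
  carrier := {w | w ∈ P ∧ ∀ y ∈ P, w * y * w⁻¹ * y⁻¹ ∈ Z1}
  one_mem' := ⟨P.one_mem, fun y _ => by simp [Z1.one_mem]⟩
  mul_mem' := by
    rintro w₁ w₂ ⟨h1P, h1⟩ ⟨h2P, h2⟩
    refine ⟨P.mul_mem h1P h2P, fun y hy => ?_⟩
    have e : w₁ * w₂ * y * (w₁ * w₂)⁻¹ * y⁻¹ =
        w₁ * (w₂ * y * w₂⁻¹ * y⁻¹) * w₁⁻¹ * (w₁ * y * w₁⁻¹ * y⁻¹) := by group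
    rw [e]
    have h3 := c.hZ1c _ (h2 y hy) w₁ h1P
    have e2 : w₁ * (w₂ * y * w₂⁻¹ * y⁻¹) * w₁⁻¹ = w₂ * y * w₂⁻¹ * y⁻¹ := by
      rw [← h3]; group
    rw [e2]
    exact Z1.mul_mem (h2 y hy) (h1 y hy)
  inv_mem' := by
    rintro w ⟨hP, h⟩
    refine ⟨P.inv_mem hP, fun y hy => ?_⟩
    obtain ⟨d, hd⟩ : ∃ d, d = w * y * w⁻¹ * y⁻¹ := ⟨_, rfl⟩
    have h1 : d ∈ Z1 := hd ▸ h y hy
    have h3 : Commute d w := c.hZ1c _ h1 w hP
    have h5 : Commute d⁻¹ w := h3.inv_left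
    have e : w⁻¹ * y * w⁻¹⁻¹ * y⁻¹ = w⁻¹ * d⁻¹ * w := by rw [hd]; group
    rw [e]
    have e2 : w⁻¹ * d⁻¹ * w = d⁻¹ := by
      calc w⁻¹ * d⁻¹ * w = w⁻¹ * (d⁻¹ * w) := by group
        _ = w⁻¹ * (w * d⁻¹) := by rw [h5.eq]
        _ = d⁻¹ := by group
    rw [e2]
    exact Z1.inv_mem h1

theorem mem_Z2 (c : Cfg p P K Z1) {w : X} :
    w ∈ c.Z2 ↔ w ∈ P ∧ ∀ y ∈ P, w * y * w⁻¹ * y⁻¹ ∈ Z1 := Iff.rfl

theorem Z2_le (c : Cfg p P K Z1) : c.Z2 ≤ P := fun _ h => h.1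

theorem Z1_le_Z2 (c : Cfg p P K Z1) : Z1 ≤ c.Z2 := by
  intro z hz
  refine ⟨c.hZ1P hz, fun y hy => ?_⟩
  have := c.hZ1c z hz y hy
  have e : z * y * z⁻¹ * y⁻¹ = 1 := by rw [this]; group
  rw [e]
  exact Z1.one_mem

theorem conj_mem_Z1 (c : Cfg p P K Z1) {k z : X} (hk : k ∈ K) (hz : z ∈ Z1) : k * z * k⁻¹ ∈ Z1 := by
  have := c.hKZ k hk z hz
  have e : k * z * k⁻¹ = z := by rw [this]; group
  rw [e]; exact hz

theorem conj_mem_Z2 (c : Cfg p P K Z1) {k w : X} (hk : k ∈ K) (hw : w ∈ c.Z2) :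
    k * w * k⁻¹ ∈ c.Z2 := by
  refine ⟨c.conj_mem_P hk hw.1, fun y hy => ?_⟩
  have hy' : k⁻¹ * y * k⁻¹⁻¹ ∈ P := c.conj_mem_P (K.inv_mem hk) hy
  have h1 := hw.2 _ hy'
  have h2 := c.conj_mem_Z1 hk h1
  have e : k * w * k⁻¹ * y * (k * w * k⁻¹)⁻¹ * y⁻¹ =
      k * (w * (k⁻¹ * y * k⁻¹⁻¹) * w⁻¹ * (k⁻¹ * y * k⁻¹⁻¹)⁻¹) * k⁻¹ := by group
  rw [e]
  exact h2

/-- `Z(P / Z1)` is nontrivial when `P ≠ Z1` -/
theorem exists_mem_Z2_not_mem [Finite X] (c : Cfg p P K Z1) (hne : ∃ y ∈ P, y ∉ Z1) :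
    ∃ w ∈ c.Z2, w ∉ Z1 := by
  haveI : Fact p.Prime := ⟨c.hp⟩
  obtain ⟨N, hN⟩ : ∃ N : Subgroup ↥P, N = Z1.subgroupOf P := ⟨_, rfl⟩
  have hNmem : ∀ y : ↥P, y ∈ N ↔ (y : X) ∈ Z1 := by
    intro y; rw [hN]; exact Subgroup.mem_subgroupOf
  haveI hNn : N.Normal := by
    constructor
    intro n hn g
    rw [hNmem] at hn ⊢
    have := c.hZ1c _ hn g g.2
    have e : ((g * n * g⁻¹ : ↥P) : X) = (n : X) := by
      show (g : X) * (n : X) * (g : X)⁻¹ = (n : X)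
      rw [← this]; group
    rw [e]; exact hn
  have hQp : IsPGroup p (↥P ⧸ N) := c.hP.to_quotient N
  haveI : Nontrivial (↥P ⧸ N) := by
    obtain ⟨y, hyP, hyZ⟩ := hne
    refine ⟨⟨QuotientGroup.mk (⟨y, hyP⟩ : ↥P), 1, ?_⟩⟩
    intro h
    rw [QuotientGroup.eq_one_iff, hNmem] at h
    exact hyZ h
  haveI : Nontrivial (Subgroup.center (↥P ⧸ N)) := hQp.center_nontrivial
  obtain ⟨⟨q, hq⟩, hq1⟩ := exists_ne (1 : Subgroup.center (↥P ⧸ N))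
  obtain ⟨w, rfl⟩ := QuotientGroup.mk_surjective q
  refine ⟨(w : X), ⟨w.2, fun y hy => ?_⟩, ?_⟩
  · have h1 := (Subgroup.mem_center_iff.mp hq) (QuotientGroup.mk (⟨y, hy⟩ : ↥P))
    have h2 : (QuotientGroup.mk (w * ⟨y, hy⟩ * w⁻¹ * (⟨y, hy⟩ : ↥P)⁻¹) : ↥P ⧸ N) = 1 := by
      rw [QuotientGroup.mk_mul, QuotientGroup.mk_mul, QuotientGroup.mk_mul, QuotientGroup.mk_inv,
        QuotientGroup.mk_inv, ← h1]
      group
    rw [QuotientGroup.eq_one_iff, hNmem] at h2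
    exact h2
  · intro h
    apply hq1
    apply Subtype.ext
    show (QuotientGroup.mk w : ↥P ⧸ N) = 1
    rw [QuotientGroup.eq_one_iff, hNmem]
    exact h

/-- a subgroup normalizes `H` as soon as it conjugates `H` into itself -/
theorem le_normalizer_of_conj {S H : Subgroup X}
    (h : ∀ s ∈ S, ∀ x ∈ H, s * x * s⁻¹ ∈ H) : S ≤ Subgroup.normalizer (H : Set X) := by
  intro s hs
  rw [Subgroup.mem_normalizer_iff]
  intro x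
  constructor
  · exact h s hs x
  · intro hx
    have := h s⁻¹ (S.inv_mem hs) _ hx
    have e : s⁻¹ * (s * x * s⁻¹) * s⁻¹⁻¹ = x := by group
    rwa [e] at this

theorem conj_mem_of_le_normalizer {S H : Subgroup X}
    (h : S ≤ Subgroup.normalizer (H : Set X)) {s x : X} (hs : s ∈ S) (hx : x ∈ H) :
    s * x * s⁻¹ ∈ H :=
  (Subgroup.mem_normalizer_iff.mp (h hs) x).mp hx

/-- a minimal `K`-invariant subgroup of `Z2` strictly above `Z1` -/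
structure MinW (c : Cfg p P K Z1) (W : Subgroup X) : Prop where
  lt : Z1 < W
  le : W ≤ c.Z2
  inv : K ≤ Subgroup.normalizer (W : Set X)
  min : ∀ V : Subgroup X, Z1 ≤ V → V ≤ W → K ≤ Subgroup.normalizer (V : Set X) → V = Z1 ∨ V = W

theorem exists_minW [Finite X] (c : Cfg p P K Z1) (hne : ∃ y ∈ P, y ∉ Z1) : ∃ W, MinW c W := by
  obtain ⟨w, hwZ2, hwZ1⟩ := c.exists_mem_Z2_not_mem hne
  let S : Set (Subgroup X) :=
    {W | Z1 < W ∧ W ≤ c.Z2 ∧ K ≤ Subgroup.normalizer (W : Set X)}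
  have hS : S.Nonempty := by
    refine ⟨c.Z2, lt_of_le_of_ne c.Z1_le_Z2 ?_, le_rfl, ?_⟩
    · intro h
      exact hwZ1 (h ▸ hwZ2)
    · exact le_normalizer_of_conj (fun k hk x hx => c.conj_mem_Z2 hk hx)
  obtain ⟨W, hWS, hmin⟩ := WellFounded.has_min
    (measure (fun W : Subgroup X => Nat.card W)).wf S hS
  refine ⟨W, hWS.1, hWS.2.1, hWS.2.2, ?_⟩
  intro V hZV hVW hKV
  by_cases hV : V = Z1
  · exact Or.inl hV
  · right
    have hVS : V ∈ S := ⟨lt_of_le_of_ne hZV (Ne.symm hV), hVW.trans hWS.2.1, hKV⟩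
    have h1 : ¬ Nat.card V < Nat.card W := hmin V hVS
    exact Subgroup.eq_of_le_of_card_ge hVW (not_lt.mp h1)

namespace MinW

variable {W : Subgroup X}

theorem le_P {c : Cfg p P K Z1} (hW : MinW c W) : W ≤ P := hW.le.trans c.Z2_le

/-- commutators of elements of `W` with elements of `P` -/
theorem comm_mem {c : Cfg p P K Z1} (hW : MinW c W) {w y : X} (hw : w ∈ W) (hy : y ∈ P) :
    w * y * w⁻¹ * y⁻¹ ∈ Z1 := (hW.le hw).2 y hy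

/-- the `p`-th power map is multiplicative on `W` -/
theorem mul_pow [Finite X] {c : Cfg p P K Z1} (hW : MinW c W) {a b : X} (ha : a ∈ W)
    (hb : b ∈ W) : (a * b) ^ p = a ^ p * b ^ p := by
  obtain ⟨d, hd⟩ : ∃ d, d = b⁻¹ * a⁻¹ * b⁻¹⁻¹ * a⁻¹⁻¹ := ⟨_, rfl⟩
  have hdZ : d ∈ Z1 := hd ▸ hW.comm_mem (W.inv_mem hb) (P.inv_mem (hW.le_P ha))
  have h : b * a = a * b * d := by rw [hd]; group
  exact mul_pow_prime_class_two c.hp c.hp2 h (c.hZ1c d hdZ a (hW.le_P ha))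
    (c.hZ1c d hdZ b (hW.le_P hb)) (c.pow_eq_one_of_mem_Z1 hdZ)

/-- `W` has exponent `p` -/
theorem pow_eq_one [Finite X] {c : Cfg p P K Z1} (hW : MinW c W) : ∀ w ∈ W, w ^ p = 1 := by
  let W2 : Subgroup X :=
    { carrier := {w | w ∈ W ∧ w ^ p = 1}
      one_mem' := ⟨W.one_mem, one_pow p⟩
      mul_mem' := by
        rintro a b ⟨ha, ha1⟩ ⟨hb, hb1⟩
        refine ⟨W.mul_mem ha hb, ?_⟩
        rw [hW.mul_pow ha hb, ha1, hb1, one_mul]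
      inv_mem' := by
        rintro a ⟨ha, ha1⟩
        refine ⟨W.inv_mem ha, ?_⟩
        rw [inv_pow, ha1, inv_one] }
  have hW2mem : ∀ w, w ∈ W2 ↔ w ∈ W ∧ w ^ p = 1 := fun _ => Iff.rfl
  have hZW2 : Z1 ≤ W2 := fun z hz => ⟨hW.lt.le hz, c.pow_eq_one_of_mem_Z1 hz⟩
  have hW2W : W2 ≤ W := fun w hw => hw.1
  have hKW2 : K ≤ Subgroup.normalizer (W2 : Set X) := by
    apply le_normalizer_of_conj
    intro k hk w hw
    refine ⟨conj_mem_of_le_normalizer hW.inv hk hw.1, ?_⟩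
    rw [conj_pow, hw.2]
    group
  rcases hW.min W2 hZW2 hW2W hKW2 with h | h
  · exfalso
    obtain ⟨w₀, hw₀W, hw₀Z⟩ := SetLike.exists_of_lt hW.lt
    have hex : ∃ j : ℕ, w₀ ^ p ^ j ∈ Z1 := by
      obtain ⟨n, hn⟩ := c.hP ⟨w₀, hW.le_P hw₀W⟩
      refine ⟨n, ?_⟩
      have h1 : w₀ ^ p ^ n = 1 := by
        have := congrArg Subtype.val hn
        simpa using this
      rw [h1]; exact Z1.one_mem
    classical
    obtain ⟨j, hj⟩ : ∃ j, j = Nat.find hex := ⟨_, rfl⟩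
    have hjZ : w₀ ^ p ^ j ∈ Z1 := hj ▸ Nat.find_spec hex
    have hj0 : j ≠ 0 := by
      intro h0
      rw [h0, pow_zero, pow_one] at hjZ
      exact hw₀Z hjZ
    obtain ⟨i, hi⟩ : ∃ i, j = i + 1 := ⟨j - 1, by omega⟩
    obtain ⟨w, hw⟩ : ∃ w, w = w₀ ^ p ^ i := ⟨_, rfl⟩
    have hwW : w ∈ W := hw ▸ W.pow_mem hw₀W _
    have hwZ : w ∉ Z1 := by
      rw [hw]
      have : i < Nat.find hex := by rw [← hj, hi]; exact Nat.lt_succ_self i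
      exact Nat.find_min hex this
    have hwp : w ^ p ∈ Z1 := by
      rw [hw, ← pow_mul, ← pow_succ, ← hi]
      exact hjZ
    obtain ⟨k, hkK, hk1⟩ : ∃ k, k ∈ K ∧ k ≠ 1 :=
      (Subgroup.ne_bot_iff_exists_ne_one.mp c.hK1 |> fun ⟨⟨x, hx⟩, h⟩ =>
        (⟨x, hx, fun h' => h (Subtype.ext h')⟩ : ∃ x, x ∈ K ∧ x ≠ 1))
    have hw'W : k * w * k⁻¹ ∈ W := conj_mem_of_le_normalizer hW.inv hkK hwW
    have h1 : (k * w * k⁻¹ * w⁻¹) ^ p = 1 := by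
      rw [hW.mul_pow hw'W (W.inv_mem hwW), conj_pow, inv_pow]
      have := c.hKZ k hkK _ hwp
      have e : k * w ^ p * k⁻¹ = w ^ p := by rw [this]; group
      rw [e, mul_inv_cancel]
    have h2 : k * w * k⁻¹ * w⁻¹ ∈ W2 := ⟨W.mul_mem hw'W (W.inv_mem hwW), h1⟩
    rw [h] at h2
    exact hwZ (c.fpf_mod hkK hk1 (hW.le_P hwW) h2)
  · intro w hw
    have : w ∈ W2 := h ▸ hw
    exact this.2

end MinW

end Cfg

end Cfsg.Agent.Lib.Helper21.BG16c
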