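import Mathlib
import Cfsg.Agent.Lib.Helper21.BG16c

set_option autoImplicit false

/-!
# B&G Theorem 15.8(e), `p`-group part: `Z(P) = Z1` and the order of the minimal subgroup `W`
-/

namespace Cfsg.Agent.Lib.Helper21.BG16c

open Cfsg.Agent.Lib.Helper21.BG16a Cfsg.Agent.Lib.Helper21.BG16b

variable {X : Type*} [Group X]

namespace Cfg

variable {p : ℕ} {P K Z1 : Subgroup X}

theorem exists_mem_K (c : Cfg p P K Z1) : ∃ k, k ∈ K ∧ k ≠ 1 :=
  (Subgroup.ne_bot_iff_exists_ne_one.mp c.hK1 |> fun ⟨⟨x, hx⟩, h⟩ =>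
    (⟨x, hx, fun h' => h (Subtype.ext h')⟩ : ∃ x, x ∈ K ∧ x ≠ 1))

theorem card_K_coprime [Finite X] (c : Cfg p P K Z1) : (Nat.card K).Coprime p := by
  rw [Nat.coprime_comm, Nat.Prime.coprime_iff_not_dvd c.hp]
  intro h
  haveI : Fact p.Prime := ⟨c.hp⟩
  obtain ⟨k, hk⟩ := exists_prime_orderOf_dvd_card' (G := K) p h
  have h1 := c.hKcop (k : X) k.2
  rw [Subgroup.orderOf_coe, hk, Nat.coprime_self] at h1
  exact c.hp.one_lt.ne' h1

/-- `Z(P) = Z1` -/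
theorem center_le [Finite X] (c : Cfg p P K Z1)
    (hΩ : ∀ z ∈ P, (∀ y ∈ P, z * y = y * z) → z ^ p = 1 → z ∈ Z1) :
    ∀ z ∈ P, (∀ y ∈ P, z * y = y * z) → z ∈ Z1 := by
  intro z hzP hzc
  by_contra hzZ
  have hex : ∃ j : ℕ, z ^ p ^ j ∈ Z1 := by
    obtain ⟨n, hn⟩ := c.hP ⟨z, hzP⟩
    refine ⟨n, ?_⟩
    have h1 : z ^ p ^ n = 1 := by
      have := congrArg Subtype.val hn
      simpa using this
    rw [h1]; exact Z1.one_mem
  classical
  obtain ⟨j, hj⟩ : ∃ j, j = Nat.find hex := ⟨_, rfl⟩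
  have hjZ : z ^ p ^ j ∈ Z1 := hj ▸ Nat.find_spec hex
  have hj0 : j ≠ 0 := by
    intro h0
    rw [h0, pow_zero, pow_one] at hjZ
    exact hzZ hjZ
  obtain ⟨i, hi⟩ : ∃ i, j = i + 1 := ⟨j - 1, by omega⟩
  obtain ⟨w, hw⟩ : ∃ w, w = z ^ p ^ i := ⟨_, rfl⟩
  have hwP : w ∈ P := hw ▸ P.pow_mem hzP _
  have hwc : ∀ y ∈ P, w * y = y * w := by
    intro y hy
    have : Commute z y := hzc y hy
    rw [hw]
    exact (this.pow_left _).eq
  have hwZ : w ∉ Z1 := by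
    rw [hw]
    have : i < Nat.find hex := by rw [← hj, hi]; exact Nat.lt_succ_self i
    exact Nat.find_min hex this
  have hwp : w ^ p ∈ Z1 := by
    rw [hw, ← pow_mul, ← pow_succ, ← hi]
    exact hjZ
  obtain ⟨k, hkK, hk1⟩ := c.exists_mem_K
  have hkwP : k * w * k⁻¹ ∈ P := c.conj_mem_P hkK hwP
  have hkwc : ∀ y ∈ P, (k * w * k⁻¹) * y = y * (k * w * k⁻¹) := by
    intro y hy
    have hy' : k⁻¹ * y * k⁻¹⁻¹ ∈ P := c.conj_mem_P (K.inv_mem hkK) hy
    have h1 := hwc _ hy'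
    calc k * w * k⁻¹ * y = k * (w * (k⁻¹ * y * k⁻¹⁻¹)) * k⁻¹ := by group
      _ = k * ((k⁻¹ * y * k⁻¹⁻¹) * w) * k⁻¹ := by rw [h1]
      _ = y * (k * w * k⁻¹) := by group
  have hdP : k * w * k⁻¹ * w⁻¹ ∈ P := P.mul_mem hkwP (P.inv_mem hwP)
  have hdc : ∀ y ∈ P, (k * w * k⁻¹ * w⁻¹) * y = y * (k * w * k⁻¹ * w⁻¹) := by
    intro y hy
    have h1 : Commute (k * w * k⁻¹) y := hkwc y hy
    have h2 : Commute w y := hwc y hy
    exact (h1.mul_left h2.inv_left).eq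
  have hdp : (k * w * k⁻¹ * w⁻¹) ^ p = 1 := by
    have h1 : Commute (k * w * k⁻¹) w⁻¹ := hkwc _ (P.inv_mem hwP)
    rw [h1.mul_pow, conj_pow, inv_pow]
    have := c.hKZ k hkK _ hwp
    have e : k * w ^ p * k⁻¹ = w ^ p := by rw [this]; group
    rw [e, mul_inv_cancel]
  exact hwZ (c.fpf_mod hkK hk1 hwP (hΩ _ hdP hdc hdp))

namespace MinW

variable {W : Subgroup X}

/-- the order of `W` is `p ^ 2` or `p ^ 3`, and in the latter case `x ∈ W` and
`C_W(x) = A` -/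
theorem card_cases [Finite X] {c : Cfg p P K Z1} (hW : MinW c W) (A : Subgroup X) {x : X}
    (hxP : x ∈ P) (hxA : x ∈ A) (hAcard : Nat.card A = p ^ 2)
    (hCA : ∀ s ∈ P, s * x = x * s → s ^ p = 1 → s ∈ A) :
    Nat.card W = p ^ 2 ∨
      (Nat.card W = p ^ 3 ∧ W ⊓ Subgroup.centralizer ({x} : Set X) = A) := by
  haveI : Fact p.Prime := ⟨c.hp⟩
  have hWp : IsPGroup p W := c.hP.to_le hW.le_P
  obtain ⟨m, hm⟩ := hWp.exists_card_eq
  have hlt : Nat.card Z1 < Nat.card W := by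
    apply lt_of_le_of_ne (Subgroup.card_le_of_le hW.lt.le)
    intro h
    exact hW.lt.ne (Subgroup.eq_of_le_of_card_ge hW.lt.le h.ge)
  rw [c.hZ1card, hm] at hlt
  have hm2 : 2 ≤ m := by
    by_contra h
    have h1 : m ≤ 1 := by omega
    have h2 : p ^ m ≤ p ^ 1 := Nat.pow_le_pow_right c.hp.pos h1
    rw [pow_one] at h2
    omega
  have hle : W ⊓ Subgroup.centralizer ({x} : Set X) ≤ A := by
    intro w hw
    obtain ⟨hwW, hwx⟩ := Subgroup.mem_inf.mp hw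
    rw [Subgroup.mem_centralizer_singleton_iff] at hwx
    exact hCA w (hW.le_P hwW) hwx (hW.pow_eq_one w hwW)
  have h1 := card_le_mul_card_centralizer W Z1 x hW.lt.le
    (fun z hz t ht => c.hZ1c z hz t (hW.le_P ht)) (fun t ht => hW.comm_mem ht hxP)
  have h2 : Nat.card ↥(W ⊓ Subgroup.centralizer ({x} : Set X)) ≤ p ^ 2 :=
    hAcard ▸ Subgroup.card_le_of_le hle
  rw [c.hZ1card, hm] at h1
  have h3 : p ^ m ≤ p ^ 3 := by
    calc p ^ m ≤ p * Nat.card ↥(W ⊓ Subgroup.centralizer ({x} : Set X)) := h1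
      _ ≤ p * p ^ 2 := Nat.mul_le_mul_left _ h2
      _ = p ^ 3 := by ring
  have hm3 : m ≤ 3 := (Nat.pow_le_pow_iff_right c.hp.one_lt).mp h3
  rcases (by omega : m = 2 ∨ m = 3) with h | h
  · left; rw [hm, h]
  · right
    refine ⟨by rw [hm, h], ?_⟩
    apply Subgroup.eq_of_le_of_card_ge hle
    rw [hAcard]
    rw [h] at h1
    have h4 : p * p ^ 2 ≤ p * Nat.card ↥(W ⊓ Subgroup.centralizer ({x} : Set X)) := by
      calc p * p ^ 2 = p ^ 3 := by ring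
        _ ≤ _ := h1
    exact Nat.le_of_mul_le_mul_left h4 c.hp.pos

/-- if `|W| = p ^ 2` then `|K|` divides `p - 1` -/
theorem card_K_dvd_of_sq [Finite X] {c : Cfg p P K Z1} (hW : MinW c W)
    (h : Nat.card W = p ^ 2) : Nat.card K ∣ p - 1 := by
  have hKZ : K ≤ Subgroup.normalizer (Z1 : Set X) :=
    le_normalizer_of_conj (fun k hk z hz => c.conj_mem_Z1 hk hz)
  have h1 := card_dvd_card_sub_card W Z1 K hW.lt.le hW.inv hKZ
    (fun k hk hk1 v hv hkv => c.hfix k hk hk1 v (hW.le_P hv) hkv)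
  rw [h, c.hZ1card] at h1
  have h2 : p ^ 2 - p = p * (p - 1) := by
    rw [Nat.mul_sub, mul_one, sq]
  rw [h2] at h1
  exact c.card_K_coprime.dvd_of_dvd_mul_left h1

/-- if `|W| = p ^ 3` (so `x ∈ W`), then `P = W` -/
theorem eq_of_cube [Finite X] {c : Cfg p P K Z1} (hW : MinW c W) (A : Subgroup X) {x : X}
    (hxP : x ∈ P) (hAcard : Nat.card A = p ^ 2)
    (hΩ : ∀ z ∈ P, (∀ y ∈ P, z * y = y * z) → z ^ p = 1 → z ∈ Z1)
    (hCab : ∀ s ∈ P, ∀ t ∈ P, s * x = x * s → t * x = x * t → s * t = t * s)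
    (hcard : Nat.card W = p ^ 3) (hWA : W ⊓ Subgroup.centralizer ({x} : Set X) = A) (hxA : x ∈ A) :
    W = P := by
  haveI : Fact p.Prime := ⟨c.hp⟩
  have hxW : x ∈ W := by
    have : x ∈ W ⊓ Subgroup.centralizer ({x} : Set X) := hWA ▸ hxA
    exact this.1
  obtain ⟨S, hS⟩ : ∃ S : Subgroup X, S = P ⊓ Subgroup.centralizer ({x} : Set X) := ⟨_, rfl⟩
  have hSmem : ∀ s, s ∈ S ↔ s ∈ P ∧ s * x = x * s := by
    intro s
    rw [hS, Subgroup.mem_inf, Subgroup.mem_centralizer_singleton_iff]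
  have hSP : S ≤ P := fun s hs => ((hSmem s).mp hs).1
  -- `|P| ≤ p |S|`
  have h1 : Nat.card P ≤ p * Nat.card S := by
    have := card_le_mul_card_centralizer P Z1 x c.hZ1P c.hZ1c (fun t ht => by
      have h := hW.comm_mem hxW ht
      have e : t * x * t⁻¹ * x⁻¹ = (x * t * x⁻¹ * t⁻¹)⁻¹ := by group
      rw [e]
      exact Z1.inv_mem h)
    rw [c.hZ1card, ← hS] at this
    exact this
  -- an element `b ∈ W` outside `A`
  obtain ⟨b, hbW, hbA⟩ : ∃ b, b ∈ W ∧ b ∉ A := by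
    by_contra hcon
    push Not at hcon
    have : Nat.card W ≤ Nat.card A := Subgroup.card_le_of_le hcon
    rw [hcard, hAcard] at this
    have h2 : p ^ 2 < p ^ 3 := Nat.pow_lt_pow_right c.hp.one_lt (by norm_num)
    omega
  have hbP : b ∈ P := hW.le_P hbW
  have hbS : b ∉ S := by
    intro h
    apply hbA
    rw [← hWA]
    refine Subgroup.mem_inf.mpr ⟨hbW, ?_⟩
    rw [Subgroup.mem_centralizer_singleton_iff]
    exact ((hSmem b).mp h).2
  have hZS : Z1 ≤ S := by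
    intro z hz
    exact (hSmem z).mpr ⟨c.hZ1P hz, c.hZ1c z hz x hxP⟩
  have h2 : Nat.card S ≤ p * Nat.card ↥(S ⊓ Subgroup.centralizer ({b} : Set X)) := by
    have := card_le_mul_card_centralizer S Z1 b hZS
      (fun z hz t ht => c.hZ1c z hz t (hSP ht)) (fun t ht => by
      have h := hW.comm_mem hbW (hSP ht)
      have e : t * b * t⁻¹ * b⁻¹ = (b * t * b⁻¹ * t⁻¹)⁻¹ := by group
      rw [e]
      exact Z1.inv_mem h)
    rw [c.hZ1card] at this
    exact this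
  -- `C_S(b) ≤ Z(P) = Z1`
  have hD : S ⊓ Subgroup.centralizer ({b} : Set X) ≤ Z1 := by
    intro d hd
    obtain ⟨hdS, hdb⟩ := Subgroup.mem_inf.mp hd
    rw [Subgroup.mem_centralizer_singleton_iff] at hdb
    obtain ⟨hdP, hdx⟩ := (hSmem d).mp hdS
    apply c.center_le hΩ d hdP
    obtain ⟨C, hC⟩ : ∃ C : Subgroup X, C = P ⊓ Subgroup.centralizer ({d} : Set X) := ⟨_, rfl⟩
    have hCmem : ∀ y, y ∈ C ↔ y ∈ P ∧ y * d = d * y := by
      intro y
      rw [hC, Subgroup.mem_inf, Subgroup.mem_centralizer_singleton_iff]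
    have hSC : S ≤ C := by
      intro s hs
      obtain ⟨hsP, hsx⟩ := (hSmem s).mp hs
      exact (hCmem s).mpr ⟨hsP, hCab s hsP d hdP hsx hdx⟩
    have hbC : b ∈ C := (hCmem b).mpr ⟨hbP, hdb.symm⟩
    have hCP : C ≤ P := fun y hy => ((hCmem y).mp hy).1
    have hSCne : S ≠ C := fun h => hbS (h ▸ hbC)
    have hlt : Nat.card S < Nat.card C := by
      apply lt_of_le_of_ne (Subgroup.card_le_of_le hSC)
      intro h
      exact hSCne (Subgroup.eq_of_le_of_card_ge hSC h.ge)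
    obtain ⟨s, hs⟩ := (c.hP.to_le hSP).exists_card_eq
    obtain ⟨t, ht⟩ := (c.hP.to_le hCP).exists_card_eq
    rw [hs, ht] at hlt
    have hst : s < t := (Nat.pow_lt_pow_iff_right c.hp.one_lt).mp hlt
    have h3 : p ^ (s + 1) ≤ p ^ t := Nat.pow_le_pow_right c.hp.pos hst
    have h4 : Nat.card P ≤ Nat.card C := by
      calc Nat.card P ≤ p * Nat.card S := h1
        _ = p ^ (s + 1) := by rw [hs, pow_succ, mul_comm]
        _ ≤ p ^ t := h3
        _ = Nat.card C := ht.symm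
    have hCeq : C = P := Subgroup.eq_of_le_of_card_ge hCP h4
    intro y hy
    have : y ∈ C := hCeq ▸ hy
    exact ((hCmem y).mp this).2.symm
  have h3 : Nat.card ↥(S ⊓ Subgroup.centralizer ({b} : Set X)) ≤ p :=
    c.hZ1card ▸ Subgroup.card_le_of_le hD
  apply Subgroup.eq_of_le_of_card_ge hW.le_P
  rw [hcard]
  calc Nat.card P ≤ p * Nat.card S := h1
    _ ≤ p * (p * Nat.card ↥(S ⊓ Subgroup.centralizer ({b} : Set X))) := Nat.mul_le_mul_left _ h2
    _ ≤ p * (p * p) := Nat.mul_le_mul_left _ (Nat.mul_le_mul_left _ h3)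
    _ = p ^ 3 := by ring

end MinW

end Cfg

end Cfsg.Agent.Lib.Helper21.BG16c
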