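import Mathlib
import Cfsg.Agent.Lib.Helper21.BG16d

set_option autoImplicit false

/-!
# B&G Theorem 15.8(e), `p`-group part: commutator calculus and lines of `P / Z1`
-/

namespace Cfsg.Agent.Lib.Helper21.BG16c

open Cfsg.Agent.Lib.Helper21.BG16a Cfsg.Agent.Lib.Helper21.BG16b

variable {X : Type*} [Group X]

/-- `[g ^ i, h] = [g, h] ^ i` when `[g, h]` commutes with `g` -/
theorem comm_pow_left {g h d : X} (hd : g * h * g⁻¹ * h⁻¹ = d) (hdg : Commute d g) (i : ℕ) :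
    g ^ i * h * (g ^ i)⁻¹ * h⁻¹ = d ^ i := by
  induction i with
  | zero => simp
  | succ i ih =>
    have h1 : Commute (d ^ i) g := hdg.pow_left i
    calc g ^ (i + 1) * h * (g ^ (i + 1))⁻¹ * h⁻¹
        = g * (g ^ i * h * (g ^ i)⁻¹ * h⁻¹) * (h * g⁻¹ * h⁻¹) := by rw [pow_succ']; group
      _ = g * d ^ i * (h * g⁻¹ * h⁻¹) := by rw [ih]
      _ = d ^ i * g * (h * g⁻¹ * h⁻¹) := by rw [h1.eq]
      _ = d ^ i * (g * h * g⁻¹ * h⁻¹) := by group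
      _ = d ^ (i + 1) := by rw [hd, pow_succ]

/-- `[g, h ^ j] = [g, h] ^ j` when `[g, h]` commutes with `h` -/
theorem comm_pow_right {g h d : X} (hd : g * h * g⁻¹ * h⁻¹ = d) (hdh : Commute d h) (j : ℕ) :
    g * h ^ j * g⁻¹ * (h ^ j)⁻¹ = d ^ j := by
  induction j with
  | zero => simp
  | succ j ih =>
    have h1 : Commute d (h ^ j) := hdh.pow_right j
    calc g * h ^ (j + 1) * g⁻¹ * (h ^ (j + 1))⁻¹
        = (g * h ^ j * g⁻¹ * (h ^ j)⁻¹) * (h ^ j * (g * h * g⁻¹ * h⁻¹) * (h ^ j)⁻¹) := by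
          rw [pow_succ]; group
      _ = d ^ j * (h ^ j * d * (h ^ j)⁻¹) := by rw [ih, hd]
      _ = d ^ j * (d * h ^ j * (h ^ j)⁻¹) := by rw [h1.eq]
      _ = d ^ (j + 1) := by rw [pow_succ]; group

/-- `[g ^ i, h ^ j] = [g, h] ^ (i * j)` in class two -/
theorem comm_pow_pow {g h d : X} (hd : g * h * g⁻¹ * h⁻¹ = d) (hdg : Commute d g)
    (hdh : Commute d h) (i j : ℕ) :
    g ^ i * h ^ j * (g ^ i)⁻¹ * (h ^ j)⁻¹ = d ^ (i * j) := by
  have h1 := comm_pow_left hd hdg i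
  have h2 := comm_pow_right h1 (hdh.pow_left i) j
  rw [h2, pow_mul]

namespace Cfg

variable {p : ℕ} {P K Z1 : Subgroup X}

/-- the elements of a subgroup `L` of order `p ^ 2` containing `Z1` and `a ∉ Z1` -/
theorem mem_line [Finite X] (c : Cfg p P K Z1) {L : Subgroup X} (hZL : Z1 ≤ L) (hLP : L ≤ P)
    (hLcard : Nat.card L = p ^ 2) {a : X} (haL : a ∈ L) (haZ : a ∉ Z1) :
    ∀ y ∈ L, ∃ i : ℕ, ∃ z ∈ Z1, y = a ^ i * z := by
  classical
  haveI : Fact p.Prime := ⟨c.hp⟩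
  obtain ⟨N, hN⟩ : ∃ N : Subgroup ↥L, N = Z1.subgroupOf L := ⟨_, rfl⟩
  have hNmem : ∀ y : ↥L, y ∈ N ↔ (y : X) ∈ Z1 := by
    intro y; rw [hN]; exact Subgroup.mem_subgroupOf
  haveI hNn : N.Normal := by
    constructor
    intro n hn g
    rw [hNmem] at hn ⊢
    have := c.hZ1c _ hn g (hLP g.2)
    have e : ((g * n * g⁻¹ : ↥L) : X) = (n : X) := by
      show (g : X) * (n : X) * (g : X)⁻¹ = (n : X)
      rw [← this]; group
    rw [e]; exact hn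
  have hNcard : Nat.card N = p := by
    rw [hN, ← c.hZ1card]
    exact Nat.card_congr (Subgroup.subgroupOfEquivOfLe hZL).toEquiv
  have hQcard : Nat.card (↥L ⧸ N) = p := by
    have h1 := Subgroup.card_eq_card_quotient_mul_card_subgroup N
    rw [hLcard, hNcard, sq] at h1
    exact (Nat.eq_of_mul_eq_mul_right c.hp.pos h1).symm
  have ha1 : (QuotientGroup.mk (⟨a, haL⟩ : ↥L) : ↥L ⧸ N) ≠ 1 := by
    intro h
    rw [QuotientGroup.eq_one_iff, hNmem] at h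
    exact haZ h
  have htop := zpowers_eq_top_of_prime_card hQcard ha1
  intro y hy
  have h1 : (QuotientGroup.mk (⟨y, hy⟩ : ↥L) : ↥L ⧸ N) ∈
      Subgroup.zpowers (QuotientGroup.mk (⟨a, haL⟩ : ↥L) : ↥L ⧸ N) := by
    rw [htop]; exact Subgroup.mem_top _
  haveI : Fintype (↥L ⧸ N) := Fintype.ofFinite _
  rw [mem_zpowers_iff_mem_range_orderOf] at h1
  obtain ⟨i, -, hi⟩ := Finset.mem_image.mp h1
  refine ⟨i, ?_⟩
  have h2 : (QuotientGroup.mk ((⟨a, haL⟩ : ↥L) ^ i) : ↥L ⧸ N) = QuotientGroup.mk (⟨y, hy⟩ : ↥L) := by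
    rw [QuotientGroup.mk_pow]; exact hi
  rw [QuotientGroup.eq, hNmem] at h2
  refine ⟨_, h2, ?_⟩
  show y = a ^ i * (((⟨a, haL⟩ : ↥L) ^ i)⁻¹ * (⟨y, hy⟩ : ↥L) : ↥L)
  rw [Subgroup.coe_mul, Subgroup.coe_inv, Subgroup.coe_pow]
  group

end Cfg

end Cfsg.Agent.Lib.Helper21.BG16c
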