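import Mathlib
import Cfsg.Agent.Lib.Helper21.BG16e

set_option autoImplicit false

/-!
# B&G Theorem 15.8(e), `p`-group part: `K` acts semiregularly on the lines of `P / Z1`
-/

namespace Cfsg.Agent.Lib.Helper21.BG16c

open Cfsg.Agent.Lib.Helper21.BG16a Cfsg.Agent.Lib.Helper21.BG16b

variable {X : Type*} [Group X]

/-- central factors drop out of commutators -/
theorem comm_mul_central {g h z z' : X} (hzh : Commute z h) (hzz' : Commute z z')
    (hz'g : Commute z' g) :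
    (g * z) * (h * z') * (g * z)⁻¹ * (h * z')⁻¹ = g * h * g⁻¹ * h⁻¹ := by
  have hzv : Commute z (h * z') := hzh.mul_right hzz'
  have h1 : z * (h * z') * z⁻¹ = h * z' := hzv.mul_inv_cancel
  have h2 : z' * g⁻¹ * z'⁻¹ = g⁻¹ := (hz'g.inv_right).mul_inv_cancel
  calc (g * z) * (h * z') * (g * z)⁻¹ * (h * z')⁻¹
      = g * (z * (h * z') * z⁻¹) * g⁻¹ * (h * z')⁻¹ := by group
    _ = g * (h * z') * g⁻¹ * (h * z')⁻¹ := by rw [h1]
    _ = g * h * (z' * g⁻¹ * z'⁻¹) * h⁻¹ := by group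
    _ = g * h * g⁻¹ * h⁻¹ := by rw [h2]

namespace Cfg

variable {p : ℕ} {P K Z1 : Subgroup X}

/-- the case `P = W`: `P` has order `p ^ 3`, exponent `p`, class two, `K` abelian of odd order
and irreducible on `P / Z1` -/
structure Ext (c : Cfg p P K Z1) : Prop where
  card : Nat.card P = p ^ 3
  comm : ∀ w ∈ P, ∀ y ∈ P, w * y * w⁻¹ * y⁻¹ ∈ Z1
  exp : ∀ w ∈ P, w ^ p = 1
  irr : ∀ V : Subgroup X, Z1 ≤ V → V ≤ P → K ≤ Subgroup.normalizer (V : Set X) → V = Z1 ∨ V = P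
  center : ∀ z ∈ P, (∀ y ∈ P, z * y = y * z) → z ∈ Z1
  Kcomm : ∀ a ∈ K, ∀ b ∈ K, a * b = b * a
  Kodd : Odd (Nat.card K)

namespace Ext

variable {c : Cfg p P K Z1}

/-- centralizers of noncentral elements have order `p ^ 2` -/
theorem card_centralizer [Finite X] (e : Ext c) {a : X} (haP : a ∈ P) (haZ : a ∉ Z1) :
    Nat.card ↥(P ⊓ Subgroup.centralizer ({a} : Set X)) = p ^ 2 := by
  haveI : Fact p.Prime := ⟨c.hp⟩
  obtain ⟨C, hC⟩ : ∃ C : Subgroup X, C = P ⊓ Subgroup.centralizer ({a} : Set X) := ⟨_, rfl⟩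
  rw [← hC]
  have hCP : C ≤ P := hC ▸ inf_le_left
  have h1 := card_le_mul_card_centralizer P Z1 a c.hZ1P c.hZ1c (fun t ht => e.comm t ht a haP)
  rw [c.hZ1card, e.card, ← hC] at h1
  have hge : p ^ 2 ≤ Nat.card C := by
    have h4 : p * p ^ 2 ≤ p * Nat.card C := by
      calc p * p ^ 2 = p ^ 3 := by ring
        _ ≤ _ := h1
    exact Nat.le_of_mul_le_mul_left h4 c.hp.pos
  have hne : C ≠ P := by
    intro h
    apply haZ
    apply e.center a haP
    intro y hy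
    have : y ∈ C := h ▸ hy
    rw [hC] at this
    exact ((Subgroup.mem_centralizer_singleton_iff.mp this.2)).symm
  have hlt : Nat.card C < Nat.card P := by
    apply lt_of_le_of_ne (Subgroup.card_le_of_le hCP)
    intro h
    exact hne (Subgroup.eq_of_le_of_card_ge hCP h.ge)
  obtain ⟨t, ht⟩ := (c.hP.to_le hCP).exists_card_eq
  rw [e.card, ht] at hlt
  have ht3 : t < 3 := (Nat.pow_lt_pow_iff_right c.hp.one_lt).mp hlt
  have hle : Nat.card C ≤ p ^ 2 := by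
    rw [ht]
    exact Nat.pow_le_pow_right c.hp.pos (by omega)
  exact le_antisymm hle hge

/-- a line is the centralizer of each of its elements outside `Z1` -/
theorem line_eq [Finite X] (e : Ext c) {L : Subgroup X} (hZL : Z1 ≤ L) (hLP : L ≤ P)
    (hLcard : Nat.card L = p ^ 2) {a : X} (haL : a ∈ L) (haZ : a ∉ Z1) :
    L = P ⊓ Subgroup.centralizer ({a} : Set X) := by
  apply Subgroup.eq_of_le_of_card_ge
  · intro y hy
    refine Subgroup.mem_inf.mpr ⟨hLP hy, ?_⟩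
    rw [Subgroup.mem_centralizer_singleton_iff]
    obtain ⟨i, z, hz, rfl⟩ := c.mem_line hZL hLP hLcard haL haZ y hy
    have h1 : Commute z a := c.hZ1c z hz a (hLP haL)
    have h2 : Commute (a ^ i) a := (Commute.refl a).pow_left i
    exact (h2.mul_left h1).eq
  · rw [e.card_centralizer (hLP haL) haZ, hLcard]

/-- no nonidentity element of `K` normalizes a line -/
theorem not_fix_line [Finite X] (e : Ext c) {L : Subgroup X} (hZL : Z1 ≤ L) (hLP : L ≤ P)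
    (hLcard : Nat.card L = p ^ 2) {k₁ : X} (hk₁ : k₁ ∈ K) (hk₁1 : k₁ ≠ 1)
    (hk₁L : ∀ y ∈ L, k₁ * y * k₁⁻¹ ∈ L) : False := by
  have hpp := c.hp
  haveI : Fact p.Prime := ⟨hpp⟩
  have hp1 : 1 < p := hpp.one_lt
  -- it suffices to show that `K` normalizes `L`
  have key : ∀ k' ∈ K, ∀ y ∈ L, k' * y * k'⁻¹ ∈ L := by
    by_contra hcon
    push Not at hcon
    obtain ⟨k', hk', a, haL, hb⟩ := hcon
    have haP : a ∈ P := hLP haL
    have haZ : a ∉ Z1 := fun h => hb (hZL (c.conj_mem_Z1 hk' h))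
    obtain ⟨b, hbdef⟩ : ∃ b, b = k' * a * k'⁻¹ := ⟨_, rfl⟩
    rw [← hbdef] at hb
    have hbP : b ∈ P := hbdef ▸ c.conj_mem_P hk' haP
    obtain ⟨i, z₁, hz₁, hka⟩ := c.mem_line hZL hLP hLcard haL haZ _ (hk₁L a haL)
    have hkk : k₁ * k' = k' * k₁ := e.Kcomm k₁ hk₁ k' hk'
    have hkz : k' * z₁ * k'⁻¹ = z₁ := by
      rw [c.hKZ k' hk' z₁ hz₁]; group
    have hkb : k₁ * b * k₁⁻¹ = b ^ i * z₁ := by
      calc k₁ * b * k₁⁻¹ = (k₁ * k') * a * (k₁ * k')⁻¹ := by rw [hbdef]; group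
        _ = (k' * k₁) * a * (k' * k₁)⁻¹ := by rw [hkk]
        _ = k' * (k₁ * a * k₁⁻¹) * k'⁻¹ := by group
        _ = k' * (a ^ i * z₁) * k'⁻¹ := by rw [hka]
        _ = (k' * a * k'⁻¹) ^ i * (k' * z₁ * k'⁻¹) := by rw [conj_pow]; group
        _ = b ^ i * z₁ := by rw [hkz, ← hbdef]
    obtain ⟨d, hd⟩ : ∃ d, d = a * b * a⁻¹ * b⁻¹ := ⟨_, rfl⟩
    have hdZ : d ∈ Z1 := hd ▸ e.comm a haP b hbP
    have hda : Commute d a := c.hZ1c d hdZ a haP
    have hdb : Commute d b := c.hZ1c d hdZ b hbP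
    have hd1 : d ≠ 1 := by
      intro h
      apply hb
      rw [e.line_eq hZL hLP hLcard haL haZ]
      refine Subgroup.mem_inf.mpr ⟨hbP, ?_⟩
      rw [Subgroup.mem_centralizer_singleton_iff]
      have h1 : a * b * a⁻¹ * b⁻¹ = 1 := by rw [← hd, h]
      calc b * a = (a * b * a⁻¹ * b⁻¹)⁻¹ * (a * b) := by group
        _ = a * b := by rw [h1, inv_one, one_mul]
    -- `k₁` fixes `d`, so `i * i ≡ 1 mod p`
    have h1 : k₁ * d * k₁⁻¹ = d := by
      rw [c.hKZ k₁ hk₁ d hdZ]; group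
    have hz₁a : Commute z₁ (a ^ i) := c.hZ1c z₁ hz₁ _ (P.pow_mem haP i)
    have hz₁b : Commute z₁ (b ^ i) := c.hZ1c z₁ hz₁ _ (P.pow_mem hbP i)
    have h2 : k₁ * d * k₁⁻¹ = d ^ (i * i) := by
      calc k₁ * d * k₁⁻¹
          = (k₁ * a * k₁⁻¹) * (k₁ * b * k₁⁻¹) * (k₁ * a * k₁⁻¹)⁻¹ * (k₁ * b * k₁⁻¹)⁻¹ := by
            rw [hd]; group
        _ = (a ^ i * z₁) * (b ^ i * z₁) * (a ^ i * z₁)⁻¹ * (b ^ i * z₁)⁻¹ := by rw [hka, hkb]
        _ = a ^ i * b ^ i * (a ^ i)⁻¹ * (b ^ i)⁻¹ :=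
            comm_mul_central hz₁b (Commute.refl z₁) hz₁a
        _ = d ^ (i * i) := comm_pow_pow hd.symm hda hdb i i
    have h3 : d ^ (i * i) = d ^ 1 := by rw [pow_one, ← h2, h1]
    have hod : orderOf d = p := orderOf_eq_prime (c.pow_eq_one_of_mem_Z1 hdZ) hd1
    have hmod : i * i ≡ 1 [MOD p] := by
      have := pow_eq_pow_iff_modEq.mp h3
      rwa [hod] at this
    have ha1 : a ≠ 1 := fun h => haZ (h ▸ Z1.one_mem)
    have hoa : orderOf a = p := orderOf_eq_prime (e.exp a haP) ha1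
    have h4 : a ^ (i * i) = a := by
      have : a ^ (i * i) = a ^ 1 := pow_eq_pow_iff_modEq.mpr (by rw [hoa]; exact hmod)
      rwa [pow_one] at this
    -- `k₁ ^ 2` centralizes `a` modulo `Z1`
    have hk₁z : k₁ * z₁ * k₁⁻¹ = z₁ := by
      rw [c.hKZ k₁ hk₁ z₁ hz₁]; group
    have h5 : (k₁ * k₁) * a * (k₁ * k₁)⁻¹ = a * z₁ ^ (i + 1) := by
      calc (k₁ * k₁) * a * (k₁ * k₁)⁻¹ = k₁ * (k₁ * a * k₁⁻¹) * k₁⁻¹ := by group
        _ = k₁ * (a ^ i * z₁) * k₁⁻¹ := by rw [hka]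
        _ = (k₁ * a * k₁⁻¹) ^ i * (k₁ * z₁ * k₁⁻¹) := by rw [conj_pow]; group
        _ = (a ^ i * z₁) ^ i * z₁ := by rw [hka, hk₁z]
        _ = (a ^ i) ^ i * z₁ ^ i * z₁ := by rw [(hz₁a.symm).mul_pow]
        _ = a * z₁ ^ (i + 1) := by rw [← pow_mul, h4, pow_succ, mul_assoc]
    have h6 : (k₁ * k₁) * a * (k₁ * k₁)⁻¹ * a⁻¹ ∈ Z1 := by
      rw [h5]
      have hz : z₁ ^ (i + 1) ∈ Z1 := Z1.pow_mem hz₁ _
      have h7 : Commute (z₁ ^ (i + 1)) a := c.hZ1c _ hz a haP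
      have e1 : a * z₁ ^ (i + 1) * a⁻¹ = z₁ ^ (i + 1) := by
        rw [← h7.eq]; group
      rw [e1]; exact hz
    by_cases hkk1 : k₁ * k₁ = 1
    · have h7 : k₁ ^ 2 = 1 := by rw [sq]; exact hkk1
      have h8 : orderOf k₁ ∣ 2 := orderOf_dvd_of_pow_eq_one h7
      have h9 : orderOf k₁ ∣ Nat.card K := Subgroup.orderOf_dvd_natCard K hk₁
      have h10 : Odd (orderOf k₁) := by
        obtain ⟨m, hm⟩ := h9
        have := e.Kodd
        rw [hm] at this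
        exact (Nat.odd_mul.mp this).1
      have h11 : orderOf k₁ = 1 := by
        rcases (Nat.dvd_prime Nat.prime_two).mp h8 with h | h
        · exact h
        · rw [h] at h10
          exact absurd h10 (by decide)
      exact hk₁1 (orderOf_eq_one_iff.mp h11)
    · exact haZ (c.fpf_mod (K.mul_mem hk₁ hk₁) hkk1 haP h6)
  have hKL : K ≤ Subgroup.normalizer (L : Set X) := le_normalizer_of_conj key
  rcases e.irr L hZL hLP hKL with h | h
  · rw [h, c.hZ1card] at hLcard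
    have : p ^ 1 < p ^ 2 := Nat.pow_lt_pow_right hp1 (by norm_num)
    rw [pow_one] at this
    omega
  · rw [h, e.card] at hLcard
    have : p ^ 2 < p ^ 3 := Nat.pow_lt_pow_right hp1 (by norm_num)
    omega

end Ext

end Cfg

end Cfsg.Agent.Lib.Helper21.BG16c
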