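import Mathlib
import Cfsg.Agent.Lib.Helper21.BG16f

set_option autoImplicit false

/-!
# B&G Theorem 15.8(e), `p`-group part: counting the lines of `P / Z1`
-/

namespace Cfsg.Agent.Lib.Helper21.BG16c

open Cfsg.Agent.Lib.Helper21.BG16a Cfsg.Agent.Lib.Helper21.BG16b

variable {X : Type*} [Group X]

/-- the number of elements of `V` outside `Z ≤ V` -/
theorem card_diff [Finite X] (V Z : Subgroup X) (hZV : Z ≤ V) :
    Nat.card {a : X // a ∈ V ∧ a ∉ Z} = Nat.card V - Nat.card Z := by
  classical
  haveI : Fintype ↥V := Fintype.ofFinite _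
  have h0 : Nat.card {a : X // a ∈ V ∧ a ∉ Z} = Nat.card {v : ↥V // (v : X) ∉ Z} := by
    apply Nat.card_congr
    exact
      { toFun := fun a => ⟨⟨a.1, a.2.1⟩, a.2.2⟩
        invFun := fun v => ⟨(v.1 : X), v.1.2, v.2⟩
        left_inv := fun a => rfl
        right_inv := fun v => rfl }
  have h1 : Nat.card {v : ↥V // (v : X) ∈ Z} = Nat.card ↥Z := by
    apply Nat.card_congr
    exact
      { toFun := fun v => ⟨(v.1 : X), v.2⟩
        invFun := fun z => ⟨⟨(z : X), hZV z.2⟩, z.2⟩
        left_inv := fun v => rfl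
        right_inv := fun z => rfl }
  rw [h0, ← h1, Nat.card_eq_fintype_card, Nat.card_eq_fintype_card, Nat.card_eq_fintype_card]
  exact Fintype.card_subtype_compl (fun v : ↥V => (v : X) ∈ Z)

namespace Cfg

variable {p : ℕ} {P K Z1 : Subgroup X}

/-- the lines of `P / Z1` -/
def Line (_c : Cfg p P K Z1) : Type _ :=
  {L : Subgroup X // Z1 ≤ L ∧ L ≤ P ∧ Nat.card L = p ^ 2}

instance [Finite X] (c : Cfg p P K Z1) : Finite c.Line := by
  unfold Line
  infer_instance

namespace Ext

variable {c : Cfg p P K Z1}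

/-- there are `p + 1` lines -/
theorem card_line [Finite X] (e : Ext c) : Nat.card c.Line = p + 1 := by
  classical
  haveI : Fintype c.Line := Fintype.ofFinite _
  let Ωe := {a : X // a ∈ P ∧ a ∉ Z1}
  let f : Ωe → c.Line := fun a =>
    ⟨P ⊓ Subgroup.centralizer ({a.1} : Set X),
      fun z hz => Subgroup.mem_inf.mpr ⟨c.hZ1P hz, by
        rw [Subgroup.mem_centralizer_singleton_iff]
        exact c.hZ1c z hz a.1 a.2.1⟩,
      inf_le_left, e.card_centralizer a.2.1 a.2.2⟩
  have hfib : ∀ L : c.Line, Nat.card {a : Ωe // f a = L} = p ^ 2 - p := by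
    intro L
    have h1 : Nat.card {a : Ωe // f a = L} = Nat.card {a : X // a ∈ L.1 ∧ a ∉ Z1} := by
      apply Nat.card_congr
      exact
        { toFun := fun a => ⟨a.1.1, by
            have h := congrArg Subtype.val a.2
            have h2 : a.1.1 ∈ P ⊓ Subgroup.centralizer ({a.1.1} : Set X) :=
              Subgroup.mem_inf.mpr ⟨a.1.2.1, by
                rw [Subgroup.mem_centralizer_singleton_iff]⟩
            have h3 : (f a.1).1 = P ⊓ Subgroup.centralizer ({a.1.1} : Set X) := rfl
            rw [← h3, h] at h2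
            exact h2, a.1.2.2⟩
          invFun := fun a => ⟨⟨a.1, L.2.2.1 a.2.1, a.2.2⟩, by
            apply Subtype.ext
            exact (e.line_eq L.2.1 L.2.2.1 L.2.2.2 a.2.1 a.2.2).symm⟩
          left_inv := fun a => rfl
          right_inv := fun a => rfl }
    rw [h1, card_diff L.1 Z1 L.2.1, L.2.2.2, c.hZ1card]
  have h2 : Nat.card Ωe = Nat.card c.Line * (p ^ 2 - p) := by
    rw [← Nat.card_congr (Equiv.sigmaFiberEquiv f), Nat.card_sigma]
    simp only [hfib]
    rw [Finset.sum_const, Finset.card_univ, smul_eq_mul, Nat.card_eq_fintype_card]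
  have h3 : Nat.card Ωe = p ^ 3 - p := by
    rw [card_diff P Z1 c.hZ1P, e.card, c.hZ1card]
  have hp1 : 1 < p := c.hp.one_lt
  have h4 : p ^ 3 - p = (p + 1) * (p ^ 2 - p) := by
    have h5 : p ≤ p ^ 2 := by nlinarith
    have h6 : p ≤ p ^ 3 := by nlinarith [Nat.pow_le_pow_right c.hp.pos (show 2 ≤ 3 by norm_num)]
    zify [h5, h6]
    ring
  have h5 : 0 < p ^ 2 - p := by
    have : p < p ^ 2 := by nlinarith
    omega
  rw [h3, h4] at h2
  exact (Nat.eq_of_mul_eq_mul_right h5 h2).symm

theorem mem_map_conj {L : Subgroup X} {k y : X} :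
    y ∈ L.map (MulAut.conj k).toMonoidHom ↔ k⁻¹ * y * k ∈ L := by
  constructor
  · rintro ⟨x, hx, rfl⟩
    have e1 : k⁻¹ * ((MulAut.conj k).toMonoidHom x) * k = x := by
      simp [MulAut.conj_apply]
      group
    rw [e1]; exact hx
  · intro h
    refine ⟨k⁻¹ * y * k, h, ?_⟩
    simp [MulAut.conj_apply]
    group

/-- `|K|` divides `p + 1` -/
theorem card_K_dvd [Finite X] (e : Ext c) : Nat.card K ∣ p + 1 := by
  classical
  let inst : MulAction ↥K c.Line :=
    { smul := fun k L => ⟨L.1.map (MulAut.conj (k : X)).toMonoidHom, by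
        refine ⟨?_, ?_, ?_⟩
        · intro z hz
          rw [mem_map_conj]
          have h1 := c.conj_mem_Z1 (K.inv_mem k.2) hz
          rw [inv_inv] at h1
          exact L.2.1 h1
        · intro y hy
          rw [mem_map_conj] at hy
          have h1 := c.conj_mem_P k.2 (L.2.2.1 hy)
          have e1 : (k : X) * ((k : X)⁻¹ * y * (k : X)) * (k : X)⁻¹ = y := by group
          rwa [e1] at h1
        · rw [Subgroup.card_map_of_injective (MulAut.conj (k : X)).injective]
          exact L.2.2.2⟩
      one_smul := by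
        intro L
        apply Subtype.ext
        ext y
        show y ∈ L.1.map (MulAut.conj ((1 : ↥K) : X)).toMonoidHom ↔ y ∈ L.1
        rw [mem_map_conj]
        simp
      mul_smul := by
        intro k k' L
        apply Subtype.ext
        ext y
        show y ∈ L.1.map (MulAut.conj ((k * k' : ↥K) : X)).toMonoidHom ↔
          y ∈ (L.1.map (MulAut.conj (k' : X)).toMonoidHom).map (MulAut.conj (k : X)).toMonoidHom
        rw [mem_map_conj, mem_map_conj, mem_map_conj, Subgroup.coe_mul]
        have e1 : ((k : X) * (k' : X))⁻¹ * y * ((k : X) * (k' : X)) =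
            (k' : X)⁻¹ * ((k : X)⁻¹ * y * (k : X)) * (k' : X) := by group
        rw [e1] }
  have hsm : ∀ (k : ↥K) (L : c.Line),
      (k • L : c.Line).1 = L.1.map (MulAut.conj (k : X)).toMonoidHom := fun _ _ => rfl
  have key : Nat.card ↥K ∣ Nat.card c.Line := by
    apply card_dvd_of_semiregular
    intro k L hkL
    by_contra hk1
    have hk1' : (k : X) ≠ 1 := fun h => hk1 (Subtype.ext h)
    apply e.not_fix_line L.2.1 L.2.2.1 L.2.2.2 k.2 hk1'
    intro y hy
    have h1 : (k • L : c.Line).1 = L.1 := congrArg Subtype.val hkL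
    rw [hsm] at h1
    rw [← h1, mem_map_conj]
    have e1 : (k : X)⁻¹ * ((k : X) * y * (k : X)⁻¹) * (k : X) = y := by group
    rw [e1]; exact hy
  rwa [e.card_line] at key

end Ext

end Cfg

end Cfsg.Agent.Lib.Helper21.BG16c
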