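import Mathlib
import Cfsg.Agent.Lib.Helper21.BG16g

set_option autoImplicit false

/-!
# B&G Theorem 15.8(e): the `p`-group theorem
-/

namespace Cfsg.Agent.Lib.Helper21.BG16h

open Cfsg.Agent.Lib.Helper21.BG16a Cfsg.Agent.Lib.Helper21.BG16b Cfsg.Agent.Lib.Helper21.BG16c

variable {X : Type*} [Group X]

/-- Let `P` be a `p`-group (`p` odd), `K ≠ 1` an abelian `p'`-group of odd order normalizing `P`
with `C_P(k) = Ks` of order `1` or `p` for all `k ∈ K#`, and `x ∈ P` a noncentral element with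
abelian centralizer in `P` all of whose elements of order dividing `p` lie in a subgroup `A ∋ x`
of order `p ^ 2`.  Then `|K|` divides `p - 1`, or `|P| = p ^ 3` and `|K|` divides `p + 1`. -/
theorem pgroup_main [Finite X] {p : ℕ} (hp : p.Prime) (hp2 : p ≠ 2)
    (P K Ks A : Subgroup X) (hP : IsPGroup p P)
    (hKP : K ≤ Subgroup.normalizer (P : Set X)) (hKcomm : ∀ a ∈ K, ∀ b ∈ K, a * b = b * a)
    (hKodd : Odd (Nat.card K)) (hKcop : (Nat.card K).Coprime p) (hK1 : K ≠ ⊥)
    (hKs : Nat.card Ks = 1 ∨ Nat.card Ks = p)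
    (hcent : ∀ k ∈ K, k ≠ 1 → P ⊓ Subgroup.centralizer ({k} : Set X) = Ks)
    (x : X) (hxP : x ∈ P) (hxA : x ∈ A) (hAcard : Nat.card A = p ^ 2)
    (hxZ : ∃ y ∈ P, y * x ≠ x * y)
    (hCab : ∀ s ∈ P, ∀ t ∈ P, s * x = x * s → t * x = x * t → s * t = t * s)
    (hCA : ∀ s ∈ P, s * x = x * s → s ^ p = 1 → s ∈ A) :
    Nat.card K ∣ p - 1 ∨ (Nat.card P = p ^ 3 ∧ Nat.card K ∣ p + 1) := by
  classical
  haveI : Fact p.Prime := ⟨hp⟩
  -- `Z1 = Ω₁(Z(P))`
  let Z1 : Subgroup X :=
    { carrier := {z | z ∈ P ∧ (∀ y ∈ P, z * y = y * z) ∧ z ^ p = 1}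
      one_mem' := ⟨P.one_mem, fun y _ => by simp, one_pow p⟩
      mul_mem' := by
        rintro a b ⟨haP, hac, hap⟩ ⟨hbP, hbc, hbp⟩
        refine ⟨P.mul_mem haP hbP, fun y hy => ?_, ?_⟩
        · have h1 : Commute a y := hac y hy
          have h2 : Commute b y := hbc y hy
          exact (h1.mul_left h2).eq
        · have h1 : Commute a b := hac b hbP
          rw [h1.mul_pow, hap, hbp, one_mul]
      inv_mem' := by
        rintro a ⟨haP, hac, hap⟩
        refine ⟨P.inv_mem haP, fun y hy => ?_, ?_⟩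
        · have h1 : Commute a y := hac y hy
          exact h1.inv_left.eq
        · rw [inv_pow, hap, inv_one] }
  have hZ1mem : ∀ z, z ∈ Z1 ↔ z ∈ P ∧ (∀ y ∈ P, z * y = y * z) ∧ z ^ p = 1 := fun _ => Iff.rfl
  have hZ1P : Z1 ≤ P := fun z hz => hz.1
  have hZ1c : ∀ z ∈ Z1, ∀ y ∈ P, z * y = y * z := fun z hz => hz.2.1
  have hZ1A : Z1 ≤ A := fun z hz => hCA z hz.1 (hz.2.1 x hxP) hz.2.2
  have hxZ1 : x ∉ Z1 := by
    intro h
    obtain ⟨y, hy, hyx⟩ := hxZ
    exact hyx (h.2.1 y hy).symm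
  -- `|Z1| = p`
  have hZ1ne : Z1 ≠ ⊥ := by
    have hx1 : x ≠ 1 := fun h => hxZ1 (h ▸ Z1.one_mem)
    haveI : Nontrivial ↥P := ⟨⟨⟨x, hxP⟩, 1, fun h => hx1 (congrArg Subtype.val h)⟩⟩
    have hP' : IsPGroup p ↥P := hP
    haveI : Nontrivial (Subgroup.center ↥P) := hP'.center_nontrivial
    have hcp : IsPGroup p (Subgroup.center ↥P) := hP'.to_subgroup _
    obtain ⟨n, hn⟩ := hcp.exists_card_eq
    have hn0 : n ≠ 0 := by
      intro h0
      rw [h0, pow_zero] at hn
      have := Subgroup.card_eq_one.mp hn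
      exact (Subgroup.nontrivial_iff_ne_bot _).mp inferInstance this
    have hdvd : p ∣ Nat.card (Subgroup.center ↥P) := by
      rw [hn]; exact dvd_pow_self p hn0
    obtain ⟨z, hz⟩ := exists_prime_orderOf_dvd_card' (G := Subgroup.center ↥P) p hdvd
    intro hbot
    have hzmem : ((z : ↥P) : X) ∈ Z1 := by
      refine ⟨(z : ↥P).2, fun y hy => ?_, ?_⟩
      · have := (Subgroup.mem_center_iff.mp z.2) ⟨y, hy⟩
        exact (congrArg Subtype.val this).symm
      · have h1 : z ^ p = 1 := by rw [← hz]; exact pow_orderOf_eq_one z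
        have h2 := congrArg Subtype.val (congrArg Subtype.val h1)
        simpa using h2
    rw [hbot, Subgroup.mem_bot] at hzmem
    have hz1 : z = 1 := Subtype.ext (Subtype.ext hzmem)
    rw [hz1, orderOf_one] at hz
    exact hp.one_lt.ne hz
  have hZ1card : Nat.card Z1 = p := by
    have h1 : Nat.card Z1 ∣ p ^ 2 := hAcard ▸ Subgroup.card_dvd_of_le hZ1A
    obtain ⟨m, hm2, hm⟩ := (Nat.dvd_prime_pow hp).mp h1
    have hm0 : m ≠ 0 := by
      intro h0
      rw [h0, pow_zero] at hm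
      exact hZ1ne (Subgroup.card_eq_one.mp hm)
    have hm2' : m ≠ 2 := by
      intro h2
      rw [h2] at hm
      have : Z1 = A := Subgroup.eq_of_le_of_card_ge hZ1A (by rw [hm, hAcard])
      exact hxZ1 (this ▸ hxA)
    have : m = 1 := by omega
    rw [hm, this, pow_one]
  have hconjP : ∀ k ∈ K, ∀ w ∈ P, k * w * k⁻¹ ∈ P := fun k hk w hw =>
    (Subgroup.mem_normalizer_iff.mp (hKP hk) w).mp hw
  obtain ⟨k₀, hk₀K, hk₀1⟩ : ∃ k, k ∈ K ∧ k ≠ 1 :=
    (Subgroup.ne_bot_iff_exists_ne_one.mp hK1 |> fun ⟨⟨x, hx⟩, h⟩ =>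
      (⟨x, hx, fun h' => h (Subtype.ext h')⟩ : ∃ x, x ∈ K ∧ x ≠ 1))
  have hKsP : Ks ≤ P := by
    rw [← hcent k₀ hk₀K hk₀1]; exact inf_le_left
  by_cases hcase : Z1 ⊓ Ks = ⊥
  · -- `K` acts without fixed points on `Z1`
    left
    have hKZ1 : K ≤ Subgroup.normalizer (Z1 : Set X) := by
      apply Cfg.le_normalizer_of_conj
      intro k hk z hz
      refine ⟨hconjP k hk z hz.1, fun y hy => ?_, ?_⟩
      · have hy' : k⁻¹ * y * k⁻¹⁻¹ ∈ P := hconjP k⁻¹ (K.inv_mem hk) y hy
        have h1 := hz.2.1 _ hy'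
        calc k * z * k⁻¹ * y = k * (z * (k⁻¹ * y * k⁻¹⁻¹)) * k⁻¹ := by group
          _ = k * ((k⁻¹ * y * k⁻¹⁻¹) * z) * k⁻¹ := by rw [h1]
          _ = y * (k * z * k⁻¹) := by group
      · rw [conj_pow, hz.2.2]; group
    have h1 := card_dvd_card_sub_one_of_fpf Z1 K hKZ1 (by
      intro k hk hk1
      rw [eq_bot_iff, ← hcase]
      intro z hz
      refine Subgroup.mem_inf.mpr ⟨hz.1, ?_⟩
      rw [← hcent k hk hk1]
      exact Subgroup.mem_inf.mpr ⟨hZ1P hz.1, hz.2⟩)
    rwa [hZ1card] at h1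
  · -- `Z1 = Ks`
    have hKscard : Nat.card Ks = p := by
      rcases hKs with h | h
      · exfalso
        apply hcase
        rw [Subgroup.card_eq_one.mp h, inf_bot_eq]
      · exact h
    have hinfcard : Nat.card ↥(Z1 ⊓ Ks) = p := by
      have h1 : Nat.card ↥(Z1 ⊓ Ks) ∣ p := hZ1card ▸ Subgroup.card_dvd_of_le inf_le_left
      rcases (Nat.dvd_prime hp).mp h1 with h | h
      · exact absurd (Subgroup.card_eq_one.mp h) hcase
      · exact h
    have h1 : Z1 ⊓ Ks = Z1 :=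
      Subgroup.eq_of_le_of_card_ge inf_le_left (by rw [hinfcard, hZ1card])
    have h2 : Z1 ⊓ Ks = Ks :=
      Subgroup.eq_of_le_of_card_ge inf_le_right (by rw [hinfcard, hKscard])
    have hZK : Z1 = Ks := h1.symm.trans h2
    have c : Cfg p P K Z1 :=
      { hp := hp
        hp2 := hp2
        hP := hP
        hKP := hKP
        hZ1P := hZ1P
        hZ1c := hZ1c
        hZ1card := hZ1card
        hKZ := by
          intro k hk z hz
          by_cases hk1 : k = 1
          · rw [hk1, one_mul, mul_one]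
          · have : z ∈ P ⊓ Subgroup.centralizer ({k} : Set X) := by
              rw [hcent k hk hk1, ← hZK]; exact hz
            exact (Subgroup.mem_centralizer_singleton_iff.mp this.2).symm
        hfix := by
          intro k hk hk1 w hw hkw
          rw [hZK, ← hcent k hk hk1]
          refine Subgroup.mem_inf.mpr ⟨hw, ?_⟩
          rw [Subgroup.mem_centralizer_singleton_iff]
          exact hkw.symm
        hKcop := fun k hk =>
          Nat.Coprime.coprime_dvd_left (Subgroup.orderOf_dvd_natCard K hk) hKcop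
        hK1 := hK1 }
    have hΩ : ∀ z ∈ P, (∀ y ∈ P, z * y = y * z) → z ^ p = 1 → z ∈ Z1 :=
      fun z hz hc hzp => ⟨hz, hc, hzp⟩
    obtain ⟨W, hW⟩ := c.exists_minW ⟨x, hxP, hxZ1⟩
    rcases hW.card_cases A hxP hxA hAcard hCA with h | ⟨h, hWA⟩
    · left
      exact hW.card_K_dvd_of_sq h
    · right
      have hWP : W = P := hW.eq_of_cube A hxP hAcard hΩ hCab h hWA hxA
      have e : c.Ext :=
        { card := hWP ▸ h
          comm := fun w hw y hy => hW.comm_mem (hWP ▸ hw) hy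
          exp := fun w hw => hW.pow_eq_one w (hWP ▸ hw)
          irr := by
            intro V hZV hVP hKV
            rcases hW.min V hZV (hWP ▸ hVP) hKV with h' | h'
            · exact Or.inl h'
            · exact Or.inr (h'.trans hWP)
          center := c.center_le hΩ
          Kcomm := hKcomm
          Kodd := hKodd }
      exact ⟨e.card, e.card_K_dvd⟩

end Cfsg.Agent.Lib.Helper21.BG16h
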