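import Mathlib
import Cfsg.Prelude.Def_OddOrderLocal
import Cfsg.Agent.Lib.Helper13.BG15A
import Cfsg.Agent.S1374
import Cfsg.Agent.S1431
import Cfsg.Agent.S1373

set_option autoImplicit false

/-! B & G Theorem 15.8(e), global part I (helper21): a non-TI `M_σ` gives an element `x` of prime
order with `C_G(x) ≰ M`; the Sylow `q`-subgroup of `M_σ`, `q = |K*|`, lies in no other maximal
subgroup. -/

namespace Cfsg.Agent.Lib.Helper21.BG16i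

open Cfsg Cfsg.Agent.Lib.Helper13.BG14

variable {G : Type*} [Group G] [Finite G]

/-- a non-TI `M_σ` gives an element of prime order in `M_σ ∩ M_σ^g`, `g ∉ M` -/
theorem exists_prime_elt {M : Subgroup G}
    (hnTI : ¬ Cfsg.IsTISubset (Cfsg.sigmaCore M : Set G)) :
    ∃ (g x : G) (p : ℕ), g ∉ M ∧ p.Prime ∧ orderOf x = p ∧ x ∈ Cfsg.sigmaCore M ∧
      g * x * g⁻¹ ∈ Cfsg.sigmaCore M := by
  unfold Cfsg.IsTISubset at hnTI
  push Not at hnTI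
  obtain ⟨g, hg, x₀, hx₀, hgx₀, hx₀1⟩ := hnTI
  have hgM : g ∉ M := fun h => hg (Cfsg.Agent.Lib.Helper1.BG12.le_normalizer_sigmaCore M h)
  have ho1 : orderOf x₀ ≠ 1 := fun h => hx₀1 (orderOf_eq_one_iff.mp h)
  obtain ⟨p, hp, hpd⟩ := Nat.exists_prime_and_dvd ho1
  refine ⟨g, x₀ ^ (orderOf x₀ / p), p, hgM, hp,
    orderOf_pow_orderOf_div (orderOf_pos x₀).ne' hpd, Subgroup.pow_mem _ hx₀ _, ?_⟩
  rw [← conj_pow]
  exact Subgroup.pow_mem _ hgx₀ _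

/-- `C_G(x) ≰ M` for `x ∈ M_σ ∩ M_σ^g`, `g ∉ M` -/
theorem cent_not_le (hG : Cfsg.IsMinSimpleOddOrder G) {M : Subgroup G} (hM : IsCoatom M)
    {g x : G} (hgM : g ∉ M) (hx : x ∈ Cfsg.sigmaCore M) (hx1 : x ≠ 1)
    (hgx : g * x * g⁻¹ ∈ Cfsg.sigmaCore M) :
    ¬ Subgroup.centralizer ({x} : Set G) ≤ M := by
  intro hC
  obtain ⟨R, -, hRc, hRu⟩ := (Cfsg.Agent.S1374.result hG M hM x hx hx1).2
  have hR : ∀ r ∈ R, r = 1 := by
    intro r hr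
    have h1 : r ∈ (M ⊓ Subgroup.centralizer ({x} : Set G)) ⊓ R :=
      ⟨⟨hC (hRc.2.1 hr), hRc.2.1 hr⟩, hr⟩
    rw [hRc.2.2.1] at h1
    exact Subgroup.mem_bot.mp h1
  have hmem : x ∈ M.map (MulAut.conj g⁻¹).toMonoidHom := by
    rw [bg14_mem_map_conj]
    simpa using Cfsg.Agent.Lib.Helper1.BG12.sigmaCore_le M hgx
  obtain ⟨r, ⟨hrR, hr⟩, -⟩ := hRu g⁻¹ hmem
  rw [hR r hrR] at hr
  have h2 := bg14_map_conj_eq_iff.mp hr
  rw [inv_one, one_mul, Cfsg.Agent.Lib.Helper1.BG14.normalizer_coatom hG hM] at h2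
  exact hgM (by simpa using M.inv_mem h2)

/-- the Sylow `q`-subgroups of `M_σ`, `q = |K*|`, lie in no maximal subgroup other than `M` -/
theorem sylow_not_le (hG : Cfsg.IsMinSimpleOddOrder G) {M K N : Subgroup G} (hM : IsCoatom M)
    (hK : Cfsg.IsPiHallOf (Cfsg.kappa M) K M) (hK1 : K ≠ ⊥) (hN : IsCoatom N) (hNM : N ≠ M)
    {q : ℕ} (hq : q.Prime)
    (hqd : q ∣ Nat.card ↥(Cfsg.sigmaCore M ⊓ Subgroup.centralizer (K : Set G)))
    (S : Sylow q ↥(Cfsg.sigmaCore M)) :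
    ¬ (S : Subgroup ↥(Cfsg.sigmaCore M)).map (Cfsg.sigmaCore M).subtype ≤ N := by
  intro hSN
  obtain ⟨hU, hSM, -⟩ := (Cfsg.Agent.S1431.result hG M hM K hK hK1).2.2.1 q hq hqd S
  obtain ⟨L, -, hL⟩ := hU
  have h1 := hL N ⟨hN, hSN⟩
  have h2 := hL M ⟨hM, hSM⟩
  exact hNM (h1.trans h2.symm)

end Cfsg.Agent.Lib.Helper21.BG16i
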