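import Mathlib
import Cfsg.Prelude.Def_OddOrderLocal
import Cfsg.Prelude.Def_Amalgam
import Cfsg.Agent.Lib.helper17.Op
import Cfsg.Agent.Lib.helper17.Cores
import Cfsg.Agent.Lib.Helper18.PPrimeCore
import Cfsg.Agent.Lib.Helper1.FrobCenter
import Cfsg.Agent.Lib.Helper1.Nilp

set_option autoImplicit false

/-! B & G Theorem 15.8(e), global part II (helper21): general facts about nilpotent subgroups and
fixed-point-free actions. -/

namespace Cfsg.Agent.Lib.Helper21.BG16j

variable {G : Type*} [Group G] [Finite G]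

/-- in a nilpotent subgroup `H`, every `p`-subgroup lies in `O_p(H)` -/
theorem le_pCoreOf_of_nilpotent {p : ℕ} [Fact p.Prime] {H Q : Subgroup G}
    (hH : Group.IsNilpotent H) (hQH : Q ≤ H) (hQ : IsPGroup p Q) : Q ≤ Cfsg.pCoreOf p H := by
  obtain ⟨S, hS⟩ := (hQ.comap_subtype (K := H)).exists_le_sylow
  haveI := hH
  have hSn : (S : Subgroup H).Normal := inferInstance
  have h2 := Cfsg.Agent.Lib.helper17.le_pCore hSn S.2
  intro x hx
  exact ⟨⟨x, hQH hx⟩, h2 (hS (Subgroup.mem_subgroupOf.mpr hx)), rfl⟩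

/-- a group of odd order acting without fixed points on a nontrivial abelian group has cyclic
Sylow subgroups -/
theorem isZGroup_of_fpf (Y V : Subgroup G) [IsMulCommutative V] (hV : V ≠ ⊥)
    (hYV : Y ≤ Subgroup.normalizer (V : Set G))
    (hfpf : ∀ a ∈ Y, a ≠ 1 → V ⊓ Subgroup.centralizer {a} = ⊥)
    (hodd : ¬ 2 ∣ Nat.card Y) : IsZGroup Y := by
  have hmapH : ∀ D : Subgroup Y, D.map Y.subtype ≤ Y := fun D => Subgroup.map_subtype_le D
  refine ⟨fun p hp P => ?_⟩
  have hpf : Fact p.Prime := ⟨hp⟩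
  apply Cfsg.Agent.Lib.Helper1.isCyclic_of_map_subtype Y (P : Subgroup Y)
  have hPp : IsPGroup p ((P : Subgroup Y).map Y.subtype) := P.2.map _
  by_cases hp2 : p = 2
  · subst hp2
    obtain ⟨k, hk⟩ := IsPGroup.iff_card.mp hPp
    have hk0 : k = 0 := by
      by_contra hk0
      apply hodd
      have h1 : 2 ∣ Nat.card ((P : Subgroup Y).map Y.subtype) := hk ▸ dvd_pow_self 2 hk0
      exact h1.trans (Subgroup.card_dvd_of_le (hmapH _))
    rw [hk0, pow_zero] at hk
    have := (Nat.card_eq_one_iff_unique.mp hk).1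
    exact isCyclic_of_subsingleton
  · exact Cfsg.Agent.Lib.Helper1.isCyclic_pgroup_of_fpf _ V hV ((hmapH _).trans hYV)
      (fun a ha => hfpf a (hmapH _ ha)) p hp2 hPp

/-- a nilpotent group of odd order acting without fixed points on a nontrivial abelian group is
cyclic -/
theorem isCyclic_of_fpf_nilpotent (Y V : Subgroup G) [IsMulCommutative V] (hV : V ≠ ⊥)
    (hYV : Y ≤ Subgroup.normalizer (V : Set G))
    (hfpf : ∀ a ∈ Y, a ≠ 1 → V ⊓ Subgroup.centralizer {a} = ⊥)
    (hodd : ¬ 2 ∣ Nat.card Y) (hnil : Group.IsNilpotent Y) : IsCyclic Y := by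
  haveI := isZGroup_of_fpf Y V hV hYV hfpf hodd
  haveI := hnil
  infer_instance

omit [Finite G] in
/-- `Z(S)` as a subgroup of `G` is abelian -/
theorem inf_centralizer_comm (S : Subgroup G) :
    IsMulCommutative ↥(S ⊓ Subgroup.centralizer (S : Set G)) := by
  refine ⟨⟨fun a b => ?_⟩⟩
  apply Subtype.ext
  have h := (Subgroup.mem_centralizer_iff.mp a.2.2) (b : G) b.2.1
  exact h.symm

omit [Finite G] in
/-- `Z(S) ≠ 1` for a nontrivial nilpotent subgroup `S` -/
theorem inf_centralizer_ne_bot {S : Subgroup G} (hS : Group.IsNilpotent S) (hS1 : S ≠ ⊥) :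
    S ⊓ Subgroup.centralizer (S : Set G) ≠ ⊥ := by
  haveI := hS
  haveI : Nontrivial S := (Subgroup.nontrivial_iff_ne_bot S).mpr hS1
  have h := Cfsg.Agent.Lib.Helper1.normal_inf_center_ne_bot (G := ↥S) ⊤ top_ne_bot
  rw [top_inf_eq] at h
  obtain ⟨⟨z, hz⟩, hz1⟩ := Subgroup.ne_bot_iff_exists_ne_one.mp h
  intro hbot
  apply hz1
  apply Subtype.ext
  apply Subtype.ext
  have hmem : (z : G) ∈ S ⊓ Subgroup.centralizer (S : Set G) := by
    refine Subgroup.mem_inf.mpr ⟨z.2, ?_⟩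
    rw [Subgroup.mem_centralizer_iff]
    intro s hs
    have := Subgroup.mem_center_iff.mp hz ⟨s, hs⟩
    exact congrArg Subtype.val this
  rw [hbot, Subgroup.mem_bot] at hmem
  simpa using hmem

omit [Finite G] in
/-- a subgroup normalizing `S` normalizes `Z(S)` -/
theorem le_normalizer_inf_centralizer {S N : Subgroup G}
    (h : N ≤ Subgroup.normalizer (S : Set G)) :
    N ≤ Subgroup.normalizer ((S ⊓ Subgroup.centralizer (S : Set G) : Subgroup G) : Set G) := by
  have key : ∀ n ∈ N, ∀ v ∈ S ⊓ Subgroup.centralizer (S : Set G),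
      n * v * n⁻¹ ∈ S ⊓ Subgroup.centralizer (S : Set G) := by
    intro n hn v hv
    refine Subgroup.mem_inf.mpr ⟨(Subgroup.mem_normalizer_iff.mp (h hn) v).mp hv.1, ?_⟩
    rw [Subgroup.mem_centralizer_iff]
    intro s hs
    have hs' : n⁻¹ * s * n⁻¹⁻¹ ∈ S :=
      (Subgroup.mem_normalizer_iff.mp (h (N.inv_mem hn)) s).mp hs
    have hc := (Subgroup.mem_centralizer_iff.mp hv.2) _ hs'
    calc s * (n * v * n⁻¹) = n * ((n⁻¹ * s * n⁻¹⁻¹) * v) * n⁻¹ := by group
      _ = n * (v * (n⁻¹ * s * n⁻¹⁻¹)) * n⁻¹ := by rw [hc]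
      _ = n * v * n⁻¹ * s := by group
  intro n hn
  rw [Subgroup.mem_normalizer_iff]
  intro v
  constructor
  · exact key n hn v
  · intro hv
    have := key n⁻¹ (N.inv_mem hn) _ hv
    have e : n⁻¹ * (n * v * n⁻¹) * n⁻¹⁻¹ = v := by group
    rwa [e] at this

end Cfsg.Agent.Lib.Helper21.BG16j
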