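import Mathlib
import Cfsg.Prelude.Def_OddOrderLocal
import Cfsg.Prelude.Def_Amalgam
import Cfsg.Agent.Lib.Helper21.BG16i
import Cfsg.Agent.Lib.Helper21.BG16j
import Cfsg.Agent.Lib.Helper11.NilpCoprime
import Cfsg.Agent.Lib.Helper28.BGtD
import Cfsg.Agent.S1373
import Cfsg.Agent.S1417
import Cfsg.Agent.S1418
import Cfsg.Agent.S1419

set_option autoImplicit false

/-! B & G Theorem 15.8(e), global part III (helper21): the standing data, `x ∉ Z(O_p(M_σ))`, the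
subgroup `A` of type `(p, p)` of `M ∩ N`. -/

namespace Cfsg.Agent.Lib.Helper21.BG16k

open Cfsg Cfsg.Agent.Lib.Helper13.BG14 Cfsg.Agent.Lib.Helper13.BG15

variable {G : Type*} [Group G] [Finite G]

/-- the standing data: `M = M_σ K`, `x ∈ M_σ` of prime order `p` with `C_G(x) ≤ N`, `C_G(x) ≰ M` -/
structure Data (M K U N : Subgroup G) (x : G) (p : ℕ) : Prop where
  hG : Cfsg.IsMinSimpleOddOrder G
  hM : IsCoatom M
  hKU : Cfsg.IsSigmaDecomposition M K U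
  hK1 : K ≠ ⊥
  hU : U = ⊥
  hnil : Group.IsNilpotent (Cfsg.sigmaCore M)
  hp : p.Prime
  hx : x ∈ Cfsg.sigmaCore M
  hxo : orderOf x = p
  hxM : ¬ Subgroup.centralizer ({x} : Set G) ≤ M
  hN : IsCoatom N
  hxN : Subgroup.centralizer ({x} : Set G) ≤ N

variable {M K U N : Subgroup G} {x : G} {p : ℕ}

theorem Data.setup (d : Data M K U N x p) :
    (∀ g : G, N ≠ M.map (MulAut.conj g).toMonoidHom) ∧ p ∈ Cfsg.tau2 N ∧
      Cfsg.sigmaCore N ⊓ M = ⊥ ∧ Cfsg.IsComplIn (M ⊓ N) (Cfsg.sigmaCore N) N ∧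
      Group.IsNilpotent (Cfsg.sigmaCore N) ∧
      (∀ L : Subgroup G, IsCoatom L → Subgroup.centralizer ({x} : Set G) ≤ L → L = N) ∧
      p ∈ Cfsg.sigma M :=
  bg15_setup d.hG d.hM d.hN d.hp d.hx d.hxo d.hxM d.hxN

theorem Data.ne (d : Data M K U N x p) : N ≠ M := by
  rintro rfl
  exact d.hxM d.hxN

theorem Data.x_ne_one (d : Data M K U N x p) : x ≠ 1 := by
  intro h
  have := d.hxo
  rw [h, orderOf_one] at this
  exact d.hp.one_lt.ne this

theorem Data.x_mem_M (d : Data M K U N x p) : x ∈ M :=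
  Cfsg.Agent.Lib.Helper1.BG12.sigmaCore_le M d.hx

theorem Data.x_mem_N (d : Data M K U N x p) : x ∈ N :=
  d.hxN (Subgroup.mem_centralizer_singleton_iff.mpr rfl)

/-- `x ∈ O_p(M_σ)` -/
theorem Data.x_mem_P (d : Data M K U N x p) : x ∈ Cfsg.pCoreOf p (Cfsg.sigmaCore M) := by
  haveI : Fact p.Prime := ⟨d.hp⟩
  have hX : IsPGroup p (Subgroup.zpowers x) :=
    IsPGroup.of_card (n := 1) (by rw [Nat.card_zpowers, d.hxo, pow_one])
  exact Cfsg.Agent.Lib.Helper21.BG16j.le_pCoreOf_of_nilpotent d.hnil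
    (Subgroup.zpowers_le.mpr d.hx) hX (Subgroup.mem_zpowers x)

/-- `x ∉ Z(O_p(M_σ))` -/
theorem Data.exists_not_comm (d : Data M K U N x p) :
    ∃ y ∈ Cfsg.pCoreOf p (Cfsg.sigmaCore M), y * x ≠ x * y := by
  by_contra hcon
  push Not at hcon
  have hq := Cfsg.Agent.S1373.result d.hG M d.hM K U d.hKU d.hK1 d.hU
  obtain ⟨q, hqdef⟩ : ∃ q : ℕ,
    q = Nat.card ↥(Cfsg.sigmaCore M ⊓ Subgroup.centralizer (K : Set G)) := ⟨_, rfl⟩
  rw [← hqdef] at hq
  haveI : Fact q.Prime := ⟨hq⟩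
  haveI : Fact p.Prime := ⟨d.hp⟩
  obtain ⟨S⟩ : Nonempty (Sylow q ↥(Cfsg.sigmaCore M)) := inferInstance
  apply Cfsg.Agent.Lib.Helper21.BG16i.sylow_not_le d.hG d.hM d.hKU.hall d.hK1 d.hN d.ne hq
    (hqdef ▸ dvd_refl _) S
  intro s hs
  apply d.hxN
  rw [Subgroup.mem_centralizer_singleton_iff]
  obtain ⟨s', hs', rfl⟩ := hs
  by_cases hqp : q = p
  · subst hqp
    have hSp : IsPGroup q ((S : Subgroup ↥(Cfsg.sigmaCore M)).map (Cfsg.sigmaCore M).subtype) :=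
      S.2.map _
    have := Cfsg.Agent.Lib.Helper21.BG16j.le_pCoreOf_of_nilpotent d.hnil
      (Subgroup.map_subtype_le _) hSp ⟨s', hs', rfl⟩
    exact hcon _ this
  · obtain ⟨k, hk⟩ := (IsPGroup.iff_orderOf.mp S.2) ⟨s', hs'⟩
    rw [Subgroup.orderOf_mk] at hk
    haveI := d.hnil
    have hcop : (orderOf s').Coprime (orderOf (⟨x, d.hx⟩ : ↥(Cfsg.sigmaCore M))) := by
      rw [hk, Subgroup.orderOf_mk, d.hxo]
      exact Nat.Coprime.pow_left k ((Nat.coprime_primes hq d.hp).mpr hqp)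
    have h := Cfsg.Agent.Lib.Helper11.commute_of_coprime_orderOf s' ⟨x, d.hx⟩ hcop
    exact congrArg Subtype.val h.eq

/-- the Sylow `p`-subgroups of `G` are not abelian -/
theorem Data.sylow_not_comm (d : Data M K U N x p) [Fact p.Prime] :
    ∀ S : Sylow p G, ¬ IsMulCommutative (S : Subgroup G) := by
  intro S hS
  obtain ⟨y, hy, hyx⟩ := d.exists_not_comm
  have hP := Cfsg.Agent.Lib.helper17.pCoreOf_isPGroup p (Cfsg.sigmaCore M)
  obtain ⟨Q, hQ⟩ := hP.exists_le_sylow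
  obtain ⟨g, rfl⟩ := MulAction.exists_smul_eq G S Q
  have hy' := hQ hy
  have hx' := hQ d.x_mem_P
  rw [Sylow.coe_subgroup_smul, Subgroup.mem_pointwise_smul_iff_inv_smul_mem] at hy' hx'
  have h := hS.is_comm.comm ⟨_, hy'⟩ ⟨_, hx'⟩
  have h2 := congrArg Subtype.val h
  simp only [Subgroup.coe_mul, MulAut.smul_def, MulAut.conj_inv_apply] at h2
  apply hyx
  have e1 : y * x = g * (g⁻¹ * y * g * (g⁻¹ * x * g)) * g⁻¹ := by group
  have e2 : x * y = g * (g⁻¹ * x * g * (g⁻¹ * y * g)) * g⁻¹ := by group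
  rw [e1, e2, h2]

end Cfsg.Agent.Lib.Helper21.BG16k
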