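import Mathlib
import Cfsg.Prelude.Def_OddOrderLocal
import Cfsg.Prelude.Def_Amalgam
import Cfsg.Agent.Lib.Helper21.BG16k

set_option autoImplicit false

/-! B & G Theorem 15.8(e), global part IV (helper21): the subgroup `A` of type `(p, p)` of `M ∩ N`. -/

namespace Cfsg.Agent.Lib.Helper21.BG16k

open Cfsg Cfsg.Agent.Lib.Helper13.BG14 Cfsg.Agent.Lib.Helper13.BG15

variable {G : Type*} [Group G] [Finite G]

variable {M K U N : Subgroup G} {x : G} {p : ℕ}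

/-- the subgroup `A` of type `(p, p)` and the consequences of B & G 12.x for `N` -/
theorem Data.exA (d : Data M K U N x p) :
    ∃ A : Subgroup G, A ≤ M ⊓ N ∧ Nat.card A = p ^ 2 ∧ x ∈ A ∧
      (∀ s ∈ M ⊓ N, s ^ p = 1 → s ∈ A) ∧ Cfsg.tau2 N = {p} ∧
      (∀ s ∈ Cfsg.sigmaCore N, s * x = x * s) ∧
      (∀ Q : Subgroup G, Q ≤ N → IsPGroup p Q → ∀ a ∈ Q, ∀ b ∈ Q, a * b = b * a) := by
  haveI : Fact p.Prime := ⟨d.hp⟩
  obtain ⟨-, hτ2, -, hE, -, -, -⟩ := d.setup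
  obtain ⟨A, hAE, hAe, hAc⟩ := Cfsg.Agent.Lib.Helper28.BGt.exists_sq_le_compl d.hG d.hN hE hτ2
  have h18 := (Cfsg.Agent.S1418.result d.hG N d.hN (M ⊓ N) hE p hτ2 A ⟨hAE, hAe, hAc⟩).1.2
  have h17 := (Cfsg.Agent.S1417.result d.hG N d.hN p hτ2 A
    ⟨hAE.trans inf_le_right, hAe, hAc⟩).2.1
  have h19 := Cfsg.Agent.S1419.result d.hG N d.hN (M ⊓ N) hE p hτ2 d.sylow_not_comm A
    ⟨hAE, hAe, hAc⟩
  have hEA : ∀ s ∈ M ⊓ N, s ^ p = 1 → s ∈ A := by
    intro s hs hsp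
    by_cases hs1 : s = 1
    · rw [hs1]; exact A.one_mem
    have hso : orderOf s = p := orderOf_eq_prime hsp hs1
    exact h18 (Subgroup.zpowers s) (Subgroup.zpowers_le.mpr hs)
      (by rw [Nat.card_zpowers, hso]) (Subgroup.mem_zpowers s)
  have hxE : x ∈ M ⊓ N := ⟨d.x_mem_M, d.x_mem_N⟩
  have hxp : x ^ p = 1 := by rw [← d.hxo]; exact pow_orderOf_eq_one x
  refine ⟨A, hAE, hAc, hEA x hxE hxp, hEA, h19.1, ?_, ?_⟩
  · have hX : Subgroup.zpowers x = A ⊓ Subgroup.centralizer (Cfsg.sigmaCore N : Set G) := by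
      by_contra hne
      have := (h19.2.2 (Subgroup.zpowers x) (Subgroup.zpowers_le.mpr hxE)
        (by rw [Nat.card_zpowers, d.hxo]) hne).2
      apply this
      rw [Cfsg.Agent.Lib.Helper1.BG14.centralizer_zpowers_eq]
      exact d.hxN
    intro s hs
    have hxc : x ∈ A ⊓ Subgroup.centralizer (Cfsg.sigmaCore N : Set G) :=
      hX ▸ Subgroup.mem_zpowers x
    exact (Subgroup.mem_centralizer_iff.mp hxc.2 s hs)
  · intro Q hQN hQ a ha b hb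
    obtain ⟨P', hP'⟩ := (hQ.comap_subtype (K := N)).exists_le_sylow
    have hc := (h17 P').1
    have ha' : (⟨a, hQN ha⟩ : ↥N) ∈ (P' : Subgroup ↥N) := hP' (Subgroup.mem_subgroupOf.mpr ha)
    have hb' : (⟨b, hQN hb⟩ : ↥N) ∈ (P' : Subgroup ↥N) := hP' (Subgroup.mem_subgroupOf.mpr hb)
    have h := hc.is_comm.comm ⟨_, ha'⟩ ⟨_, hb'⟩
    have h2 := congrArg Subtype.val (congrArg Subtype.val h)
    simpa using h2

end Cfsg.Agent.Lib.Helper21.BG16k
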