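import Mathlib
import Cfsg.Prelude.Def_OddOrderLocal
import Cfsg.Prelude.Def_Amalgam
import Cfsg.Agent.Lib.Helper21.BG16l

set_option autoImplicit false

/-! B & G Theorem 15.8(e), global part V (helper21): the `p'`-elements of `C_{M_σ}(x)` act without
fixed points on `N_σ`. -/

namespace Cfsg.Agent.Lib.Helper21.BG16k

open Cfsg Cfsg.Agent.Lib.Helper13.BG14 Cfsg.Agent.Lib.Helper13.BG15

variable {G : Type*} [Group G]

/-- commuting elements of coprime orders: the first is a power of the product -/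
theorem exists_pow_eq_left {a b : G} (h : Commute a b)
    (hcop : (orderOf a).Coprime (orderOf b)) : ∃ n : ℕ, (a * b) ^ n = a := by
  obtain ⟨n, hn1, hn2⟩ := Nat.chineseRemainder hcop 1 0
  refine ⟨n, ?_⟩
  rw [h.mul_pow, (pow_eq_pow_iff_modEq.mpr hn1 : a ^ n = a ^ 1),
    (pow_eq_pow_iff_modEq.mpr hn2 : b ^ n = b ^ 0), pow_one, pow_zero, mul_one]

/-- commuting elements of coprime orders: `C(ab) ≤ C(a)` -/
theorem centralizer_mul_le_left {a b : G} (h : Commute a b)
    (hcop : (orderOf a).Coprime (orderOf b)) :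
    Subgroup.centralizer ({a * b} : Set G) ≤ Subgroup.centralizer ({a} : Set G) := by
  obtain ⟨n, hn⟩ := exists_pow_eq_left h hcop
  intro c hc
  rw [Subgroup.mem_centralizer_singleton_iff] at hc ⊢
  have h1 : Commute c (a * b) := hc
  have h2 := h1.pow_right n
  rw [hn] at h2
  exact h2

/-- commuting elements of coprime orders: `C(ab) ≤ C(b)` -/
theorem centralizer_mul_le_right {a b : G} (h : Commute a b)
    (hcop : (orderOf a).Coprime (orderOf b)) :
    Subgroup.centralizer ({a * b} : Set G) ≤ Subgroup.centralizer ({b} : Set G) := by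
  have := centralizer_mul_le_left h.symm hcop.symm
  rwa [← h.eq] at this

variable [Finite G]

variable {M K U N : Subgroup G} {x : G} {p : ℕ}

/-- elements of `M_σ` of prime order `r ≠ p` commuting with `x` act without fixed points
on `N_σ` -/
theorem Data.fpf_prime (d : Data M K U N x p) {u : G} {r : ℕ} (hr : r.Prime) (hrp : r ≠ p)
    (hu : u ∈ Cfsg.sigmaCore M) (huo : orderOf u = r) (hux : u * x = x * u) :
    Cfsg.sigmaCore N ⊓ Subgroup.centralizer ({u} : Set G) = ⊥ := by
  obtain ⟨A, -, -, -, -, hτ, hxc, -⟩ := d.exA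
  obtain ⟨-, -, hbot, -, -, -, -⟩ := d.setup
  rw [eq_bot_iff]
  intro ρ hρ
  rw [Subgroup.mem_bot]
  by_contra hρ1
  have hρN : ρ ∈ Cfsg.sigmaCore N := hρ.1
  have hρu : ρ * u = u * ρ := Subgroup.mem_centralizer_singleton_iff.mp hρ.2
  have hρx : ρ * x = x * ρ := hxc ρ hρN
  have hρM : ρ ∉ M := by
    intro h
    have : ρ ∈ Cfsg.sigmaCore N ⊓ M := ⟨hρN, h⟩
    rw [hbot, Subgroup.mem_bot] at this
    exact hρ1 this
  have hu1 : u ≠ 1 := by
    intro h
    rw [h, orderOf_one] at huo
    exact hr.one_lt.ne huo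
  have huM : ¬ Subgroup.centralizer ({u} : Set G) ≤ M :=
    fun h => hρM (h (Subgroup.mem_centralizer_singleton_iff.mpr hρu))
  have hcomm : Commute x u := hux.symm
  have hcop : (orderOf x).Coprime (orderOf u) := by
    rw [d.hxo, huo]
    exact (Nat.coprime_primes d.hp hr).mpr (Ne.symm hrp)
  have hwo : orderOf (x * u) = p * r := by
    rw [hcomm.orderOf_mul_eq_mul_orderOf_of_coprime hcop, d.hxo, huo]
  have hw1 : x * u ≠ 1 := by
    intro h
    rw [h, orderOf_one] at hwo
    have := d.hp.two_le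
    have := hr.two_le
    nlinarith
  have hw : x * u ∈ Cfsg.sigmaCore M := Subgroup.mul_mem _ d.hx hu
  have hρw : ρ * (x * u) = (x * u) * ρ := by
    rw [← mul_assoc, hρx, mul_assoc, hρu, mul_assoc]
  have hwM : ¬ Subgroup.centralizer ({x * u} : Set G) ≤ M :=
    fun h => hρM (h (Subgroup.mem_centralizer_singleton_iff.mpr hρw))
  have hwx := centralizer_mul_le_left hcomm hcop
  have hwu := centralizer_mul_le_right hcomm hcop
  obtain ⟨Nw, -, huniq, -⟩ := bg14_cent_not_le d.hG M d.hM (x * u) hw hw1 hwM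
  have hNw : N = Nw := huniq N d.hN (hwx.trans d.hxN)
  haveI : IsSimpleGroup G := d.hG.2.1
  obtain ⟨Nu, hNu, hCNu⟩ := Cfsg.Agent.Lib.Helper11.BenderE.exists_coatom_ge _
    (Cfsg.Agent.Lib.Helper11.centralizer_singleton_ne_top d.hG.2.2.1 hu1)
  have hNuN : Nu = N := (huniq Nu hNu (hwu.trans hCNu)).trans hNw.symm
  subst hNuN
  have := (bg15_setup d.hG d.hM hNu hr hu huo huM hCNu).2.1
  rw [hτ] at this
  exact hrp (Set.mem_singleton_iff.mp this)

end Cfsg.Agent.Lib.Helper21.BG16k
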