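import Mathlib
import Cfsg.Prelude.Def_OddOrderLocal
import Cfsg.Prelude.Def_Amalgam
import Cfsg.Agent.Lib.Helper21.BG16m

set_option autoImplicit false

/-! B & G Theorem 15.8(e), global part VI (helper21): `O_{p'}(M_σ)` is cyclic. -/

namespace Cfsg.Agent.Lib.Helper21.BG16k

open Cfsg Cfsg.Agent.Lib.Helper13.BG14 Cfsg.Agent.Lib.Helper13.BG15

variable {G : Type*} [Group G] [Finite G]

variable {M K U N : Subgroup G} {x : G} {p : ℕ}

/-- `N_σ ≠ 1` -/
theorem Data.sigmaCore_N_ne_bot (d : Data M K U N x p) : Cfsg.sigmaCore N ≠ ⊥ := by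
  obtain ⟨-, -, -, hE, -, -, -⟩ := d.setup
  intro h
  apply d.ne
  have hNM : N ≤ M := by
    intro n hn
    obtain ⟨a, ha, b, hb, rfl⟩ := hE.2.2.2 n hn
    rw [h, Subgroup.mem_bot] at hb
    rw [hb, mul_one]
    exact ha.1
  rcases eq_or_lt_of_le hNM with h1 | h1
  · exact h1
  · exact absurd (d.hN.2 M h1) d.hM.1

/-- `O_{p'}(M_σ)` is cyclic -/
theorem Data.cyclic (d : Data M K U N x p) :
    IsCyclic (Cfsg.pPrimeCore p ↥(Cfsg.sigmaCore M)) := by
  haveI : Fact p.Prime := ⟨d.hp⟩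
  obtain ⟨-, -, -, -, hnilN, -, -⟩ := d.setup
  apply Cfsg.Agent.Lib.Helper1.isCyclic_of_map_subtype (Cfsg.sigmaCore M)
    (Cfsg.pPrimeCore p ↥(Cfsg.sigmaCore M))
  obtain ⟨Y, hYdef⟩ : ∃ Y : Subgroup G,
    Y = (Cfsg.pPrimeCore p ↥(Cfsg.sigmaCore M)).map (Cfsg.sigmaCore M).subtype := ⟨_, rfl⟩
  rw [← hYdef]
  have hYH : Y ≤ Cfsg.sigmaCore M := by rw [hYdef]; exact Subgroup.map_subtype_le _
  have hYc : (Nat.card Y).Coprime p := by
    rw [hYdef, Subgroup.card_map_of_injective (Cfsg.sigmaCore M).subtype_injective]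
    exact Cfsg.Agent.Lib.Helper18.pPrimeCore_card_coprime_h18 p
  have hV1 := Cfsg.Agent.Lib.Helper21.BG16j.inf_centralizer_ne_bot hnilN d.sigmaCore_N_ne_bot
  have hNV := Cfsg.Agent.Lib.Helper21.BG16j.le_normalizer_inf_centralizer
    (Cfsg.Agent.Lib.Helper1.BG12.le_normalizer_sigmaCore N)
  haveI := Cfsg.Agent.Lib.Helper21.BG16j.inf_centralizer_comm (Cfsg.sigmaCore N)
  have hYx : ∀ a ∈ Y, a * x = x * a := by
    intro a ha
    have hao : (orderOf a).Coprime p :=
      Nat.Coprime.coprime_dvd_left (Subgroup.orderOf_dvd_natCard _ ha) hYc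
    haveI := d.hnil
    have h := Cfsg.Agent.Lib.Helper11.commute_of_coprime_orderOf
      (⟨a, hYH ha⟩ : ↥(Cfsg.sigmaCore M)) ⟨x, d.hx⟩
      (by rw [Subgroup.orderOf_mk, Subgroup.orderOf_mk, d.hxo]; exact hao)
    exact congrArg Subtype.val h.eq
  have hYN : Y ≤ N :=
    fun a ha => d.hxN (Subgroup.mem_centralizer_singleton_iff.mpr (hYx a ha))
  apply Cfsg.Agent.Lib.Helper21.BG16j.isCyclic_of_fpf_nilpotent Y _ hV1 (hYN.trans hNV)
  · intro a ha ha1
    rw [eq_bot_iff]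
    intro v hv
    have ho1 : orderOf a ≠ 1 := fun h => ha1 (orderOf_eq_one_iff.mp h)
    obtain ⟨r, hr, hrd⟩ := Nat.exists_prime_and_dvd ho1
    have huo : orderOf (a ^ (orderOf a / r)) = r :=
      orderOf_pow_orderOf_div (orderOf_pos a).ne' hrd
    have hrp : r ≠ p := by
      rintro rfl
      have h1 : r ∣ Nat.card Y := hrd.trans (Subgroup.orderOf_dvd_natCard _ ha)
      have h2 := Nat.Coprime.eq_one_of_dvd hYc.symm h1
      exact hr.one_lt.ne' h2
    have hcx : a ^ (orderOf a / r) * x = x * a ^ (orderOf a / r) :=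
      ((show Commute a x from hYx a ha).pow_left _).eq
    have hfp := d.fpf_prime hr hrp (Subgroup.pow_mem _ (hYH ha) _) huo hcx
    have hmem : v ∈ Cfsg.sigmaCore N ⊓
        Subgroup.centralizer ({a ^ (orderOf a / r)} : Set G) := by
      refine Subgroup.mem_inf.mpr ⟨hv.1.1, ?_⟩
      rw [Subgroup.mem_centralizer_singleton_iff]
      have hva : v * a = a * v := Subgroup.mem_centralizer_singleton_iff.mp hv.2
      exact ((show Commute v a from hva).pow_right _).eq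
    rw [hfp] at hmem
    exact hmem
  · intro h2
    have h3 : 2 ∣ Nat.card G := h2.trans (Subgroup.card_subgroup_dvd_card _)
    exact (Nat.not_even_iff_odd.mpr d.hG.1) (even_iff_two_dvd.mpr h3)
  · haveI := d.hnil
    rw [hYdef]
    exact Group.nilpotent_of_mulEquiv
      ((Cfsg.pPrimeCore p ↥(Cfsg.sigmaCore M)).equivMapOfInjective
        (Cfsg.sigmaCore M).subtype (Cfsg.sigmaCore M).subtype_injective)

end Cfsg.Agent.Lib.Helper21.BG16k
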