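import Mathlib
import Cfsg.Prelude.Def_OddOrderLocal
import Cfsg.Prelude.Def_Amalgam
import Cfsg.Agent.Lib.Helper21.BG16n
import Cfsg.Agent.Lib.Helper21.BG16h
import Cfsg.Agent.Lib.Helper13.BG14Z
import Cfsg.Agent.S1430

set_option autoImplicit false

/-! B & G Theorem 15.8(e), global part VII (helper21): assembly. -/

namespace Cfsg.Agent.Lib.Helper21.BG16k

open Cfsg Cfsg.Agent.Lib.Helper13.BG14 Cfsg.Agent.Lib.Helper13.BG15

variable {G : Type*} [Group G] [Finite G]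

variable {M K U N : Subgroup G} {x : G} {p : ℕ}

/-- the arithmetic conclusion of B & G Theorem 15.8(e) -/
theorem Data.main (d : Data M K U N x p) :
    Nat.card K ∣ p - 1 ∨
      (Nat.card (Cfsg.pCoreOf p (Cfsg.sigmaCore M)) = p ^ 3 ∧ Nat.card K ∣ p + 1) := by
  haveI : Fact p.Prime := ⟨d.hp⟩
  obtain ⟨A, hAE, hAc, hxA, hEA, -, -, hQab⟩ := d.exA
  have hPH : Cfsg.pCoreOf p (Cfsg.sigmaCore M) ≤ Cfsg.sigmaCore M :=
    Cfsg.Agent.Lib.helper17.pCoreOf_le p _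
  have hP : IsPGroup p (Cfsg.pCoreOf p (Cfsg.sigmaCore M)) :=
    Cfsg.Agent.Lib.helper17.pCoreOf_isPGroup p _
  have hσM := Cfsg.Agent.Lib.Helper1.BG12.sigmaCore_le M
  have hMP : M ≤ Subgroup.normalizer ((Cfsg.pCoreOf p (Cfsg.sigmaCore M) : Subgroup G) : Set G) :=
    (Cfsg.Agent.Lib.Helper1.BG12.le_normalizer_sigmaCore M).trans
      (Cfsg.Agent.Lib.helper17.normalizer_le_normalizer_pCoreOf p _)
  have hKM : K ≤ M := d.hKU.hall.1
  have hodd : Odd (Nat.card G) := d.hG.1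
  have hp2 : p ≠ 2 := by
    rintro rfl
    have h2 : 2 ∣ Nat.card G := d.hxo ▸ orderOf_dvd_natCard x
    exact (Nat.not_even_iff_odd.mpr hodd) (even_iff_two_dvd.mpr h2)
  have hKcomm : ∀ a ∈ K, ∀ b ∈ K, a * b = b * a := by
    haveI := d.hKU.cyclic
    have hc : IsMulCommutative ↥K := IsCyclic.isMulCommutative
    intro a ha b hb
    exact congrArg Subtype.val (hc.is_comm.comm ⟨a, ha⟩ ⟨b, hb⟩)
  have hKodd : Odd (Nat.card K) := Odd.of_dvd_nat hodd (Subgroup.card_subgroup_dvd_card K)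
  have hpd : p ∣ Nat.card (Cfsg.sigmaCore M) := d.hxo ▸ Subgroup.orderOf_dvd_natCard _ d.hx
  have hKcop : (Nat.card K).Coprime p :=
    Nat.Coprime.coprime_dvd_right hpd (bg14_coprime_K_sigma d.hG d.hM d.hKU.hall)
  have hq := Cfsg.Agent.S1373.result d.hG M d.hM K U d.hKU d.hK1 d.hU
  have h30 := (Cfsg.Agent.S1430.result d.hG M d.hM K d.hKU.hall d.hK1).1
  have hKs : Nat.card ↥(Cfsg.pCoreOf p (Cfsg.sigmaCore M) ⊓
        (Cfsg.sigmaCore M ⊓ Subgroup.centralizer (K : Set G))) = 1 ∨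
      Nat.card ↥(Cfsg.pCoreOf p (Cfsg.sigmaCore M) ⊓
        (Cfsg.sigmaCore M ⊓ Subgroup.centralizer (K : Set G))) = p := by
    have h1 : Nat.card ↥(Cfsg.pCoreOf p (Cfsg.sigmaCore M) ⊓
        (Cfsg.sigmaCore M ⊓ Subgroup.centralizer (K : Set G))) ∣
        Nat.card ↥(Cfsg.sigmaCore M ⊓ Subgroup.centralizer (K : Set G)) :=
      Subgroup.card_dvd_of_le inf_le_right
    rcases (Nat.dvd_prime hq).mp h1 with h | h
    · exact Or.inl h
    · right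
      have hPp : IsPGroup p ↥(Cfsg.pCoreOf p (Cfsg.sigmaCore M) ⊓
          (Cfsg.sigmaCore M ⊓ Subgroup.centralizer (K : Set G))) := hP.to_le inf_le_left
      obtain ⟨k, hk⟩ := IsPGroup.iff_card.mp hPp
      rw [h] at hk
      rw [h]
      have hk0 : k ≠ 0 := by
        rintro rfl
        rw [pow_zero] at hk
        exact hq.one_lt.ne' hk
      have hpq : p ∣ Nat.card ↥(Cfsg.sigmaCore M ⊓ Subgroup.centralizer (K : Set G)) :=
        hk ▸ dvd_pow_self p hk0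
      exact ((Nat.prime_dvd_prime_iff_eq d.hp hq).mp hpq).symm
  have hcent : ∀ k ∈ K, k ≠ 1 →
      Cfsg.pCoreOf p (Cfsg.sigmaCore M) ⊓ Subgroup.centralizer ({k} : Set G) =
        Cfsg.pCoreOf p (Cfsg.sigmaCore M) ⊓
          (Cfsg.sigmaCore M ⊓ Subgroup.centralizer (K : Set G)) := by
    intro k hk hk1
    rw [← h30 k hk hk1]
    ext z
    simp only [Subgroup.mem_inf]
    constructor
    · rintro ⟨h1, h2⟩
      exact ⟨h1, hPH h1, h2⟩
    · rintro ⟨h1, -, h2⟩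
      exact ⟨h1, h2⟩
  have hCN : ∀ s ∈ Cfsg.pCoreOf p (Cfsg.sigmaCore M), s * x = x * s → s ∈ M ⊓ N :=
    fun s hs hsx => ⟨hσM (hPH hs), d.hxN (Subgroup.mem_centralizer_singleton_iff.mpr hsx)⟩
  have hCab : ∀ s ∈ Cfsg.pCoreOf p (Cfsg.sigmaCore M), ∀ t ∈ Cfsg.pCoreOf p (Cfsg.sigmaCore M),
      s * x = x * s → t * x = x * t → s * t = t * s := by
    intro s hs t ht hsx htx
    have hQN : Cfsg.pCoreOf p (Cfsg.sigmaCore M) ⊓ Subgroup.centralizer ({x} : Set G) ≤ N :=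
      inf_le_right.trans d.hxN
    exact hQab _ hQN (hP.to_le inf_le_left) s
      ⟨hs, Subgroup.mem_centralizer_singleton_iff.mpr hsx⟩ t
      ⟨ht, Subgroup.mem_centralizer_singleton_iff.mpr htx⟩
  have hCA : ∀ s ∈ Cfsg.pCoreOf p (Cfsg.sigmaCore M), s * x = x * s → s ^ p = 1 → s ∈ A :=
    fun s hs hsx hsp => hEA s (hCN s hs hsx) hsp
  exact Cfsg.Agent.Lib.Helper21.BG16h.pgroup_main d.hp hp2 _ K _ A hP (hKM.trans hMP) hKcomm
    hKodd hKcop d.hK1 hKs hcent x d.x_mem_P hxA hAc d.exists_not_comm hCab hCA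

end Cfsg.Agent.Lib.Helper21.BG16k

namespace Cfsg.Agent.Lib.Helper21.BG16

variable {G : Type*} [Group G] [Finite G]

/-- **B & G Theorem 15.8(e)** for `K ≠ 1`, `U = 1`: if `M_F = M_σ` is not a TI-subset, then for
some prime `p` dividing `|M_F|`, `O_{p'}(M_F)` is cyclic and either `|K|` divides `p - 1`, or
`|O_p(M_F)| = p ^ 3` and `|K|` divides `p + 1`. -/
theorem typeV_trichotomy (hG : Cfsg.IsMinSimpleOddOrder G)
    {M K U : Subgroup G} (hM : IsCoatom M) (hKU : Cfsg.IsSigmaDecomposition M K U) (hK1 : K ≠ ⊥)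
    (hU : U = ⊥) (hF : Cfsg.fittingHallOf M = Cfsg.sigmaCore M)
    (hnTI : ¬ Cfsg.IsTISubset (Cfsg.fittingHallOf M : Set G)) :
    (∃ p : ℕ, p.Prime ∧ p ∣ Nat.card (Cfsg.fittingHallOf M) ∧ Nat.card K ∣ p - 1 ∧
        IsCyclic (Cfsg.pPrimeCore p (Cfsg.fittingHallOf M))) ∨
    (∃ p : ℕ, p.Prime ∧ p ∣ Nat.card (Cfsg.fittingHallOf M) ∧
        Nat.card (Cfsg.pCore p (Cfsg.fittingHallOf M)) = p ^ 3 ∧ Nat.card K ∣ p + 1 ∧
        IsCyclic (Cfsg.pPrimeCore p (Cfsg.fittingHallOf M))) := by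
  have hnil : Group.IsNilpotent (Cfsg.sigmaCore M) := by
    rw [← hF]
    unfold Cfsg.fittingHallOf
    haveI := Cfsg.Agent.Lib.Helper11.fittingHall_isNilpotent (G := ↥M)
    exact Group.nilpotent_of_mulEquiv
      (Subgroup.equivMapOfInjective (Cfsg.fittingHall ↥M) M.subtype M.subtype_injective)
  rw [hF] at hnTI ⊢
  obtain ⟨g, x, p, hgM, hp, hxo, hx, hgx⟩ := Cfsg.Agent.Lib.Helper21.BG16i.exists_prime_elt hnTI
  have hx1 : x ≠ 1 := by
    intro h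
    rw [h, orderOf_one] at hxo
    exact hp.one_lt.ne hxo
  have hxM := Cfsg.Agent.Lib.Helper21.BG16i.cent_not_le hG hM hgM hx hx1 hgx
  haveI : IsSimpleGroup G := hG.2.1
  obtain ⟨N, hN, hxN⟩ := Cfsg.Agent.Lib.Helper11.BenderE.exists_coatom_ge _
    (Cfsg.Agent.Lib.Helper11.centralizer_singleton_ne_top hG.2.2.1 hx1)
  have d : Cfsg.Agent.Lib.Helper21.BG16k.Data M K U N x p :=
    ⟨hG, hM, hKU, hK1, hU, hnil, hp, hx, hxo, hxM, hN, hxN⟩
  have hpd : p ∣ Nat.card (Cfsg.sigmaCore M) := hxo ▸ Subgroup.orderOf_dvd_natCard _ hx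
  have hcard : Nat.card (Cfsg.pCoreOf p (Cfsg.sigmaCore M)) =
      Nat.card (Cfsg.pCore p ↥(Cfsg.sigmaCore M)) := by
    unfold Cfsg.pCoreOf
    rw [Subgroup.card_map_of_injective (Subgroup.subtype_injective _)]
  rcases d.main with h | ⟨h3, h⟩
  · exact Or.inl ⟨p, hp, hpd, h, d.cyclic⟩
  · exact Or.inr ⟨p, hp, hpd, hcard ▸ h3, h, d.cyclic⟩

end Cfsg.Agent.Lib.Helper21.BG16
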