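import Mathlib

/-! Project BLI, piece PIGEON: six sextants pigeonhole for `p`-th roots of unity. -/

set_option autoImplicit false
set_option linter.unusedVariables false

namespace Cfsg.Agent.Lib.Helper29.BLI

open scoped ComplexConjugate InnerProductSpace

/-- `e^{2πit}` -/
noncomputable def blipigeon_E (t : ℝ) : ℂ := Complex.exp (Complex.I * ((2 * Real.pi * t : ℝ) : ℂ))

theorem blipigeon_E_add (s t : ℝ) : blipigeon_E (s + t) = blipigeon_E s * blipigeon_E t := by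
  unfold blipigeon_E
  rw [← Complex.exp_add]
  congr 1
  push_cast
  ring

theorem blipigeon_E_int (m : ℤ) : blipigeon_E (m : ℝ) = 1 := by
  unfold blipigeon_E
  have : Complex.I * ((2 * Real.pi * (m : ℝ) : ℝ) : ℂ) = (m : ℂ) * (2 * (Real.pi : ℂ) * Complex.I) := by
    push_cast
    ring
  rw [this]
  exact Complex.exp_int_mul_two_pi_mul_I m

theorem blipigeon_E_pow (t : ℝ) (k : ℕ) : (blipigeon_E t) ^ k = blipigeon_E (k * t) := by
  unfold blipigeon_E
  rw [← Complex.exp_nat_mul]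
  congr 1
  push_cast
  ring

theorem blipigeon_norm_E (t : ℝ) : ‖blipigeon_E t‖ = 1 := by
  unfold blipigeon_E
  exact Complex.norm_exp_I_mul_ofReal _

theorem blipigeon_E_sub_one (t : ℝ) (ht : |t| < 1 / 6) : ‖blipigeon_E t - 1‖ < 1 := by
  unfold blipigeon_E
  rw [Complex.norm_exp_I_mul_ofReal_sub_one]
  have hpi := Real.pi_pos
  have e : 2 * Real.pi * t / 2 = Real.pi * t := by ring
  rw [e]
  obtain ⟨h1, h2⟩ := abs_lt.1 ht
  have hx1 : -(Real.pi / 6) < Real.pi * t := by nlinarith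
  have hx2 : Real.pi * t < Real.pi / 6 := by nlinarith
  have hs2 : Real.sin (Real.pi * t) < 1 / 2 := by
    rw [← Real.sin_pi_div_six]
    apply Real.sin_lt_sin_of_lt_of_le_pi_div_two _ _ hx2 <;> linarith
  have hs1 : -(1 / 2) < Real.sin (Real.pi * t) := by
    have : Real.sin (-(Real.pi / 6)) = -(1 / 2) := by rw [Real.sin_neg, Real.sin_pi_div_six]
    rw [← this]
    apply Real.sin_lt_sin_of_lt_of_le_pi_div_two _ _ hx1 <;> linarith
  rw [Real.norm_eq_abs, abs_lt]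
  constructor <;> linarith

theorem blipigeon_root (p : ℕ) (hp : 0 < p) (lam : ℂ) (h : lam ^ p = 1) :
    ∃ j : ℕ, j < p ∧ lam = blipigeon_E ((j : ℝ) / p) := by
  have : NeZero p := ⟨by omega⟩
  have hlam0 : lam ≠ 0 := by
    rintro rfl
    rw [zero_pow (by omega)] at h
    exact zero_ne_one h
  have hmem : (Units.mk0 lam hlam0) ∈ rootsOfUnity p ℂ := by
    rw [_root_.mem_rootsOfUnity]
    apply Units.ext
    rw [Units.val_pow_eq_pow_val, Units.val_mk0, h, Units.val_one]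
  rw [Complex.mem_rootsOfUnity] at hmem
  obtain ⟨j, hj, hjl⟩ := hmem
  refine ⟨j, hj, ?_⟩
  rw [Units.val_mk0] at hjl
  rw [← hjl]
  unfold blipigeon_E
  congr 1
  push_cast
  ring

theorem blipigeon_close (p : ℕ) (hp : 0 < p) (j j1 k : ℕ) (M δ : ℤ)
    (h : ((j : ℤ) - j1) * k = p * M + δ) (hδ : |6 * δ| < p) :
    ‖(blipigeon_E ((j : ℝ) / p)) ^ k - (blipigeon_E ((j1 : ℝ) / p)) ^ k‖ < 1 := by
  have hpR : (0 : ℝ) < p := by exact_mod_cast hp
  have hR : (((j : ℝ) - j1) * k) = p * M + δ := by exact_mod_cast h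
  have e : (k : ℝ) * ((j : ℝ) / p) = (k : ℝ) * ((j1 : ℝ) / p) + ((M : ℝ) + (δ : ℝ) / p) := by
    field_simp
    linarith
  rw [blipigeon_E_pow, blipigeon_E_pow, e, blipigeon_E_add, blipigeon_E_add, blipigeon_E_int, one_mul]
  have e2 : blipigeon_E (k * ((j1 : ℝ) / p)) * blipigeon_E ((δ : ℝ) / p) - blipigeon_E (k * ((j1 : ℝ) / p)) =
      blipigeon_E (k * ((j1 : ℝ) / p)) * (blipigeon_E ((δ : ℝ) / p) - 1) := by ring
  rw [e2, norm_mul, blipigeon_norm_E, one_mul]
  apply blipigeon_E_sub_one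
  rw [abs_div, abs_of_pos hpR, div_lt_iff₀ hpR]
  have h6 : |(6 : ℝ) * δ| < p := by exact_mod_cast hδ
  rw [abs_mul, abs_of_pos (by norm_num : (0 : ℝ) < 6)] at h6
  linarith

/-- PIGEON (six sextants) -/
theorem bli_pigeon (p : ℕ) (hp : p.Prime) (S : Finset ℂ) (hS : ∀ lam ∈ S, lam ^ p = 1) (lam1 : ℂ)
    (h1 : lam1 ∈ S) (hcard : 6 ^ (S.card - 1) < p) :
    ∃ k : ℕ, 0 < k ∧ k < p ∧ ∀ lam ∈ S, ‖lam ^ k - lam1 ^ k‖ < 1 := by
  classical
  have hp0 : 0 < p := hp.pos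
  have hroot : ∀ lam ∈ S, ∃ j : ℕ, j < p ∧ lam = blipigeon_E ((j : ℝ) / p) :=
    fun lam hl => blipigeon_root p hp0 lam (hS lam hl)
  choose! j hj using hroot
  let c : ℂ → ℕ := fun lam => j lam + (p - j lam1)
  let f : Fin p → ({lam // lam ∈ S.erase lam1} → Fin 6) := fun k lam =>
    ⟨6 * ((c lam.1 * k.1) % p) / p, by
      have := Nat.mod_lt (c lam.1 * k.1) hp0
      rw [Nat.div_lt_iff_lt_mul hp0]
      omega⟩
  have hcardlt : Fintype.card ({lam // lam ∈ S.erase lam1} → Fin 6) < Fintype.card (Fin p) := by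
    rw [Fintype.card_fun, Fintype.card_fin, Fintype.card_fin, Fintype.card_coe,
      Finset.card_erase_of_mem h1]
    exact hcard
  obtain ⟨k1, k2, hne, hfk⟩ := Fintype.exists_ne_map_eq_of_card_lt f hcardlt
  -- the key step for k1 < k2
  have key : ∀ k1 k2 : Fin p, k1.1 < k2.1 → f k1 = f k2 →
      ∃ k : ℕ, 0 < k ∧ k < p ∧ ∀ lam ∈ S, ‖lam ^ k - lam1 ^ k‖ < 1 := by
    intro k1 k2 hlt hfk
    refine ⟨k2.1 - k1.1, by omega, by have := k2.2; omega, fun lam hl => ?_⟩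
    by_cases hl1 : lam = lam1
    · rw [hl1, sub_self, norm_zero]
      exact one_pos
    · have hmem : lam ∈ S.erase lam1 := Finset.mem_erase.2 ⟨hl1, hl⟩
      have hs := congrArg Fin.val (congrFun hfk ⟨lam, hmem⟩)
      simp only [f] at hs
      obtain ⟨a1, ha1⟩ : ∃ a1, a1 = (c lam * k1.1) % p := ⟨_, rfl⟩
      obtain ⟨a2, ha2⟩ : ∃ a2, a2 = (c lam * k2.1) % p := ⟨_, rfl⟩
      rw [← ha1, ← ha2] at hs
      have hd1 := Nat.div_add_mod (c lam * k1.1) p
      have hd2 := Nat.div_add_mod (c lam * k2.1) p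
      rw [← ha1] at hd1
      rw [← ha2] at hd2
      have hq1 := Nat.div_add_mod (6 * a1) p
      have hq2 := Nat.div_add_mod (6 * a2) p
      have hr1 := Nat.mod_lt (6 * a1) hp0
      have hr2 := Nat.mod_lt (6 * a2) hp0
      rw [hs] at hq1
      have hδ : |6 * ((a2 : ℤ) - a1)| < p := by
        rw [abs_lt]
        constructor <;> omega
      have hjl := (hj lam hl).1
      have hj1 := (hj lam1 h1).1
      have hc : ((c lam : ℕ) : ℤ) = (j lam : ℤ) - j lam1 + p := by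
        simp only [c]
        omega
      have h2 : ((c lam : ℕ) : ℤ) * (k2.1 : ℤ) = p * ((c lam * k2.1 / p : ℕ) : ℤ) + a2 := by
        exact_mod_cast hd2.symm
      have h1' : ((c lam : ℕ) : ℤ) * (k1.1 : ℤ) = p * ((c lam * k1.1 / p : ℕ) : ℤ) + a1 := by
        exact_mod_cast hd1.symm
      have hk : ((k2.1 - k1.1 : ℕ) : ℤ) = (k2.1 : ℤ) - k1.1 := by omega
      have hmain : ((j lam : ℤ) - j lam1) * ((k2.1 - k1.1 : ℕ) : ℤ) =
          p * (((c lam * k2.1 / p : ℕ) : ℤ) - ((c lam * k1.1 / p : ℕ) : ℤ) - ((k2.1 : ℤ) - k1.1)) +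
            ((a2 : ℤ) - a1) := by
        have hjj : (j lam : ℤ) - j lam1 = (c lam : ℤ) - p := by rw [hc]; ring
        rw [hjj, hk]
        linear_combination h2 - h1'
      have := blipigeon_close p hp0 (j lam) (j lam1) (k2.1 - k1.1) _ _ hmain hδ
      rw [← (hj lam hl).2, ← (hj lam1 h1).2] at this
      exact this
  rcases lt_or_gt_of_ne (fun h => hne (Fin.ext h)) with hlt | hlt
  · exact key k1 k2 hlt hfk
  · exact key k2 k1 hlt hfk.symm

end Cfsg.Agent.Lib.Helper29.BLI
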