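import Mathlib
import Cfsg.Agent.Lib.Helper28.BP2.Defs
import Cfsg.Agent.Lib.Helper21.BP2AO3
import Cfsg.Agent.Lib.Helper5.BP2AO4

set_option autoImplicit false

/-!
# BP2 row AO6 (`card_of_binS_even`): core on the statement of AO5 (`cent_le_of_binS`, for the given `H`);
cites the landed AO3 (`card_cent_invol`) and AO4 (`cent_invol_inter`).
-/

namespace Cfsg.Agent.Lib.Helper28.BP2

open Cfsg.Agent.Lib.helper14

universe u v w

/-- The centralizer of `t : H` in `H` is the centralizer of `↑t` in `G`, cut down to `H`. -/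
theorem bp2ao6_centralizer_eq {G : Type v} [Group G] (H : Subgroup G) (t : H) :
    Subgroup.centralizer ({t} : Set H) =
      (Subgroup.centralizer ({(t : G)} : Set G)).subgroupOf H := by
  ext x
  rw [Subgroup.mem_subgroupOf, Subgroup.mem_centralizer_iff, Subgroup.mem_centralizer_iff]
  constructor
  · intro h y hy
    rw [Set.mem_singleton_iff] at hy
    subst hy
    have := h t (Set.mem_singleton t)
    exact congrArg Subtype.val this
  · intro h y hy
    rw [Set.mem_singleton_iff] at hy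
    subst hy
    have := h (y : G) (Set.mem_singleton _)
    exact Subtype.ext this

/-- If `C_G(t) ≤ H` then `|C_H(t)| = |C_G(t)|`. -/
theorem bp2ao6_card_centralizer {G : Type v} [Group G] (H : Subgroup G) (t : H)
    (hle : Subgroup.centralizer ({(t : G)} : Set G) ≤ H) :
    Nat.card (Subgroup.centralizer ({t} : Set H)) =
      Nat.card (Subgroup.centralizer ({(t : G)} : Set G)) := by
  rw [bp2ao6_centralizer_eq]
  exact Nat.card_congr (Subgroup.subgroupOfEquivOfLe hle).toEquiv

/-- `|A| * |B| ≤ |A ⊓ B| * |H|` for subgroups `A B ≤ H` of a finite group. -/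
theorem bp2ao6_card_mul_le {G : Type v} [Group G] [Finite G] (A B H : Subgroup G)
    (hA : A ≤ H) (hB : B ≤ H) :
    Nat.card A * Nat.card B ≤ Nat.card ↥(A ⊓ B) * Nat.card H := by
  have h1 : Nat.card ↥(A ⊓ B) * (A ⊓ B).relIndex A = Nat.card A := by
    have := Subgroup.relIndex_mul_relIndex ⊥ (A ⊓ B) A bot_le inf_le_left
    rwa [Subgroup.relIndex_bot_left, Subgroup.relIndex_bot_left] at this
  have h2 : Nat.card B * B.relIndex H = Nat.card H := by
    have := Subgroup.relIndex_mul_relIndex ⊥ B H bot_le hB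
    rwa [Subgroup.relIndex_bot_left, Subgroup.relIndex_bot_left] at this
  have h3 : (A ⊓ B).relIndex A = B.relIndex A := Subgroup.inf_relIndex_left A B
  have hne : B.relIndex H ≠ 0 := by
    intro h0
    rw [h0, Nat.mul_zero] at h2
    exact (Nat.card_pos (α := H)).ne' h2.symm
  have h4 : B.relIndex A ≤ B.relIndex H := Subgroup.relIndex_le_of_le_right hA hne
  rw [← h1, ← h2, h3]
  calc Nat.card ↥(A ⊓ B) * B.relIndex A * Nat.card B
      ≤ Nat.card ↥(A ⊓ B) * B.relIndex H * Nat.card B :=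
        Nat.mul_le_mul_right _ (Nat.mul_le_mul_left _ h4)
    _ = Nat.card ↥(A ⊓ B) * (Nat.card B * B.relIndex H) := by ring

section AOdd

variable {F : Type u} [Field F] [Fintype F]

/-- AO6 core: `hAO5` = statement of AO5 for the given `H`. -/
theorem bp2ao6_core (hodd : Odd (Fintype.card F)) (H : Subgroup (PSL2 F))
    (hAO5 : ∀ t : PSL2 F, t ∈ H → orderOf t = 2 →
      Subgroup.centralizer ({t} : Set (PSL2 F)) ≤ H)
    (h2 : 2 ∣ Nat.card H) :
    ∃ c : ℕ, ((Fintype.card F % 4 = 1 ∧ c = Fintype.card F - 1) ∨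
        (Fintype.card F % 4 = 3 ∧ c = Fintype.card F + 1)) ∧
      c ∣ Nat.card H ∧ c * c ≤ 4 * Nat.card H ∧
      ∀ t : H, orderOf t = 2 → Nat.card (Subgroup.centralizer ({t} : Set H)) = c := by
  have : Fact (Nat.Prime 2) := ⟨Nat.prime_two⟩
  obtain ⟨t0, ht0⟩ := exists_prime_orderOf_dvd_card' (G := H) 2 h2
  have ht0G : orderOf (t0 : PSL2 F) = 2 := by rw [Subgroup.orderOf_coe]; exact ht0
  -- the common value
  have hq : Fintype.card F % 4 = 1 ∨ Fintype.card F % 4 = 3 := by
    obtain ⟨k, hk⟩ := hodd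
    omega
  have hall : ∀ t : PSL2 F, orderOf t = 2 →
      Nat.card (Subgroup.centralizer ({t} : Set (PSL2 F))) =
        Nat.card (Subgroup.centralizer ({(t0 : PSL2 F)} : Set (PSL2 F))) := by
    intro t ht
    obtain ⟨h1, h3⟩ := card_cent_invol hodd t ht
    obtain ⟨h1', h3'⟩ := card_cent_invol hodd (t0 : PSL2 F) ht0G
    rcases hq with h | h
    · rw [h1 h, h1' h]
    · rw [h3 h, h3' h]
  refine ⟨Nat.card (Subgroup.centralizer ({(t0 : PSL2 F)} : Set (PSL2 F))), ?_, ?_, ?_, ?_⟩
  · obtain ⟨h1', h3'⟩ := card_cent_invol hodd (t0 : PSL2 F) ht0G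
    rcases hq with h | h
    · exact Or.inl ⟨h, h1' h⟩
    · exact Or.inr ⟨h, h3' h⟩
  · exact Subgroup.card_dvd_of_le (hAO5 _ t0.2 ht0G)
  · obtain ⟨s, hs2, hcomm, -, hinter⟩ := cent_invol_inter hodd (t0 : PSL2 F) ht0G
    have hA : Subgroup.centralizer ({(t0 : PSL2 F)} : Set (PSL2 F)) ≤ H := hAO5 _ t0.2 ht0G
    have hsA : s ∈ Subgroup.centralizer ({(t0 : PSL2 F)} : Set (PSL2 F)) := by
      rw [Subgroup.mem_centralizer_iff]
      intro y hy
      rw [Set.mem_singleton_iff] at hy
      subst hy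
      exact hcomm.eq
    have hsH : s ∈ H := hA hsA
    have hB : Subgroup.centralizer ({s} : Set (PSL2 F)) ≤ H := hAO5 s hsH hs2
    have hmul := bp2ao6_card_mul_le _ _ H hA hB
    rw [hall s hs2] at hmul
    calc _ ≤ _ := hmul
      _ ≤ 4 * Nat.card H := Nat.mul_le_mul_right _ hinter
  · intro t ht
    have htG : orderOf (t : PSL2 F) = 2 := by rw [Subgroup.orderOf_coe]; exact ht
    rw [bp2ao6_card_centralizer H t (hAO5 _ t.2 htG)]
    exact hall _ htG

end AOdd

end Cfsg.Agent.Lib.Helper28.BP2
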