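import Mathlib
import Cfsg.Agent.Lib.Helper28.BP2.Defs
import Cfsg.Agent.Lib.Helper21.BP2AO6core
import Cfsg.Agent.Lib.Helper5.BP2AO5

set_option autoImplicit false

/-!
# BP2 row AO6 (`card_of_binS_even`), verbatim: `bp2ao6_core` on the landed AO5 (`cent_le_of_binS`).
-/

namespace Cfsg.Agent.Lib.Helper28.BP2

open Cfsg.Agent.Lib.helper14

universe u v w

section AOdd

variable {F : Type u} [Field F] [Fintype F]

/-- **AO6**. -/
theorem card_of_binS_even (hodd : Odd (Fintype.card F)) (H : Subgroup (PSL2 F)) (hBin : BinS H)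
    (h2 : 2 ∣ Nat.card H) :
    ∃ c : ℕ, ((Fintype.card F % 4 = 1 ∧ c = Fintype.card F - 1) ∨
        (Fintype.card F % 4 = 3 ∧ c = Fintype.card F + 1)) ∧
      c ∣ Nat.card H ∧ c * c ≤ 4 * Nat.card H ∧
      ∀ t : H, orderOf t = 2 → Nat.card (Subgroup.centralizer ({t} : Set H)) = c :=
  bp2ao6_core hodd H (cent_le_of_binS hodd H hBin) h2

end AOdd

end Cfsg.Agent.Lib.Helper28.BP2
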