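import Mathlib
import Cfsg.Agent.Lib.Helper21.BSQ.Defs

set_option autoImplicit false

namespace Cfsg.Agent.Lib.Helper21.BSQ

universe u

variable {G : Type u} [Group G]

theorem bsqa3_h21_comap_facts [Finite G] (N : Subgroup G) [N.Normal] (A' : Subgroup (G ⧸ N))
    (hA' : IsMulCommutative ↥A') :
    N ≤ A'.comap (QuotientGroup.mk' N) ∧
      Nat.card ↥(A'.comap (QuotientGroup.mk' N)) = Nat.card ↥N * Nat.card ↥A' ∧
      ∀ x ∈ A'.comap (QuotientGroup.mk' N), ∀ y ∈ A'.comap (QuotientGroup.mk' N),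
        x * y * x⁻¹ * y⁻¹ ∈ N := by
  refine ⟨?_, ?_, ?_⟩
  · intro x hx
    rw [Subgroup.mem_comap]
    have : QuotientGroup.mk' N x = 1 := (QuotientGroup.eq_one_iff x).2 hx
    rw [this]
    exact A'.one_mem
  · have h1 : (A'.comap (QuotientGroup.mk' N)).index = A'.index :=
      Subgroup.index_comap_of_surjective A' (QuotientGroup.mk'_surjective N)
    have h2 := (A'.comap (QuotientGroup.mk' N)).card_mul_index
    have h3 := A'.card_mul_index
    have h4 : Nat.card G = Nat.card (G ⧸ N) * Nat.card ↥N :=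
      Subgroup.card_eq_card_quotient_mul_card_subgroup N
    have hpos : 0 < A'.index := Nat.pos_of_ne_zero Subgroup.index_ne_zero_of_finite
    rw [h1] at h2
    have h5 : Nat.card ↥(A'.comap (QuotientGroup.mk' N)) * A'.index =
        (Nat.card ↥N * Nat.card ↥A') * A'.index := by
      rw [h2, h4, ← h3]
      ring
    exact Nat.eq_of_mul_eq_mul_right hpos h5
  · intro x hx y hy
    rw [Subgroup.mem_comap] at hx hy
    rw [← QuotientGroup.eq_one_iff]
    have hc : (⟨QuotientGroup.mk' N x, hx⟩ : ↥A') * ⟨QuotientGroup.mk' N y, hy⟩ =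
        ⟨QuotientGroup.mk' N y, hy⟩ * ⟨QuotientGroup.mk' N x, hx⟩ := hA'.is_comm.comm _ _
    have hc' : QuotientGroup.mk' N x * QuotientGroup.mk' N y =
        QuotientGroup.mk' N y * QuotientGroup.mk' N x := congrArg Subtype.val hc
    show QuotientGroup.mk' N (x * y * x⁻¹ * y⁻¹) = 1
    rw [map_mul, map_mul, map_mul, map_inv, map_inv, hc']
    group

end Cfsg.Agent.Lib.Helper21.BSQ
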