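import Mathlib
import Cfsg.Agent.Lib.Helper21.BSQ.Defs

set_option autoImplicit false

namespace Cfsg.Agent.Lib.Helper21.BSQ

universe u

variable {G : Type u} [Group G]

theorem bsqa4_h21_sz_in_subgroup [Finite G] (A S : Subgroup G) (hSA : S ≤ A)
    (hn : ∀ a ∈ A, ∀ s ∈ S, a * s * a⁻¹ ∈ S) {m : ℕ} (hcard : Nat.card ↥A = Nat.card ↥S * m)
    (hcop : (Nat.card ↥S).Coprime m) :
    ∃ H : Subgroup G, H ≤ A ∧ H ⊓ S = ⊥ ∧ Nat.card ↥H = m ∧
      ∀ a ∈ A, ∃ s ∈ S, ∃ h ∈ H, a = s * h := by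
  have hSn : (S.subgroupOf A).Normal := by
    constructor
    intro x hx a
    rw [Subgroup.mem_subgroupOf] at hx ⊢
    simpa using hn a.1 a.2 x.1 hx
  have hcS : Nat.card ↥(S.subgroupOf A) = Nat.card ↥S :=
    Nat.card_congr (Subgroup.subgroupOfEquivOfLe hSA).toEquiv
  have hSpos : 0 < Nat.card ↥S := Nat.card_pos
  have hidx : (S.subgroupOf A).index = m := by
    have h1 := (S.subgroupOf A).card_mul_index
    rw [hcS, hcard] at h1
    exact Nat.eq_of_mul_eq_mul_left hSpos h1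
  have hc : (Nat.card ↥(S.subgroupOf A)).Coprime (S.subgroupOf A).index := by
    rw [hcS, hidx]
    exact hcop
  obtain ⟨K, hK⟩ := Subgroup.exists_right_complement'_of_coprime hc
  refine ⟨K.map A.subtype, Subgroup.map_subtype_le K, ?_, ?_, ?_⟩
  · rw [eq_bot_iff]
    rintro x ⟨⟨k, hk, rfl⟩, hxS⟩
    have hk' : k ∈ S.subgroupOf A := by
      rw [Subgroup.mem_subgroupOf]
      exact hxS
    have h1 : k ∈ S.subgroupOf A ⊓ K := ⟨hk', hk⟩
    rw [hK.disjoint.eq_bot, Subgroup.mem_bot] at h1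
    rw [Subgroup.mem_bot, h1]
    rfl
  · have h1 : Nat.card ↥(K.map A.subtype) = Nat.card ↥K :=
      Subgroup.card_map_of_injective A.subtype_injective
    have h2 := hK.card_mul_card
    rw [hcS, hcard] at h2
    rw [h1]
    exact Nat.eq_of_mul_eq_mul_left hSpos h2
  · intro a ha
    obtain ⟨⟨s, k⟩, hsk⟩ := hK.2 ⟨a, ha⟩
    refine ⟨(s.1 : G), ?_, (k.1 : G), ⟨k.1, k.2, rfl⟩, ?_⟩
    · have := s.2
      rw [SetLike.mem_coe, Subgroup.mem_subgroupOf] at this
      exact this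
    · have h3 := congrArg Subtype.val hsk
      simpa using h3.symm

end Cfsg.Agent.Lib.Helper21.BSQ
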