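import Mathlib
import Cfsg.Agent.Lib.Helper21.BSQ.Defs

set_option autoImplicit false

namespace Cfsg.Agent.Lib.Helper21.BSQ

open scoped Pointwise

universe u

variable {G : Type u} [Group G]

theorem bsqa6_h21_sylow_conj_in [Finite G] (p : ℕ) [Fact p.Prime] (C S T : Subgroup G)
    (hS : S ≤ C) (hT : T ≤ C) (hcS : Nat.card ↥S = p ^ (Nat.card G).factorization p)
    (hcT : Nat.card ↥T = p ^ (Nat.card G).factorization p) :
    ∃ c ∈ C, T = S.map (MulAut.conj c).toMonoidHom := by
  classical
  have hp : p.Prime := Fact.out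
  have hcS' : Nat.card ↥(S.subgroupOf C) = Nat.card ↥S :=
    Nat.card_congr (Subgroup.subgroupOfEquivOfLe hS).toEquiv
  have hcT' : Nat.card ↥(T.subgroupOf C) = Nat.card ↥T :=
    Nat.card_congr (Subgroup.subgroupOfEquivOfLe hT).toEquiv
  have hCv : (Nat.card ↥C).factorization p = (Nat.card G).factorization p := by
    apply le_antisymm
    · exact (Nat.factorization_le_iff_dvd Nat.card_pos.ne' Nat.card_pos.ne').2
        (Subgroup.card_subgroup_dvd_card C) p
    · have hd : p ^ (Nat.card G).factorization p ∣ Nat.card ↥C := by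
        rw [← hcS, ← hcS']
        exact Subgroup.card_subgroup_dvd_card _
      exact (hp.pow_dvd_iff_le_factorization Nat.card_pos.ne').1 hd
  let PS : Sylow p ↥C := Sylow.ofCard (S.subgroupOf C) (by rw [hcS', hcS, hCv])
  let PT : Sylow p ↥C := Sylow.ofCard (T.subgroupOf C) (by rw [hcT', hcT, hCv])
  obtain ⟨c, hc⟩ := MulAction.exists_smul_eq ↥C PS PT
  refine ⟨c.1, c.2, ?_⟩
  have hle : T ≤ S.map (MulAut.conj (c : G)).toMonoidHom := by
    intro t ht
    have h1 : (⟨t, hT ht⟩ : ↥C) ∈ (PT : Subgroup ↥C) := by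
      show _ ∈ T.subgroupOf C
      rw [Subgroup.mem_subgroupOf]
      exact ht
    rw [← hc, Sylow.coe_subgroup_smul, Subgroup.mem_smul_pointwise_iff_exists] at h1
    obtain ⟨s, hs, hst⟩ := h1
    have hs' : (s : G) ∈ S := by
      have : s ∈ S.subgroupOf C := hs
      rwa [Subgroup.mem_subgroupOf] at this
    refine ⟨(s : G), hs', ?_⟩
    have h2 := congrArg Subtype.val hst
    simpa [MulAut.smul_def] using h2
  have hcard : Nat.card ↥(S.map (MulAut.conj (c : G)).toMonoidHom) = Nat.card ↥S :=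
    Subgroup.card_map_of_injective (MulAut.conj (c : G)).injective
  exact Subgroup.eq_of_le_of_card_ge hle (by rw [hcard, hcS, hcT])

end Cfsg.Agent.Lib.Helper21.BSQ
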