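import Mathlib
import Cfsg.Agent.Lib.Helper21.BSQ.Defs

set_option autoImplicit false

namespace Cfsg.Agent.Lib.Helper21.BSQ

universe u

variable {G : Type u} [Group G]

theorem bsqa8_h21_prod_conj (A B S H S' H' : Subgroup G) (hS : S ≤ A) (hH : H ≤ A)
    (hA : ∀ a ∈ A, ∃ s ∈ S, ∃ h ∈ H, a = s * h) (hS' : S' ≤ B) (hH' : H' ≤ B)
    (hB : ∀ b ∈ B, ∃ s ∈ S', ∃ h ∈ H', b = s * h) (g : G)
    (hgS : S' = S.map (MulAut.conj g).toMonoidHom)
    (hgH : H' = H.map (MulAut.conj g).toMonoidHom) :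
    B = A.map (MulAut.conj g).toMonoidHom := by
  apply le_antisymm
  · intro b hb
    obtain ⟨s', hs', h', hh', rfl⟩ := hB b hb
    rw [hgS] at hs'
    rw [hgH] at hh'
    obtain ⟨s, hs, rfl⟩ := hs'
    obtain ⟨h, hh, rfl⟩ := hh'
    exact ⟨s * h, A.mul_mem (hS hs) (hH hh), map_mul _ s h⟩
  · rintro _ ⟨a, ha, rfl⟩
    obtain ⟨s, hs, h, hh, rfl⟩ := hA a ha
    have h1 : (MulAut.conj g).toMonoidHom s ∈ S' := by
      rw [hgS]
      exact ⟨s, hs, rfl⟩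
    have h2 : (MulAut.conj g).toMonoidHom h ∈ H' := by
      rw [hgH]
      exact ⟨h, hh, rfl⟩
    rw [map_mul]
    exact B.mul_mem (hS' h1) (hH' h2)

end Cfsg.Agent.Lib.Helper21.BSQ
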