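import Mathlib
import Cfsg.Prelude.Def_Solvable
import Cfsg.Agent.Lib.Helper21.BSQ.Defs
import Cfsg.Agent.S0586

set_option autoImplicit false

namespace Cfsg.Agent.Lib.Helper21.BSQ

universe u

variable {G : Type u} [Group G]

theorem bsqe4_h21_pPrimeCore_two_eq_bot [Finite G]
    (hmin : ∀ N : Subgroup G, N.Normal → N ≠ ⊥ →
      (∀ K : Subgroup G, K.Normal → K ≤ N → K = ⊥ ∨ K = N) → ¬ Odd (Nat.card ↥N)) :
    Cfsg.pPrimeCore 2 G = ⊥ := by
  unfold Cfsg.pPrimeCore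
  rw [sSup_eq_bot]
  rintro N ⟨hNn, hc⟩
  by_contra hN
  obtain ⟨K, hKn, hK, hKN, hKmin⟩ := Cfsg.Agent.S0586.exists_min_normal_le N hNn hN
  have hNodd : Odd (Nat.card ↥N) := Nat.coprime_two_right.mp hc
  have hKodd : Odd (Nat.card ↥K) := Odd.of_dvd_nat hNodd (Subgroup.card_dvd_of_le hKN)
  exact hmin K hKn hK hKmin hKodd

end Cfsg.Agent.Lib.Helper21.BSQ
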