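import Mathlib
import Cfsg.Agent.Lib.Helper21.BSQ.Defs
import Cfsg.Agent.S3910

set_option autoImplicit false

namespace Cfsg.Agent.Lib.Helper21.BSQ

universe u

variable {G : Type u} [Group G]

theorem cyclic_of_no_odd [Finite G] (hB : IsBStar G) (hodd : ∀ g : G, Odd (orderOf g) → g = 1) :
    IsCyclic G := by
  have h2 : Fact (Nat.Prime 2) := ⟨Nat.prime_two⟩
  have hpos : Nat.card G ≠ 0 := Nat.card_pos.ne'
  have hcard : Nat.card G = 2 ^ (Nat.card G).primeFactorsList.length := by
    apply Nat.eq_prime_pow_of_unique_prime_dvd hpos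
    intro d hd hdvd
    by_contra hne
    have : Fact d.Prime := ⟨hd⟩
    obtain ⟨g, hg⟩ := exists_prime_orderOf_dvd_card' d hdvd
    have hdo : Odd d := hd.odd_of_ne_two hne
    have h1 := hodd g (hg ▸ hdo)
    rw [h1, orderOf_one] at hg
    exact hd.one_lt.ne hg
  have hP : IsPGroup 2 G := IsPGroup.of_card hcard
  have hnil : Group.IsNilpotent G := hP.isNilpotent
  exact Cfsg.Agent.S3910.result hB hnil

end Cfsg.Agent.Lib.Helper21.BSQ
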