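import Mathlib
import Cfsg.Agent.Lib.Helper21.BSQ.Defs
import Cfsg.Agent.Lib.Helper1.Cores

set_option autoImplicit false

namespace Cfsg.Agent.Lib.Helper21.BSQ

universe u

variable {G : Type u} [Group G]

theorem bsqe7b_core [Finite G]
    (hE8 : ∀ (n : ℕ) [NeZero n] (x : QuaternionGroup n), x ^ 2 = 1 →
      x = 1 ∨ x = QuaternionGroup.a (n : ZMod (2 * n)))
    (hC : Subgroup.centralizer (Cfsg.pCore 2 G : Set G) ≤ Cfsg.pCore 2 G) (P : Sylow 2 G) (k : ℕ)
    (e : ↥(P : Subgroup G) ≃* QuaternionGroup (2 ^ k))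
    (hno : ∀ x ∈ Cfsg.pCore 2 G, orderOf x ≠ 4) : False := by
  have : Fact (Nat.Prime 2) := ⟨Nat.prime_two⟩
  have hQn : (Cfsg.pCore 2 G).Normal := Cfsg.Agent.Lib.Helper1.pCore_normal 2
  have hQP : Cfsg.pCore 2 G ≤ P := Cfsg.Agent.Lib.Helper1.pCore_le_sylow 2 P
  have hQ2 : IsPGroup 2 (Cfsg.pCore 2 G) := Cfsg.Agent.Lib.Helper1.pCore_isPGroup 2
  have hsq : ∀ x ∈ Cfsg.pCore 2 G, x ^ 2 = 1 := by
    intro x hx
    obtain ⟨j, hj⟩ := (IsPGroup.iff_orderOf.mp hQ2) ⟨x, hx⟩
    rw [Subgroup.orderOf_mk] at hj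
    by_cases hj2 : 2 ≤ j
    · exfalso
      have hy : orderOf (x ^ 2 ^ (j - 2)) = 4 := by
        rw [orderOf_pow_of_dvd (by positivity)
          (by rw [hj]; exact pow_dvd_pow 2 (Nat.sub_le j 2)), hj,
          Nat.pow_div (Nat.sub_le j 2) (by norm_num)]
        have h3 : j - (j - 2) = 2 := by omega
        rw [h3]
      exact hno _ (Subgroup.pow_mem _ hx _) hy
    · have hj1 : j ≤ 1 := by omega
      rw [← orderOf_dvd_iff_pow_eq_one, hj]
      exact (pow_dvd_pow 2 hj1).trans (by norm_num)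
  have : NeZero (2 ^ k) := ⟨by positivity⟩
  set z0 : G :=
    ((e.symm (QuaternionGroup.a ((2 ^ k : ℕ) : ZMod (2 * 2 ^ k))) : ↥(P : Subgroup G)) : G)
    with hz0
  have hall : ∀ x ∈ Cfsg.pCore 2 G, x = 1 ∨ x = z0 := by
    intro x hx
    have h1 : (e ⟨x, hQP hx⟩) ^ 2 = 1 := by
      rw [← map_pow]
      have h2 : (⟨x, hQP hx⟩ : ↥(P : Subgroup G)) ^ 2 = 1 := by
        ext
        simpa using hsq x hx
      rw [h2, map_one]
    rcases hE8 (2 ^ k) _ h1 with h | h
    · left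
      have h3 := e.injective (h.trans (map_one e).symm)
      exact congrArg Subtype.val h3
    · right
      rw [hz0, ← h, e.symm_apply_apply]
  have hcent : ∀ x ∈ Cfsg.pCore 2 G, ∀ g : G, g * x = x * g := by
    intro x hx g
    rcases hall x hx with rfl | hxz
    · simp
    · have hconj : g * x * g⁻¹ ∈ Cfsg.pCore 2 G := hQn.conj_mem x hx g
      rcases hall _ hconj with h1 | h1
      · have h2 : x = 1 := by
          have h3 := congrArg (fun y => g⁻¹ * y * g) h1
          simpa [mul_assoc] using h3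
        rw [h2]
        simp
      · rw [← hxz] at h1
        calc g * x = g * x * g⁻¹ * g := by group
          _ = x * g := by rw [h1]
  have htop : (⊤ : Subgroup G) ≤ Cfsg.pCore 2 G := by
    refine le_trans ?_ hC
    intro g _
    rw [Subgroup.mem_centralizer_iff]
    intro x hx
    exact (hcent x hx g).symm
  set u : ↥(P : Subgroup G) := e.symm (QuaternionGroup.xa 0) with hu
  have hu4 : orderOf (u : G) = 4 := by
    rw [Subgroup.orderOf_coe, hu, MulEquiv.orderOf_eq, QuaternionGroup.orderOf_xa]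
  exact hno _ (htop (Subgroup.mem_top _)) hu4

end Cfsg.Agent.Lib.Helper21.BSQ
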