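import Mathlib
import Cfsg.Agent.Lib.Helper21.BSQ.Defs
import Cfsg.Agent.Lib.Helper21.BSQE7bcore
import Cfsg.Agent.Lib.Helper10.BSQE8

set_option autoImplicit false

namespace Cfsg.Agent.Lib.Helper21.BSQ

universe u

variable {G : Type u} [Group G]

theorem fitting_case_two [Finite G]
    (hC : Subgroup.centralizer (Cfsg.pCore 2 G : Set G) ≤ Cfsg.pCore 2 G) (P : Sylow 2 G) (k : ℕ)
    (hk : 2 ≤ k) (e : ↥(P : Subgroup G) ≃* QuaternionGroup (2 ^ k))
    (hno : ∀ x ∈ Cfsg.pCore 2 G, orderOf x ≠ 4) : False :=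
  bsqe7b_core (fun n _ x hx => quat_involution n x hx) hC P k e hno

end Cfsg.Agent.Lib.Helper21.BSQ
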