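import Mathlib
import Cfsg.Agent.Lib.Helper21.BSQ.Defs
import Cfsg.Agent.S3909
import Cfsg.Agent.S0586
import Cfsg.Agent.Lib.Helper1.MinNormal
import Cfsg.Agent.Lib.Helper1.CFitting
import Cfsg.Agent.Lib.Helper20.BSQA1
import Cfsg.Agent.Lib.Helper20.BSQA2
import Cfsg.Agent.Lib.Helper22.BSQA3
import Cfsg.Agent.Lib.Helper22.BSQA4
import Cfsg.Agent.Lib.Helper11.BSQA6
import Cfsg.Agent.Lib.Helper11.BSQA7
import Cfsg.Agent.Lib.Helper21.BSQA8h21
import Cfsg.Agent.Lib.Helper21.BSQSpares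
import Cfsg.Agent.Lib.Helper13.BSQB1
import Cfsg.Agent.Lib.Helper13.BSQB2
import Cfsg.Agent.Lib.helper8.BSQB3
import Cfsg.Agent.Lib.helper23.BSQB4
import Cfsg.Agent.Lib.helper23.BSQB6
import Cfsg.Agent.Lib.Helper27.BSQB7core
import Cfsg.Agent.Lib.Helper27.BSQB8core
import Cfsg.Agent.Lib.helper14.BSQK2core
import Cfsg.Agent.Lib.Helper28.BSQS4
import Cfsg.Agent.Lib.helper15.BSQS5
import Cfsg.Agent.Lib.Helper29.BSQE1
import Cfsg.Agent.Lib.Helper25.BSQE2p
import Cfsg.Agent.Lib.Helper10.BSQE3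
import Cfsg.Agent.Lib.Helper16.BSQE4
import Cfsg.Agent.Lib.Helper10.BSQE5
import Cfsg.Agent.Lib.Helper26.BSQE7acore
import Cfsg.Agent.Lib.Helper21.BSQE7b

set_option autoImplicit false

namespace Cfsg.Agent.Lib.Helper21.BSQ

universe u

variable {G : Type u} [Group G]

theorem bsqm_k2 [Finite G] (hB : IsBStar G) (N : Subgroup G) [N.Normal]
    (A' B' : Subgroup (G ⧸ N)) (hA' : IsMulCommutative ↥A') (hB' : IsMulCommutative ↥B')
    (hc : Nat.card ↥A' = Nat.card ↥B') (hcop : (Nat.card ↥N).Coprime (Nat.card ↥A')) :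
    ∃ g : G ⧸ N, B' = A'.map (MulAut.conj g).toMonoidHom :=
  bsqk2_core hB N (fun A' B' g h => descent N A' B' g h) (fun A' hA' => comap_facts N A' hA')
    (fun A S hSA hn _ hcard hcop => sz_in_subgroup A S hSA hn hcard hcop)
    (fun A B S H S' H' hS hH hA hS' hH' hB g hgS hgH =>
      bsqa8_h21_prod_conj A B S H S' H' hS hH hA hS' hH' hB g hgS hgH)
    (fun N H A hHA hA hHN => bsqk1_h21_abelian_of_inf_bot N H A hHA hA hHN)
    A' B' hA' hB' hc hcop

theorem bsqm_b7 [Finite G] (p : ℕ) [Fact p.Prime] (A B S H S' H' : Subgroup G)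
    (hS : S ≤ A) (hH : H ≤ A) (hA : ∀ a ∈ A, ∃ s ∈ S, ∃ h ∈ H, a = s * h) (hS' : S' ≤ B)
    (hH' : H' ≤ B) (hB : ∀ b ∈ B, ∃ s ∈ S', ∃ h ∈ H', b = s * h)
    (hSH : ∀ h ∈ H, ∀ s ∈ S, h * s = s * h) (hSH' : ∀ h ∈ H', ∀ s ∈ S', h * s = s * h)
    (hcS : Nat.card ↥S = p ^ (Nat.card G).factorization p)
    (hcS' : Nat.card ↥S' = p ^ (Nat.card G).factorization p) (g : G)
    (hg : H' = H.map (MulAut.conj g).toMonoidHom) :
    ∃ g' : G, B = A.map (MulAut.conj g').toMonoidHom :=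
  bsqb7_core p (fun C S T hS hT hcS hcT => sylow_conj_in p C S T hS hT hcS hcT)
    (fun A B S H S' H' hS hH hA hS' hH' hB g hgS hgH =>
      bsqa8_h21_prod_conj A B S H S' H' hS hH hA hS' hH' hB g hgS hgH)
    A B S H S' H' hS hH hA hS' hH' hB hSH hSH' hcS hcS' g hg

theorem bsqm_b8 [Finite G] (hB : IsBStar G) (p : ℕ) [Fact p.Prime] (N : Subgroup G)
    [N.Normal] (hN : Nat.card ↥N = p)
    (hst : ∀ S : Subgroup G, IsPGroup p ↥S → N ≤ S → N ≠ S →
      (∀ x ∈ S, ∀ y ∈ S, x * y * x⁻¹ * y⁻¹ ∈ N) →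
      IsCyclic ↥S ∨ (p = 2 ∧ Nat.card ↥S = 2 ^ (Nat.card G).factorization 2))
    (A' B' : Subgroup (G ⧸ N)) (hA' : IsMulCommutative ↥A') (hB' : IsMulCommutative ↥B')
    (hc : Nat.card ↥A' = Nat.card ↥B') (hdvd : p ∣ Nat.card ↥A') :
    ∃ g : G ⧸ N, B' = A'.map (MulAut.conj g).toMonoidHom :=
  bsqb8_core hB p N hN (fun A' B' g h => descent N A' B' g h)
    (fun A' hA' => comap_facts N A' hA')
    (fun h hm hm' => arith_split (Fact.out : p.Prime) h hm hm')
    (fun A hNA hA => decomp p N hN A hNA hA)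
    (fun S h hfin hh hc hhN => cent_of_coprime p N S (IsPGroup.of_card (n := 1) (by rw [hN, pow_one])) h hfin hh hc hhN)
    (fun S hNS hne hS hSp h hc => cent_N_of_cyclic p N S hN hNS hne hS hSp h hc)
    (fun h2 => central_of_card_two N h2)
    (fun S H A hA hSc hHc hSH => prod_abelian S H A hA hSc hHc hSH)
    (fun A B S H S' H' hS hH hA hS' hH' hB hSH hSH' hcS hcS' g hg =>
      bsqm_b7 p A B S H S' H' hS hH hA hS' hH' hB hSH hSH' hcS hcS' g hg)
    hst A' B' hA' hB' hc hdvd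

theorem bsqm_e7a [Finite G] (hB : IsBStar G)
    (hC : Subgroup.centralizer (Cfsg.pCore 2 G : Set G) ≤ Cfsg.pCore 2 G) (P : Sylow 2 G) (k : ℕ)
    (hk : 2 ≤ k) (e : ↥(P : Subgroup G) ≃* QuaternionGroup (2 ^ k)) (x : G)
    (hxQ : x ∈ Cfsg.pCore 2 G) (hx : orderOf x = 4) : False :=
  bsqe7a_core hB (quat_gen_four k)
    (fun P _ e g hg => odd_centralizes_quat k hk P e g hg)
    (fun Q _ x hxQ hx => order_four_mem hB Q x hxQ hx) hC P hk e x hxQ hx

theorem bsqq1_card_quot_lt [Finite G] (N : Subgroup G) [N.Normal] (hN : N ≠ ⊥) :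
    Nat.card (G ⧸ N) < Nat.card G := by
  rw [← Subgroup.index_eq_card]
  have h1 := N.card_mul_index
  have h2 : 1 < Nat.card ↥N := (Subgroup.one_lt_card_iff_ne_bot N).2 hN
  have h3 : 0 < N.index := Nat.pos_of_ne_zero Subgroup.index_ne_zero_of_finite
  nlinarith

theorem quot_minimal [Finite G] (hsol : Group.IsSolvable G) (hB : IsBStar G) (N : Subgroup G)
    [N.Normal] (hN : N ≠ ⊥) (hmin : ∀ K : Subgroup G, K.Normal → K ≤ N → K = ⊥ ∨ K = N)
    (hex : Even (Nat.card ↥N) → ∀ (P : Sylow 2 G) (k : ℕ), 2 ≤ k →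
      Nonempty (↥(P : Subgroup G) ≃* QuaternionGroup (2 ^ k)) → False) :
    IsBStar (G ⧸ N) := by
  classical
  have := hsol
  obtain ⟨hNc, p, hp, hexp⟩ := Cfsg.Agent.Lib.Helper1.minimal_normal_of_solvable N hN hmin
  have : Fact p.Prime := ⟨hp⟩
  have hNp : IsPGroup p ↥N := by
    intro x
    refine ⟨1, ?_⟩
    rw [pow_one]
    ext
    simpa using hexp x.1 x.2
  obtain ⟨t, ht⟩ := IsPGroup.iff_card.mp hNp
  have ht0 : t ≠ 0 := by
    rintro rfl
    rw [pow_zero] at ht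
    exact hN (Subgroup.card_eq_one.mp ht)
  intro A' B' hA' hB' hc
  by_cases hcop : (Nat.card ↥N).Coprime (Nat.card ↥A')
  · exact bsqm_k2 hB N A' B' hA' hB' hc hcop
  · have hdvd : p ∣ Nat.card ↥A' := by
      rw [ht] at hcop
      by_contra hnd
      exact hcop (Nat.Coprime.pow_left t ((Nat.Prime.coprime_iff_not_dvd hp).2 hnd))
    have ht1 : t = 1 := by
      by_contra hne
      have ht2 : 2 ≤ t := by omega
      have hEA : Cfsg.IsElementaryAbelian p N := ⟨hNc, hexp⟩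
      have hsyl := (Cfsg.Agent.S3909.result hB N).2 p t ht2 ht hEA
      obtain ⟨P⟩ : Nonempty (Sylow p G) := inferInstance
      have hPN := hsyl P
      have h1 : (Nat.card ↥(P : Subgroup G)).Coprime (P : Subgroup G).index :=
        P.card_coprime_index
      rw [hPN] at h1
      have h2 : Nat.card ↥A' ∣ N.index := by
        rw [Subgroup.index_eq_card]
        exact Subgroup.card_subgroup_dvd_card A'
      exact hcop (Nat.Coprime.coprime_dvd_right h2 h1)
    subst ht1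
    rw [pow_one] at ht
    refine bsqm_b8 hB p N ht ?_ A' B' hA' hB' hc hdvd
    intro S hSp hNS _ hcS
    rcases struct hB p N ht S hSp hNS hcS with h | ⟨hp2, hq⟩
    · exact Or.inl h
    · right
      refine ⟨hp2, ?_⟩
      subst hp2
      have hev : Even (Nat.card ↥N) := by rw [ht]; exact even_two
      exact sylow_of_quat hB N ht (hex hev) S hq

theorem no_big_quat : ∀ (n : ℕ) (G : Type u) [Group G] [Finite G], Nat.card G = n →
    Group.IsSolvable G → IsBStar G → ∀ (P : Sylow 2 G) (k : ℕ), 2 ≤ k →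
    Nonempty (↥(P : Subgroup G) ≃* QuaternionGroup (2 ^ k)) → False := by
  intro n
  induction n using Nat.strong_induction_on with
  | _ n ih =>
    intro G _ _ hn hsol hB P k hk he
    obtain ⟨e⟩ := he
    have := hsol
    by_cases hodd : ∃ N : Subgroup G, N.Normal ∧ N ≠ ⊥ ∧
        (∀ K : Subgroup G, K.Normal → K ≤ N → K = ⊥ ∨ K = N) ∧ Odd (Nat.card ↥N)
    · obtain ⟨N, hNn, hN, hmin, hNodd⟩ := hodd
      have := hNn
      have hQ : IsBStar (G ⧸ N) :=
        quot_minimal hsol hB N hN hmin (fun hev => absurd hNodd (Nat.not_odd_iff_even.2 hev))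
      obtain ⟨P', he'⟩ := sylow_quot_iso N hNodd P
      obtain ⟨e'⟩ := he'
      have hlt : Nat.card (G ⧸ N) < n := by
        rw [← hn]
        exact bsqq1_card_quot_lt N hN
      exact ih _ hlt (G ⧸ N) rfl inferInstance hQ P' k hk ⟨e'.symm.trans e⟩
    · have h0 : Cfsg.pPrimeCore 2 G = ⊥ := by
        apply pPrimeCore_two_eq_bot
        intro N hNn hN hmin hNodd
        exact hodd ⟨N, hNn, hN, hmin, hNodd⟩
      have : Fact (Nat.Prime 2) := ⟨Nat.prime_two⟩
      have hC := Cfsg.Agent.Lib.Helper1.centralizer_pCore_le (G := G) 2 h0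
      by_cases h4 : ∃ x ∈ Cfsg.pCore 2 G, orderOf x = 4
      · obtain ⟨x, hxQ, hx⟩ := h4
        exact bsqm_e7a hB hC P k hk e x hxQ hx
      · push Not at h4
        exact fitting_case_two hC P k hk e h4

theorem main_aux : ∀ (n : ℕ) (G : Type u) [Group G] [Finite G], Nat.card G = n →
    Group.IsSolvable G → IsBStar G → ∀ (M : Subgroup G) [M.Normal], IsBStar (G ⧸ M) := by
  intro n
  induction n using Nat.strong_induction_on with
  | _ n ih =>
    intro G _ _ hn hsol hB M hM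
    have := hsol
    by_cases hbot : M = ⊥
    · subst hbot
      exact isBStar_of_mulEquiv (QuotientGroup.quotientBot (G := G)).symm hB
    · obtain ⟨N, hNn, hN, hNM, hmin⟩ := Cfsg.Agent.S0586.exists_min_normal_le M hM hbot
      have := hNn
      have hQ : IsBStar (G ⧸ N) :=
        quot_minimal hsol hB N hN hmin (fun _ => no_big_quat _ G rfl hsol hB)
      have hlt : Nat.card (G ⧸ N) < n := by
        rw [← hn]
        exact bsqq1_card_quot_lt N hN
      have h2 := ih _ hlt (G ⧸ N) rfl inferInstance hQ (M.map (QuotientGroup.mk' N))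
      exact isBStar_of_mulEquiv (QuotientGroup.quotientQuotientEquivQuotient N M hNM) h2

end Cfsg.Agent.Lib.Helper21.BSQ
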