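import Mathlib
import Cfsg.Agent.Lib.Helper21.BSQ.Defs

set_option autoImplicit false

namespace Cfsg.Agent.Lib.Helper21.BSQ

universe u

variable {G : Type u} [Group G]

theorem bsqk1_h21_abelian_of_inf_bot (N H A : Subgroup G) (hHA : H ≤ A)
    (hA : ∀ x ∈ A, ∀ y ∈ A, x * y * x⁻¹ * y⁻¹ ∈ N) (hHN : H ⊓ N = ⊥) : IsMulCommutative ↥H := by
  refine ⟨⟨?_⟩⟩
  rintro ⟨x, hx⟩ ⟨y, hy⟩
  have h1 : x * y * x⁻¹ * y⁻¹ ∈ H ⊓ N :=
    ⟨H.mul_mem (H.mul_mem (H.mul_mem hx hy) (H.inv_mem hx)) (H.inv_mem hy),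
      hA x (hHA hx) y (hHA hy)⟩
  rw [hHN, Subgroup.mem_bot] at h1
  ext
  show x * y = y * x
  have h2 : x * y = (x * y * x⁻¹ * y⁻¹) * (y * x) := by group
  rw [h2, h1, one_mul]

theorem bsqa7_h21_arith_split {p : ℕ} (hp : p.Prime) {a b m m' : ℕ}
    (h : p ^ a * m = p ^ b * m') (hm : ¬ p ∣ m) (hm' : ¬ p ∣ m') : a = b ∧ m = m' := by
  have hcm : Nat.Coprime (p ^ a) m' := Nat.Coprime.pow_left a ((Nat.Prime.coprime_iff_not_dvd hp).2 hm')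
  have hcm2 : Nat.Coprime (p ^ b) m := Nat.Coprime.pow_left b ((Nat.Prime.coprime_iff_not_dvd hp).2 hm)
  have h1 : p ^ a ∣ p ^ b := by
    have : p ^ a ∣ p ^ b * m' := ⟨m, h.symm⟩
    exact hcm.dvd_of_dvd_mul_right this
  have h2 : p ^ b ∣ p ^ a := by
    have : p ^ b ∣ p ^ a * m := ⟨m', h⟩
    exact hcm2.dvd_of_dvd_mul_right this
  have h3 : p ^ a = p ^ b := Nat.dvd_antisymm h1 h2
  have hab : a = b := Nat.pow_right_injective hp.two_le h3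
  refine ⟨hab, ?_⟩
  rw [h3] at h
  exact Nat.eq_of_mul_eq_mul_left (pow_pos hp.pos b) h

end Cfsg.Agent.Lib.Helper21.BSQ
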