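import Mathlib
import Cfsg.Prelude.Def_ChevStructure
import Cfsg.Agent.Lib.helper8.BTT.Defs

/-!
# Project BTT (helper8, S2154), row GEN9 (`filP_pow_eq_one`), VERBATIM.
-/

set_option autoImplicit false

namespace Cfsg.Agent.Lib.helper8.BTT

open Cfsg.Lie Cfsg.Lie.ChevalleyDatum

universe u

section gen
variable {ι : Type*} [Fintype ι] [DecidableEq ι] {F : Type*} [Field F]

/-- the rank of an index: the number of indices of strictly smaller level -/
noncomputable def bttgen9_rk (ℓ : ι → ℝ) (i : ι) : ℕ :=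
  haveI : DecidablePred (fun k : ι => ℓ k < ℓ i) := Classical.decPred _
  (Finset.univ.filter (fun k => ℓ k < ℓ i)).card

theorem bttgen9_rk_lt (ℓ : ι → ℝ) {i j : ι} (h : ℓ j < ℓ i) : bttgen9_rk ℓ j < bttgen9_rk ℓ i := by
  classical
  unfold bttgen9_rk
  apply Finset.card_lt_card
  rw [Finset.ssubset_iff_of_subset]
  · refine ⟨j, ?_, ?_⟩
    · simp only [Finset.mem_filter, Finset.mem_univ, true_and]; convert h
    · simp only [Finset.mem_filter, Finset.mem_univ, true_and]; convert lt_irrefl (ℓ j)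
  · intro k hk
    simp only [Finset.mem_filter, Finset.mem_univ, true_and] at hk ⊢
    convert lt_trans (by convert hk) h

theorem bttgen9_rk_lt_card (ℓ : ι → ℝ) (i : ι) : bttgen9_rk ℓ i < Fintype.card ι := by
  classical
  unfold bttgen9_rk
  rw [← Finset.card_univ]
  apply Finset.card_lt_card
  rw [Finset.ssubset_iff_of_subset (Finset.subset_univ _)]
  refine ⟨i, Finset.mem_univ _, ?_⟩
  simp only [Finset.mem_filter, Finset.mem_univ, true_and]
  convert lt_irrefl (ℓ i)

/-- powers of a strictly level-raising matrix raise the rank -/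
theorem bttgen9_pow (ℓ : ι → ℝ) (N : Matrix ι ι F) (hN : ∀ i j, N i j ≠ 0 → ℓ j < ℓ i) :
    ∀ (n : ℕ) (i j : ι), (N ^ n) i j ≠ 0 → bttgen9_rk ℓ j + n ≤ bttgen9_rk ℓ i := by
  intro n
  induction n with
  | zero =>
    intro i j h
    rw [pow_zero, Matrix.one_apply] at h
    by_cases hij : i = j
    · subst hij; simp
    · rw [if_neg hij] at h; exact absurd rfl h
  | succ n ih =>
    intro i j h
    rw [pow_succ, Matrix.mul_apply] at h
    obtain ⟨k, -, hk⟩ := Finset.exists_ne_zero_of_sum_ne_zero h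
    have h1 : (N ^ n) i k ≠ 0 := left_ne_zero_of_mul hk
    have h2 : N k j ≠ 0 := right_ne_zero_of_mul hk
    have := ih i k h1
    have := bttgen9_rk_lt ℓ (hN k j h2)
    omega

theorem bttgen9_nilp (ℓ : ι → ℝ) (N : Matrix ι ι F) (hN : ∀ i j, N i j ≠ 0 → ℓ j < ℓ i) :
    N ^ Fintype.card ι = 0 := by
  ext i j
  by_contra h
  have h1 := bttgen9_pow ℓ N hN (Fintype.card ι) i j h
  have h2 := bttgen9_rk_lt_card ℓ i
  omega

/-- GEN9 [M]: the elements of `FilP ℓ` are unipotent: with `ρ i = #{k | ℓ k < ℓ i}`,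
`((g - 1) ^ n) i j ≠ 0 → ρ j + n ≤ ρ i`, so `(g - 1) ^ card ι = 0`; in characteristic `p`
`g ^ (p ^ k) - 1 = (g - 1) ^ (p ^ k)` (`sub_pow_char_pow` for commuting elements). -/
theorem filP_pow_eq_one (p : ℕ) [Fact p.Prime] [CharP F p] (ℓ : ι → ℝ) (g : GL ι F)
    (h : FilP ℓ (g : Matrix ι ι F)) : ∃ k : ℕ, g ^ (p ^ k) = 1 := by
  rcases isEmpty_or_nonempty ι with he | hne
  · exact ⟨0, by
      apply Units.ext
      ext i j
      exact (he.false i).elim⟩
  · refine ⟨Fintype.card ι, ?_⟩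
    have hnil := bttgen9_nilp ℓ ((g : Matrix ι ι F) - 1) h
    have hp2 : 2 ≤ p := (Fact.out : p.Prime).two_le
    have hlt : Fintype.card ι < p ^ Fintype.card ι := Nat.lt_pow_self hp2
    have hz : ((g : Matrix ι ι F) - 1) ^ (p ^ Fintype.card ι) = 0 := by
      have : p ^ Fintype.card ι = Fintype.card ι + (p ^ Fintype.card ι - Fintype.card ι) := by omega
      rw [this, pow_add, hnil, zero_mul]
    haveI : CharP (Matrix ι ι F) p := Matrix.charP p
    rw [sub_pow_char_pow_of_commute p (Fintype.card ι) (Commute.one_right _), one_pow, sub_eq_zero] at hz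
    apply Units.ext
    rw [Units.val_pow_eq_pow_val, hz, Units.val_one]

end gen

end Cfsg.Agent.Lib.helper8.BTT
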