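import Mathlib
import Cfsg.Agent.Lib.helper3.C6U.Defs
import Cfsg.Agent.Lib.helper3.S5953.Defs
import Cfsg.Agent.Lib.Helper20.S5953T1

set_option autoImplicit false
set_option linter.unusedVariables false
set_option linter.unusedSectionVars false

/-!
# Project C6U (designer helper3), row E3 (second copy by helper21), part a: the abstract eigenvector analysis
of an isometry `T` of order 3 of the standard hermitian space `F^4` when the cube roots of unity `l, m` lie in the prime field.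
-/

namespace Cfsg.Agent.Lib.helper3.C6U

open Matrix Module

variable {F : Type*} [Field F]

section fin

variable {p : ℕ} [Fact p.Prime] [CharP F p]

local notation "hh" => Cfsg.hermForm 4 F p

/-- the abstract context -/
structure c6ue3h21_Ctx (p : ℕ) (T : (Fin 4 → F) →ₗ[F] (Fin 4 → F)) (l m : F) : Prop where
  cube : ∀ x, T (T (T x)) = x
  pres : ∀ x y, Cfsg.hermForm 4 F p (T x) (T y) = Cfsg.hermForm 4 F p x y
  conj : ∀ x y, Cfsg.hermForm 4 F p y x = (Cfsg.hermForm 4 F p x y) ^ p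
  frob2 : ∀ a : F, (a ^ p) ^ p = a
  three : (3 : F) ≠ 0
  lm : l * m = 1
  ll : l * l = m
  mm : m * m = l
  sum : 1 + l + m = 0
  lp : l ^ p = l
  mp : m ^ p = m

theorem c6ue3h21_add_left (x x' y : Fin 4 → F) : hh (x + x') y = hh x y + hh x' y :=
  Cfsg.Agent.Lib.helper3.S5953.hermI_add_left p x x' y

theorem c6ue3h21_smul_left (c : F) (x y : Fin 4 → F) : hh (c • x) y = c * hh x y :=
  Cfsg.Agent.Lib.helper3.S5953.hermI_smul_left p c x y

theorem c6ue3h21_smul_right (c : F) (x y : Fin 4 → F) : hh x (c • y) = c ^ p * hh x y :=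
  Cfsg.Agent.Lib.helper3.S5953.hermI_smul_right p c x y

theorem c6ue3h21_add_right (x y y' : Fin 4 → F) : hh x (y + y') = hh x y + hh x y' := by
  unfold Cfsg.hermForm
  simp only [Pi.add_apply, add_pow_char, mul_add, Finset.sum_add_distrib]

theorem c6ue3h21_nd (x : Fin 4 → F) (hx : x ≠ 0) : ∃ y, hh x y ≠ 0 := by
  by_contra hcon
  simp only [not_exists, not_not] at hcon
  exact hx (Cfsg.Agent.Lib.helper3.S5953.hermI_nd (Fact.out : p.Prime).ne_zero x hcon)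

variable {T : (Fin 4 → F) →ₗ[F] (Fin 4 → F)} {l m : F}

theorem c6ue3h21_Ctx.symm (h : c6ue3h21_Ctx p T l m) : c6ue3h21_Ctx p T m l where
  cube := h.cube
  pres := h.pres
  conj := h.conj
  frob2 := h.frob2
  three := h.three
  lm := by rw [mul_comm]; exact h.lm
  ll := h.mm
  mm := h.ll
  sum := by rw [← h.sum]; ring
  lp := h.mp
  mp := h.lp

theorem c6ue3h21_Ctx.l_ne (h : c6ue3h21_Ctx p T l m) : l ≠ 1 := by
  intro hl
  have hm : m = 1 := by rw [← h.ll, hl, mul_one]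
  apply h.three
  have := h.sum
  rw [hl, hm] at this
  rw [← this]; norm_num

theorem c6ue3h21_Ctx.m_ne (h : c6ue3h21_Ctx p T l m) : m ≠ 1 := h.symm.l_ne

/-- eigenvectors are orthogonal unless the eigenvalues multiply to one -/
theorem c6ue3h21_orth (hpres : ∀ x y, hh (T x) (T y) = hh x y) {a b : F} (hb : b ^ p = b) (hab : a * b ≠ 1)
    {x y : Fin 4 → F} (hx : T x = a • x) (hy : T y = b • y) : hh x y = 0 := by
  have h := hpres x y
  rw [hx, hy, c6ue3h21_smul_left, c6ue3h21_smul_right, hb] at h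
  have h2 : (a * b - 1) * hh x y = 0 := by linear_combination h
  rcases mul_eq_zero.mp h2 with h1 | h1
  · exact absurd (sub_eq_zero.mp h1) hab
  · exact h1

/-- the eigen-decomposition -/
theorem c6ue3h21_decomp (h : c6ue3h21_Ctx p T l m) (y : Fin 4 → F) :
    ∃ y1 y2 y3 : Fin 4 → F, y = y1 + y2 + y3 ∧ T y1 = (1 : F) • y1 ∧ T y2 = l • y2 ∧ T y3 = m • y3 := by
  have h3 := h.three
  have hlm := h.lm
  have hll := h.ll
  have hmm := h.mm
  have hsum := h.sum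
  have h33 : (3 : F)⁻¹ * 3 = 1 := inv_mul_cancel₀ h3
  refine ⟨(3 : F)⁻¹ • (y + T y + T (T y)), (3 : F)⁻¹ • (y + m • T y + l • T (T y)),
    (3 : F)⁻¹ • (y + l • T y + m • T (T y)), ?_, ?_, ?_, ?_⟩
  · linear_combination (norm := module) (-1 : F) • (h33 • y) + (-1 : F) • (hsum • ((3 : F)⁻¹ • T y))
      + (-1 : F) • (hsum • ((3 : F)⁻¹ • T (T y)))
  · simp only [map_smul, map_add, h.cube]
    module
  · simp only [map_smul, map_add, h.cube]
    linear_combination (norm := module) (-1 : F) • (hlm • ((3 : F)⁻¹ • T y)) - hll • ((3 : F)⁻¹ • T (T y))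
  · simp only [map_smul, map_add, h.cube]
    linear_combination (norm := module) (-1 : F) • (hlm • ((3 : F)⁻¹ • T y)) - hmm • ((3 : F)⁻¹ • T (T y))

/-- scaling a vector that pairs non-trivially to a partner -/
theorem c6ue3h21_scale (h : c6ue3h21_Ctx p T l m) (e y3 : Fin 4 → F) (hy3 : T y3 = m • y3) (hne : hh e y3 ≠ 0) :
    ∃ f : Fin 4 → F, T f = m • f ∧ hh e f = 1 ∧ ∀ c, hh y3 c = 0 → hh f c = 0 := by
  refine ⟨(((hh e y3)⁻¹) ^ p) • y3, ?_, ?_, ?_⟩
  · rw [map_smul, hy3, smul_comm]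
  · rw [c6ue3h21_smul_right, h.frob2, inv_mul_cancel₀ hne]
  · intro c hc
    rw [c6ue3h21_smul_left, hc, mul_zero]

/-- the partner of an eigenvector, with constraints: `c1 ∈ E_l`, `c2 ∈ E_m` a hyperbolic pair, `e ∈ E_l` orthogonal to `c2` -/
theorem c6ue3h21_partnerW (h : c6ue3h21_Ctx p T l m) (c1 c2 : Fin 4 → F) (hc1 : T c1 = l • c1) (hc2 : T c2 = m • c2)
    (hc12 : hh c1 c2 = 1) (e : Fin 4 → F) (he : T e = l • e) (hne : e ≠ 0) (hec2 : hh e c2 = 0) :
    ∃ f : Fin 4 → F, T f = m • f ∧ hh e f = 1 ∧ hh f c1 = 0 := by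
  have hl1 := h.l_ne
  have hm1 := h.m_ne
  have hll1 : l * l ≠ 1 := by rw [h.ll]; exact hm1
  have hmm1 : m * m ≠ 1 := by rw [h.mm]; exact hl1
  have hl11 : l * 1 ≠ 1 := by rw [mul_one]; exact hl1
  have h1l : 1 * l ≠ 1 := by rw [one_mul]; exact hl1
  have h1p : (1 : F) ^ p = 1 := one_pow p
  obtain ⟨y, hy⟩ := c6ue3h21_nd (p := p) e hne
  have hc11 : hh c1 c1 = 0 := c6ue3h21_orth h.pres h.lp hll1 hc1 hc1
  have hc21 : hh c2 c1 = 1 := by rw [h.conj c1 c2, hc12, one_pow]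
  have hec1 : hh e c1 = 0 := c6ue3h21_orth h.pres h.lp hll1 he hc1
  -- the projection of `y` to the orthogonal of `c1, c2`
  set y' : Fin 4 → F := y + (-(hh y c2)) • c1 + (-(hh y c1)) • c2 with hy'
  have hy'c1 : hh y' c1 = 0 := by
    rw [hy', c6ue3h21_add_left, c6ue3h21_add_left, c6ue3h21_smul_left, c6ue3h21_smul_left, hc11, hc21]
    ring
  have hey' : hh e y' = hh e y := by
    rw [hy', c6ue3h21_add_right, c6ue3h21_add_right, c6ue3h21_smul_right, c6ue3h21_smul_right, hec1, hec2]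
    ring
  obtain ⟨y1, y2, y3, hdec, hy1, hy2, hy3⟩ := c6ue3h21_decomp h y'
  have hey3 : hh e y3 = hh e y' := by
    rw [hdec, c6ue3h21_add_right, c6ue3h21_add_right,
      c6ue3h21_orth h.pres h1p hl11 he hy1, c6ue3h21_orth h.pres h.lp hll1 he hy2]
    ring
  have hy3c1 : hh y3 c1 = 0 := by
    have h0 := hy'c1
    rw [hdec, c6ue3h21_add_left, c6ue3h21_add_left,
      c6ue3h21_orth h.pres h.lp h1l hy1 hc1, c6ue3h21_orth h.pres h.lp hll1 hy2 hc1] at h0
    linear_combination h0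
  obtain ⟨f, hf, hef, hfc⟩ := c6ue3h21_scale h e y3 hy3 (by rw [hey3, hey']; exact hy)
  exact ⟨f, hf, hef, hfc c1 hy3c1⟩

/-- the partner of an eigenvector, no constraints -/
theorem c6ue3h21_partner0 (h : c6ue3h21_Ctx p T l m) (e : Fin 4 → F) (he : T e = l • e) (hne : e ≠ 0) :
    ∃ f : Fin 4 → F, T f = m • f ∧ hh e f = 1 := by
  have hl1 := h.l_ne
  have hm1 := h.m_ne
  have hll1 : l * l ≠ 1 := by rw [h.ll]; exact hm1
  have hl11 : l * 1 ≠ 1 := by rw [mul_one]; exact hl1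
  have h1p : (1 : F) ^ p = 1 := one_pow p
  obtain ⟨y, hy⟩ := c6ue3h21_nd (p := p) e hne
  obtain ⟨y1, y2, y3, hdec, hy1, hy2, hy3⟩ := c6ue3h21_decomp h y
  have hey3 : hh e y3 = hh e y := by
    rw [hdec, c6ue3h21_add_right, c6ue3h21_add_right,
      c6ue3h21_orth h.pres h1p hl11 he hy1, c6ue3h21_orth h.pres h.lp hll1 he hy2]
    ring
  obtain ⟨f, hf, hef, -⟩ := c6ue3h21_scale h e y3 hy3 (by rw [hey3]; exact hy)
  exact ⟨f, hf, hef⟩

/-- a vector not fixed by `T` has a non-zero component in `E_l` or `E_m`, and the components stay orthogonal to a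
hyperbolic pair `c1 ∈ E_l`, `c2 ∈ E_m` -/
theorem c6ue3h21_comp (h : c6ue3h21_Ctx p T l m) (x : Fin 4 → F) (hx : T x ≠ x) :
    ∃ x2 x3 : Fin 4 → F, T x2 = l • x2 ∧ T x3 = m • x3 ∧ (x2 ≠ 0 ∨ x3 ≠ 0) ∧
      ∀ c1 c2 : Fin 4 → F, T c1 = l • c1 → T c2 = m • c2 → hh x c1 = 0 → hh x c2 = 0 →
        hh x2 c2 = 0 ∧ hh x3 c1 = 0 := by
  have hl1 := h.l_ne
  have hm1 := h.m_ne
  have hll1 : l * l ≠ 1 := by rw [h.ll]; exact hm1
  have hmm1 : m * m ≠ 1 := by rw [h.mm]; exact hl1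
  have h1l : 1 * l ≠ 1 := by rw [one_mul]; exact hl1
  have h1m : 1 * m ≠ 1 := by rw [one_mul]; exact hm1
  obtain ⟨x1, x2, x3, hdec, hx1, hx2, hx3⟩ := c6ue3h21_decomp h x
  refine ⟨x2, x3, hx2, hx3, ?_, ?_⟩
  · by_contra hcon
    simp only [not_or, not_not] at hcon
    apply hx
    rw [hdec, hcon.1, hcon.2, add_zero, add_zero, hx1, one_smul]
  · intro c1 c2 hc1 hc2 hxc1 hxc2
    constructor
    · have h0 := hxc2
      rw [hdec, c6ue3h21_add_left, c6ue3h21_add_left,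
        c6ue3h21_orth h.pres h.mp h1m hx1 hc2, c6ue3h21_orth h.pres h.mp hmm1 hx3 hc2] at h0
      linear_combination h0
    · have h0 := hxc1
      rw [hdec, c6ue3h21_add_left, c6ue3h21_add_left,
        c6ue3h21_orth h.pres h.lp h1l hx1 hc1, c6ue3h21_orth h.pres h.lp hll1 hx2 hc1] at h0
      linear_combination h0

/-- the abstract main theorem: a first hyperbolic pair, and either a second one orthogonal to it, or `T` is the
identity on the orthogonal of the first pair -/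
theorem c6ue3h21_abs (h : c6ue3h21_Ctx p T l m) (hT : ∃ x, T x ≠ x) :
    ∃ e1 f1 : Fin 4 → F, T e1 = l • e1 ∧ T f1 = m • f1 ∧ hh e1 f1 = 1 ∧
      ((∃ e2 f2 : Fin 4 → F, T e2 = l • e2 ∧ T f2 = m • f2 ∧ hh e2 f2 = 1 ∧ hh e2 f1 = 0 ∧ hh f2 e1 = 0) ∨
        (∀ x, hh x e1 = 0 → hh x f1 = 0 → T x = x)) := by
  -- the first pair
  have hfirst : ∃ e1 f1 : Fin 4 → F, T e1 = l • e1 ∧ T f1 = m • f1 ∧ hh e1 f1 = 1 := by
    obtain ⟨x, hx⟩ := hT
    obtain ⟨x2, x3, hx2, hx3, hne, -⟩ := c6ue3h21_comp h x hx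
    rcases hne with hne | hne
    · obtain ⟨f, hf, hef⟩ := c6ue3h21_partner0 h x2 hx2 hne
      exact ⟨x2, f, hx2, hf, hef⟩
    · obtain ⟨g, hg, heg⟩ := c6ue3h21_partner0 h.symm x3 hx3 hne
      exact ⟨g, x3, hg, hx3, by rw [h.conj x3 g, heg, one_pow]⟩
  obtain ⟨e1, f1, he1, hf1, hef1⟩ := hfirst
  refine ⟨e1, f1, he1, hf1, hef1, ?_⟩
  by_cases hfix : ∀ x, hh x e1 = 0 → hh x f1 = 0 → T x = x
  · exact Or.inr hfix
  · left
    simp only [not_forall] at hfix
    obtain ⟨x, hxe1, hxf1, hx⟩ := hfix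
    obtain ⟨x2, x3, hx2, hx3, hne, hW⟩ := c6ue3h21_comp h x hx
    obtain ⟨hx2f1, hx3e1⟩ := hW e1 f1 he1 hf1 hxe1 hxf1
    have hfe1 : hh f1 e1 = 1 := by rw [h.conj e1 f1, hef1, one_pow]
    rcases hne with hne | hne
    · obtain ⟨f2, hf2, hef2, hf2e1⟩ := c6ue3h21_partnerW h e1 f1 he1 hf1 hef1 x2 hx2 hne hx2f1
      exact ⟨x2, f2, hx2, hf2, hef2, hx2f1, hf2e1⟩
    · obtain ⟨g, hg, hx3g, hgf1⟩ := c6ue3h21_partnerW h.symm f1 e1 hf1 he1 hfe1 x3 hx3 hne hx3e1
      exact ⟨g, x3, hg, hx3, by rw [h.conj x3 g, hx3g, one_pow], hgf1, hx3e1⟩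

end fin

end Cfsg.Agent.Lib.helper3.C6U
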