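import Mathlib
import Cfsg.Agent.Lib.helper3.C6U.Defs
import Cfsg.Agent.Lib.helper3.S5953.Defs
import Cfsg.Agent.Lib.Helper20.S5953T1
import Cfsg.Agent.Lib.helper8.S5953T3
import Cfsg.Agent.Lib.helper6.HermGram
import Cfsg.Agent.Lib.Lead.Unitary
import Cfsg.Agent.Lib.Helper21.C6UE3h21a

set_option autoImplicit false
set_option linter.unusedVariables false
set_option linter.unusedSectionVars false

/-!
# Project C6U (designer helper3), row E3 (second copy by helper21), part b: from eigenvectors with a prescribed Gram matrix to matrices.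
-/

namespace Cfsg.Agent.Lib.helper3.C6U

open Matrix Module
open Cfsg.Agent.Lib.Helper10.C6P

variable {F : Type*} [Field F]

section fin

variable [Fintype F] {p : ℕ} [Fact p.Prime] [CharP F p]

local notation "hh" => Cfsg.hermForm 4 F p

/-- assembly: eigenvectors `b k` with Gram matrix `G` (`G * G = 1`) give the normal form -/
theorem c6ue3h21_asm (u : M4 F) (b : Fin 4 → (Fin 4 → F)) (d : Fin 4 → F) (G : M4 F) (hGG : G * G = 1)
    (hgram : ∀ j k, hh (b j) (b k) = G j k) (heig : ∀ k, u *ᵥ b k = d k • b k) :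
    ∃ B : GL (Fin 4) F, gram p (B : M4 F) = G ∧
      ((B⁻¹ : GL (Fin 4) F) : M4 F) * u * (B : M4 F) = Matrix.diagonal d ∧
      (u - 1).det = ∏ k, (d k - 1) := by
  set Bm : M4 F := Matrix.of (fun l k => b k l) with hBm
  have hg : gram p Bm = G := by
    ext j k
    rw [← hgram j k]
    unfold gram Cfsg.hermForm
    rw [Matrix.mul_apply]
    rfl
  have hdet : Bm.det ≠ 0 := by
    intro h0
    have h1 : gram p Bm * G = 1 := by rw [hg, hGG]
    have h2 := congrArg Matrix.det h1
    unfold gram at h2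
    rw [Matrix.det_mul, Matrix.det_mul, Matrix.det_transpose, h0, zero_mul, zero_mul, Matrix.det_one] at h2
    exact zero_ne_one h2
  have key : u * Bm = Bm * Matrix.diagonal d := by
    ext l k
    rw [Matrix.mul_diagonal]
    have h1 := congrFun (heig k) l
    rw [Pi.smul_apply, smul_eq_mul] at h1
    rw [Matrix.mul_apply]
    rw [hBm, Matrix.of_apply, mul_comm, ← h1]
    rfl
  obtain ⟨B, hB⟩ : ∃ B : GL (Fin 4) F, (B : M4 F) = Bm :=
    ⟨Matrix.GeneralLinearGroup.mk'' Bm (isUnit_iff_ne_zero.mpr hdet), rfl⟩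
  refine ⟨B, by rw [hB]; exact hg, ?_, ?_⟩
  · rw [Matrix.mul_assoc, hB, key, ← Matrix.mul_assoc, ← hB, Units.inv_mul, Matrix.one_mul]
  · have h1 : (u - 1) * Bm = Bm * Matrix.diagonal (fun k => d k - 1) := by
      rw [Matrix.sub_mul, Matrix.one_mul, key]
      have : Matrix.diagonal (fun k => d k - 1) = Matrix.diagonal d - 1 := by
        rw [← Matrix.diagonal_one, Matrix.diagonal_sub]
      rw [this, Matrix.mul_sub, Matrix.mul_one]
    have h2 := congrArg Matrix.det h1
    rw [Matrix.det_mul, Matrix.det_mul, Matrix.det_diagonal, mul_comm] at h2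
    exact mul_left_cancel₀ hdet h2

theorem c6ue3h21_G2 : G3 F 2 * G3 F 2 = 1 := by
  ext i j
  fin_cases i <;> fin_cases j <;> simp [G3, Matrix.mul_apply, Fin.sum_univ_four]

theorem c6ue3h21_G1 : G3 F 1 * G3 F 1 = 1 := by
  ext i j
  fin_cases i <;> fin_cases j <;> simp [G3, Matrix.mul_apply, Fin.sum_univ_four]

/-- the context of a unitary matrix of order 3 -/
theorem c6ue3h21_ctx (hF : Fintype.card F = p ^ 2) (h3 : (3 : F) ≠ 0) (ω : F) (hω : ω ^ 2 + ω + 1 = 0) (hωp : ω ^ p = ω)
    (u : M4 F) (hU : IsU p u) (hu : u ^ 3 = 1) : c6ue3h21_Ctx p (Matrix.toLin' u) ω (ω ^ 2) where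
  cube := by
    intro x
    rw [Matrix.toLin'_apply, Matrix.toLin'_apply, Matrix.toLin'_apply, Matrix.mulVec_mulVec, Matrix.mulVec_mulVec,
      show u * u * u = u ^ 3 by rw [pow_succ, pow_two], hu, Matrix.one_mulVec]
  pres := by
    intro x y
    rw [Matrix.toLin'_apply, Matrix.toLin'_apply]
    have hmap : u.map (frobenius F p) = u.map (fun a => a ^ p) := by
      ext i j
      rw [Matrix.map_apply, Matrix.map_apply, frobenius_def]
    have h1 : uᵀ * u.map (frobenius F p) = 1 := by
      rw [hmap]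
      exact hU
    exact (Cfsg.Agent.Lib.Lead.preserves_iff (frobenius F p) (fun a => frobenius_def p a) u).mpr h1 x y
  conj := by
    intro x y
    exact Cfsg.Agent.Lib.helper3.S5953.hermI_conj hF (ι := Fin 4) x y
  frob2 := by
    intro a
    rw [← pow_mul, ← sq, ← hF, FiniteField.pow_card]
  three := h3
  lm := by linear_combination (ω - 1) * hω
  ll := by ring
  mm := by linear_combination (ω ^ 2 - ω) * hω
  sum := by linear_combination hω
  lp := hωp
  mp := by rw [← pow_mul, mul_comm, pow_mul, hωp]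

end fin

end Cfsg.Agent.Lib.helper3.C6U
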