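import Mathlib
import Cfsg.Agent.Lib.helper3.C6U.Defs
import Cfsg.Agent.Lib.helper3.S5953.Defs
import Cfsg.Agent.Lib.Helper20.S5953T1
import Cfsg.Agent.Lib.helper8.S5953T3
import Cfsg.Agent.Lib.helper6.HermGram
import Cfsg.Agent.Lib.Lead.Unitary
import Cfsg.Agent.Lib.Helper21.C6UE3h21a
import Cfsg.Agent.Lib.Helper21.C6UE3h21b

set_option autoImplicit false
set_option linter.unusedVariables false
set_option linter.unusedSectionVars false

/-!
# Project C6U (designer helper3), row E3 (second copy by helper21, seat-prefixed name `c6ue3_h21`):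
normal form of a unitary element of order 3 of `GU_4(p)` when `ω` lies in the prime field
(SAME statement as `nf_three` of `helper3/C6U/Skel.lean.txt`).
-/

namespace Cfsg.Agent.Lib.helper3.C6U

open Polynomial Matrix Module
open Cfsg.Agent.Lib.Helper10.C6P
open scoped MatrixGroups

variable {F : Type*} [Field F]

section fin

variable [Fintype F] {p : ℕ} [Fact p.Prime] [CharP F p]

local notation "hh" => Cfsg.hermForm 4 F p

/-- E3 (exact statement of the row `nf_three`, seat-prefixed name). -/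
theorem c6ue3_h21 (hF : Fintype.card F = p ^ 2) (h3 : (3 : F) ≠ 0) (ω : F) (hω : ω ^ 2 + ω + 1 = 0) (hωp : ω ^ p = ω)
    (u : M4 F) (hU : IsU p u) (hu : u ^ 3 = 1) (hne : u ≠ 1) :
    ∃ (a : ℕ) (B : GL (Fin 4) F), (a = 1 ∨ a = 2) ∧ (a = 2 ↔ (u - 1).det ≠ 0) ∧
      gram p (B : M4 F) = G3 F a ∧ ((B⁻¹ : GL (Fin 4) F) : M4 F) * u * (B : M4 F) = D3 ω a := by
  classical
  have hp0 : p ≠ 0 := (Fact.out : p.Prime).ne_zero
  have hctx := c6ue3h21_ctx hF h3 ω hω hωp u hU hu
  have hT : ∃ x, Matrix.toLin' u x ≠ x := by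
    by_contra hcon
    simp only [not_exists, not_not] at hcon
    apply hne
    apply Matrix.toLin'.injective
    apply LinearMap.ext
    intro x
    rw [hcon x, Matrix.toLin'_one, LinearMap.id_apply]
  obtain ⟨e1, f1, he1, hf1, hef1, hcase⟩ := c6ue3h21_abs hctx hT
  have hl1 := hctx.l_ne
  have hm1 := hctx.m_ne
  have hll1 : ω * ω ≠ 1 := by rw [hctx.ll]; exact hm1
  have hmm1 : ω ^ 2 * ω ^ 2 ≠ 1 := by rw [hctx.mm]; exact hl1
  have hl11 : ω * 1 ≠ 1 := by rw [mul_one]; exact hl1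
  have h1l : 1 * ω ≠ 1 := by rw [one_mul]; exact hl1
  have hm11 : ω ^ 2 * 1 ≠ 1 := by rw [mul_one]; exact hm1
  have h1m : 1 * ω ^ 2 ≠ 1 := by rw [one_mul]; exact hm1
  have h1p : (1 : F) ^ p = 1 := one_pow p
  have hfe1 : hh f1 e1 = 1 := by rw [hctx.conj e1 f1, hef1, one_pow]
  have he1e1 : hh e1 e1 = 0 := c6ue3h21_orth hctx.pres hctx.lp hll1 he1 he1
  have hf1f1 : hh f1 f1 = 0 := c6ue3h21_orth hctx.pres hctx.mp hmm1 hf1 hf1
  have he1' : u *ᵥ e1 = ω • e1 := by rw [← Matrix.toLin'_apply]; exact he1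
  have hf1' : u *ᵥ f1 = ω ^ 2 • f1 := by rw [← Matrix.toLin'_apply]; exact hf1
  rcases hcase with ⟨e2, f2, he2, hf2, hef2, he2f1, hf2e1⟩ | hfix
  · -- two hyperbolic pairs: `a = 2`
    have hfe2 : hh f2 e2 = 1 := by rw [hctx.conj e2 f2, hef2, one_pow]
    have he2e2 : hh e2 e2 = 0 := c6ue3h21_orth hctx.pres hctx.lp hll1 he2 he2
    have hf2f2 : hh f2 f2 = 0 := c6ue3h21_orth hctx.pres hctx.mp hmm1 hf2 hf2
    have he1e2 : hh e1 e2 = 0 := c6ue3h21_orth hctx.pres hctx.lp hll1 he1 he2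
    have he2e1 : hh e2 e1 = 0 := c6ue3h21_orth hctx.pres hctx.lp hll1 he2 he1
    have hf1f2 : hh f1 f2 = 0 := c6ue3h21_orth hctx.pres hctx.mp hmm1 hf1 hf2
    have hf2f1 : hh f2 f1 = 0 := c6ue3h21_orth hctx.pres hctx.mp hmm1 hf2 hf1
    have hf1e2 : hh f1 e2 = 0 := by rw [hctx.conj e2 f1, he2f1, zero_pow hp0]
    have he1f2 : hh e1 f2 = 0 := by rw [hctx.conj f2 e1, hf2e1, zero_pow hp0]
    have he2' : u *ᵥ e2 = ω • e2 := by rw [← Matrix.toLin'_apply]; exact he2
    have hf2' : u *ᵥ f2 = ω ^ 2 • f2 := by rw [← Matrix.toLin'_apply]; exact hf2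
    have hgram : ∀ j k, hh (![e1, f1, e2, f2] j) (![e1, f1, e2, f2] k) = G3 F 2 j k := by
      intro j k
      fin_cases j <;> fin_cases k <;>
        simp [G3, hef1, hfe1, he1e1, hf1f1, hfe2, hef2, he2e2, hf2f2, he1e2, he2e1, hf1f2, hf2f1, hf1e2, he1f2,
          he2f1, hf2e1]
    have heig : ∀ k, u *ᵥ (![e1, f1, e2, f2] k) = (![ω, ω ^ 2, ω, ω ^ 2] k) • (![e1, f1, e2, f2] k) := by
      intro k
      fin_cases k
      · simpa using he1'
      · simpa using hf1'
      · simpa using he2'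
      · simpa using hf2'
    obtain ⟨B, hB1, hB2, hB3⟩ := c6ue3h21_asm (p := p) u ![e1, f1, e2, f2] ![ω, ω ^ 2, ω, ω ^ 2] (G3 F 2)
      c6ue3h21_G2 hgram heig
    refine ⟨2, B, Or.inr rfl, ⟨fun _ => ?_, fun _ => rfl⟩, hB1, ?_⟩
    · rw [hB3]
      simp [Fin.prod_univ_four, sub_eq_zero, hl1, hm1]
    · rw [hB2]
      unfold D3
      rw [if_pos rfl]
  · -- `u` is the identity on the orthogonal of the first pair: `a = 1`
    set U : Submodule F (Fin 4 → F) := Submodule.span F (Set.range ![e1, f1]) with hUdef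
    have hli : LinearIndependent F ![e1, f1] := by
      rw [LinearIndependent.pair_iff]
      intro s t hst
      have h1 : hh (s • e1 + t • f1) f1 = 0 := by
        rw [hst]; exact Cfsg.Agent.Lib.helper3.S5953.hermI_zero_left p f1
      have h2 : hh (s • e1 + t • f1) e1 = 0 := by
        rw [hst]; exact Cfsg.Agent.Lib.helper3.S5953.hermI_zero_left p e1
      rw [c6ue3h21_add_left, c6ue3h21_smul_left, c6ue3h21_smul_left, hef1, hf1f1] at h1
      rw [c6ue3h21_add_left, c6ue3h21_smul_left, c6ue3h21_smul_left, he1e1, hfe1] at h2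
      constructor
      · linear_combination h1
      · linear_combination h2
    have hUfr : finrank F U = 2 := by
      rw [hUdef, finrank_span_eq_card hli, Fintype.card_fin]
    set W : Submodule F (Fin 4 → F) := Cfsg.Agent.Lib.helper3.S5953.hperp p U with hWdef
    have hWfr : finrank F W = 2 := by
      have h4 : finrank F W + finrank F U = 4 := Cfsg.Agent.Lib.helper3.S5953.s5953t3_abs hF U
      omega
    have hmemW : ∀ x, x ∈ W ↔ hh x e1 = 0 ∧ hh x f1 = 0 := by
      intro x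
      constructor
      · intro hx
        exact ⟨hx e1 (Submodule.subset_span ⟨0, rfl⟩), hx f1 (Submodule.subset_span ⟨1, rfl⟩)⟩
      · rintro ⟨hx1, hx2⟩ w hw
        obtain ⟨c, rfl⟩ := (Submodule.mem_span_range_iff_exists_fun F).mp hw
        rw [Fin.sum_univ_two]
        show hh x (c 0 • e1 + c 1 • f1) = 0
        rw [c6ue3h21_add_right, c6ue3h21_smul_right, c6ue3h21_smul_right, hx1, hx2]
        ring
    have hWnd : ∀ x ∈ W, (∀ v ∈ W, hh x v = 0) → x = 0 := by
      intro x hx hxv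
      obtain ⟨hx1, hx2⟩ := (hmemW x).mp hx
      apply Cfsg.Agent.Lib.helper3.S5953.hermI_nd hp0 x
      intro y
      have hy'W : y + (-(hh y f1)) • e1 + (-(hh y e1)) • f1 ∈ W := by
        rw [hmemW]
        constructor
        · rw [c6ue3h21_add_left, c6ue3h21_add_left, c6ue3h21_smul_left, c6ue3h21_smul_left, he1e1, hfe1]
          ring
        · rw [c6ue3h21_add_left, c6ue3h21_add_left, c6ue3h21_smul_left, c6ue3h21_smul_left, hef1, hf1f1]
          ring
      have h0 := hxv _ hy'W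
      rw [c6ue3h21_add_right, c6ue3h21_add_right, c6ue3h21_smul_right, c6ue3h21_smul_right, hx1, hx2] at h0
      show hh x y = 0
      linear_combination h0
    obtain ⟨bo, -, hspan, horth⟩ := Cfsg.Agent.Lib.helper6.HF.exists_orthonormal hF W hWnd
    have hboW : ∀ j, bo j ∈ W := fun j => by
      rw [← hspan]; exact Submodule.subset_span ⟨j, rfl⟩
    have hne01 : Fin.cast hWfr.symm (0 : Fin 2) ≠ Fin.cast hWfr.symm (1 : Fin 2) := by
      intro h
      have := congrArg Fin.val h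
      simp at this
    have hne10 : Fin.cast hWfr.symm (1 : Fin 2) ≠ Fin.cast hWfr.symm (0 : Fin 2) := fun h => hne01 h.symm
    obtain ⟨d1, hd1def⟩ : ∃ d1, d1 = bo (Fin.cast hWfr.symm (0 : Fin 2)) := ⟨_, rfl⟩
    obtain ⟨d2, hd2def⟩ : ∃ d2, d2 = bo (Fin.cast hWfr.symm (1 : Fin 2)) := ⟨_, rfl⟩
    have hd1W := (hmemW d1).mp (by rw [hd1def]; exact hboW _)
    have hd2W := (hmemW d2).mp (by rw [hd2def]; exact hboW _)
    have hTd1 : Matrix.toLin' u d1 = (1 : F) • d1 := by rw [one_smul]; exact hfix d1 hd1W.1 hd1W.2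
    have hTd2 : Matrix.toLin' u d2 = (1 : F) • d2 := by rw [one_smul]; exact hfix d2 hd2W.1 hd2W.2
    have hd1d1 : hh d1 d1 = 1 := by
      have := horth (Fin.cast hWfr.symm (0 : Fin 2)) (Fin.cast hWfr.symm (0 : Fin 2))
      rw [if_pos rfl] at this; rw [hd1def]; exact this
    have hd2d2 : hh d2 d2 = 1 := by
      have := horth (Fin.cast hWfr.symm (1 : Fin 2)) (Fin.cast hWfr.symm (1 : Fin 2))
      rw [if_pos rfl] at this; rw [hd2def]; exact this
    have hd1d2 : hh d1 d2 = 0 := by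
      have := horth (Fin.cast hWfr.symm (0 : Fin 2)) (Fin.cast hWfr.symm (1 : Fin 2))
      rw [if_neg hne01] at this; rw [hd1def, hd2def]; exact this
    have hd2d1 : hh d2 d1 = 0 := by
      have := horth (Fin.cast hWfr.symm (1 : Fin 2)) (Fin.cast hWfr.symm (0 : Fin 2))
      rw [if_neg hne10] at this; rw [hd1def, hd2def]; exact this
    have he1d1 : hh e1 d1 = 0 := by rw [hctx.conj d1 e1, hd1W.1, zero_pow hp0]
    have he1d2 : hh e1 d2 = 0 := by rw [hctx.conj d2 e1, hd2W.1, zero_pow hp0]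
    have hf1d1 : hh f1 d1 = 0 := by rw [hctx.conj d1 f1, hd1W.2, zero_pow hp0]
    have hf1d2 : hh f1 d2 = 0 := by rw [hctx.conj d2 f1, hd2W.2, zero_pow hp0]
    have hd1' : u *ᵥ d1 = (1 : F) • d1 := by rw [← Matrix.toLin'_apply]; exact hTd1
    have hd2' : u *ᵥ d2 = (1 : F) • d2 := by rw [← Matrix.toLin'_apply]; exact hTd2
    have hgram : ∀ j k, hh (![e1, f1, d1, d2] j) (![e1, f1, d1, d2] k) = G3 F 1 j k := by
      intro j k
      fin_cases j <;> fin_cases k <;>
        simp [G3, hef1, hfe1, he1e1, hf1f1, hd1d1, hd2d2, hd1d2, hd2d1, he1d1, he1d2, hf1d1, hf1d2,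
          hd1W.1, hd1W.2, hd2W.1, hd2W.2]
    have heig : ∀ k, u *ᵥ (![e1, f1, d1, d2] k) = (![ω, ω ^ 2, 1, 1] k) • (![e1, f1, d1, d2] k) := by
      intro k
      fin_cases k
      · simpa using he1'
      · simpa using hf1'
      · simpa using hd1'
      · simpa using hd2'
    obtain ⟨B, hB1, hB2, hB3⟩ := c6ue3h21_asm (p := p) u ![e1, f1, d1, d2] ![ω, ω ^ 2, 1, 1] (G3 F 1)
      c6ue3h21_G1 hgram heig
    refine ⟨1, B, Or.inl rfl, ⟨fun h => absurd h (by norm_num), fun h => ?_⟩, hB1, ?_⟩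
    · exfalso
      apply h
      rw [hB3]
      simp [Fin.prod_univ_four]
    · rw [hB2]
      unfold D3
      rw [if_neg (by norm_num)]

end fin

end Cfsg.Agent.Lib.helper3.C6U
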