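import Mathlib
import Cfsg.Agent.Lib.Helper28.CD3.Defs

/-!
# Project CD3 (S4460), piece NSNA: if `q ∣ |G : F|` then `G / F` is nonabelian.
Also the common lemma `O_q(G / F) = 1` (used by ITOQ).
-/

set_option autoImplicit false
open scoped commutatorElement

namespace Cfsg.Agent.Lib.Helper28.CD3

universe u

section partB
variable {G : Type u} [Group G] [Finite G]

/-- `O_q(G / F) = 1` -/
theorem cd3nsna_Oq_quot {m n q : ℕ} {F : Subgroup G} (h : BData G m n q F)
    (P : @Subgroup (G ⧸ F) (@QuotientGroup.Quotient.group G _ F h.hFn))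
    (hPn : @Subgroup.Normal (G ⧸ F) (@QuotientGroup.Quotient.group G _ F h.hFn) P)
    (hPq : @IsPGroup q P (@Subgroup.toGroup (G ⧸ F) (@QuotientGroup.Quotient.group G _ F h.hFn) P)) :
    P = ⊥ := by
  have := h.hFn
  have := hPn
  have : Fact q.Prime := ⟨h.hq⟩
  have hker : IsPGroup q (QuotientGroup.mk' F).ker := by
    rw [QuotientGroup.ker_mk']
    exact h.hFq
  have h1 : IsPGroup q (P.comap (QuotientGroup.mk' F)) :=
    hPq.comap_of_ker_isPGroup (QuotientGroup.mk' F) hker
  have h2 : P.comap (QuotientGroup.mk' F) ≤ F :=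
    h.hFmax _ (Subgroup.Normal.comap hPn _) h1
  rw [eq_bot_iff]
  intro x hx
  obtain ⟨g, rfl⟩ := QuotientGroup.mk'_surjective F x
  have hg : g ∈ P.comap (QuotientGroup.mk' F) := hx
  have hgF : g ∈ F := h2 hg
  rw [Subgroup.mem_bot]
  exact (QuotientGroup.eq_one_iff g).mpr hgF

-- piece NSNA
theorem nonsyl_nonab {m n q : ℕ} {F : Subgroup G} (h : BData G m n q F) (hqF : q ∣ F.index) :
    ¬ commutator G ≤ F := by
  intro hab
  have := h.hFn
  have : Fact q.Prime := ⟨h.hq⟩
  -- `G / F` is commutative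
  have hcomm : ∀ a b : G ⧸ F, a * b = b * a := by
    intro a b
    obtain ⟨x, rfl⟩ := QuotientGroup.mk'_surjective F a
    obtain ⟨y, rfl⟩ := QuotientGroup.mk'_surjective F b
    have hxy : ⁅x, y⁆ ∈ F := hab (Subgroup.commutator_mem_commutator (Subgroup.mem_top x)
      (Subgroup.mem_top y))
    have h1 : (QuotientGroup.mk' F) ⁅x, y⁆ = 1 := (QuotientGroup.eq_one_iff _).mpr hxy
    rw [map_commutatorElement, commutatorElement_eq_one_iff_mul_comm] at h1
    exact h1
  obtain ⟨S⟩ : Nonempty (Sylow q (G ⧸ F)) := inferInstance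
  have hSn : (S : Subgroup (G ⧸ F)).Normal := by
    constructor
    intro s hs g
    have : g * s * g⁻¹ = s := by rw [hcomm g s, mul_inv_cancel_right]
    rw [this]
    exact hs
  have hbot : (S : Subgroup (G ⧸ F)) = ⊥ := cd3nsna_Oq_quot h _ hSn S.isPGroup'
  have hcard := Sylow.card_eq_multiplicity S
  rw [hbot, Subgroup.card_bot] at hcard
  have hidx : Nat.card (G ⧸ F) = F.index := (Subgroup.index_eq_card F).symm
  rw [hidx] at hcard
  have hpos : 0 < F.index := Nat.pos_of_ne_zero Subgroup.index_ne_zero_of_finite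
  have hfac : 1 ≤ F.index.factorization q :=
    (h.hq.dvd_iff_one_le_factorization hpos.ne').mp hqF
  have : q ^ 1 ≤ q ^ F.index.factorization q := Nat.pow_le_pow_right h.hq.pos hfac
  have hq2 := h.hq.two_le
  rw [← hcard, pow_one] at this
  omega

end partB

end Cfsg.Agent.Lib.Helper28.CD3
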