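import Mathlib
import Cfsg.Agent.Lib.Helper28.CD3.Defs
import Cfsg.Agent.Lib.Helper21.CD3NSNA
import Cfsg.Agent.S4493

/-!
# Project CD3 (S4460), piece ITOQ, core version: if `q ∣ |G : F|` then `q ∣ m` and `q ∤ n`
(the conclusions of BG, OVERQ and QDIV are hypotheses).
-/

set_option autoImplicit false
open scoped commutatorElement

namespace Cfsg.Agent.Lib.Helper28.CD3

universe u

section partB
variable {G : Type u} [Group G] [Finite G]

theorem cd3itoq_core {m n q : ℕ} {F : Subgroup G} (h : BData G m n q F) (hqF : q ∣ F.index)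
    (hBG : cdOver F ⊆ {1, m})
    (hOQ : ∀ (N : Subgroup G) [N.Normal], cdOver N = Cfsg.charDegrees (G ⧸ N))
    (hQD : (q ∣ m ∧ ¬ q ∣ n) ∨ (¬ q ∣ m ∧ q ∣ n)) :
    q ∣ m ∧ ¬ q ∣ n := by
  have hFn := h.hFn
  have hsol := h.hs
  rcases hQD with hqd | ⟨hqm, _⟩
  · exact hqd
  exfalso
  have hsolv : Group.IsSolvable (G ⧸ F) := inferInstance
  have hdeg : ∀ χ : Cfsg.IrrCharacter (G ⧸ F), ¬ q ∣ Cfsg.charDegree (χ : G ⧸ F → ℂ) := by
    intro χ hdvd
    have h1 : Cfsg.charDegree (χ : G ⧸ F → ℂ) ∈ Cfsg.charDegrees (G ⧸ F) := ⟨χ, rfl⟩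
    rw [← hOQ F] at h1
    have h2 := hBG h1
    simp only [Set.mem_insert_iff, Set.mem_singleton_iff] at h2
    rcases h2 with h2 | h2
    · rw [h2] at hdvd
      exact h.hq.one_lt.ne' (Nat.dvd_one.mp hdvd)
    · rw [h2] at hdvd
      exact hqm hdvd
  obtain ⟨P, hPn, _, hPq, hPidx⟩ := (Cfsg.Agent.S4493.result hsolv q h.hq).mpr hdeg
  have hbot : P = ⊥ := cd3nsna_Oq_quot h P hPn hPq
  rw [hbot, Subgroup.index_bot, ← Subgroup.index_eq_card F] at hPidx
  exact hPidx hqF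

end partB

end Cfsg.Agent.Lib.Helper28.CD3
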