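import Mathlib
import Cfsg.Agent.Lib.helper2.CHMDefs

set_option autoImplicit false
set_option linter.unusedSectionVars false
set_option linter.unusedVariables false

/-! Project CHM (S4139), piece C1: class size prime to `p` iff some Sylow `p`-subgroup is
centralised. -/

namespace Cfsg.Agent.Lib.Helper21.CHM

open Cfsg.Agent.Lib.helper2.CHM

theorem csz_eq_index {G : Type*} [Group G] [Finite G] (x : G) :
    csz x = (Subgroup.centralizer ({x} : Set G)).index := by
  unfold csz
  have h1 : Nat.card (ConjClasses.mk x).carrier = (MulAction.stabilizer (ConjAct G) x).index := by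
    rw [MulAction.index_stabilizer, ConjAct.orbit_eq_carrier_conjClasses, Nat.card_coe_set_eq]
  have h2 := Subgroup.card_mul_index (MulAction.stabilizer (ConjAct G) x)
  have h3 := Subgroup.card_mul_index (Subgroup.centralizer ({x} : Set G))
  have h4 := Subgroup.nat_card_centralizer_nat_card_stabilizer x
  have h5 : Nat.card (ConjAct G) = Nat.card G := rfl
  rw [h1]
  have hpos : 0 < Nat.card (Subgroup.centralizer ({x} : Set G)) := Nat.card_pos
  apply Nat.eq_of_mul_eq_mul_left hpos
  rw [h3, h4, h2, h5]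

theorem mem_centralizer_sylow_iff {G : Type*} [Group G] {p : ℕ} (S : Sylow p G) (x : G) :
    x ∈ Subgroup.centralizer ((S : Subgroup G) : Set G) ↔
      (S : Subgroup G) ≤ Subgroup.centralizer ({x} : Set G) := by
  constructor
  · intro h s hs
    rw [Subgroup.mem_centralizer_iff]
    intro y hy
    rw [Set.mem_singleton_iff] at hy
    subst hy
    exact (h s hs).symm
  · intro h s hs
    have h1 := h hs
    rw [Subgroup.mem_centralizer_iff] at h1
    exact (h1 x rfl).symm

/-- a Sylow subgroup of a subgroup of index prime to `p` is a Sylow subgroup of the group -/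
theorem exists_sylow_eq_map {G : Type*} [Group G] [Finite G] (p : ℕ) [Fact p.Prime]
    (C : Subgroup G) (hC : ¬ p ∣ C.index) (T : Sylow p C) :
    ∃ S : Sylow p G, (S : Subgroup G) = (T : Subgroup C).map C.subtype := by
  have hT : IsPGroup p ((T : Subgroup C).map C.subtype) := T.isPGroup'.map C.subtype
  have hidx : ¬ p ∣ ((T : Subgroup C).map C.subtype).index := by
    rw [Subgroup.index_map_subtype]
    intro h
    rcases (Nat.Prime.dvd_mul Fact.out).1 h with h1 | h1
    · exact T.not_dvd_index h1
    · exact hC h1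
  exact ⟨hT.toSylow hidx, rfl⟩

theorem nu_ne_zero_iff {G : Type*} [Group G] [Finite G] (p : ℕ) [Fact p.Prime] (x : G) :
    nu p x ≠ 0 ↔ ∃ S : Sylow p G, (S : Subgroup G) ≤ Subgroup.centralizer ({x} : Set G) := by
  unfold nu
  constructor
  · intro h
    obtain ⟨⟨S, hS⟩⟩ := (Nat.card_ne_zero.1 h).1
    exact ⟨S, (mem_centralizer_sylow_iff S x).1 hS⟩
  · rintro ⟨S, hS⟩
    haveI : Nonempty {S : Sylow p G // x ∈ Subgroup.centralizer ((S : Subgroup G) : Set G)} :=
      ⟨⟨S, (mem_centralizer_sylow_iff S x).2 hS⟩⟩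
    exact Nat.card_pos.ne'

/-- CHM-C1 -/
theorem not_dvd_csz_iff {G : Type*} [Group G] [Finite G] (p : ℕ) [Fact p.Prime] (x : G) :
    ¬ p ∣ csz x ↔ nu p x ≠ 0 := by
  rw [csz_eq_index, nu_ne_zero_iff]
  constructor
  · intro h
    obtain ⟨S, hS⟩ := exists_sylow_eq_map p (Subgroup.centralizer ({x} : Set G)) h default
    refine ⟨S, ?_⟩
    rw [hS]
    exact Subgroup.map_subtype_le _
  · rintro ⟨S, hS⟩ h
    exact S.not_dvd_index (dvd_trans h (Subgroup.index_dvd_of_le hS))

end Cfsg.Agent.Lib.Helper21.CHM
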