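import Mathlib
import Cfsg.Agent.Lib.helper2.CHMDefs

set_option autoImplicit false
set_option linter.unusedSectionVars false
set_option linter.unusedVariables false

/-! Project CHM (S4139), piece C2: the double count of pairs `(x, S)` with `x ∈ C_G(S)`. -/

namespace Cfsg.Agent.Lib.Helper21.CHM

open Cfsg.Agent.Lib.helper2.CHM
open scoped Pointwise

theorem mem_sylow_smul_iff {G : Type*} [Group G] {p : ℕ} (g : G) (P : Sylow p G) (h : G) :
    h ∈ (g • P : Sylow p G) ↔ ∃ s ∈ P, h = g * s * g⁻¹ := by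
  have h1 : h ∈ (g • P : Sylow p G) ↔ h ∈ MulAut.conj g • (P : Subgroup G) := by
    rw [← Sylow.coe_subgroup_smul]
    rfl
  rw [h1, Subgroup.mem_smul_pointwise_iff_exists]
  constructor
  · rintro ⟨s, hs, rfl⟩
    exact ⟨s, hs, rfl⟩
  · rintro ⟨s, hs, rfl⟩
    exact ⟨s, hs, rfl⟩

theorem conj_mem_centralizer_smul_iff {G : Type*} [Group G] {p : ℕ} (g y : G) (P : Sylow p G) :
    g * y * g⁻¹ ∈ Subgroup.centralizer (((g • P : Sylow p G) : Subgroup G) : Set G) ↔
      y ∈ Subgroup.centralizer ((P : Subgroup G) : Set G) := by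
  constructor
  · intro h s hs
    have hs' : g * s * g⁻¹ ∈ (g • P : Sylow p G) := (mem_sylow_smul_iff g P _).2 ⟨s, hs, rfl⟩
    have h1 := h (g * s * g⁻¹) hs'
    have h2 : g * (s * y) * g⁻¹ = g * (y * s) * g⁻¹ := by
      calc g * (s * y) * g⁻¹ = g * s * g⁻¹ * (g * y * g⁻¹) := by group
        _ = g * y * g⁻¹ * (g * s * g⁻¹) := h1
        _ = g * (y * s) * g⁻¹ := by group
    exact mul_left_cancel (mul_right_cancel h2)
  · intro h s' hs'
    obtain ⟨s, hs, rfl⟩ := (mem_sylow_smul_iff g P _).1 hs'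
    have h1 : s * y = y * s := h s hs
    calc g * s * g⁻¹ * (g * y * g⁻¹) = g * (s * y) * g⁻¹ := by group
      _ = g * (y * s) * g⁻¹ := by rw [h1]
      _ = g * y * g⁻¹ * (g * s * g⁻¹) := by group

theorem card_centralizer_smul {G : Type*} [Group G] {p : ℕ} (g : G) (P : Sylow p G) :
    Nat.card (Subgroup.centralizer (((g • P : Sylow p G) : Subgroup G) : Set G)) =
      Nat.card (Subgroup.centralizer ((P : Subgroup G) : Set G)) := by
  symm
  refine Nat.card_congr (Equiv.subtypeEquiv (MulAut.conj g).toEquiv ?_)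
  intro y
  exact (conj_mem_centralizer_smul_iff g y P).symm

/-- CHM-C2 -/
theorem sum_nu {G : Type*} [Group G] [Finite G] (p : ℕ) [Fact p.Prime] (P : Sylow p G) :
    ∑ᶠ x : G, nu p x =
      Nat.card (Sylow p G) * Nat.card (Subgroup.centralizer ((P : Subgroup G) : Set G)) := by
  classical
  letI : Fintype G := Fintype.ofFinite G
  letI : Fintype (Sylow p G) := Fintype.ofFinite _
  rw [finsum_eq_sum_of_fintype]
  have h1 : ∀ x : G, nu p x = (Finset.bipartiteAbove
      (fun (x : G) (S : Sylow p G) => x ∈ Subgroup.centralizer ((S : Subgroup G) : Set G))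
      Finset.univ x).card := by
    intro x
    unfold nu
    rw [Nat.card_eq_fintype_card, Fintype.card_subtype]
    rfl
  have h2 : ∀ S : Sylow p G, (Finset.bipartiteBelow
      (fun (x : G) (S : Sylow p G) => x ∈ Subgroup.centralizer ((S : Subgroup G) : Set G))
      Finset.univ S).card = Nat.card (Subgroup.centralizer ((P : Subgroup G) : Set G)) := by
    intro S
    obtain ⟨g, rfl⟩ := MulAction.exists_smul_eq G P S
    rw [← card_centralizer_smul g P, Nat.card_eq_fintype_card, Fintype.card_subtype]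
    rfl
  rw [Finset.sum_congr rfl (fun x _ => h1 x),
    Finset.sum_card_bipartiteAbove_eq_sum_card_bipartiteBelow,
    Finset.sum_congr rfl (fun S _ => h2 S), Finset.sum_const, Finset.card_univ, smul_eq_mul,
    Nat.card_eq_fintype_card (α := Sylow p G)]

end Cfsg.Agent.Lib.Helper21.CHM
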