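import Mathlib
import Cfsg.Agent.Lib.helper2.CHMDefs
import Cfsg.Agent.Lib.Helper21.CHMC1

set_option autoImplicit false
set_option linter.unusedSectionVars false
set_option linter.unusedVariables false

/-! Project CHM (S4139), piece C3: the number of Sylow `p`-subgroups centralised by `x` is
`≡ 1 mod p` when nonzero. -/

namespace Cfsg.Agent.Lib.Helper21.CHM

open Cfsg.Agent.Lib.helper2.CHM

/-- CHM-C3 -/
theorem nu_modEq_one {G : Type*} [Group G] [Finite G] (p : ℕ) [Fact p.Prime] (x : G)
    (hx : nu p x ≠ 0) : nu p x ≡ 1 [MOD p] := by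
  have hidx : ¬ p ∣ (Subgroup.centralizer ({x} : Set G)).index := by
    rw [← csz_eq_index]
    exact (not_dvd_csz_iff p x).2 hx
  set C := Subgroup.centralizer ({x} : Set G) with hC
  let f : {S : Sylow p G // x ∈ Subgroup.centralizer ((S : Subgroup G) : Set G)} → Sylow p C :=
    fun S => S.1.subtype ((mem_centralizer_sylow_iff S.1 x).1 S.2)
  have hinj : Function.Injective f := by
    intro S S' h
    exact Subtype.ext (Sylow.subtype_injective h)
  have hsurj : Function.Surjective f := by
    intro T
    obtain ⟨S, hS⟩ := exists_sylow_eq_map p C hidx T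
    have hle : (S : Subgroup G) ≤ C := by
      rw [hS]
      exact Subgroup.map_subtype_le _
    refine ⟨⟨S, (mem_centralizer_sylow_iff S x).2 hle⟩, ?_⟩
    apply Sylow.ext
    show (S : Subgroup G).subgroupOf C = (T : Subgroup C)
    rw [hS, Subgroup.subgroupOf,
      Subgroup.comap_map_eq_self_of_injective (Subgroup.subtype_injective C)]
  have hcard : nu p x = Nat.card (Sylow p C) :=
    Nat.card_congr (Equiv.ofBijective f ⟨hinj, hsurj⟩)
  rw [hcard]
  exact card_sylow_modEq_one p C

end Cfsg.Agent.Lib.Helper21.CHM
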