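import Cfsg.Agent.Lib.helper14.CT.Defs
import Cfsg.Agent.Lib.Helper9.CTBASIC
import Cfsg.Agent.Lib.Helper22.CTR2C
import Cfsg.Agent.Lib.Helper20.CTPI
import Cfsg.Agent.Lib.Helper20.CTSTF
import Cfsg.Agent.Lib.Helper21.CTLOC1core

/-! Project CT, piece LOC1 (`loc_half`): verbatim wrapper around `ctloc1_core`. -/

set_option autoImplicit false
set_option linter.unusedVariables false

namespace Cfsg.Agent.Lib.helper14.CT

open Cfsg.Lie Cfsg.Lie.ChevalleyDatum Cfsg.Agent.Lib.helper8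

universe u

variable {D : ChevalleyDatum} {K : Type u} [Field K]

/-- LOC1: conjugation by `n̂_i(c)` on a half-plane set `S` of roots of `Φ_ik` -/
theorem loc_half (hD : D ∈ [chevD4, chevF4, chevE6, chevE7, chevE8])
    (π : D.CurtisTitsGroup K →* D.SteinbergGroup K)
    (hπ : ∀ (r : ℕ) (t : K), InR2 D r → π (xh D K r t) = D.stGen K r t)
    (i k : ℕ) (hi : i < D.rank) (hk : k < D.rank) (S : List ℕ)
    (hS : ∀ γ ∈ S, D.InRankTwoSub i k γ)
    (hne : ∀ γ ∈ S, γ ≠ D.simple i ∧ γ ≠ D.neg (D.simple i))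
    (hcl : ∀ γ ∈ S, (∀ c ∈ D.commTerms (D.simple i) γ, c.1 ∈ S) ∧
      (∀ c ∈ D.commTerms (D.neg (D.simple i)) γ, c.1 ∈ S))
    (hrefl : ∀ γ ∈ S, D.reflectRoot i γ ∈ S)
    (hinj : ∀ z ∈ Subgroup.closure {g : D.CurtisTitsGroup K | ∃ γ ∈ S, ∃ t : K, g = xh D K γ t},
      π z = 1 → z = 1) :
    ∀ γ ∈ S, ∀ c : K, c ≠ 0 →
      H8ActX (xh D K) (h8nS D (xh D K) (D.simple i) c) γ (D.reflectRoot i γ) :=
  ctloc1_core hD (fun i j r s hr hs h1 h2 t u => ct_comm i j r s hr hs h1 h2 t u)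
    (fun r hr t => ct_inv r hr t) π hπ i k hi hk (r2_simple hD i k hi hk)
    (r2_neg hD i k _ (r2_simple hD i k hi hk)) (fun c => pi_nS hD π hπ i hi c)
    (fun c hc r hr => st_n_act hD i hi c hc r hr) S hS hne hcl hrefl hinj

end Cfsg.Agent.Lib.helper14.CT
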