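import Cfsg.Agent.Lib.helper14.CT.Defs
import Cfsg.Agent.Lib.Helper9.CTBASIC
import Cfsg.Agent.Lib.Helper20.CTSTF
import Cfsg.Agent.Lib.Helper21.CTLOC2core

/-! Project CT, piece LOC2 (`inj_two`): verbatim wrapper around `ctloc2_core`. -/

set_option autoImplicit false
set_option linter.unusedVariables false

namespace Cfsg.Agent.Lib.helper14.CT

open Cfsg.Lie Cfsg.Lie.ChevalleyDatum Cfsg.Agent.Lib.helper8

universe u

variable {D : ChevalleyDatum} {K : Type u} [Field K]

/-- LOC2: `π` is injective on the product of two commuting root groups -/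
theorem inj_two (hD : D ∈ [chevD4, chevF4, chevE6, chevE7, chevE8])
    (π : D.CurtisTitsGroup K →* D.SteinbergGroup K)
    (hπ : ∀ (r : ℕ) (t : K), InR2 D r → π (xh D K r t) = D.stGen K r t)
    (γ δ : ℕ) (hγ : InR2 D γ) (hδ : InR2 D δ)
    (hcomm : ∀ t u : K, xh D K γ t * xh D K δ u = xh D K δ u * xh D K γ t) (S : List ℕ)
    (hS : ∀ x ∈ S, x = γ ∨ x = δ) :
    ∀ z ∈ Subgroup.closure {g : D.CurtisTitsGroup K | ∃ x ∈ S, ∃ t : K, g = xh D K x t},
      π z = 1 → z = 1 :=
  ctloc2_core (fun r hr t u => ct_add r hr t u) (fun r hr => ct_zero r hr) (fun r hr t => ct_inv r hr t)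
    (fun r hr t t' h => st_inj_t hD r hr t t' h)
    (fun r r' hr hr' c c' hc hc' h => st_inj_root hD r r' hr hr' c c' hc hc' h)
    π hπ γ δ hγ hδ hcomm S hS

end Cfsg.Agent.Lib.helper14.CT
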