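import Mathlib

/-!
# The conjugation action on a generating conjugation-closed family

Let `H` be a group, `ι : Fin n → H` an injective family whose range is closed under conjugation
and generates `H`.  Conjugation gives a homomorphism `conjHom : H →* Equiv.Perm (Fin n)` whose
kernel is the centre.  If finitely many members `ι (g i)` act as given permutations `π i` and
the group generated by the `π i` is transitive, then `H ⧸ center H ≃* closure (range π)`.
-/

set_option autoImplicit false

namespace Cfsg.Agent.Lib.Helper21.ConjIso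

variable {H : Type*} [Group H] {n : ℕ}

/-- the data: an injective conjugation-closed family -/
structure ConjFam (ι : Fin n → H) : Prop where
  inj : Function.Injective ι
  closed : ∀ (h : H) (j : Fin n), ∃ j' : Fin n, ι j' = h * ι j * h⁻¹

variable {ι : Fin n → H}

/-- the index of the conjugate -/
noncomputable def cidx (hF : ConjFam ι) (h : H) (j : Fin n) : Fin n :=
  Classical.choose (hF.closed h j)

theorem cidx_spec (hF : ConjFam ι) (h : H) (j : Fin n) : ι (cidx hF h j) = h * ι j * h⁻¹ :=
  Classical.choose_spec (hF.closed h j)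

theorem cidx_eq_iff (hF : ConjFam ι) (h : H) (j j' : Fin n) :
    cidx hF h j = j' ↔ ι j' = h * ι j * h⁻¹ := by
  constructor
  · rintro rfl; exact cidx_spec hF h j
  · intro h1; apply hF.inj; rw [cidx_spec hF, h1]

theorem cidx_one (hF : ConjFam ι) (j : Fin n) : cidx hF 1 j = j := by
  rw [cidx_eq_iff]; simp

theorem cidx_mul (hF : ConjFam ι) (a b : H) (j : Fin n) :
    cidx hF (a * b) j = cidx hF a (cidx hF b j) := by
  rw [cidx_eq_iff, cidx_spec hF, cidx_spec hF]; group

/-- the conjugation action as a homomorphism into the permutations of the index set -/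
noncomputable def conjHom (hF : ConjFam ι) : H →* Equiv.Perm (Fin n) where
  toFun h :=
    { toFun := cidx hF h
      invFun := cidx hF h⁻¹
      left_inv := fun j => by rw [← cidx_mul, inv_mul_cancel, cidx_one]
      right_inv := fun j => by rw [← cidx_mul, mul_inv_cancel, cidx_one] }
  map_one' := by ext j; simp [cidx_one]
  map_mul' a b := by ext j; simp [cidx_mul]

theorem conjHom_apply (hF : ConjFam ι) (h : H) (j : Fin n) : conjHom hF h j = cidx hF h j := rfl

theorem conjHom_spec (hF : ConjFam ι) (h : H) (j : Fin n) :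
    ι (conjHom hF h j) = h * ι j * h⁻¹ := cidx_spec hF h j

/-- the kernel of the conjugation action is the centre -/
theorem ker_conjHom (hF : ConjFam ι) (hgen : Subgroup.closure (Set.range ι) = ⊤) :
    (conjHom hF).ker = Subgroup.center H := by
  ext h
  rw [MonoidHom.mem_ker, Subgroup.mem_center_iff]
  constructor
  · intro hh
    have hfix : ∀ j, h * ι j * h⁻¹ = ι j := by
      intro j
      have := conjHom_spec hF h j
      rw [hh] at this
      simpa using this.symm
    have hcent : Subgroup.closure (Set.range ι) ≤ Subgroup.centralizer {h} := by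
      rw [Subgroup.closure_le]
      rintro _ ⟨j, rfl⟩
      rw [SetLike.mem_coe, Subgroup.mem_centralizer_iff]
      intro y hy
      rw [Set.mem_singleton_iff] at hy
      subst hy
      have := hfix j
      calc y * ι j = (y * ι j * y⁻¹) * y := by group
        _ = ι j * y := by rw [this]
    intro g
    have hg : g ∈ Subgroup.centralizer {h} := hcent (by rw [hgen]; exact Subgroup.mem_top g)
    rw [Subgroup.mem_centralizer_iff] at hg
    exact (hg h rfl).symm
  · intro hh
    ext j
    have h1 : cidx hF h j = j := by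
      rw [cidx_eq_iff, ← hh (ι j)]; group
    rw [conjHom_apply, h1]; rfl

/-- **Main theorem.** -/
theorem quotCenterEquiv_aux (hF : ConjFam ι) (hgen : Subgroup.closure (Set.range ι) = ⊤)
    {k : ℕ} (g : Fin k → Fin n) (π : Fin k → Equiv.Perm (Fin n))
    (hπ : ∀ i j, ι (π i j) = ι (g i) * ι j * (ι (g i))⁻¹)
    (j₀ : Fin n) (hj₀ : ∃ i, g i = j₀)
    (htrans : ∀ j : Fin n, ∃ σ ∈ Subgroup.closure (Set.range π), σ j₀ = j) :
    (conjHom hF).range = Subgroup.closure (Set.range π) := by
  have hφg : ∀ i, conjHom hF (ι (g i)) = π i := by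
    intro i
    ext j
    have : conjHom hF (ι (g i)) j = π i j := by
      apply hF.inj
      rw [conjHom_spec hF, hπ]
    rw [this]
  -- the subgroup generated by the chosen members
  set H' : Subgroup H := Subgroup.closure (Set.range fun i => ι (g i)) with hH'
  have hmap : H'.map (conjHom hF) = Subgroup.closure (Set.range π) := by
    rw [hH', MonoidHom.map_closure]
    congr 1
    ext σ
    constructor
    · rintro ⟨_, ⟨i, rfl⟩, rfl⟩; exact ⟨i, (hφg i).symm⟩
    · rintro ⟨i, rfl⟩; exact ⟨_, ⟨i, rfl⟩, hφg i⟩
  have hall : ∀ j, ι j ∈ H' := by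
    intro j
    obtain ⟨σ, hσ, hσj⟩ := htrans j
    rw [← hmap] at hσ
    obtain ⟨h, hh, rfl⟩ := hσ
    obtain ⟨i₀, hi₀⟩ := hj₀
    have h1 : ι j = h * ι j₀ * h⁻¹ := by rw [← hσj, conjHom_spec hF]
    rw [h1]
    have h0 : ι j₀ ∈ H' := by
      rw [← hi₀]; exact Subgroup.subset_closure ⟨i₀, rfl⟩
    exact H'.mul_mem (H'.mul_mem hh h0) (H'.inv_mem hh)
  have htop : H' = ⊤ := by
    rw [eq_top_iff, ← hgen, Subgroup.closure_le]
    rintro _ ⟨j, rfl⟩
    exact hall j
  rw [← hmap, htop, ← MonoidHom.range_eq_map]

/-- `H ⧸ Z(H)` is isomorphic to the permutation group generated by the `π i`. -/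
theorem quotCenterEquiv (hF : ConjFam ι) (hgen : Subgroup.closure (Set.range ι) = ⊤)
    {k : ℕ} (g : Fin k → Fin n) (π : Fin k → Equiv.Perm (Fin n))
    (hπ : ∀ i j, ι (π i j) = ι (g i) * ι j * (ι (g i))⁻¹)
    (j₀ : Fin n) (hj₀ : ∃ i, g i = j₀)
    (htrans : ∀ j : Fin n, ∃ σ ∈ Subgroup.closure (Set.range π), σ j₀ = j) :
    Nonempty (H ⧸ Subgroup.center H ≃* Subgroup.closure (Set.range π)) := by
  have hker := ker_conjHom hF hgen
  have hrange := quotCenterEquiv_aux hF hgen g π hπ j₀ hj₀ htrans
  have e1 : H ⧸ Subgroup.center H ≃* H ⧸ (conjHom hF).ker :=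
    QuotientGroup.quotientMulEquivOfEq hker.symm
  have e2 : H ⧸ (conjHom hF).ker ≃* (conjHom hF).range :=
    QuotientGroup.quotientKerEquivRange (conjHom hF)
  have e3 : (conjHom hF).range ≃* Subgroup.closure (Set.range π) :=
    MulEquiv.subgroupCongr hrange
  exact ⟨(e1.trans e2).trans e3⟩

end Cfsg.Agent.Lib.Helper21.ConjIso
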