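import Mathlib
import Cfsg.Prelude.Def_SolvableStructure
import Cfsg.Prelude.Def_Transfer
import Cfsg.Agent.Lib.helper4.Supersolvable
import Cfsg.Agent.Lib.helper4.SupersolvableB
import Cfsg.Agent.Lib.helper4.SupersolvableC
import Cfsg.Agent.S0072

set_option autoImplicit false
open Cfsg

namespace Cfsg.Agent.Lib.Helper21.ConjPair

universe u

/-- the conjugate pair order condition -/
def CP (G : Type*) [Group G] : Prop :=
  ∀ (p q : ℕ), p.Prime → q.Prime → p ≠ q → ∀ (x g : G), (∃ a : ℕ, orderOf x = p ^ a) →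
    (∃ b : ℕ, orderOf g = q ^ b) →
      ¬ q ^ 2 ∣ Nat.card ↥(Subgroup.zpowers x ⊔ Subgroup.zpowers (g * x * g⁻¹))

theorem CP.subgroup {G : Type*} [Group G] (h : CP G) (H : Subgroup G) : CP ↥H := by
  intro p q hp hq hpq x g hx hg hdvd
  apply h p q hp hq hpq (x : G) (g : G) (by rwa [Subgroup.orderOf_coe]) (by rwa [Subgroup.orderOf_coe])
  have h1 : (Subgroup.zpowers x ⊔ Subgroup.zpowers (g * x * g⁻¹)).map H.subtype =
      Subgroup.zpowers (x : G) ⊔ Subgroup.zpowers ((g : G) * x * (g : G)⁻¹) := by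
    rw [Subgroup.map_sup, MonoidHom.map_zpowers, MonoidHom.map_zpowers]
    rfl
  rw [← h1, Subgroup.card_map_of_injective H.subtype_injective]
  exact hdvd

theorem exists_lift_ppow {G : Type*} [Group G] [Finite G] (N : Subgroup G) [N.Normal] {p : ℕ}
    (hp : p.Prime) (xbar : G ⧸ N) {a : ℕ} (hx : orderOf xbar = p ^ a) :
    ∃ x : G, (x : G ⧸ N) = xbar ∧ ∃ c, orderOf x = p ^ c := by
  rcases Nat.eq_zero_or_pos a with ha | ha
  · refine ⟨1, ?_, 0, by simp⟩
    rw [ha, pow_zero, orderOf_eq_one_iff] at hx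
    rw [hx]; rfl
  obtain ⟨y, rfl⟩ := QuotientGroup.mk_surjective xbar
  obtain ⟨c, m, hm, hy⟩ := Nat.exists_eq_pow_mul_and_not_dvd (orderOf_pos y).ne' p hp.ne_one
  have hcop : Nat.Coprime m (p ^ a) :=
    (Nat.Coprime.pow_left a ((Nat.Prime.coprime_iff_not_dvd hp).mpr hm)).symm
  have h1 : 1 < p ^ a := Nat.one_lt_pow ha.ne' hp.one_lt
  obtain ⟨u, -, hu⟩ := Nat.exists_mul_mod_eq_one_of_coprime hcop h1
  refine ⟨y ^ (m * u), ?_, ?_⟩
  · rw [QuotientGroup.mk_pow, ← pow_mod_orderOf, hx, hu, pow_one]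
  · have h2 : (y ^ (m * u)) ^ (p ^ c) = 1 := by
      rw [← pow_mul, mul_comm m u, mul_assoc, mul_comm m, ← hy, pow_mul', pow_orderOf_eq_one, one_pow]
    obtain ⟨c', -, hc'⟩ := (Nat.dvd_prime_pow hp).mp (orderOf_dvd_of_pow_eq_one h2)
    exact ⟨c', hc'⟩

theorem CP.quotient {G : Type*} [Group G] [Finite G] (h : CP G) (N : Subgroup G) [N.Normal] :
    CP (G ⧸ N) := by
  intro p q hp hq hpq xbar gbar ⟨a, hx⟩ ⟨b, hg⟩ hdvd
  obtain ⟨x, rfl, hx'⟩ := exists_lift_ppow N hp xbar hx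
  obtain ⟨g, rfl, hg'⟩ := exists_lift_ppow N hq gbar hg
  apply h p q hp hq hpq x g hx' hg'
  have h1 : (Subgroup.zpowers x ⊔ Subgroup.zpowers (g * x * g⁻¹)).map (QuotientGroup.mk' N) =
      Subgroup.zpowers (x : G ⧸ N) ⊔ Subgroup.zpowers ((g : G ⧸ N) * x * (g : G ⧸ N)⁻¹) := by
    rw [Subgroup.map_sup, MonoidHom.map_zpowers, MonoidHom.map_zpowers]
    rfl
  rw [← h1] at hdvd
  refine dvd_trans hdvd ?_
  exact Subgroup.card_dvd_of_surjective _
    ((QuotientGroup.mk' N).subgroupMap_surjective _)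

theorem nqc_aux (n : ℕ) : ∀ (H : Type u) [Group H] [Finite H], Nat.card H = n →
    IsSupersolvable H → ∀ q : ℕ, q.Prime → (∀ p : ℕ, p.Prime → p ∣ Nat.card H → q ≤ p) →
    ∃ K : Subgroup H, K.Normal ∧ (Nat.card K).Coprime q ∧ ∃ k : ℕ, K.index = q ^ k := by
  induction n using Nat.strong_induction_on with
  | _ n ih =>
  intro H _ _ hn hss q hq hmin
  by_cases hpow : ∃ k, Nat.card H = q ^ k
  · obtain ⟨k, hk⟩ := hpow
    exact ⟨⊥, inferInstance, by simp, k, by rw [Subgroup.index_bot, hk]⟩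
  · have hne1 : Nat.card H ≠ 1 := fun h => hpow ⟨0, by rw [h, pow_zero]⟩
    have hpos : 0 < Nat.card H := Nat.card_pos
    have hSne : (Nat.card H).primeFactors.Nonempty := Nat.nonempty_primeFactors.mpr (by omega)
    obtain ⟨p, hpdef⟩ : ∃ p, p = (Nat.card H).primeFactors.max' hSne := ⟨_, rfl⟩
    have hpS : p ∈ (Nat.card H).primeFactors := hpdef ▸ Finset.max'_mem _ hSne
    have hp : p.Prime := Nat.prime_of_mem_primeFactors hpS
    have hpd : p ∣ Nat.card H := Nat.dvd_of_mem_primeFactors hpS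
    have hmax : ∀ p', p'.Prime → p' ∣ Nat.card H → p' ≤ p := fun p' hp' hd =>
      hpdef ▸ Finset.le_max' _ p' (Nat.mem_primeFactors.mpr ⟨hp', hd, hpos.ne'⟩)
    have hpq : p ≠ q := by
      rintro rfl
      apply hpow
      exact ⟨_, Nat.eq_prime_pow_of_unique_prime_dvd hpos.ne'
        (fun {d} hd hdd => le_antisymm (hmax d hd hdd) (hmin d hd hdd))⟩
    obtain ⟨L, hLn, hLc⟩ := Cfsg.Agent.Lib.helper4.exists_normal_largest_prime hss p hp hpd hmax
    haveI := hLn
    have hlt : Nat.card (H ⧸ L) < Nat.card H :=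
      Cfsg.Agent.Lib.helper4.card_quotient_lt L (hLc ▸ hp)
    have hdvd : Nat.card (H ⧸ L) ∣ Nat.card H :=
      ⟨Nat.card L, Subgroup.card_eq_card_quotient_mul_card_subgroup L⟩
    obtain ⟨Kb, hKn, hKc, k, hKi⟩ := ih _ (hn ▸ hlt) (H ⧸ L) rfl
      (Cfsg.Agent.Lib.helper4.isSupersolvable_quotient L hss) q hq
      (fun p' hp' hd => hmin p' hp' (dvd_trans hd hdvd))
    refine ⟨Kb.comap (QuotientGroup.mk' L), hKn.comap _, ?_, k, ?_⟩
    · rw [Cfsg.Agent.Lib.helper4.card_comap_mk', hLc]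
      exact Nat.Coprime.mul_left hKc ((Nat.coprime_primes hp hq).mpr hpq)
    · rw [Subgroup.index_comap_of_surjective _ (QuotientGroup.mk'_surjective L), hKi]

theorem hasNormalPComplement_of_supersolvable {H : Type u} [Group H] [Finite H]
    (hss : IsSupersolvable H) (q : ℕ) [Fact q.Prime]
    (hmin : ∀ p : ℕ, p.Prime → p ∣ Nat.card H → q ≤ p) : HasNormalPComplement q H := by
  obtain ⟨K, hKn, hKc, k, hKi⟩ := nqc_aux _ H rfl hss q Fact.out hmin
  exact ⟨default, K, hKn, Cfsg.Agent.S0072.isComplement'_sylow_of_normal_pcomp K hKc hKi default⟩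

/-- a non-supersolvable group all of whose proper subgroups are supersolvable is not simple -/
theorem false_of_simple {G : Type u} [Group G] [Finite G] (hns : ¬ IsSupersolvable G)
    (hsub : ∀ H : Subgroup G, H ≠ ⊤ → IsSupersolvable H)
    (hsimple : ∀ K : Subgroup G, K.Normal → K = ⊥ ∨ K = ⊤) : False := by
  have hcard : Nat.card G ≠ 1 := by
    intro h
    haveI : Subsingleton G := (Nat.card_eq_one_iff_unique.mp h).1
    exact hns Cfsg.Agent.Lib.helper4.isSupersolvable_of_subsingleton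
  obtain ⟨q, hqdef⟩ : ∃ q, q = (Nat.card G).minFac := ⟨_, rfl⟩
  haveI : Fact q.Prime := ⟨hqdef ▸ Nat.minFac_prime hcard⟩
  have hqd : q ∣ Nat.card G := hqdef ▸ Nat.minFac_dvd _
  have hqmin : ∀ p : ℕ, p.Prime → p ∣ Nat.card G → q ≤ p := fun p hp hd =>
    hqdef ▸ Nat.minFac_le_of_dvd hp.two_le hd
  have hpg : ∀ k, Nat.card G ≠ q ^ k := fun k hk =>
    hns (Cfsg.Agent.Lib.helper4.ss_of_pgroup q k Fact.out hk)
  have hnpc : HasNormalPComplement q G := by
    rw [Cfsg.Agent.S0072.result q]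
    intro Q hQ hQne
    by_cases hN : Subgroup.normalizer (Q : Set G) = ⊤
    · exfalso
      have hQn : Q.Normal := Subgroup.normalizer_eq_top_iff.mp hN
      rcases hsimple Q hQn with h | h
      · exact hQne h
      · obtain ⟨k, hk⟩ := IsPGroup.iff_card.mp hQ
        rw [h, Subgroup.card_top] at hk
        exact hpg k hk
    · apply hasNormalPComplement_of_supersolvable (hsub _ hN) q
      intro p hp hd
      exact hqmin p hp (dvd_trans hd (Subgroup.card_subgroup_dvd_card _))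
  obtain ⟨P, K, hKn, hKP⟩ := hnpc
  have hmul := hKP.card_mul_card
  rcases hsimple K hKn with h | h
  · rw [h, Subgroup.card_bot, one_mul] at hmul
    obtain ⟨k, hk⟩ := IsPGroup.iff_card.mp P.2
    exact hpg k (hmul ▸ hk)
  · rw [h, Subgroup.card_top] at hmul
    have hP1 : Nat.card (P : Subgroup G) = 1 := by
      have hpos : 0 < Nat.card G := Nat.card_pos
      exact Nat.eq_of_mul_eq_mul_left hpos (hmul.trans (mul_one _).symm)
    have h2 := P.dvd_card_of_dvd_card hqd
    rw [hP1] at h2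
    exact (Fact.out : q.Prime).one_lt.ne' (Nat.dvd_one.mp h2)

theorem isSolvable_of_isSupersolvable {H : Type u} [Group H] (hss : IsSupersolvable H) :
    Group.IsSolvable H := by
  haveI : Group.IsNilpotent (commutator H) := Cfsg.Agent.Lib.helper4.commutator_isNilpotent hss
  haveI : Group.IsSolvable (commutator H) := inferInstance
  haveI : Group.IsSolvable (Abelianization H) := inferInstance
  exact Group.isSolvable_of_ker_le_range (commutator H).subtype (Abelianization.of)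
    (by rw [Abelianization.ker_of, Subgroup.range_subtype])

end Cfsg.Agent.Lib.Helper21.ConjPair
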