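import Mathlib
import Cfsg.Prelude.Def_SolvableStructure
import Cfsg.Agent.Lib.helper4.Supersolvable

set_option autoImplicit false
open Cfsg

namespace Cfsg.Agent.Lib.Helper21.ConjPair

section LinAlg
variable {K V : Type*} [Field K] [AddCommGroup V] [Module K V]

/-- if every vector of `W` is an eigenvector of `τ` then `τ` is a scalar on `W` -/
theorem exists_scalar_of_forall_eigen (τ : Module.End K V) (W : Submodule K V)
    (h : ∀ w ∈ W, ∃ c : K, τ w = c • w) : ∃ c : K, ∀ w ∈ W, τ w = c • w := by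
  by_cases hW : ∀ w ∈ W, w = 0
  · exact ⟨0, fun w hw => by rw [hW w hw]; simp⟩
  · push Not at hW
    obtain ⟨w₀, hw₀, hne⟩ := hW
    obtain ⟨c₀, hc₀⟩ := h w₀ hw₀
    refine ⟨c₀, fun w hw => ?_⟩
    obtain ⟨c, hc⟩ := h w hw
    obtain ⟨c', hc'⟩ := h (w + w₀) (W.add_mem hw hw₀)
    by_cases hcc : c = c₀
    · rw [hc, hcc]
    · have h1 : (c - c') • w = (c' - c₀) • w₀ := by
        have h2 : τ (w + w₀) = c • w + c₀ • w₀ := by rw [map_add, hc, hc₀]
        rw [hc', smul_add] at h2
        rw [sub_smul, sub_smul, sub_eq_sub_iff_add_eq_add, ← h2]; abel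
      by_cases h2 : c = c'
      · exfalso
        rw [h2, sub_self, zero_smul] at h1
        have h3 : c' - c₀ ≠ 0 := by rw [← h2]; exact sub_ne_zero.mpr hcc
        exact hne ((smul_eq_zero.mp h1.symm).resolve_left h3)
      · have hw' : w = ((c - c')⁻¹ * (c' - c₀)) • w₀ := by
          rw [mul_smul, ← h1, smul_smul, inv_mul_cancel₀ (sub_ne_zero.mpr h2), one_smul]
        rw [hw', map_smul, hc₀, smul_comm]

/-- `β² = (k+1)β − k` -/
def IsQuad (β : Module.End K V) (k : K) : Prop :=
  β * β = (k + 1) • β - k • (1 : Module.End K V)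

theorem isQuad_of_star (σ : Module.End K V)
    (h : ∀ v, ∃ c : K, σ (σ v - v) = c • (σ v - v)) : ∃ k, IsQuad σ k := by
  obtain ⟨k, hk⟩ := exists_scalar_of_forall_eigen σ (LinearMap.range (σ - 1)) (by
    rintro w ⟨v, rfl⟩
    simpa using h v)
  refine ⟨k, ?_⟩
  unfold IsQuad
  ext v
  have h1 := hk (σ v - v) ⟨v, by simp⟩
  rw [map_sub] at h1
  simp only [Module.End.mul_apply, LinearMap.sub_apply, LinearMap.smul_apply, Module.End.one_apply]
  rw [add_smul, one_smul]
  rw [smul_sub] at h1
  rw [sub_eq_iff_eq_add] at h1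
  rw [h1]; abel

theorem IsQuad.conj {β τ τ' : Module.End K V} {k : K} (h : IsQuad β k) (h1 : τ * τ' = 1)
    (h2 : τ' * τ = 1) : IsQuad (τ * β * τ') k := by
  unfold IsQuad at *
  calc τ * β * τ' * (τ * β * τ') = τ * (β * (τ' * τ) * β) * τ' := by simp only [mul_assoc]
    _ = τ * (β * β) * τ' := by rw [h2, mul_one]
    _ = (k + 1) • (τ * β * τ') - k • 1 := by
      rw [h, mul_sub, sub_mul, mul_smul_comm, smul_mul_assoc, mul_smul_comm, smul_mul_assoc,
        mul_one, h1]

/-- a pair of complementary orthogonal idempotents -/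
structure OrthIdem (e e' : Module.End K V) : Prop where
  add : e + e' = 1
  ee : e * e = e
  e'e' : e' * e' = e'
  ee' : e * e' = 0
  e'e : e' * e = 0

theorem OrthIdem.mul {e e' : Module.End K V} (h : OrthIdem e e') (x y x' y' : K) :
    (x • e + y • e') * (x' • e + y' • e') = (x * x') • e + (y * y') • e' := by
  simp only [add_mul, mul_add, smul_mul_smul_comm, h.ee, h.ee', h.e'e, h.e'e', smul_zero,
    add_zero, zero_add]

theorem OrthIdem.pow {e e' : Module.End K V} (h : OrthIdem e e') (x y : K) (n : ℕ) :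
    (x • e + y • e') ^ n = (x ^ n) • e + (y ^ n) • e' := by
  induction n with
  | zero => simp [h.add]
  | succ n ih => rw [pow_succ, ih, h.mul, pow_succ, pow_succ]

theorem OrthIdem.eq_zero {e e' : Module.End K V} (h : OrthIdem e e') {x y : K}
    (hx : x • e + y • e' = 0) : (e ≠ 0 → x = 0) ∧ (e' ≠ 0 → y = 0) := by
  constructor
  · intro he
    have h1 : (x • e + y • e') * e = x • e := by
      rw [add_mul, smul_mul_assoc, smul_mul_assoc, h.ee, h.e'e, smul_zero, add_zero]
    rw [hx, zero_mul] at h1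
    exact (smul_eq_zero.mp h1.symm).resolve_right he
  · intro he
    have h1 : (x • e + y • e') * e' = y • e' := by
      rw [add_mul, smul_mul_assoc, smul_mul_assoc, h.ee', h.e'e', smul_zero, zero_add]
    rw [hx, zero_mul] at h1
    exact (smul_eq_zero.mp h1.symm).resolve_right he

theorem OrthIdem.eq_of_eq {e e' : Module.End K V} (h : OrthIdem e e') {x y x' y' : K}
    (hx : x • e + y • e' = x' • e + y' • e') (he : e ≠ 0) (he' : e' ≠ 0) : x = x' ∧ y = y' := by
  have h1 : (x - x') • e + (y - y') • e' = 0 := by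
    rw [sub_smul, sub_smul]
    rw [← sub_eq_zero] at hx
    rw [← hx]; abel
  obtain ⟨h2, h3⟩ := h.eq_zero h1
  exact ⟨sub_eq_zero.mp (h2 he), sub_eq_zero.mp (h3 he')⟩

theorem IsQuad.exists_idem {β : Module.End K V} {k : K} (h : IsQuad β k) (hk : k ≠ 1) :
    ∃ e e' : Module.End K V, OrthIdem e e' ∧ β = (1 : K) • e + k • e' := by
  have hd : (1 - k) ≠ 0 := sub_ne_zero.mpr (Ne.symm hk)
  unfold IsQuad at h
  refine ⟨(1 - k)⁻¹ • (β - k • 1), (1 - k)⁻¹ • (1 - β), ⟨?_, ?_, ?_, ?_, ?_⟩, ?_⟩
  · rw [← smul_add]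
    have : β - k • (1 : Module.End K V) + (1 - β) = (1 - k) • 1 := by module
    rw [this, smul_smul, inv_mul_cancel₀ hd, one_smul]
  · rw [smul_mul_smul_comm]
    have : (β - k • (1 : Module.End K V)) * (β - k • 1) = (1 - k) • (β - k • 1) := by
      simp only [sub_mul, mul_sub, smul_mul_assoc, mul_smul_comm, one_mul, mul_one, h]
      module
    rw [this, smul_smul]
    congr 1
    field_simp
  · rw [smul_mul_smul_comm]
    have : ((1 : Module.End K V) - β) * (1 - β) = (1 - k) • (1 - β) := by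
      simp only [sub_mul, mul_sub, one_mul, mul_one, h]
      module
    rw [this, smul_smul]
    congr 1
    field_simp
  · rw [smul_mul_smul_comm]
    have : (β - k • (1 : Module.End K V)) * (1 - β) = 0 := by
      simp only [sub_mul, mul_sub, smul_mul_assoc, one_mul, mul_one, h]
      module
    rw [this, smul_zero]
  · rw [smul_mul_smul_comm]
    have : ((1 : Module.End K V) - β) * (β - k • 1) = 0 := by
      simp only [sub_mul, mul_sub, mul_smul_comm, one_mul, mul_one, h]
      module
    rw [this, smul_zero]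
  · have hc : (1 - k)⁻¹ * (1 - k) = 1 := inv_mul_cancel₀ hd
    generalize (1 - k)⁻¹ = c at hc
    rw [smul_smul, smul_smul]
    nth_rewrite 1 [← one_smul K β, ← hc]
    module

end LinAlg

end Cfsg.Agent.Lib.Helper21.ConjPair
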