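import Mathlib
import Cfsg.Prelude.Def_SolvableStructure
import Cfsg.Agent.Lib.helper4.Supersolvable
import Cfsg.Agent.Lib.Helper21.ConjPairB1

set_option autoImplicit false
open Cfsg

namespace Cfsg.Agent.Lib.Helper21.ConjPair

universe u

section LinAlg2
variable {K V : Type*} [Field K] [AddCommGroup V] [Module K V]

theorem IsQuad.eq_one_of_pow {β : Module.End K V} (h : IsQuad β 1) {n : ℕ} (hn : (n : K) ≠ 0)
    (hpow : β ^ n = 1) : β = 1 := by
  unfold IsQuad at h
  have key : ∀ j : ℕ, β ^ j = (j : K) • (β - 1) + 1 := by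
    intro j
    induction j with
    | zero => simp
    | succ j ih =>
      rw [pow_succ, ih, add_mul, smul_mul_assoc, sub_mul, h, one_mul]
      push_cast
      module
  rw [key n] at hpow
  have h1 : (n : K) • (β - 1) = 0 := by
    rw [← sub_eq_zero] at hpow
    rw [← hpow]; abel
  have h2 := (smul_eq_zero.mp h1).resolve_left hn
  exact sub_eq_zero.mp h2

theorem OrthIdem.isQuad_imp {e e' : Module.End K V} (h : OrthIdem e e') (he : e ≠ 0) (he' : e' ≠ 0)
    {x y l : K} (hQ : IsQuad (x • e + y • e') l) :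
    (x - 1) * (x - l) = 0 ∧ (y - 1) * (y - l) = 0 := by
  unfold IsQuad at hQ
  rw [h.mul] at hQ
  have h1 : (l + 1) • (x • e + y • e') - l • (1 : Module.End K V) =
      ((l + 1) * x - l) • e + ((l + 1) * y - l) • e' := by
    rw [← h.add]; module
  rw [h1] at hQ
  obtain ⟨h2, h3⟩ := h.eq_of_eq hQ he he'
  constructor
  · linear_combination h2
  · linear_combination h3

end LinAlg2

section GT

theorem exists_pelement_mod_normal {M : Type u} [Group M] [Finite M] (hss : IsSupersolvable M)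
    (Z : Subgroup M) [Z.Normal] (hZ : Z ≠ ⊤) :
    ∃ (b : M) (p e : ℕ), p.Prime ∧ orderOf b = p ^ e ∧ b ∉ Z ∧
      ∀ m : M, ∃ j : ℕ, ∃ z ∈ Z, m * b * m⁻¹ = b ^ j * z := by
  classical
  have hnt : Nontrivial (M ⧸ Z) := by
    rw [← Finite.one_lt_card_iff_nontrivial, ← Subgroup.index_eq_card]
    have h1 : Z.index ≠ 1 := fun h => hZ (Subgroup.index_eq_one.mp h)
    have h2 : Z.index ≠ 0 := Subgroup.index_ne_zero_of_finite
    omega
  have hq := Cfsg.Agent.Lib.helper4.isSupersolvable_quotient Z hss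
  obtain ⟨B, hBn, hBp⟩ := Cfsg.Agent.Lib.helper4.exists_normal_prime hq
  obtain ⟨p, hp⟩ : ∃ p, p = Nat.card B := ⟨_, rfl⟩
  rw [← hp] at hBp
  haveI : Fact p.Prime := ⟨hBp⟩
  have hBne : B ≠ ⊥ := by
    intro h
    rw [h, Subgroup.card_bot] at hp
    exact hBp.ne_one hp
  obtain ⟨⟨β, hβB⟩, hβ1⟩ := (Subgroup.ne_bot_iff_exists_ne_one).mp hBne
  have hβ1' : β ≠ 1 := fun h => hβ1 (Subtype.ext h)
  obtain ⟨b₀, rfl⟩ := QuotientGroup.mk_surjective β
  have hβord : orderOf (b₀ : M ⧸ Z) = p := by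
    apply orderOf_eq_prime
    · have h1 := pow_card_eq_one' (G := B) (x := ⟨_, hβB⟩)
      rw [← hp] at h1
      exact congrArg Subtype.val h1
    · exact hβ1'
  have ho : orderOf b₀ ≠ 0 := (orderOf_pos b₀).ne'
  obtain ⟨e, d, hd, hod⟩ := Nat.exists_eq_pow_mul_and_not_dvd ho p hBp.ne_one
  have hdpos : 0 < d := by
    rcases Nat.eq_zero_or_pos d with h | h
    · rw [h, mul_zero] at hod; exact absurd hod ho
    · exact h
  have hbd1 : ((b₀ ^ d : M) : M ⧸ Z) ≠ 1 := by
    rw [QuotientGroup.mk_pow]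
    intro h
    rw [← orderOf_dvd_iff_pow_eq_one, hβord] at h
    exact hd h
  refine ⟨b₀ ^ d, p, e, hBp, ?_, ?_, ?_⟩
  · rw [orderOf_pow, hod, Nat.gcd_mul_left_left, Nat.mul_div_cancel _ hdpos]
  · intro h
    exact hbd1 ((QuotientGroup.eq_one_iff _).mpr h)
  · intro m
    have hmem : ((m * b₀ ^ d * m⁻¹ : M) : M ⧸ Z) ∈ B := by
      rw [QuotientGroup.mk_mul, QuotientGroup.mk_mul, QuotientGroup.mk_inv]
      apply hBn.conj_mem
      rw [QuotientGroup.mk_pow]
      exact B.pow_mem hβB d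
    have hgB : ((b₀ ^ d : M) : M ⧸ Z) ∈ B := by
      rw [QuotientGroup.mk_pow]
      exact B.pow_mem hβB d
    have hg1 : (⟨_, hgB⟩ : B) ≠ 1 := fun h => hbd1 (congrArg Subtype.val h)
    have h1 := mem_powers_of_prime_card (G := B) hp.symm (g' := ⟨_, hmem⟩) hg1
    obtain ⟨j, hj⟩ := Submonoid.mem_powers_iff _ _ |>.mp h1
    have hj' : ((b₀ ^ d : M) : M ⧸ Z) ^ j = ((m * b₀ ^ d * m⁻¹ : M) : M ⧸ Z) :=
      congrArg Subtype.val hj
    rw [← QuotientGroup.mk_pow] at hj'
    refine ⟨j, ((b₀ ^ d) ^ j)⁻¹ * (m * b₀ ^ d * m⁻¹), ?_, ?_⟩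
    · exact QuotientGroup.eq.mp hj'
    · group

end GT

section Core
variable {M : Type u} [Group M] {V : Type*} [AddCommGroup V] {r : ℕ} [Fact r.Prime]
  [Module (ZMod r) V] (ρ : M →* Module.End (ZMod r) V)

/-- the elements acting as scalars -/
def scalarSubgroup [Nontrivial V] : Subgroup M where
  carrier := {m | ∃ c : ZMod r, ρ m = c • 1}
  one_mem' := ⟨1, by simp⟩
  mul_mem' := by
    rintro a b ⟨c, hc⟩ ⟨d, hd⟩
    exact ⟨c * d, by rw [map_mul, hc, hd, smul_mul_smul_comm, mul_one]⟩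
  inv_mem' := by
    rintro a ⟨c, hc⟩
    have h1 : ρ a * ρ a⁻¹ = 1 := by rw [← map_mul, mul_inv_cancel, map_one]
    rw [hc, smul_mul_assoc, one_mul] at h1
    have hc0 : c ≠ 0 := by
      rintro rfl
      rw [zero_smul] at h1
      exact zero_ne_one h1
    exact ⟨c⁻¹, by rw [← h1, smul_smul, inv_mul_cancel₀ hc0, one_smul]⟩

theorem mem_scalarSubgroup [Nontrivial V] {m : M} :
    m ∈ scalarSubgroup ρ ↔ ∃ c : ZMod r, ρ m = c • 1 := Iff.rfl

instance scalarSubgroup_normal [Nontrivial V] : (scalarSubgroup ρ).Normal := ⟨by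
  rintro z ⟨c, hc⟩ m
  refine ⟨c, ?_⟩
  rw [map_mul, map_mul, hc, mul_smul_comm, mul_one, smul_mul_assoc, ← map_mul, mul_inv_cancel,
    map_one]⟩

theorem scalarSubgroup_central [Nontrivial V] (hinj : Function.Injective ρ) {z : M}
    (hz : z ∈ scalarSubgroup ρ) (m : M) : z * m = m * z := by
  obtain ⟨c, hc⟩ := hz
  apply hinj
  rw [map_mul, map_mul, hc, smul_mul_assoc, one_mul, mul_smul_comm, mul_one]

theorem rho_mul_inv (m : M) : ρ m * ρ m⁻¹ = 1 := by rw [← map_mul, mul_inv_cancel, map_one]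

theorem rho_inv_mul (m : M) : ρ m⁻¹ * ρ m = 1 := by rw [← map_mul, inv_mul_cancel, map_one]

theorem scalar_ne_zero [Nontrivial V] {z : M} {c : ZMod r} (hc : ρ z = c • 1) : c ≠ 0 := by
  rintro rfl
  have h1 := rho_mul_inv ρ z
  rw [hc, zero_smul, zero_mul] at h1
  exact zero_ne_one h1

/-- the case where the chosen element is an `r`-element -/
theorem core_r [Finite V] [Nontrivial V] (hinj : Function.Injective ρ)
    (hirr : ∀ W : Submodule (ZMod r) V, (∀ m, ∀ w ∈ W, ρ m w ∈ W) → W = ⊥ ∨ W = ⊤)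
    (b : M) (e : ℕ) (hb : orderOf b = r ^ e) (hbZ : b ∉ scalarSubgroup ρ)
    (hconj : ∀ m : M, ∃ j : ℕ, ∃ z ∈ scalarSubgroup ρ, m * b * m⁻¹ = b ^ j * z) : False := by
  classical
  have hr : r.Prime := Fact.out
  have hZpow : ∀ z ∈ scalarSubgroup ρ, z ^ (r - 1) = 1 := by
    rintro z ⟨c, hc⟩
    apply hinj
    rw [map_pow, hc, map_one, smul_pow, one_pow, ZMod.pow_card_sub_one_eq_one (scalar_ne_zero ρ hc),
      one_smul]
  have hb1 : b ≠ 1 := fun h => hbZ (h ▸ Subgroup.one_mem _)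
  have he : e ≠ 0 := by
    rintro rfl
    rw [pow_zero, orderOf_eq_one_iff] at hb
    exact hb1 hb
  obtain ⟨a, ha⟩ : ∃ a, a = b ^ (r - 1) := ⟨_, rfl⟩
  have haconj : ∀ m, ∃ j : ℕ, m * a * m⁻¹ = a ^ j := by
    intro m
    obtain ⟨j, z, hz, hj⟩ := hconj m
    refine ⟨j, ?_⟩
    have hcomm : Commute (b ^ j) z := (scalarSubgroup_central ρ hinj hz (b ^ j)).symm
    calc m * a * m⁻¹ = (m * b * m⁻¹) ^ (r - 1) := by rw [conj_pow, ha]
      _ = (b ^ j * z) ^ (r - 1) := by rw [hj]
      _ = (b ^ j) ^ (r - 1) * z ^ (r - 1) := hcomm.mul_pow _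
      _ = a ^ j := by rw [hZpow z hz, mul_one, ha, ← pow_mul, ← pow_mul, mul_comm]
  have ha1 : a ≠ 1 := by
    intro h
    rw [ha, ← orderOf_dvd_iff_pow_eq_one, hb] at h
    have h1 : r ∣ r - 1 := dvd_trans (dvd_pow_self r he) h
    have h2 := Nat.le_of_dvd (by have := hr.two_le; omega) h1
    have := hr.two_le
    omega
  have hapow : a ^ (r ^ e) = 1 := by
    rw [ha, ← pow_mul, mul_comm, pow_mul, ← hb, pow_orderOf_eq_one, one_pow]
  -- the fixed space
  have hfixpow : ∀ (w : V), ρ a w = w → ∀ j : ℕ, ρ (a ^ j) w = w := by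
    intro w hw j
    induction j with
    | zero => simp
    | succ j ih => rw [pow_succ, map_mul, Module.End.mul_apply, hw, ih]
  have hW := hirr (LinearMap.ker (ρ a - 1)) (by
    intro m w hw
    rw [LinearMap.mem_ker, LinearMap.sub_apply, Module.End.one_apply, sub_eq_zero] at hw ⊢
    obtain ⟨j, hj⟩ := haconj m⁻¹
    rw [inv_inv] at hj
    have h1 : a * m = m * a ^ j := by rw [← hj]; group
    calc ρ a (ρ m w) = ρ (a * m) w := by rw [map_mul, Module.End.mul_apply]
      _ = ρ m (ρ (a ^ j) w) := by rw [h1, map_mul, Module.End.mul_apply]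
      _ = ρ m w := by rw [hfixpow w hw j])
  rcases hW with hW | hW
  · -- counting
    haveI : Fintype V := Fintype.ofFinite V
    obtain ⟨v, hv⟩ := exists_ne (0 : V)
    have h3 : addOrderOf v = r := by
      apply addOrderOf_eq_prime _ hv
      rw [← Nat.cast_smul_eq_nsmul (ZMod r), ZMod.natCast_self, zero_smul]
    have h4 : r ∣ Fintype.card V := by
      rw [Fintype.card_eq_nat_card]
      exact h3 ▸ addOrderOf_dvd_natCard v
    let σ : Equiv.Perm V := ⟨ρ a, ρ a⁻¹,
      fun v => by rw [← Module.End.mul_apply, rho_inv_mul, Module.End.one_apply],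
      fun v => by rw [← Module.End.mul_apply, rho_mul_inv, Module.End.one_apply]⟩
    have hσ : σ ^ r ^ e = 1 := by
      ext v
      rw [← Equiv.Perm.iterate_eq_pow]
      show (ρ a)^[r ^ e] v = v
      rw [← Module.End.pow_apply, ← map_pow, hapow, map_one, Module.End.one_apply]
    obtain ⟨w, hw, hw0⟩ := Equiv.Perm.exists_fixed_point_of_prime' (p := r) (n := e) h4 hσ
      (a := 0) (map_zero (ρ a))
    apply hw0
    have : w ∈ LinearMap.ker (ρ a - 1) := by
      rw [LinearMap.mem_ker, LinearMap.sub_apply, Module.End.one_apply, sub_eq_zero]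
      exact hw
    rw [hW] at this
    exact (Submodule.mem_bot _).mp this
  · apply ha1
    apply hinj
    rw [map_one]
    ext v
    have : v ∈ LinearMap.ker (ρ a - 1) := by rw [hW]; trivial
    rw [LinearMap.mem_ker, LinearMap.sub_apply, sub_eq_zero] at this
    exact this

/-- the case where the chosen element is an `r'`-element -/
theorem core_p [Finite M] [Nontrivial V] (hinj : Function.Injective ρ)
    (hirr : ∀ W : Submodule (ZMod r) V, (∀ m, ∀ w ∈ W, ρ m w ∈ W) → W = ⊥ ∨ W = ⊤)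
    (hq : ∀ (x : M) (p a : ℕ), p.Prime → p ≠ r → orderOf x = p ^ a → ∃ k, IsQuad (ρ x) k)
    (b : M) (p e : ℕ) (hp : p.Prime) (hpr : p ≠ r) (hb : orderOf b = p ^ e)
    (hbZ : b ∉ scalarSubgroup ρ)
    (hconj : ∀ m : M, ∃ j : ℕ, ∃ z ∈ scalarSubgroup ρ, m * b * m⁻¹ = b ^ j * z) : False := by
  have hr : r.Prime := Fact.out
  obtain ⟨k, hk⟩ := hq b p e hp hpr hb
  obtain ⟨β, hβ⟩ : ∃ β, β = ρ b := ⟨_, rfl⟩
  rw [← hβ] at hk
  have hβns : ∀ c : ZMod r, β ≠ c • 1 := fun c h => hbZ ⟨c, hβ ▸ h⟩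
  have hk1 : k ≠ 1 := by
    rintro rfl
    have hn : ((p ^ e : ℕ) : ZMod r) ≠ 0 := by
      rw [Ne, ZMod.natCast_eq_zero_iff]
      intro h
      have := hr.dvd_of_dvd_pow h
      exact hpr ((Nat.prime_dvd_prime_iff_eq hr hp).mp this).symm
    have h1 := hk.eq_one_of_pow hn (by rw [hβ, ← map_pow, ← hb, pow_orderOf_eq_one, map_one])
    exact hβns 1 (by rw [h1, one_smul])
  obtain ⟨e₁, e₂, hoi, hβe⟩ := hk.exists_idem hk1
  have he₁ : e₁ ≠ 0 := by
    rintro rfl
    apply hβns k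
    have := hoi.add
    rw [zero_add] at this
    rw [hβe, smul_zero, zero_add, this]
  have he₂ : e₂ ≠ 0 := by
    rintro rfl
    apply hβns 1
    have := hoi.add
    rw [add_zero] at this
    rw [hβe, smul_zero, add_zero, this]
  have hk0 : k ≠ 0 := by
    rintro rfl
    apply he₂
    have h1 : e₂ * β = 0 := by rw [hβe, zero_smul, add_zero, one_smul, hoi.e'e]
    calc e₂ = e₂ * (β * ρ b⁻¹) := by rw [hβ, rho_mul_inv, mul_one]
      _ = 0 := by rw [← mul_assoc, h1, zero_mul]
  have hdich : ∀ m, ρ (m * b * m⁻¹) = β ∨ ρ (m * b * m⁻¹) = (k + 1) • 1 - β := by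
    intro m
    obtain ⟨j, z, ⟨μ, hμ⟩, hj⟩ := hconj m
    have hQ : IsQuad (ρ (m * b * m⁻¹)) k := by
      rw [map_mul, map_mul, ← hβ]
      exact hk.conj (rho_mul_inv ρ m) (rho_inv_mul ρ m)
    have hform : ρ (m * b * m⁻¹) = μ • e₁ + (μ * k ^ j) • e₂ := by
      rw [hj, map_mul, map_pow, ← hβ, hμ, mul_smul_comm, mul_one, hβe, hoi.pow, one_pow, smul_add,
        smul_smul, smul_smul, mul_one]
    rw [hform] at hQ
    obtain ⟨h2, h3⟩ := hoi.isQuad_imp he₁ he₂ hQ
    generalize μ * k ^ j = ν at *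
    have hμ' : μ = 1 ∨ μ = k := by
      rcases mul_eq_zero.mp h2 with h | h
      · left; exact sub_eq_zero.mp h
      · right; exact sub_eq_zero.mp h
    have hν' : ν = 1 ∨ ν = k := by
      rcases mul_eq_zero.mp h3 with h | h
      · left; exact sub_eq_zero.mp h
      · right; exact sub_eq_zero.mp h
    rcases hμ' with hμ1 | hμ1 <;> rcases hν' with hν1 | hν1
    · exfalso
      have h4 : ρ (m * b * m⁻¹) = ρ 1 := by
        rw [hform, hμ1, hν1, one_smul, one_smul, hoi.add, map_one]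
      have h5 := hinj h4
      rw [conj_eq_one_iff] at h5
      exact hbZ (h5 ▸ Subgroup.one_mem _)
    · left
      rw [hform, hμ1, hν1, hβe]
    · right
      rw [hform, hμ1, hν1, hβe, ← hoi.add]
      module
    · exfalso
      have h4 : m * b * m⁻¹ ∈ scalarSubgroup ρ := by
        refine ⟨k, ?_⟩
        rw [hform, hμ1, hν1, ← smul_add, hoi.add]
      have h5 := (scalarSubgroup_normal ρ).conj_mem _ h4 m⁻¹
      apply hbZ
      convert h5 using 1
      group
  obtain ⟨m₀, hm₀⟩ : ∃ m₀, ρ (m₀ * b * m₀⁻¹) = (k + 1) • 1 - β := by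
    by_contra hcon
    push Not at hcon
    have hall : ∀ m, ρ m * β = β * ρ m := by
      intro m
      have h1 := (hdich m).resolve_right (hcon m)
      rw [map_mul, map_mul, ← hβ] at h1
      calc ρ m * β = ρ m * β * (ρ m⁻¹ * ρ m) := by rw [rho_inv_mul, mul_one]
        _ = (ρ m * β * ρ m⁻¹) * ρ m := by simp only [mul_assoc]
        _ = β * ρ m := by rw [h1]
    have hW := hirr (LinearMap.ker (β - 1)) (by
      intro m w hw
      rw [LinearMap.mem_ker, LinearMap.sub_apply, Module.End.one_apply, sub_eq_zero] at hw ⊢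
      rw [← Module.End.mul_apply, ← hall m, Module.End.mul_apply, hw])
    rcases hW with hW | hW
    · apply hβns k
      ext v
      have hv : (β - k • 1) v ∈ LinearMap.ker (β - 1) := by
        rw [LinearMap.mem_ker, ← Module.End.mul_apply]
        have h1 : (β - 1) * (β - k • 1) = 0 := by
          have h2 := hk
          unfold IsQuad at h2
          simp only [sub_mul, mul_sub, mul_smul_comm, one_mul, mul_one, h2]
          module
        rw [h1]
        rfl
      rw [hW, Submodule.mem_bot, LinearMap.sub_apply, sub_eq_zero] at hv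
      exact hv
    · apply hβns 1
      rw [one_smul]
      ext v
      have : v ∈ LinearMap.ker (β - 1) := by rw [hW]; trivial
      rw [LinearMap.mem_ker, LinearMap.sub_apply, sub_eq_zero] at this
      exact this
  have hm₀' : ρ (m₀ * b * m₀⁻¹) = k • e₁ + (1 : ZMod r) • e₂ := by
    rw [hm₀, hβe, ← hoi.add]
    module
  have hkneg : k = -1 := by
    obtain ⟨j, z, hz, hj⟩ := hconj m₀
    obtain ⟨b', hb'⟩ : ∃ b', b' = m₀ * b * m₀⁻¹ := ⟨_, rfl⟩
    rw [← hb'] at hj hm₀'
    have hcomm : Commute b' b := by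
      rw [hj]
      show b ^ j * z * b = b * (b ^ j * z)
      rw [mul_assoc, scalarSubgroup_central ρ hinj hz b, ← mul_assoc, ← mul_assoc, ← pow_succ,
        ← pow_succ']
    have hy : (b' * (b * b)) ^ (p ^ e) = 1 := by
      have hc2 : Commute b' (b * b) := hcomm.mul_right hcomm
      rw [hc2.mul_pow, hb', conj_pow, (Commute.refl b).mul_pow, ← hb, pow_orderOf_eq_one]
      group
    obtain ⟨e', -, he'⟩ := (Nat.dvd_prime_pow hp).mp (orderOf_dvd_of_pow_eq_one hy)
    obtain ⟨l, hl⟩ := hq _ p e' hp hpr he'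
    have hform : ρ (b' * (b * b)) = (k * (1 * 1)) • e₁ + (1 * (k * k)) • e₂ := by
      rw [map_mul, map_mul, hm₀', ← hβ, hβe, hoi.mul, hoi.mul]
    rw [hform] at hl
    obtain ⟨h2, h3⟩ := hoi.isQuad_imp he₁ he₂ hl
    have hlk : l = k := by
      have h4 : (k - 1) * (k - l) = 0 := by linear_combination h2
      rcases mul_eq_zero.mp h4 with h | h
      · exact absurd (sub_eq_zero.mp h) hk1
      · exact (sub_eq_zero.mp h).symm
    subst hlk
    have h4 : (l - 1) * (l - 1) * l * (l + 1) = 0 := by linear_combination h3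
    rcases mul_eq_zero.mp h4 with h | h
    · rcases mul_eq_zero.mp h with h | h
      · rcases mul_eq_zero.mp h with h | h
        · exact absurd (sub_eq_zero.mp h) hk1
        · exact absurd (sub_eq_zero.mp h) hk1
      · exact absurd h hk0
    · exact eq_neg_of_add_eq_zero_left h
  subst hkneg
  have h2ne : (2 : ZMod r) ≠ 0 := by
    intro h
    apply hk1
    linear_combination (-1 : ZMod r) * h
  have hββ : β * β = 1 := by
    have h1 := hk
    unfold IsQuad at h1
    rw [h1]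
    module
  have hm₀'' : ρ (m₀ * b * m₀⁻¹) = -β := by
    rw [hm₀]
    module
  obtain ⟨τ, hτ⟩ : ∃ τ, τ = ρ m₀ := ⟨_, rfl⟩
  have hanti : τ * β = -(β * τ) := by
    rw [map_mul, map_mul, ← hβ, ← hτ] at hm₀''
    calc τ * β = τ * β * (ρ m₀⁻¹ * τ) := by rw [hτ, rho_inv_mul, mul_one]
      _ = (τ * β * ρ m₀⁻¹) * τ := by simp only [mul_assoc]
      _ = -(β * τ) := by rw [hm₀'', neg_mul]
  have hantipow : ∀ n : ℕ, Odd n → τ ^ n * β = -(β * τ ^ n) := by
    have key : ∀ n : ℕ, τ ^ n * β = ((-1 : ZMod r) ^ n) • (β * τ ^ n) := by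
      intro n
      induction n with
      | zero => simp
      | succ n ih =>
        rw [pow_succ, mul_assoc, hanti, mul_neg, ← mul_assoc, ih, smul_mul_assoc, mul_assoc,
          pow_succ, mul_neg_one, neg_smul]
    intro n hn
    rw [key n, hn.neg_one_pow, neg_one_smul]
  have ho : orderOf m₀ ≠ 0 := (orderOf_pos m₀).ne'
  obtain ⟨e', d, hd, hod⟩ := Nat.exists_eq_pow_mul_and_not_dvd ho 2 (by norm_num)
  have hdodd : Odd d := by rw [← Nat.not_even_iff_odd, even_iff_two_dvd]; exact hd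
  have hdpos : 0 < d := hdodd.pos
  obtain ⟨s, hs⟩ : ∃ s, s = m₀ ^ d := ⟨_, rfl⟩
  have hsord : orderOf s = 2 ^ e' := by
    rw [hs, orderOf_pow, hod, Nat.gcd_mul_left_left, Nat.mul_div_cancel _ hdpos]
  have h2r : 2 ≠ r := by
    intro h
    apply h2ne
    have h1 : ((2 : ℕ) : ZMod r) = 0 := (ZMod.natCast_eq_zero_iff 2 r).mpr (h ▸ dvd_refl _)
    exact_mod_cast h1
  obtain ⟨l, hl⟩ := hq s 2 e' Nat.prime_two h2r hsord
  obtain ⟨γ, hγ⟩ : ∃ γ, γ = ρ s := ⟨_, rfl⟩
  rw [← hγ] at hl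
  have hγβ : γ * β = -(β * γ) := by rw [hγ, hs, map_pow, ← hτ]; exact hantipow d hdodd
  have hγ0 : γ ≠ 0 := by
    intro h
    have := rho_mul_inv ρ s
    rw [← hγ, h, zero_mul] at this
    exact zero_ne_one this
  have hβγ0 : β * γ ≠ 0 := by
    intro h
    apply hγ0
    calc γ = (β * β) * γ := by rw [hββ, one_mul]
      _ = 0 := by rw [mul_assoc, h, mul_zero]
  have hγγ : γ * γ = 1 := by
    unfold IsQuad at hl
    have h1 : (γ * γ) * β = β * (γ * γ) := by
      rw [mul_assoc, hγβ, mul_neg, ← mul_assoc, hγβ, neg_mul, neg_neg, mul_assoc]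
    rw [hl] at h1
    have h2 : ((2 : ZMod r) * (l + 1)) • (β * γ) = 0 := by
      simp only [sub_mul, mul_sub, smul_mul_assoc, mul_smul_comm, one_mul, mul_one, hγβ] at h1
      have h3 : ((2 : ZMod r) * (l + 1)) • (β * γ) =
          (l + 1) • (β * γ) - l • β - ((l + 1) • (-(β * γ)) - l • β) := by module
      rw [h3, h1, sub_self]
    have h3 : l + 1 = 0 := by
      rcases smul_eq_zero.mp h2 with h | h
      · exact (mul_eq_zero.mp h).resolve_left h2ne
      · exact absurd h hβγ0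
    have h4 : l = -1 := eq_neg_of_add_eq_zero_left h3
    rw [hl, h4]
    module
  have hsq : (β * γ) * (β * γ) = -1 := by
    calc (β * γ) * (β * γ) = β * (γ * β) * γ := by simp only [mul_assoc]
      _ = -((β * β) * (γ * γ)) := by rw [hγβ, mul_neg, neg_mul]; simp only [mul_assoc]
      _ = -1 := by rw [hββ, hγγ, mul_one]
  have hy4 : (b * s) ^ 4 = 1 := by
    apply hinj
    rw [map_pow, map_mul, ← hβ, ← hγ, map_one]
    have h1 : (β * γ) ^ 4 = ((β * γ) * (β * γ)) * ((β * γ) * (β * γ)) := by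
      simp only [pow_succ, pow_zero, one_mul, mul_assoc]
    rw [h1, hsq]
    simp
  obtain ⟨e'', -, he''⟩ := (Nat.dvd_prime_pow Nat.prime_two).mp
    (show orderOf (b * s) ∣ 2 ^ 2 from orderOf_dvd_of_pow_eq_one hy4)
  obtain ⟨l', hl'⟩ := hq (b * s) 2 e'' Nat.prime_two h2r he''
  rw [map_mul, ← hβ, ← hγ] at hl'
  unfold IsQuad at hl'
  rw [hsq] at hl'
  have h5 : (l' + 1) • (β * γ) = (l' - 1) • (1 : Module.End (ZMod r) V) := by
    have h := hl'
    rw [eq_sub_iff_add_eq] at h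
    rw [← h]
    module
  have h6 : (l' + 1) • γ = (l' - 1) • β := by
    have h := congrArg (fun x => β * x) h5
    simp only [mul_smul_comm, ← mul_assoc, hββ, one_mul, mul_one] at h
    exact h
  have h7 : -((l' + 1) • γ) = (l' - 1) • β := by
    have h := congrArg (fun x => x * β) h5
    simp only [smul_mul_assoc, one_mul] at h
    rw [mul_assoc, hγβ, mul_neg, ← mul_assoc, hββ, one_mul, smul_neg] at h
    exact h
  have h8 : ((2 : ZMod r) * (l' + 1)) • γ = 0 := by
    have h : ((2 : ZMod r) * (l' + 1)) • γ = (l' + 1) • γ - (-((l' + 1) • γ)) := by module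
    rw [h, h7, h6, sub_self]
  have h9 : l' + 1 = 0 := by
    rcases smul_eq_zero.mp h8 with h | h
    · exact (mul_eq_zero.mp h).resolve_left h2ne
    · exact absurd h hγ0
  rw [h9, zero_smul] at h6
  have h10 : l' = -1 := eq_neg_of_add_eq_zero_left h9
  rw [h10] at h6
  have h11 : (2 : ZMod r) • β = 0 := by
    have h : (2 : ZMod r) • β = -((-1 - 1 : ZMod r) • β) := by module
    rw [h, ← h6, neg_zero]
  rcases smul_eq_zero.mp h11 with h | h
  · exact h2ne h
  · exact hβns 0 (by rw [h, zero_smul])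

/-- a faithful irreducible supersolvable group over `ZMod r` in which every element of prime
power order (for a prime other than `r`) satisfies a quadratic `(β - k)(β - 1) = 0` acts on a
line -/
theorem core [Finite M] [Finite V] [Nontrivial V] (hinj : Function.Injective ρ)
    (hirr : ∀ W : Submodule (ZMod r) V, (∀ m, ∀ w ∈ W, ρ m w ∈ W) → W = ⊥ ∨ W = ⊤)
    (hss : IsSupersolvable M)
    (hq : ∀ (x : M) (p a : ℕ), p.Prime → p ≠ r → orderOf x = p ^ a → ∃ k, IsQuad (ρ x) k) :
    Nat.card V = r := by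
  have hZ : scalarSubgroup ρ = ⊤ := by
    by_contra hZ
    obtain ⟨b, p, e, hp, hb, hbZ, hconj⟩ := exists_pelement_mod_normal hss (scalarSubgroup ρ) hZ
    by_cases hpr : p = r
    · subst hpr
      exact core_r ρ hinj hirr b e hb hbZ hconj
    · exact core_p ρ hinj hirr hq b p e hp hpr hb hbZ hconj
  obtain ⟨v, hv⟩ := exists_ne (0 : V)
  have hW := hirr (Submodule.span (ZMod r) {v}) (by
    intro m w hw
    have hm : m ∈ scalarSubgroup ρ := hZ ▸ Subgroup.mem_top m
    obtain ⟨c, hc⟩ := hm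
    rw [hc, LinearMap.smul_apply, Module.End.one_apply]
    exact Submodule.smul_mem _ _ hw)
  rcases hW with hW | hW
  · exfalso
    apply hv
    have h1 : v ∈ Submodule.span (ZMod r) {v} := Submodule.mem_span_singleton_self v
    rw [hW] at h1
    exact (Submodule.mem_bot _).mp h1
  · have h1 : Module.finrank (ZMod r) V = 1 := by
      rw [← finrank_top (ZMod r) V, ← hW, finrank_span_singleton hv]
    haveI := Fintype.ofFinite V
    rw [← Fintype.card_eq_nat_card, Module.card_eq_pow_finrank (K := ZMod r), h1, pow_one, ZMod.card]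

end Core

end Cfsg.Agent.Lib.Helper21.ConjPair
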