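import Mathlib
import Cfsg.Agent.Lib.Helper21.ConjPairA
import Cfsg.Agent.Lib.Helper21.ConjPairB2
import Cfsg.Agent.S0579
import Cfsg.Agent.S0527

set_option autoImplicit false
open Cfsg

namespace Cfsg.Agent.Lib.Helper21.ConjPair

universe u

theorem star_of_not_sq_dvd {G : Type*} [Group G] [Finite G] {r : ℕ} (hr : r.Prime)
    (N : Subgroup G) [hN : N.Normal] (hexp : ∀ a ∈ N, a ^ r = 1) (x g : G) (hg : g ∈ N)
    (h : ¬ r ^ 2 ∣ Nat.card ↥(Subgroup.zpowers x ⊔ Subgroup.zpowers (g * x * g⁻¹))) :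
    x * (x * g * x⁻¹ * g⁻¹) * x⁻¹ ∈ Subgroup.zpowers (x * g * x⁻¹ * g⁻¹) := by
  haveI : Fact r.Prime := ⟨hr⟩
  obtain ⟨c, hc⟩ : ∃ c, c = x * g * x⁻¹ * g⁻¹ := ⟨_, rfl⟩
  rw [← hc]
  by_cases hc1 : c = 1
  · rw [hc1]; simp
  obtain ⟨H, hH⟩ : ∃ H, H = Subgroup.zpowers x ⊔ Subgroup.zpowers (g * x * g⁻¹) := ⟨_, rfl⟩
  rw [← hH] at h
  have hxH : x ∈ H := hH ▸ (le_sup_left : Subgroup.zpowers x ≤ _) (Subgroup.mem_zpowers x)
  have hgxH : g * x * g⁻¹ ∈ H :=
    hH ▸ (le_sup_right : Subgroup.zpowers (g * x * g⁻¹) ≤ _) (Subgroup.mem_zpowers _)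
  have hcH : c ∈ H := by
    have h1 : c = x * (g * x * g⁻¹)⁻¹ := by rw [hc]; group
    rw [h1]
    exact H.mul_mem hxH (H.inv_mem hgxH)
  have hcN : c ∈ N := by
    rw [hc]
    exact N.mul_mem (hN.conj_mem g hg x) (N.inv_mem hg)
  have hc'H : x * c * x⁻¹ ∈ H := H.mul_mem (H.mul_mem hxH hcH) (H.inv_mem hxH)
  have hc'N : x * c * x⁻¹ ∈ N := hN.conj_mem c hcN x
  obtain ⟨T, hT⟩ : ∃ T, T = Subgroup.zpowers c ⊔ Subgroup.zpowers (x * c * x⁻¹) := ⟨_, rfl⟩
  have hTH : T ≤ H := hT ▸ sup_le (Subgroup.zpowers_le.mpr hcH) (Subgroup.zpowers_le.mpr hc'H)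
  have hTN : T ≤ N := hT ▸ sup_le (Subgroup.zpowers_le.mpr hcN) (Subgroup.zpowers_le.mpr hc'N)
  have hNp : IsPGroup r N := fun n => ⟨1, by
    rw [pow_one]
    exact Subtype.ext (by rw [Subgroup.coe_pow]; exact hexp n n.2)⟩
  have hTp : IsPGroup r T := hNp.to_le hTN
  obtain ⟨t, ht⟩ := IsPGroup.iff_card.mp hTp
  have htle : t ≤ 1 := by
    by_contra hcon
    push Not at hcon
    apply h
    exact dvd_trans (pow_dvd_pow r hcon) (ht ▸ Subgroup.card_dvd_of_le hTH)
  have hordc : orderOf c = r := orderOf_eq_prime (hexp c hcN) hc1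
  have hle : Subgroup.zpowers c ≤ T := hT ▸ le_sup_left
  have hcard : Nat.card T ≤ Nat.card (Subgroup.zpowers c) := by
    rw [Nat.card_zpowers, hordc, ht]
    calc r ^ t ≤ r ^ 1 := Nat.pow_le_pow_right hr.pos htle
      _ = r := pow_one r
  have heq := Subgroup.eq_of_le_of_card_ge hle hcard
  rw [heq, hT]
  exact (le_sup_right : Subgroup.zpowers (x * c * x⁻¹) ≤ _) (Subgroup.mem_zpowers _)

theorem normal_of_sup_eq_top {G : Type*} [Group G] (N M U : Subgroup G) [N.Normal]
    (h : N ⊔ M = ⊤) (hN : ∀ n ∈ N, ∀ u ∈ U, n * u * n⁻¹ ∈ U)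
    (hM : ∀ m ∈ M, ∀ u ∈ U, m * u * m⁻¹ ∈ U) : U.Normal := by
  refine ⟨fun u hu g => ?_⟩
  have hg : g ∈ N ⊔ M := h ▸ Subgroup.mem_top g
  rw [← SetLike.mem_coe, Subgroup.normal_mul] at hg
  obtain ⟨n, hn, m, hm, rfl⟩ := hg
  have h1 := hN n hn _ (hM m hm u hu)
  convert h1 using 1
  group

theorem card_eq_prime_of_irred {G : Type u} [Group G] [Finite G] {r : ℕ} [hr : Fact r.Prime]
    (N M : Subgroup G) [hNn : N.Normal]
    (hab : ∀ a ∈ N, ∀ b ∈ N, a * b = b * a) (hexp : ∀ a ∈ N, a ^ r = 1) (hN : N ≠ ⊥)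
    (hfaith : ∀ m ∈ M, (∀ n ∈ N, m * n * m⁻¹ = n) → m = 1)
    (hirr : ∀ U : Subgroup G, U ≤ N → (∀ m ∈ M, ∀ u ∈ U, m * u * m⁻¹ ∈ U) → U = ⊥ ∨ U = N)
    (hss : IsSupersolvable M)
    (hstar : ∀ x ∈ M, ∀ p a : ℕ, p.Prime → p ≠ r → orderOf x = p ^ a → ∀ g ∈ N,
       x * (x * g * x⁻¹ * g⁻¹) * x⁻¹ ∈ Subgroup.zpowers (x * g * x⁻¹ * g⁻¹)) :
    Nat.card N = r := by
  letI : CommGroup ↥N := { (inferInstance : Group ↥N) with
    mul_comm := fun a b => Subtype.ext (hab a.1 a.2 b.1 b.2) }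
  obtain ⟨inst⟩ : Nonempty (Module (ZMod r) (Additive ↥N)) :=
    ⟨AddCommGroup.zmodModule (n := r) (by
      intro x
      show Additive.ofMul (x.toMul ^ r) = 0
      have h1 : x.toMul ^ r = 1 := Subtype.ext (by rw [Subgroup.coe_pow]; exact hexp _ x.toMul.2)
      rw [h1]; rfl)⟩
  haveI : Nontrivial (Additive ↥N) := (Subgroup.nontrivial_iff_ne_bot N).mpr hN
  let ρ : ↥M →* Module.End (ZMod r) (Additive ↥N) :=
    { toFun := fun m => (MonoidHom.toAdditive
        (MulAut.conjNormal (m : G) : MulAut ↥N).toMonoidHom).toZModLinearMap r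
      map_one' := by
        apply LinearMap.ext; intro v
        apply Additive.toMul.injective; apply Subtype.ext
        change ((1 : ↥M) : G) * (v.toMul : G) * ((1 : ↥M) : G)⁻¹ = ((v.toMul : ↥N) : G)
        simp
      map_mul' := by
        intro a b
        apply LinearMap.ext; intro v
        apply Additive.toMul.injective; apply Subtype.ext
        change ((a * b : ↥M) : G) * (v.toMul : G) * ((a * b : ↥M) : G)⁻¹ =
          (a : G) * ((b : G) * (v.toMul : G) * (b : G)⁻¹) * (a : G)⁻¹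
        simp [mul_assoc] }
  have hρ : ∀ (m : ↥M) (v : Additive ↥N),
      ((ρ m v).toMul : G) = (m : G) * (v.toMul : G) * (m : G)⁻¹ := fun m v => rfl
  have hinj : Function.Injective ρ := by
    rw [injective_iff_map_eq_one]
    intro m hm
    apply Subtype.ext
    apply hfaith m.1 m.2
    intro n hn
    have h1 := congrArg (fun f => ((f (Additive.ofMul (⟨n, hn⟩ : ↥N))).toMul : G)) hm
    simp only [hρ] at h1
    exact h1
  have hirr' : ∀ W : Submodule (ZMod r) (Additive ↥N), (∀ m, ∀ w ∈ W, ρ m w ∈ W) →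
      W = ⊥ ∨ W = ⊤ := by
    intro W hW
    let U : Subgroup G :=
      { carrier := {g | ∃ h : g ∈ N, Additive.ofMul (⟨g, h⟩ : ↥N) ∈ W}
        one_mem' := ⟨N.one_mem, W.zero_mem⟩
        mul_mem' := by
          rintro a b ⟨ha, ha'⟩ ⟨hb, hb'⟩
          exact ⟨N.mul_mem ha hb, W.add_mem ha' hb'⟩
        inv_mem' := by
          rintro a ⟨ha, ha'⟩
          exact ⟨N.inv_mem ha, W.neg_mem ha'⟩ }
    have hUN : U ≤ N := fun g hg => hg.1
    have hUM : ∀ m ∈ M, ∀ u ∈ U, m * u * m⁻¹ ∈ U := by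
      rintro m hm u ⟨hu, hu'⟩
      exact ⟨hNn.conj_mem u hu m, hW ⟨m, hm⟩ _ hu'⟩
    rcases hirr U hUN hUM with h | h
    · left
      rw [eq_bot_iff]
      intro w hw
      have h1 : (w.toMul : G) ∈ U := ⟨w.toMul.2, hw⟩
      rw [h, Subgroup.mem_bot] at h1
      rw [Submodule.mem_bot]
      apply Additive.toMul.injective
      exact Subtype.ext h1
    · right
      rw [eq_top_iff]
      intro w _
      have h1 : (w.toMul : G) ∈ U := by rw [h]; exact w.toMul.2
      obtain ⟨_, h2⟩ := h1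
      exact h2
  have hq : ∀ (x : ↥M) (p a : ℕ), p.Prime → p ≠ r → orderOf x = p ^ a →
      ∃ k, IsQuad (ρ x) k := by
    intro x p a hp hpr hx
    apply isQuad_of_star
    intro v
    have hxo : orderOf (x : G) = p ^ a := by rw [Subgroup.orderOf_coe]; exact hx
    obtain ⟨j, hj⟩ := Subgroup.mem_zpowers_iff.mp
      (hstar x x.2 p a hp hpr hxo v.toMul v.toMul.2)
    refine ⟨(j : ZMod r), ?_⟩
    rw [Int.cast_smul_eq_zsmul]
    apply Additive.toMul.injective; apply Subtype.ext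
    rw [hρ]
    have hsub : ((Additive.toMul (ρ x v - v) : ↥N) : G) =
        (x : G) * (v.toMul : G) * (x : G)⁻¹ * (v.toMul : G)⁻¹ := by
      rw [toMul_sub, Subgroup.coe_div, hρ, div_eq_mul_inv]
    rw [toMul_zsmul, Subgroup.coe_zpow, hsub]
    exact hj.symm
  have hfin := core (V := Additive ↥N) ρ hinj hirr' hss hq
  exact hfin

theorem supersolvable_aux (n : ℕ) : ∀ (G : Type u) [Group G] [Finite G], Nat.card G = n →
    CP G → IsSupersolvable G := by
  induction n using Nat.strong_induction_on with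
  | _ n ih =>
  intro G _ _ hn hCP
  by_contra hns
  have hsub : ∀ H : Subgroup G, H ≠ ⊤ → IsSupersolvable H := by
    intro H hH
    have hlt : Nat.card H < Nat.card G := by
      have h1 := Subgroup.card_mul_index H
      have h2 : H.index ≠ 1 := fun h => hH (Subgroup.index_eq_one.mp h)
      have h3 : H.index ≠ 0 := Subgroup.index_ne_zero_of_finite
      have h4 : 0 < Nat.card H := Nat.card_pos
      have h5 : 2 ≤ H.index := by omega
      nlinarith
    exact ih _ (hn ▸ hlt) H rfl (hCP.subgroup H)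
  have hquot : ∀ (K : Subgroup G) [K.Normal], K ≠ ⊥ → IsSupersolvable (G ⧸ K) := by
    intro K _ hK
    have hlt : Nat.card (G ⧸ K) < Nat.card G := by
      have h1 := Subgroup.card_eq_card_quotient_mul_card_subgroup K
      have h2 : Nat.card K ≠ 1 := fun h => hK (Subgroup.card_eq_one.mp h)
      have h3 : 0 < Nat.card K := Nat.card_pos
      have h4 : 0 < Nat.card (G ⧸ K) := Nat.card_pos
      have h5 : 2 ≤ Nat.card K := by omega
      nlinarith
    exact ih _ (hn ▸ hlt) (G ⧸ K) rfl (hCP.quotient K)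
  obtain ⟨M, hM, hMidx⟩ : ∃ M : Subgroup G, IsCoatom M ∧ ¬ M.index.Prime := by
    by_contra hcon
    push Not at hcon
    exact hns (Cfsg.Agent.S0579.result hcon)
  have hcore : M.normalCore = ⊥ := by
    by_contra hK
    haveI : M.normalCore.Normal := Subgroup.normalCore_normal M
    have hq := hquot M.normalCore hK
    have hco := Cfsg.Agent.Lib.helper4.isCoatom_map_of_le M.normalCore M
      (Subgroup.normalCore_le M) hM
    have hidx := Cfsg.Agent.Lib.helper4.index_map_of_le M.normalCore M (Subgroup.normalCore_le M)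
    have h1 := Cfsg.Agent.S0527.result hq _ hco
    rw [hidx] at h1
    exact hMidx h1
  have hGnt : (⊤ : Subgroup G) ≠ ⊥ := by
    intro h
    apply hns
    haveI : Subsingleton (Subgroup G) := subsingleton_of_bot_eq_top h.symm
    haveI : Subsingleton G := Subgroup.subsingleton_iff.mp inferInstance
    exact Cfsg.Agent.Lib.helper4.isSupersolvable_of_subsingleton
  obtain ⟨N, ⟨hNn, hNne⟩, hNmin⟩ := (measure (fun K : Subgroup G => Nat.card K)).wf.has_min
    {K : Subgroup G | K.Normal ∧ K ≠ ⊥} ⟨⊤, inferInstance, hGnt⟩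
  have hNmin' : ∀ K : Subgroup G, K.Normal → K ≤ N → K = ⊥ ∨ K = N := by
    intro K hKn hKN
    by_cases hK : K = ⊥
    · left; exact hK
    · right
      have h1 := hNmin K ⟨hKn, hK⟩
      exact Subgroup.eq_of_le_of_card_ge hKN (not_lt.mp h1)
  by_cases hNtop : N = ⊤
  · apply false_of_simple hns hsub
    intro K hKn
    rcases hNmin' K hKn (hNtop ▸ le_top) with h | h
    · left; exact h
    · right; rw [h, hNtop]
  haveI := hNn
  have hNss := hsub N hNtop
  haveI : Group.IsSolvable N := isSolvable_of_isSupersolvable hNss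
  haveI : Nontrivial N := (Subgroup.nontrivial_iff_ne_bot N).mpr hNne
  have hcomm : ⁅N, N⁆ = ⊥ := by
    have hlt := Group.IsSolvable.commutator_lt_top_of_nontrivial N
    have hnorm : (⁅N, N⁆).Normal := inferInstance
    rcases hNmin' ⁅N, N⁆ hnorm (Subgroup.commutator_le_left N N) with h | h
    · exact h
    · exfalso
      rw [← Subgroup.map_subtype_commutator] at h
      have h1 : commutator N = ⊤ := by
        apply Subgroup.map_injective N.subtype_injective
        rw [h, ← MonoidHom.range_eq_map, Subgroup.range_subtype]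
      exact hlt.ne h1
  have hab : ∀ a ∈ N, ∀ b ∈ N, a * b = b * a := by
    intro a ha b hb
    have h1 := Subgroup.commutator_eq_bot_iff_le_centralizer.mp hcomm ha
    exact (Subgroup.mem_centralizer_iff.mp h1 b hb).symm
  have hNM : ¬ N ≤ M := by
    intro h
    have h1 := (Subgroup.normal_le_normalCore.mpr h)
    rw [hcore] at h1
    exact hNne (le_bot_iff.mp h1)
  have hsup : N ⊔ M = ⊤ := by
    have hlt : M < N ⊔ M := lt_of_le_of_ne le_sup_right (fun h => hNM (h ▸ le_sup_left))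
    exact hM.2 _ hlt
  have hinf : N ⊓ M = ⊥ := by
    have hnorm : (N ⊓ M).Normal := normal_of_sup_eq_top N M (N ⊓ M) hsup
      (fun n hn u hu => by
        have h1 : n * u * n⁻¹ = u := by rw [hab n hn u hu.1, mul_inv_cancel_right]
        rw [h1]; exact hu)
      (fun m hm u hu => ⟨hNn.conj_mem u hu.1 m, M.mul_mem (M.mul_mem hm hu.2) (M.inv_mem hm)⟩)
    rcases hNmin' _ hnorm inf_le_left with h | h
    · exact h
    · exact absurd (h ▸ inf_le_right) hNM
  have hcardN : Nat.card N = M.index := by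
    have h1 := Cfsg.Agent.Lib.helper4.relIndex_mul_index_sup N M
    rw [sup_comm, hsup, Subgroup.index_top, mul_one, ← Subgroup.inf_relIndex_right, inf_comm, hinf,
      Subgroup.relIndex_bot_left] at h1
    exact h1
  have hNc1 : Nat.card N ≠ 1 := fun h => hNne (Subgroup.card_eq_one.mp h)
  obtain ⟨r, hrdef⟩ : ∃ r, r = (Nat.card N).minFac := ⟨_, rfl⟩
  haveI hr : Fact r.Prime := ⟨hrdef ▸ Nat.minFac_prime hNc1⟩
  have hrd : r ∣ Nat.card N := hrdef ▸ Nat.minFac_dvd _
  have hexp : ∀ a ∈ N, a ^ r = 1 := by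
    let Ω : Subgroup G :=
      { carrier := {g | g ∈ N ∧ g ^ r = 1}
        one_mem' := ⟨N.one_mem, one_pow r⟩
        mul_mem' := fun {a b} ha hb => ⟨N.mul_mem ha.1 hb.1, by
          rw [(show Commute a b from hab a ha.1 b hb.1).mul_pow, ha.2, hb.2, one_mul]⟩
        inv_mem' := fun {a} ha => ⟨N.inv_mem ha.1, by rw [inv_pow, ha.2, inv_one]⟩ }
    have hΩn : Ω.Normal := ⟨fun u hu g => ⟨hNn.conj_mem u hu.1 g, by
      rw [conj_pow, hu.2, mul_one, mul_inv_cancel]⟩⟩
    have hΩle : Ω ≤ N := fun u hu => hu.1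
    rcases hNmin' Ω hΩn hΩle with h | h
    · exfalso
      obtain ⟨g, hg⟩ := exists_prime_orderOf_dvd_card' (G := N) r hrd
      have hgΩ : (g : G) ∈ Ω := ⟨g.2, by
        rw [← Subgroup.coe_pow, ← hg, pow_orderOf_eq_one]; rfl⟩
      rw [h, Subgroup.mem_bot] at hgΩ
      have h1 : g = 1 := Subtype.ext hgΩ
      rw [h1, orderOf_one] at hg
      exact hr.out.one_lt.ne hg
    · intro a ha
      have h1 : a ∈ Ω := by rw [h]; exact ha
      exact h1.2
  have hfaith : ∀ m ∈ M, (∀ n ∈ N, m * n * m⁻¹ = n) → m = 1 := by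
    have hCn : (M ⊓ Subgroup.centralizer (N : Set G)).Normal :=
      normal_of_sup_eq_top N M _ hsup
      (fun n hn c hc => by
        have h1 : n * c * n⁻¹ = c := by
          rw [(Subgroup.mem_centralizer_iff.mp hc.2 n hn), mul_inv_cancel_right]
        rw [h1]; exact hc)
      (fun m hm c hc => ⟨M.mul_mem (M.mul_mem hm hc.1) (M.inv_mem hm), by
        show m * c * m⁻¹ ∈ Subgroup.centralizer (N : Set G)
        rw [Subgroup.mem_centralizer_iff]
        intro h hh
        have h1 := Subgroup.mem_centralizer_iff.mp hc.2 (m⁻¹ * h * m)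
          (by simpa using hNn.conj_mem h hh m⁻¹)
        calc h * (m * c * m⁻¹) = m * ((m⁻¹ * h * m) * c) * m⁻¹ := by group
          _ = m * (c * (m⁻¹ * h * m)) * m⁻¹ := by rw [h1]
          _ = m * c * m⁻¹ * h := by group⟩)
    have hC : M ⊓ Subgroup.centralizer (N : Set G) = ⊥ := by
      have h1 : M ⊓ Subgroup.centralizer (N : Set G) ≤ M.normalCore :=
        (Subgroup.normal_le_normalCore).mpr inf_le_left
      rw [hcore] at h1
      exact le_bot_iff.mp h1
    intro m hm hcent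
    have h1 : m ∈ M ⊓ Subgroup.centralizer (N : Set G) := ⟨hm, by
      show m ∈ Subgroup.centralizer (N : Set G)
      rw [Subgroup.mem_centralizer_iff]
      intro h hh
      have h2 := hcent h hh
      calc h * m = (m * h * m⁻¹) * m := by rw [h2]
        _ = m * h := by group⟩
    rw [hC] at h1
    exact Subgroup.mem_bot.mp h1
  have hirr : ∀ U : Subgroup G, U ≤ N → (∀ m ∈ M, ∀ u ∈ U, m * u * m⁻¹ ∈ U) →
      U = ⊥ ∨ U = N := by
    intro U hUN hUM
    have hUn : U.Normal := normal_of_sup_eq_top N M U hsup (fun n hn u hu => by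
        have h1 : n * u * n⁻¹ = u := by rw [hab n hn u (hUN hu), mul_inv_cancel_right]
        rw [h1]; exact hu) hUM
    exact hNmin' U hUn hUN
  have hstar : ∀ x ∈ M, ∀ p a : ℕ, p.Prime → p ≠ r → orderOf x = p ^ a → ∀ g ∈ N,
      x * (x * g * x⁻¹ * g⁻¹) * x⁻¹ ∈ Subgroup.zpowers (x * g * x⁻¹ * g⁻¹) := by
    intro x _ p a hp hpr hx g hg
    apply star_of_not_sq_dvd hr.out N hexp x g hg
    apply hCP p r hp hr.out hpr x g ⟨a, hx⟩
    have h1 : orderOf g ∣ r := orderOf_dvd_of_pow_eq_one (hexp g hg)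
    rcases (Nat.dvd_prime hr.out).mp h1 with h | h
    · exact ⟨0, by rw [h, pow_zero]⟩
    · exact ⟨1, by rw [h, pow_one]⟩
  have hfin := card_eq_prime_of_irred N M hab hexp hNne hfaith hirr (hsub M hM.1) hstar
  apply hMidx
  rw [← hcardN, hfin]
  exact hr.out

theorem supersolvable_of_CP {G : Type u} [Group G] [Finite G] (h : CP G) : IsSupersolvable G :=
  supersolvable_aux _ G rfl h

end Cfsg.Agent.Lib.Helper21.ConjPair
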