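import Mathlib
import Cfsg.Prelude.Def_CaseTheorems
import Cfsg.Agent.Lib.Helper21.CycSetup
import Cfsg.Agent.Lib.Helper24.Taussky

set_option autoImplicit false

namespace Cfsg.Agent.Lib.Helper21.CycAct

open Cfsg.Agent.Lib.Helper21.CycNT

variable {G : Type*} [Group G]
variable {n : ℕ} {u : G}

/-- the two facts driving the `2`-case -/
theorem Setup.two_case (S : Setup 2 n u) (hn : 2 ≤ n)
    (h2 : n = 2 ∨ ∀ t, t * u ^ 2 = u ^ 2 * t → t ∈ Subgroup.zpowers u) :
    (∀ g, g ∉ Subgroup.zpowers u → ∀ k, Acts u g k →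
      (2 : ℤ) ^ (n - 1) ∣ k + 1 ∧ (4 : ℤ) ∣ k + 1) ∧
    (∀ g h, g ∉ Subgroup.zpowers u → h ∉ Subgroup.zpowers u → g * h ∈ Subgroup.zpowers u) := by
  haveI : Fact (Nat.Prime 2) := ⟨Nat.prime_two⟩
  by_cases hn2 : n = 2
  · subst hn2
    have key : ∀ g, g ∉ Subgroup.zpowers u → ∀ k, Acts u g k → (4 : ℤ) ∣ k + 1 := by
      intro g hg k hk
      have h1 : (2 : ℤ) ∣ k - 1 := by simpa using S.dvd_sub_one (by omega) hk
      have h3 : ¬ (4 : ℤ) ∣ k - 1 := by
        intro h
        apply hg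
        rw [S.mem_iff hk]
        simpa using h
      omega
    refine ⟨?_, ?_⟩
    · intro g hg k hk
      have := key g hg k hk
      refine ⟨?_, this⟩
      norm_num
      omega
    · intro g h hg hh
      obtain ⟨k, hk⟩ := S.hact g
      obtain ⟨l, hl⟩ := S.hact h
      obtain ⟨a, ha⟩ := key g hg k hk
      obtain ⟨b, hb⟩ := key h hh l hl
      rw [S.mem_iff (acts_mul hk hl)]
      refine ⟨4 * a * b - a - b, ?_⟩
      have hk' : k = 4 * a - 1 := by linarith
      have hl' : l = 4 * b - 1 := by linarith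
      rw [hk', hl']; push_cast; ring
  · have hn3 : 3 ≤ n := by omega
    have hMU : ∀ t, t * u ^ 2 = u ^ 2 * t → t ∈ Subgroup.zpowers u := by
      rcases h2 with h | h
      · exact absurd h hn2
      · exact h
    have h4dvd : (4 : ℤ) ∣ 2 ^ (n - 1) := by
      have : n - 1 = (n - 3) + 2 := by omega
      rw [this, pow_add]; norm_num
    have key4 : ∀ h : G, h ^ 4 ∈ Subgroup.zpowers u → h ^ 2 ∈ Subgroup.zpowers u := by
      intro h h4
      obtain ⟨l, hl⟩ := S.hact h
      have hl2 := acts_pow hl 2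
      have hl4 := acts_pow hl2 2
      rw [← pow_mul] at hl4
      have h1 : (2 : ℤ) ^ n ∣ (l ^ 2) ^ 2 - 1 := by
        have := (S.mem_iff hl4).mp h4
        simpa using this
      rcases two_pow_dvd_sq_sub_one n hn (l ^ 2) h1 with h5 | h5
      · apply hMU
        rw [S.commute_pow_iff (by omega) hl2]
        simpa using h5
      · exact absurd (dvd_trans h4dvd h5) (not_four_dvd_sq_add_one l)
    have allsq : ∀ h : G, h ^ 2 ∈ Subgroup.zpowers u := by
      have aux : ∀ j : ℕ, ∀ h : G, h ^ (2 ^ j) ∈ Subgroup.zpowers u →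
          h ^ 2 ∈ Subgroup.zpowers u := by
        intro j
        induction j with
        | zero =>
          intro h hh
          rw [pow_zero, pow_one] at hh
          exact Subgroup.pow_mem _ hh 2
        | succ j ih =>
          intro h hh
          apply key4
          have : h ^ 4 = (h ^ 2) ^ 2 := by rw [← pow_mul]
          rw [this]
          apply ih
          rw [← pow_mul, ← pow_succ']; exact hh
      intro h
      obtain ⟨m, hm⟩ := S.hpg h
      exact aux m h (by rw [hm]; exact one_mem _)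
    have key : ∀ g, g ∉ Subgroup.zpowers u → ∀ k, Acts u g k → (2 : ℤ) ^ (n - 1) ∣ k + 1 := by
      intro g hg k hk
      have h1 : (2 : ℤ) ^ n ∣ k ^ 2 - 1 := by
        have := (S.mem_iff (acts_pow hk 2)).mp (allsq g)
        simpa using this
      rcases two_pow_dvd_sq_sub_one n hn k h1 with h5 | h5
      · exfalso
        apply hg
        apply hMU
        rw [S.commute_pow_iff (by omega) hk]
        simpa using h5
      · exact h5
    refine ⟨?_, ?_⟩
    · intro g hg k hk
      have := key g hg k hk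
      exact ⟨this, dvd_trans h4dvd this⟩
    · intro g h hg hh
      obtain ⟨k, hk⟩ := S.hact g
      obtain ⟨l, hl⟩ := S.hact h
      have h1 := key g hg k hk
      have h2' := key h hh l hl
      apply hMU
      rw [S.commute_pow_iff (by omega) (acts_mul hk hl)]
      have e : k * l - 1 = (k + 1) * (l + 1) - (k + 1) - (l + 1) := by ring
      rw [e]
      push_cast
      exact dvd_sub (dvd_sub (Dvd.dvd.mul_right h1 _) h1) h2'

theorem Setup.index_two (S : Setup 2 n u) {g : G} (hg : g ∉ Subgroup.zpowers u)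
    (h : ∀ g h, g ∉ Subgroup.zpowers u → h ∉ Subgroup.zpowers u → g * h ∈ Subgroup.zpowers u) :
    (Subgroup.zpowers u).index = 2 := by
  rw [Subgroup.index_eq_two_iff]
  refine ⟨g, fun b => ?_⟩
  by_cases hb : b ∈ Subgroup.zpowers u
  · right
    refine ⟨hb, fun hbg => hg ?_⟩
    have := mul_mem (inv_mem hb) hbg
    simpa using this
  · left
    exact ⟨h b g hb hg, hb⟩


theorem Setup.two_final [Finite G] (S : Setup 2 n u) (hn : 2 ≤ n)
    (hidx : (Subgroup.zpowers u).index = 2) {g : G} (hg : g ∉ Subgroup.zpowers u) {k : ℤ}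
    (hk : Acts u g k) (h1 : (2 : ℤ) ^ (n - 1) ∣ k + 1) (h4 : (4 : ℤ) ∣ k + 1) :
    Nat.card G = 2 ^ (n + 1) ∧ ((∃ m : ℕ, Nonempty (G ≃* DihedralGroup m)) ∨
      (∃ m : ℕ, Nonempty (G ≃* QuaternionGroup m)) ∨ Cfsg.IsQuasiDihedral G) := by
  have hcard : Nat.card G = 2 ^ (n + 1) := by
    have := Subgroup.card_mul_index (Subgroup.zpowers u)
    rw [hidx, Nat.card_zpowers, S.hord] at this
    rw [← this, pow_succ]
  refine ⟨hcard, ?_⟩
  have h2Z : Prime (2 : ℤ) := Int.prime_two
  -- g^2 = u^r with 2^(n-1) ∣ r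
  obtain ⟨r, hr⟩ := Subgroup.mem_zpowers_iff.mp (Subgroup.sq_mem_of_index_two hidx g)
  have hr1 : (2 : ℤ) ^ (n - 1) ∣ r := by
    have h5 : (((2 : ℕ) ^ n : ℕ) : ℤ) ∣ (k - 1) * r := by
      rw [← acts_commute_zpow_iff S.hord hk, hr]
      exact ((Commute.refl g).pow_right 2).eq
    obtain ⟨c, hc⟩ := h4
    have e : (k - 1) * r = ((2 * c - 1) * r) * (2 : ℕ) := by
      have : k = 4 * c - 1 := by linarith
      rw [this]; push_cast; ring
    rw [e, pow_dvd_mul_iff 2 (by norm_num) n (by omega)] at h5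
    have hodd : ¬ (2 : ℤ) ∣ 2 * c - 1 := by omega
    exact h2Z.pow_dvd_of_dvd_mul_left (n - 1) hodd (by simpa using h5)
  have hzz : (u ^ (2 ^ (n - 1))) * (u ^ (2 ^ (n - 1))) = 1 := by
    rw [← pow_add, ← two_mul, ← pow_succ']
    have : n - 1 + 1 = n := by omega
    rw [this, ← S.hord]; exact pow_orderOf_eq_one u
  have hgg : g * g = 1 ∨ g * g = u ^ (2 ^ (n - 1)) := by
    obtain ⟨r', hr'⟩ := hr1
    rw [← pow_two, ← hr, hr', zpow_mul]
    have e : u ^ ((2 : ℤ) ^ (n - 1)) = u ^ (2 ^ (n - 1)) := by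
      rw [← zpow_natCast]; push_cast; rfl
    rw [e]
    have hz2 : (u ^ (2 ^ (n - 1))) ^ (2 : ℤ) = 1 := by
      rw [zpow_ofNat, pow_two]; exact hzz
    rcases Int.even_or_odd' r' with ⟨j, hj | hj⟩
    · left; rw [hj, zpow_mul, hz2, one_zpow]
    · right; rw [hj, zpow_add, zpow_mul, hz2, one_zpow, one_mul, zpow_one]
  have hact : g * u * g⁻¹ = u⁻¹ ∨ (3 ≤ n ∧ g * u * g⁻¹ = u ^ (2 ^ (n - 1) - 1)) := by
    obtain ⟨m, hm⟩ := h1
    rw [show g * u * g⁻¹ = u ^ k from hk]
    have hpw : (2 : ℤ) ^ n = 2 ^ (n - 1) * 2 := by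
      rw [← pow_succ]; congr 1; omega
    rcases Int.even_or_odd' m with ⟨j, hj | hj⟩
    · left
      rw [← zpow_neg_one, zpow_eq_iff S.hord]
      refine ⟨j, ?_⟩
      push_cast
      rw [hpw, sub_neg_eq_add, hm, hj]; ring
    · right
      have hn3 : 3 ≤ n := by
        by_contra hlt
        have : n = 2 := by omega
        subst this
        rw [hj] at hm
        norm_num at hm
        omega
      refine ⟨hn3, ?_⟩
      rw [← zpow_natCast, zpow_eq_iff S.hord]
      refine ⟨j, ?_⟩
      have h1le : 1 ≤ 2 ^ (n - 1) := Nat.one_le_two_pow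
      push_cast [Nat.cast_sub h1le]
      rw [hpw]
      have : k = 2 ^ (n - 1) * m - 1 := by linarith
      rw [this, hj]; ring
  rcases hact with ha | ⟨hn3, ha⟩
  · rcases hgg with h | h
    · left
      obtain ⟨k', hk'⟩ := Cfsg.Agent.Lib.Helper24.tk_dihedral u g n hn S.hord hidx hg h ha
      exact ⟨_, hk'⟩
    · right; left
      obtain ⟨k', hk'⟩ := Cfsg.Agent.Lib.Helper24.tk_quaternion u g n hn S.hord hidx hg h ha
      exact ⟨_, hk'⟩
  · right; right
    rcases hgg with h | h
    · refine ⟨n, hn3, hcard, u, g, S.hord, ?_, ha⟩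
      apply Cfsg.Agent.Lib.Helper24.tk_order_two h
      intro e; apply hg; rw [e]; exact one_mem _
    · refine ⟨n, hn3, hcard, u, u * g, S.hord, ?_, ?_⟩
      · apply Cfsg.Agent.Lib.Helper24.tk_order_two
        · have e : u * g * (u * g) = u * (g * u * g⁻¹) * (g * g) := by group
          rw [e, ha, h, ← pow_succ']
          have : 2 ^ (n - 1) - 1 + 1 = 2 ^ (n - 1) := by
            have h1le : 1 ≤ 2 ^ (n - 1) := Nat.one_le_two_pow
            omega
          rw [this]; exact hzz
        · intro e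
          apply hg
          have : g = u⁻¹ := eq_inv_of_mul_eq_one_right e
          rw [this]
          exact inv_mem (Subgroup.mem_zpowers u)
      · have e : u * g * u * (u * g)⁻¹ = u * (g * u * g⁻¹) * u⁻¹ := by group
        rw [e, ha]
        have : Commute u (u ^ (2 ^ (n - 1) - 1)) := (Commute.refl u).pow_right _
        rw [this.eq]; group

end Cfsg.Agent.Lib.Helper21.CycAct
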