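import Mathlib
import Cfsg.Agent.Lib.Helper21.CycCaseA
import Cfsg.Agent.Lib.Helper21.CycCase2
import Cfsg.Agent.Lib.Helper21.SympB

set_option autoImplicit false

namespace Cfsg.Agent.Lib.Helper21.CycAct

open Cfsg.Agent.Lib.Helper21.CycNT Cfsg.Agent.Lib.Helper21.Symp
open scoped Pointwise

variable {G : Type*} [Group G]

/-- facts for the case `p = 2`, `n = 2` (group of order 8) -/
theorem Setup.order8_facts {u : G} (S : Setup 2 2 u) (hna : ∃ g, g ∉ Subgroup.zpowers u) :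
    (∀ x : G, x ^ 2 ∈ Subgroup.zpowers (u ^ 2)) ∧
    (∀ x : G, (∀ y : G, x * y = y * x) → x ∈ Subgroup.zpowers (u ^ 2)) := by
  haveI : Fact (Nat.Prime 2) := ⟨Nat.prime_two⟩
  obtain ⟨hA, hB⟩ := S.two_case (le_refl 2) (Or.inl rfl)
  obtain ⟨g, hg⟩ := hna
  have hidx := S.index_two hg hB
  have heven : ∀ i : ℤ, (2 : ℤ) ∣ i → u ^ i ∈ Subgroup.zpowers (u ^ 2) := by
    rintro i ⟨i', rfl⟩
    rw [zpow_mul, Subgroup.mem_zpowers_iff]
    exact ⟨i', by rw [zpow_ofNat]⟩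
  refine ⟨?_, ?_⟩
  · intro x
    by_cases hx : x ∈ Subgroup.zpowers u
    · obtain ⟨i, rfl⟩ := Subgroup.mem_zpowers_iff.mp hx
      have e : (u ^ i) ^ 2 = u ^ (i * 2) := by rw [zpow_mul, zpow_ofNat]
      rw [e]
      exact heven _ (Dvd.intro_left _ rfl)
    · obtain ⟨r, hr⟩ := Subgroup.mem_zpowers_iff.mp (Subgroup.sq_mem_of_index_two hidx x)
      obtain ⟨k, hk⟩ := S.hact x
      obtain ⟨_, h4⟩ := hA x hx k hk
      have h5 : (((2 : ℕ) ^ 2 : ℕ) : ℤ) ∣ (k - 1) * r := by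
        rw [← acts_commute_zpow_iff S.hord hk, hr]
        exact ((Commute.refl x).pow_right 2).eq
      rw [← hr]
      apply heven
      obtain ⟨c, hc⟩ := h4
      have hk' : k = 4 * c - 1 := by linarith
      rw [hk'] at h5
      push_cast at h5
      obtain ⟨d, hd⟩ := h5
      have : 2 * r = 4 * (c * r - d) := by linarith
      omega
  · intro x hx
    have hxU : x ∈ Subgroup.zpowers u := S.hcent x (hx u)
    obtain ⟨i, rfl⟩ := Subgroup.mem_zpowers_iff.mp hxU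
    apply heven
    obtain ⟨k, hk⟩ := S.hact g
    obtain ⟨_, h4⟩ := hA g hg k hk
    have h5 : (((2 : ℕ) ^ 2 : ℕ) : ℤ) ∣ (k - 1) * i := by
      rw [← acts_commute_zpow_iff S.hord hk]
      exact (hx g).symm
    obtain ⟨c, hc⟩ := h4
    have hk' : k = 4 * c - 1 := by linarith
    rw [hk'] at h5
    push_cast at h5
    obtain ⟨d, hd⟩ := h5
    have : 2 * i = 4 * (c * i - d) := by linarith
    omega

variable {p n : ℕ} [hp : Fact p.Prime] {u : G}

theorem Setup.caseA_data [Finite G] (S : Setup p n u) (hn : 2 ≤ n) (hc : p ≠ 2 ∨ 3 ≤ n) {t : G}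
    (htM : t * u ^ p = u ^ p * t) (ht : t ∉ Subgroup.zpowers u) :
    ∃ t', t' ∉ Subgroup.zpowers u ∧ t' * u ^ p = u ^ p * t' ∧ t' ^ p = 1 ∧
      (∀ x, x * u ^ p = u ^ p * x → ∃ i j : ℤ, x = u ^ i * t' ^ j) ∧
      (∀ i j : ℤ, ∃ s : ℤ, (p : ℤ) ∣ s - 1 ∧ (u ^ i * t' ^ j) ^ p = u ^ (i * p * s)) := by
  have hpp : p.Prime := hp.out
  have hM : ∀ x, x ∈ Subgroup.centralizer ({u ^ p} : Set G) ↔ x * u ^ p = u ^ p * x := by
    intro x
    rw [Subgroup.mem_centralizer_iff]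
    constructor
    · intro h; exact (h _ (Set.mem_singleton _)).symm
    · intro h y hy
      rw [Set.mem_singleton_iff] at hy
      rw [hy]; exact h.symm
  obtain ⟨hrel, E, hEiff, hEcomm, hEcard, _⟩ :=
    S.caseA hn hc (Subgroup.centralizer ({u ^ p} : Set G)) hM ((hM t).mpr htM) ht
  have hUM : Subgroup.zpowers u ≤ Subgroup.centralizer ({u ^ p} : Set G) := by
    intro x hx
    rw [hM]
    obtain ⟨i, rfl⟩ := Subgroup.mem_zpowers_iff.mp hx
    exact (((Commute.refl u).zpow_left i).pow_right p).eq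
  -- E is not inside U
  have hEU : ¬ E ≤ Subgroup.zpowers u := by
    intro hle
    have hle2 : E ≤ Subgroup.zpowers (u ^ (p ^ (n - 1))) := by
      intro x hx
      exact omega_zpowers S.hord (by omega) (hle hx) ((hEiff x).mp hx).2
    have h1 := Subgroup.card_le_of_le hle2
    have hzord : orderOf (u ^ (p ^ (n - 1))) = p := by
      rw [orderOf_pow_of_dvd (pow_ne_zero _ hpp.ne_zero)
        (by rw [S.hord]; exact pow_dvd_pow p (by omega)), S.hord, Nat.pow_div (by omega) hpp.pos]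
      have : n - (n - 1) = 1 := by omega
      rw [this, pow_one]
    rw [hEcard, Nat.card_zpowers, hzord] at h1
    have : p * 2 ≤ p ^ 2 := by rw [pow_two]; exact Nat.mul_le_mul_left _ hpp.two_le
    have := hpp.pos
    omega
  obtain ⟨t', ht'E, ht'U⟩ := SetLike.not_le_iff_exists.mp hEU
  obtain ⟨ht'M, ht'p⟩ := (hEiff t').mp ht'E
  have ht'M' := (hM t').mp ht'M
  have hcardM : Nat.card (Subgroup.zpowers u) * (Subgroup.zpowers u).relIndex
      (Subgroup.centralizer ({u ^ p} : Set G)) =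
      Nat.card (Subgroup.centralizer ({u ^ p} : Set G)) := by
    have := Subgroup.relIndex_mul_relIndex ⊥ (Subgroup.zpowers u) _ bot_le hUM
    rwa [Subgroup.relIndex_bot_left, Subgroup.relIndex_bot_left] at this
  have hsup : Subgroup.zpowers u ⊔ Subgroup.zpowers t' =
      Subgroup.centralizer ({u ^ p} : Set G) := by
    have hle' : Subgroup.zpowers u ⊔ Subgroup.zpowers t' ≤
        Subgroup.centralizer ({u ^ p} : Set G) :=
      sup_le hUM (by rw [Subgroup.zpowers_le]; exact ht'M)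
    have hlt' : Subgroup.zpowers u < Subgroup.zpowers u ⊔ Subgroup.zpowers t' := by
      apply lt_of_le_of_ne le_sup_left
      intro e
      apply ht'U
      rw [e]
      exact (le_sup_right : Subgroup.zpowers t' ≤ _) (Subgroup.mem_zpowers t')
    have h1 := Cfsg.Agent.Lib.Helper20.card_mul_le_of_lt S.hpg hlt'
    apply Subgroup.eq_of_le_of_card_ge hle'
    rw [← hcardM, hrel]; exact h1
  refine ⟨t', ht'U, ht'M', ht'p, ?_, ?_⟩
  · intro x hx
    have hxM : x ∈ Subgroup.zpowers u ⊔ Subgroup.zpowers t' := by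
      rw [hsup]; exact (hM x).mpr hx
    have := S.normal
    rw [← SetLike.mem_coe, Subgroup.normal_mul, Set.mem_mul] at hxM
    obtain ⟨y, hy, w, hw, rfl⟩ := hxM
    obtain ⟨i, rfl⟩ := Subgroup.mem_zpowers_iff.mp hy
    obtain ⟨j, rfl⟩ := Subgroup.mem_zpowers_iff.mp hw
    exact ⟨i, j, rfl⟩
  · intro i j
    obtain ⟨k, hk⟩ := S.hact (t' ^ j)
    have hwM : t' ^ j * u ^ p = u ^ p * t' ^ j := by
      have : Commute t' (u ^ p) := ht'M'
      exact (this.zpow_left j).eq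
    have hMk := (S.commute_pow_iff (by omega) hk).mp hwM
    obtain ⟨s, hs1, hs⟩ := S.pow_formula hn hc hk hMk
    refine ⟨s, hs1, ?_⟩
    have hwp : (t' ^ j) ^ p = 1 := by
      rw [← zpow_natCast, ← zpow_mul, mul_comm, zpow_mul, zpow_natCast, ht'p, one_zpow]
    rw [hs, hwp, mul_one]

theorem Setup.dichotomy [Finite G] (S : Setup p n u) (hna : ∃ g, g ∉ Subgroup.zpowers u) :
    (p = 2 ∧ Nat.card G = 2 ^ (n + 1) ∧ ((∃ m : ℕ, Nonempty (G ≃* DihedralGroup m)) ∨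
      (∃ m : ℕ, Nonempty (G ≃* QuaternionGroup m)) ∨ Cfsg.IsQuasiDihedral G)) ∨
    ((p ≠ 2 ∨ 3 ≤ n) ∧ ∃ t', t' ∉ Subgroup.zpowers u ∧ t' * u ^ p = u ^ p * t' ∧ t' ^ p = 1 ∧
      (∀ x, x * u ^ p = u ^ p * x → ∃ i j : ℤ, x = u ^ i * t' ^ j) ∧
      (∀ i j : ℤ, ∃ s : ℤ, (p : ℤ) ∣ s - 1 ∧ (u ^ i * t' ^ j) ^ p = u ^ (i * p * s))) := by
  have hn := S.two_le hna
  by_cases hcase : ∃ t, t * u ^ p = u ^ p * t ∧ t ∉ Subgroup.zpowers u ∧ (p ≠ 2 ∨ 3 ≤ n)
  · right
    obtain ⟨t, htM, htU, hc⟩ := hcase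
    exact ⟨hc, S.caseA_data hn hc htM htU⟩
  · left
    have hp2 : p = 2 := by
      by_contra hp2
      obtain ⟨t, htU, htM⟩ := S.exists_M_not_U hp2 (by omega) hna
      exact hcase ⟨t, htM, htU, Or.inl hp2⟩
    subst hp2
    have h2 : n = 2 ∨ ∀ t, t * u ^ 2 = u ^ 2 * t → t ∈ Subgroup.zpowers u := by
      by_cases hn2 : n = 2
      · left; exact hn2
      · right
        intro t ht
        by_contra htU
        exact hcase ⟨t, ht, htU, Or.inr (by omega)⟩
    obtain ⟨hA, hB⟩ := S.two_case hn h2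
    obtain ⟨g, hg⟩ := hna
    obtain ⟨k, hk⟩ := S.hact g
    obtain ⟨h1, h4⟩ := hA g hg k hk
    have hidx := S.index_two hg hB
    obtain ⟨hcard, hfin⟩ := S.two_final hn hidx hg hk h1 h4
    exact ⟨rfl, hcard, hfin⟩

end Cfsg.Agent.Lib.Helper21.CycAct
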