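import Mathlib
import Cfsg.Agent.Lib.Helper29.ExtrL.Basic

/-!
# EXTRACTION-L, piece G3 (`gl_q7`), auxiliary form with G1/G2 as hypotheses
-/

set_option autoImplicit false

namespace Cfsg.Agent.Lib.Helper21.ExtrL

open Matrix Cfsg.Agent.Lib.Helper29.ExtrL

/-- counting lemma: `e ↦ (e-1)(e⁻¹-1)` has fibres of size at most two on `F \ {0,1}`. -/
theorem count_lemma {F : Type*} [Field F] [Fintype F] (hq : 7 ≤ Fintype.card F) (c : F)
    (hc : c ≠ 0)
    (hX : ∀ e : F, e ≠ 0 → e ≠ 1 →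
      ((e - 1) * (e⁻¹ - 1) * c = 1 ∨ 2 * ((e - 1) * (e⁻¹ - 1) * c) = 1)) : False := by
  classical
  let S : Finset F := (Finset.univ.erase 0).erase 1
  let f : F → F := fun e => (e - 1) * (e⁻¹ - 1)
  have hScard : 5 ≤ S.card := by
    have h1 : ((Finset.univ : Finset F).erase 0).card = Fintype.card F - 1 := by
      rw [Finset.card_erase_of_mem (Finset.mem_univ _), Finset.card_univ]
    have h2 : S.card = Fintype.card F - 1 - 1 := by
      show ((Finset.univ.erase 0).erase 1).card = _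
      rw [Finset.card_erase_of_mem, h1]
      rw [Finset.mem_erase]; exact ⟨one_ne_zero, Finset.mem_univ _⟩
    omega
  have hS : ∀ e ∈ S, e ≠ 0 ∧ e ≠ 1 := by
    intro e he
    have h1 := Finset.mem_erase.mp he
    have h0 := Finset.mem_erase.mp h1.2
    exact ⟨h0.1, h1.1⟩
  have himg : (S.image f) ⊆ {c⁻¹, (2 * c)⁻¹} := by
    intro v hv
    obtain ⟨e, he, rfl⟩ := Finset.mem_image.mp hv
    obtain ⟨he0, he1⟩ := hS e he
    rw [Finset.mem_insert, Finset.mem_singleton]
    rcases hX e he0 he1 with h | h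
    · left; exact eq_inv_of_mul_eq_one_left h
    · right
      apply eq_inv_of_mul_eq_one_left
      show (e - 1) * (e⁻¹ - 1) * (2 * c) = 1
      linear_combination h
  have hcardimg : (S.image f).card ≤ 2 :=
    (Finset.card_le_card himg).trans Finset.card_le_two
  have hfib : ∀ a ∈ S.image f, (S.filter fun x => f x = a).card ≤ 2 := by
    intro a ha
    obtain ⟨e, he, rfl⟩ := Finset.mem_image.mp ha
    obtain ⟨he0, he1⟩ := hS e he
    have hsub : (S.filter fun x => f x = f e) ⊆ {e, e⁻¹} := by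
      intro x hx
      obtain ⟨hxS, hfx⟩ := Finset.mem_filter.mp hx
      obtain ⟨hx0, hx1⟩ := hS x hxS
      rw [Finset.mem_insert, Finset.mem_singleton]
      have hkey : (x - e) * (x * e - 1) = 0 := by
        have h1 : (x - 1) * (x⁻¹ - 1) = (e - 1) * (e⁻¹ - 1) := hfx
        have h2 : (x - 1) * (x⁻¹ - 1) * (x * e) = (e - 1) * (e⁻¹ - 1) * (x * e) := by rw [h1]
        have h3 : (x - 1) * (x⁻¹ - 1) * (x * e) = (x - 1) * (1 - x) * e := by
          field_simp
        have h4 : (e - 1) * (e⁻¹ - 1) * (x * e) = (e - 1) * (1 - e) * x := by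
          field_simp
        rw [h3, h4] at h2
        linear_combination -h2
      rcases mul_eq_zero.mp hkey with h | h
      · left; exact sub_eq_zero.mp h
      · right; exact eq_inv_of_mul_eq_one_left (sub_eq_zero.mp h)
    exact (Finset.card_le_card hsub).trans Finset.card_le_two
  have := Finset.card_le_mul_card_image S 2 hfib
  omega

variable {κ : Type} [Fintype κ] [DecidableEq κ] {F : Type*} [Field F]

/-- `d_k(e)`: the diagonal matrix with `e` at `k` and `1` elsewhere. -/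
noncomputable def dk (k : κ) (e : Fˣ) : Matrix.GeneralLinearGroup κ F :=
  dg (fun l => if l = k then e else 1)

theorem dk_inv (k : κ) (e : Fˣ) : (dk k e : Matrix.GeneralLinearGroup κ F)⁻¹ = dk k e⁻¹ := by
  apply Units.ext
  rw [dk, dk, dg_inv_val, dg_val]
  congr 1
  funext i
  split_ifs <;> simp

theorem dk_mem {H : Subgroup (Matrix.GeneralLinearGroup κ F)} (hD : HasDiag H) (k : κ) (e : Fˣ) :
    dk k e ∈ H := by
  apply hD
  intro i j hij
  rw [dk, dg_apply, if_neg hij]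

theorem rho_apply (h : Matrix.GeneralLinearGroup κ F) (k : κ) (e : Fˣ) (i j : κ) :
    ((h * dk k e * h⁻¹ : Matrix.GeneralLinearGroup κ F) : Matrix κ κ F) i j =
      (if i = j then 1 else 0) + ((e : F) - 1) *
        ((h : Matrix κ κ F) i k * ((h⁻¹ : Matrix.GeneralLinearGroup κ F) : Matrix κ κ F) k j) := by
  rw [Units.val_mul, Units.val_mul, Matrix.mul_apply]
  have hterm : ∀ m, ((h : Matrix κ κ F) * ((dk k e : Matrix.GeneralLinearGroup κ F) : Matrix κ κ F)) i m *
      ((h⁻¹ : Matrix.GeneralLinearGroup κ F) : Matrix κ κ F) m j =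
      (h : Matrix κ κ F) i m * ((h⁻¹ : Matrix.GeneralLinearGroup κ F) : Matrix κ κ F) m j +
        (if m = k then ((e : F) - 1) *
          ((h : Matrix κ κ F) i k * ((h⁻¹ : Matrix.GeneralLinearGroup κ F) : Matrix κ κ F) k j) else 0) := by
    intro m
    rw [dk, mul_dg_apply]
    by_cases hm : m = k
    · subst hm
      rw [if_pos rfl, if_pos rfl]; ring
    · rw [if_neg hm, if_neg hm, Units.val_one, mul_one, add_zero]
  rw [Finset.sum_congr rfl (fun m _ => hterm m), Finset.sum_add_distrib, gl_mul_inv_apply,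
    Finset.sum_ite_eq' Finset.univ k, if_pos (Finset.mem_univ k)]

theorem rho_inv (h : Matrix.GeneralLinearGroup κ F) (k : κ) (e : Fˣ) :
    (h * dk k e * h⁻¹)⁻¹ = h * dk k e⁻¹ * h⁻¹ := by
  rw [_root_.mul_inv_rev, _root_.mul_inv_rev, inv_inv, dk_inv, mul_assoc]

theorem gl_q7_aux [Fintype F] (hq : 7 ≤ Fintype.card F)
    (H : Subgroup (Matrix.GeneralLinearGroup κ F)) (hD : HasDiag H)
    (P1 : ∀ h ∈ H, ∀ k l : κ, ((h : Matrix.GeneralLinearGroup κ F) : Matrix κ κ F) l k = 0 ↔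
      ((h⁻¹ : Matrix.GeneralLinearGroup κ F) : Matrix κ κ F) k l = 0)
    (P2 : ∀ h ∈ H, ∀ k l : κ,
      ((h : Matrix.GeneralLinearGroup κ F) : Matrix κ κ F) l k *
          ((h⁻¹ : Matrix.GeneralLinearGroup κ F) : Matrix κ κ F) k l = 0 ∨
      ((h : Matrix.GeneralLinearGroup κ F) : Matrix κ κ F) l k *
          ((h⁻¹ : Matrix.GeneralLinearGroup κ F) : Matrix κ κ F) k l = 1 ∨
      2 * (((h : Matrix.GeneralLinearGroup κ F) : Matrix κ κ F) l k *
          ((h⁻¹ : Matrix.GeneralLinearGroup κ F) : Matrix κ κ F) k l) = 1)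
    (h : Matrix.GeneralLinearGroup κ F) (hh : h ∈ H) : IsMono (h : Matrix κ κ F) := by
  classical
  intro k
  by_contra hcon
  push Not at hcon
  obtain ⟨l, hl⟩ := gl_col_ne_zero h k
  have hcl := hcon l
  unfold ColAt at hcl
  push Not at hcl
  obtain ⟨l', hl'l, hl'⟩ := hcl
  have hil : ((h⁻¹ : Matrix.GeneralLinearGroup κ F) : Matrix κ κ F) k l ≠ 0 :=
    fun h0 => hl ((P1 h hh k l).mpr h0)
  have hil' : ((h⁻¹ : Matrix.GeneralLinearGroup κ F) : Matrix κ κ F) k l' ≠ 0 :=
    fun h0 => hl' ((P1 h hh k l').mpr h0)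
  refine count_lemma hq
    (((h : Matrix κ κ F) l k * ((h⁻¹ : Matrix.GeneralLinearGroup κ F) : Matrix κ κ F) k l) *
      ((h : Matrix κ κ F) l' k * ((h⁻¹ : Matrix.GeneralLinearGroup κ F) : Matrix κ κ F) k l'))
    (mul_ne_zero (mul_ne_zero hl hil) (mul_ne_zero hl' hil')) ?_
  intro e he0 he1
  have hρ : h * dk k (Units.mk0 e he0) * h⁻¹ ∈ H :=
    H.mul_mem (H.mul_mem hh (dk_mem hD k _)) (H.inv_mem hh)
  have key := P2 _ hρ l' l
  rw [rho_inv, rho_apply, rho_apply, if_neg (Ne.symm hl'l), if_neg hl'l, zero_add, zero_add,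
    Units.val_inv_eq_inv_val, Units.val_mk0] at key
  have hX : (e - 1) * ((h : Matrix κ κ F) l k *
        ((h⁻¹ : Matrix.GeneralLinearGroup κ F) : Matrix κ κ F) k l') *
      ((e⁻¹ - 1) * ((h : Matrix κ κ F) l' k *
        ((h⁻¹ : Matrix.GeneralLinearGroup κ F) : Matrix κ κ F) k l)) =
      (e - 1) * (e⁻¹ - 1) *
      (((h : Matrix κ κ F) l k * ((h⁻¹ : Matrix.GeneralLinearGroup κ F) : Matrix κ κ F) k l) *
      ((h : Matrix κ κ F) l' k * ((h⁻¹ : Matrix.GeneralLinearGroup κ F) : Matrix κ κ F) k l')) := by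
    ring
  rw [hX] at key
  rcases key with h0 | h1 | h2
  · exfalso
    have hne : (e - 1) * (e⁻¹ - 1) *
      (((h : Matrix κ κ F) l k * ((h⁻¹ : Matrix.GeneralLinearGroup κ F) : Matrix κ κ F) k l) *
      ((h : Matrix κ κ F) l' k * ((h⁻¹ : Matrix.GeneralLinearGroup κ F) : Matrix κ κ F) k l')) ≠ 0 := by
      refine mul_ne_zero (mul_ne_zero (sub_ne_zero.mpr he1) (sub_ne_zero.mpr ?_))
        (mul_ne_zero (mul_ne_zero hl hil) (mul_ne_zero hl' hil'))
      intro h1
      exact he1 (inv_eq_one.mp h1)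
    exact hne h0
  · left; exact h1
  · right; exact h2

end Cfsg.Agent.Lib.Helper21.ExtrL
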