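import Mathlib
import Cfsg.Agent.Lib.Helper29.ExtrL.G12
import Cfsg.Agent.Lib.Helper21.ExtrLG3a

/-!
# EXTRACTION-L, piece G3 (`gl_q7`)
-/

set_option autoImplicit false

namespace Cfsg.Agent.Lib.Helper21.ExtrL

open Matrix Cfsg.Agent.Lib.Helper29.ExtrL

/-- G3 -/
theorem gl_q7 {κ : Type} [Fintype κ] [DecidableEq κ] {F : Type*} [Field F] [Fintype F]
    (hq : 7 ≤ Fintype.card F) (H : Subgroup (Matrix.GeneralLinearGroup κ F))
    (hD : HasDiag H) (hno : ¬ HasElemTv H) (h : Matrix.GeneralLinearGroup κ F) (hh : h ∈ H) :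
    IsMono (h : Matrix κ κ F) :=
  gl_q7_aux hq H hD
    (fun h' hh' k l => gl_P1 (by omega) H hD hno h' hh' k l)
    (fun h' hh' k l => gl_P2 (by omega) H hD hno h' hh' k l) h hh

end Cfsg.Agent.Lib.Helper21.ExtrL
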