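import Mathlib

set_option autoImplicit false

namespace Cfsg.Agent.Lib.Helper21.FrobFree

open scoped BigOperators

variable {k : Type*} [Field k] {V : Type*} [AddCommGroup V] [Module k V]

/-- Relative elementwise freeness: there is a subspace `W ≤ U` whose translates under the family
`ρ` are independent and span `U`. -/
def EFon {H : Type*} [Fintype H] (ρ : H → V →ₗ[k] V) (U : Submodule k V) : Prop :=
  ∃ W : Submodule k V, W ≤ U ∧
    (∀ w : H → V, (∀ h, w h ∈ W) → ∑ h, ρ h (w h) = 0 → ∀ h, w h = 0) ∧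
    (∀ x ∈ U, ∃ w : H → V, (∀ h, w h ∈ W) ∧ x = ∑ h, ρ h (w h))

/-- Elementwise freeness. -/
def EF {H : Type*} [Fintype H] (ρ : H → V →ₗ[k] V) : Prop := EFon ρ ⊤

theorem EF_of_subsingleton {H : Type*} [Fintype H] [Subsingleton V] (ρ : H → V →ₗ[k] V) :
    EF ρ := by
  refine ⟨⊥, bot_le, ?_, ?_⟩
  · intro w _ _ h
    exact Subsingleton.elim _ _
  · intro x _
    exact ⟨fun _ => 0, fun _ => Submodule.zero_mem _, Subsingleton.elim _ _⟩

theorem EF_of_quotient {H : Type*} [Fintype H] (ρ : H → V →ₗ[k] V) (U : Submodule k V)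
    (hU : ∀ h, ∀ u ∈ U, ρ h u ∈ U) (ρq : H → (V ⧸ U) →ₗ[k] (V ⧸ U))
    (hq : ∀ h v, ρq h (U.mkQ v) = U.mkQ (ρ h v))
    (h1 : EFon ρ U) (h2 : EF ρq) : EF ρ := by
  obtain ⟨W₁, hW₁U, hind₁, hspan₁⟩ := h1
  obtain ⟨W₂, -, hind₂, hspan₂⟩ := h2
  obtain ⟨s, hs⟩ := LinearMap.exists_rightInverse_of_surjective U.mkQ (Submodule.range_mkQ U)
  have hs' : ∀ y, U.mkQ (s y) = y := fun y => by
    have := LinearMap.congr_fun hs y
    simpa using this
  have hkey : ∀ h, ∀ a ∈ W₁, ∀ b, U.mkQ (ρ h (a + s b)) = ρq h b := by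
    intro h a ha b
    rw [map_add, map_add, ← hq h (s b), hs']
    have : U.mkQ (ρ h a) = 0 := by
      rw [Submodule.mkQ_apply, Submodule.Quotient.mk_eq_zero]
      exact hU h a (hW₁U ha)
    rw [this, zero_add]
  refine ⟨W₁ ⊔ W₂.map s, le_top, ?_, ?_⟩
  · intro w hw hsum
    have hdec : ∀ h, ∃ a ∈ W₁, ∃ b ∈ W₂, w h = a + s b := by
      intro h
      obtain ⟨a, ha, c, hc, hac⟩ := Submodule.mem_sup.mp (hw h)
      obtain ⟨b, hb, rfl⟩ := Submodule.mem_map.mp hc
      exact ⟨a, ha, b, hb, hac.symm⟩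
    choose a ha b hb hab using hdec
    have hb0 : ∀ h, b h = 0 := by
      apply hind₂ b hb
      have := congrArg U.mkQ hsum
      rw [map_sum, map_zero] at this
      rw [← this]
      apply Finset.sum_congr rfl
      intro h _
      rw [hab h, hkey h (a h) (ha h)]
    have ha0 : ∀ h, a h = 0 := by
      apply hind₁ a ha
      rw [← hsum]
      apply Finset.sum_congr rfl
      intro h _
      rw [hab h, hb0 h, map_zero, add_zero]
    intro h
    rw [hab h, ha0 h, hb0 h, map_zero, add_zero]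
  · intro x _
    obtain ⟨b, hb, hxb⟩ := hspan₂ (U.mkQ x) trivial
    have hmem : x - ∑ h, ρ h (s (b h)) ∈ U := by
      rw [← Submodule.Quotient.mk_eq_zero U, ← Submodule.mkQ_apply, map_sub, map_sum, hxb]
      rw [sub_eq_zero]
      apply Finset.sum_congr rfl
      intro h _
      have := hkey h 0 (Submodule.zero_mem _) (b h)
      rw [zero_add] at this
      exact this.symm
    obtain ⟨a, ha, hxa⟩ := hspan₁ _ hmem
    refine ⟨fun h => a h + s (b h), fun h => ?_, ?_⟩
    · exact Submodule.add_mem_sup (ha h) (Submodule.mem_map_of_mem (hb h))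
    · simp only [map_add, Finset.sum_add_distrib]
      rw [← hxa]
      abel

theorem EFon_of_EF_restrict {H : Type*} [Fintype H] (ρ : H → V →ₗ[k] V) (M : Submodule k V)
    (ψ : H → M →ₗ[k] M) (hψ : ∀ h (m : M), ((ψ h m : M) : V) = ρ h m) (h : EF ψ) :
    EFon ρ M := by
  obtain ⟨W, -, hind, hspan⟩ := h
  refine ⟨W.map M.subtype, ?_, ?_, ?_⟩
  · rintro _ ⟨m, -, rfl⟩
    exact m.2
  · intro w hw hsum
    have : ∀ h, ∃ m ∈ W, M.subtype m = w h := fun h => Submodule.mem_map.mp (hw h)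
    choose m hm hmw using this
    have h0 : ∀ h, m h = 0 := by
      apply hind m hm
      apply M.injective_subtype
      rw [map_sum, map_zero, ← hsum]
      apply Finset.sum_congr rfl
      intro h _
      rw [← hmw h]
      exact hψ h (m h)
    intro h
    rw [← hmw h, h0 h, map_zero]
  · intro x hx
    obtain ⟨m, hm, hxm⟩ := hspan ⟨x, hx⟩ trivial
    refine ⟨fun h => (m h : V), fun h => Submodule.mem_map_of_mem (hm h), ?_⟩
    have := congrArg M.subtype hxm
    rw [map_sum] at this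
    change x = _ at this
    rw [this]
    apply Finset.sum_congr rfl
    intro h _
    exact hψ h (m h)

theorem mem_iSup_map_iff {H : Type*} [Fintype H] (ρ : H → V →ₗ[k] V) (W : Submodule k V) (x : V) :
    x ∈ ⨆ h, W.map (ρ h) ↔ ∃ w : H → V, (∀ h, w h ∈ W) ∧ x = ∑ h, ρ h (w h) := by
  classical
  constructor
  · intro hx
    refine Submodule.iSup_induction (fun h => W.map (ρ h))
      (motive := fun x => ∃ w : H → V, (∀ h, w h ∈ W) ∧ x = ∑ h, ρ h (w h)) hx ?_ ?_ ?_
    · rintro i _ ⟨v, hv, rfl⟩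
      refine ⟨fun h => if h = i then v else 0, fun h => ?_, ?_⟩
      · show (if h = i then v else 0) ∈ W
        by_cases hh : h = i
        · rw [if_pos hh]
          exact hv
        · rw [if_neg hh]
          exact Submodule.zero_mem _
      · rw [Finset.sum_eq_single i]
        · simp
        · intro b _ hb
          simp [hb]
        · intro hi
          exact absurd (Finset.mem_univ i) hi
    · exact ⟨fun _ => 0, fun _ => Submodule.zero_mem _, by simp⟩
    · rintro x y ⟨w₁, hw₁, rfl⟩ ⟨w₂, hw₂, rfl⟩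
      refine ⟨fun h => w₁ h + w₂ h, fun h => Submodule.add_mem _ (hw₁ h) (hw₂ h), ?_⟩
      simp [Finset.sum_add_distrib]
  · rintro ⟨w, hw, rfl⟩
    exact Submodule.sum_mem _ (fun h _ =>
      Submodule.mem_iSup_of_mem h (Submodule.mem_map_of_mem (hw h)))

/-- the product decomposition of a group along a subgroup via coset representatives -/
noncomputable def cosetProdEquiv {H : Type*} [Group H] (H₁ : Subgroup H) : (H ⧸ H₁) × H₁ ≃ H where
  toFun p := p.1.out * p.2
  invFun g := ((g : H ⧸ H₁), ⟨((g : H ⧸ H₁)).out⁻¹ * g, by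
    rw [← QuotientGroup.eq, QuotientGroup.out_eq']⟩)
  left_inv := by
    rintro ⟨q, h₁⟩
    have h1 : ((q.out * (h₁ : H) : H) : H ⧸ H₁) = q := by
      rw [QuotientGroup.mk_mul_of_mem _ h₁.2, QuotientGroup.out_eq']
    apply Prod.ext
    · exact h1
    · apply Subtype.ext
      simp only
      rw [h1]
      group
  right_inv := by
    intro g
    simp

theorem cosetProdEquiv_apply {H : Type*} [Group H] (H₁ : Subgroup H) (q : H ⧸ H₁) (h₁ : H₁) :
    cosetProdEquiv H₁ (q, h₁) = q.out * (h₁ : H) := rfl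

theorem EFon_induced {H : Type*} [Group H] [Fintype H] (H₁ : Subgroup H) [Fintype H₁]
    [Fintype (H ⧸ H₁)] (ρ : H →* Module.End k V) (V₁ : Submodule k V)
    (hinv : ∀ h ∈ H₁, ∀ v ∈ V₁, ρ h v ∈ V₁)
    (h1 : EFon (fun h : H₁ => ρ (h : H)) V₁)
    (hcos : ∀ v : H ⧸ H₁ → V, (∀ q, v q ∈ V₁) → ∑ q, ρ (q.out) (v q) = 0 → ∀ q, v q = 0) :
    EFon (fun h : H => ρ h) (⨆ h : H, V₁.map (ρ h)) := by
  obtain ⟨W, hWV₁, hind, hspan⟩ := h1
  have hsplit : ∀ f : H → V, ∑ h, f h = ∑ q : H ⧸ H₁, ∑ h₁ : H₁, f (q.out * (h₁ : H)) := by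
    intro f
    rw [← Equiv.sum_comp (cosetProdEquiv H₁) f, Fintype.sum_prod_type]
    rfl
  refine ⟨W, ?_, ?_, ?_⟩
  · intro w hw
    refine Submodule.mem_iSup_of_mem 1 ⟨w, hWV₁ hw, ?_⟩
    simp
  · intro w hw hsum
    rw [hsplit] at hsum
    have hv : ∀ q : H ⧸ H₁, (∑ h₁ : H₁, ρ (q.out * (h₁ : H)) (w (q.out * (h₁ : H)))) =
        ρ q.out (∑ h₁ : H₁, ρ (h₁ : H) (w (q.out * (h₁ : H)))) := by
      intro q
      rw [map_sum]
      apply Finset.sum_congr rfl
      intro h₁ _
      rw [map_mul, Module.End.mul_apply]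
    simp only [hv] at hsum
    have h0 := hcos (fun q => ∑ h₁ : H₁, ρ (h₁ : H) (w (q.out * (h₁ : H))))
      (fun q => Submodule.sum_mem _ (fun h₁ _ => hinv _ h₁.2 _ (hWV₁ (hw _)))) hsum
    have h00 : ∀ (q : H ⧸ H₁) (h₁ : H₁), w (q.out * (h₁ : H)) = 0 := by
      intro q
      exact hind (fun h₁ => w (q.out * (h₁ : H))) (fun h₁ => hw _) (h0 q)
    intro h
    have := h00 ((cosetProdEquiv H₁).symm h).1 ((cosetProdEquiv H₁).symm h).2
    rw [← cosetProdEquiv_apply] at this
    simpa using this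
  · intro x hx
    rw [← mem_iSup_map_iff]
    refine (iSup_le ?_ : (⨆ h : H, V₁.map (ρ h)) ≤ ⨆ h : H, W.map (ρ h)) hx
    intro h
    rintro _ ⟨v, hv, rfl⟩
    obtain ⟨w, hw, rfl⟩ := hspan v hv
    rw [map_sum]
    refine Submodule.sum_mem _ (fun h₁ _ => ?_)
    refine Submodule.mem_iSup_of_mem (h * (h₁ : H)) ⟨w h₁, hw h₁, ?_⟩
    rw [map_mul, Module.End.mul_apply]

theorem isInternal_of_EF {H : Type*} [Group H] [Fintype H] [DecidableEq H]
    (ρ : H →* Module.End k V) (h : EF (fun h : H => ρ h)) :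
    ∃ W : Submodule k V, DirectSum.IsInternal (fun h : H => W.map (ρ h)) := by
  classical
  obtain ⟨W, -, hind, hspan⟩ := h
  refine ⟨W, DirectSum.isInternal_submodule_of_iSupIndep_of_iSup_eq_top ?_ ?_⟩
  · rw [iSupIndep_iff_finsetSum_eq_zero_imp_eq_zero]
    intro s v hv hsum i hi
    have hex : ∀ j, ∃ u ∈ W, j ∈ s → ρ j u = v j := by
      intro j
      by_cases hj : j ∈ s
      · obtain ⟨u, hu, huv⟩ := hv j hj
        exact ⟨u, hu, fun _ => huv⟩
      · exact ⟨0, Submodule.zero_mem _, fun h => absurd h hj⟩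
    choose u hu huv using hex
    have hsum' : ∑ h, ρ h (if h ∈ s then u h else 0) = 0 := by
      refine Eq.trans ?_ hsum
      rw [← Finset.sum_subset (Finset.subset_univ s)]
      · apply Finset.sum_congr rfl
        intro j hj
        rw [if_pos hj, huv j hj]
      · intro j _ hj
        rw [if_neg hj, map_zero]
    have := hind (fun h => if h ∈ s then u h else 0) (fun h => by
      by_cases hh : h ∈ s
      · simp [hh, hu]
      · simp [hh]) hsum' i
    simp only [if_pos hi] at this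
    rw [← huv i hi, this, map_zero]
  · rw [eq_top_iff]
    intro x _
    exact (mem_iSup_map_iff (fun h : H => ρ h) W x).mpr (hspan x trivial)

/-- quotient representation -/
def quotRep {G : Type*} [Monoid G] (ρ : G →* Module.End k V) (U : Submodule k V)
    (hU : ∀ g, ∀ u ∈ U, ρ g u ∈ U) : G →* Module.End k (V ⧸ U) where
  toFun g := U.mapQ U (ρ g) (fun u hu => hU g u hu)
  map_one' := by
    apply Submodule.linearMap_qext
    ext v
    simp
  map_mul' g h := by
    apply Submodule.linearMap_qext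
    ext v
    simp

theorem quotRep_mk {G : Type*} [Monoid G] (ρ : G →* Module.End k V) (U : Submodule k V)
    (hU : ∀ g, ∀ u ∈ U, ρ g u ∈ U) (g : G) (v : V) :
    quotRep ρ U hU g (U.mkQ v) = U.mkQ (ρ g v) := rfl

/-- sub-representation -/
def subRep {G : Type*} [Monoid G] (ρ : G →* Module.End k V) (U : Submodule k V)
    (hU : ∀ g, ∀ u ∈ U, ρ g u ∈ U) : G →* Module.End k U where
  toFun g := (ρ g).restrict (hU g)
  map_one' := by
    ext u
    simp
  map_mul' g h := by
    ext u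
    simp

theorem subRep_coe {G : Type*} [Monoid G] (ρ : G →* Module.End k V) (U : Submodule k V)
    (hU : ∀ g, ∀ u ∈ U, ρ g u ∈ U) (g : G) (u : U) :
    ((subRep ρ U hU g u : U) : V) = ρ g u := rfl

theorem fixed_quotient_eq_zero {Z : Type*} [Group Z] [Finite Z] (hZk : (Nat.card Z : k) ≠ 0)
    (ρZ : Z →* Module.End k V) (U : Submodule k V) (hU : ∀ z, ∀ u ∈ U, ρZ z u ∈ U)
    (hfix : ∀ v, (∀ z, ρZ z v = v) → v ∈ U) (y : V ⧸ U)
    (hy : ∀ z, quotRep ρZ U hU z y = y) : y = 0 := by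
  cases nonempty_fintype Z
  obtain ⟨v, rfl⟩ := U.mkQ_surjective y
  have hv' : (∑ z, ρZ z v) ∈ U := by
    apply hfix
    intro w
    rw [map_sum]
    rw [← Equiv.sum_comp (Equiv.mulLeft w) (fun z => ρZ z v)]
    apply Finset.sum_congr rfl
    intro z _
    rw [Equiv.coe_mulLeft, map_mul, Module.End.mul_apply]
  have h2 : U.mkQ (∑ z, ρZ z v) = (Nat.card Z : k) • U.mkQ v := by
    rw [map_sum]
    have : ∀ z ∈ (Finset.univ : Finset Z), U.mkQ (ρZ z v) = U.mkQ v := by
      intro z _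
      rw [← quotRep_mk ρZ U hU z v]
      exact hy z
    rw [Finset.sum_congr rfl this, Finset.sum_const, Finset.card_univ, Nat.card_eq_fintype_card,
      Nat.cast_smul_eq_nsmul]
  have h3 : U.mkQ (∑ z, ρZ z v) = 0 := by
    rw [Submodule.mkQ_apply, Submodule.Quotient.mk_eq_zero]
    exact hv'
  rw [h3] at h2
  rcases smul_eq_zero.mp h2.symm with h | h
  · exact absurd h hZk
  · exact h

end Cfsg.Agent.Lib.Helper21.FrobFree
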