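import Mathlib
import Cfsg.Agent.Lib.Helper21.FrobFreeA

set_option autoImplicit false

namespace Cfsg.Agent.Lib.Helper21.FrobFree

open scoped BigOperators

section Desc

variable {K : Type*} [Field K] {H : Type*} [Group H] [Fintype H] [MulSemiringAction H K]
  [FaithfulSMul H K]

/-- Normal basis element: the matrix `((g*h) • x)` is invertible. -/
theorem exists_unit_matrix [DecidableEq H] :
    ∃ x : K, IsUnit (Matrix.of (fun g h : H => (g * h) • x) : Matrix H H K) := by
  classical
  obtain ⟨x, hx⟩ := exists_linearIndependent_algEquiv_apply (FixedPoints.subfield H K) K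
  have hx' : LinearIndependent (FixedPoints.subfield H K) (fun h : H => h • x) :=
    hx.comp (FixedPoints.toAlgAutMulEquiv H K) (FixedPoints.toAlgAutMulEquiv H K).injective
  have hcard : Fintype.card H = Module.finrank (FixedPoints.subfield H K) K :=
    (FixedPoints.finrank_eq_card H K).symm
  have hspan : Submodule.span (FixedPoints.subfield H K) (Set.range (fun h : H => h • x)) = ⊤ :=
    hx'.span_eq_top_of_card_eq_finrank' hcard
  refine ⟨x, ?_⟩
  rw [← Matrix.linearIndependent_rows_iff_isUnit, Fintype.linearIndependent_iff]
  intro c hc
  have h1 : ∀ h : H, ∑ g, c g * ((g * h) • x) = 0 := by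
    intro h
    have := congrFun hc h
    simpa [Finset.sum_apply, Matrix.row] using this
  have h2 : ∀ y : K, ∑ g, c g * (g • y) = 0 := by
    intro y
    have hy : y ∈ Submodule.span (FixedPoints.subfield H K) (Set.range (fun h : H => h • x)) := by
      rw [hspan]
      trivial
    induction hy using Submodule.span_induction with
    | mem y hy =>
      obtain ⟨h, rfl⟩ := hy
      simpa [mul_smul] using h1 h
    | zero => simp
    | add y z _ _ hy hz =>
      simp only [smul_add, mul_add, Finset.sum_add_distrib, hy, hz, add_zero]
    | smul a y _ hy =>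
      have : ∀ g : H, g • (a • y) = (a : K) * (g • y) := by
        intro g
        rw [Algebra.smul_def, smul_mul']
        congr 1
        exact a.2 g
      simp_rw [this, mul_left_comm, ← Finset.mul_sum, hy, mul_zero]
  have hded := linearIndependent_monoidHom K K
  have hinj : Function.Injective
      (fun g : H => ((MulSemiringAction.toRingHom H K g : K →+* K) : K →* K)) := by
    intro g g' hgg
    apply toRingHom_injective H K
    ext y
    exact DFunLike.congr_fun hgg y
  have h3 := hded.comp _ hinj
  rw [Fintype.linearIndependent_iff] at h3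
  apply h3 c
  ext y
  simpa using h2 y

variable {k : Type*} [Field k] {M : Type*} [AddCommGroup M] [Module k M]

/-- Galois descent + normal basis: a semilinear action of a finite group acting faithfully
on a field is free. -/
theorem EF_of_semilinear (act : K →+* Module.End k M) (ψ : H →* Module.End k M)
    (hsl : ∀ (h : H) (a : K) (m : M), ψ h (act a m) = act (h • a) (ψ h m)) :
    EF (fun h : H => ψ h) := by
  classical
  obtain ⟨x, u, hu⟩ := exists_unit_matrix (K := K) (H := H)
  let op : Matrix H H K → (H → M) → (H → M) := fun A n g => ∑ h, act (A g h) (n h)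
  have op_mul : ∀ A B n, op (A * B) n = op A (op B n) := by
    intro A B n
    funext g
    simp only [op, Matrix.mul_apply, map_sum, map_mul, LinearMap.sum_apply, Module.End.mul_apply]
    rw [Finset.sum_comm]
  have op_one : ∀ n, op 1 n = n := by
    intro n
    funext g
    simp only [op, Matrix.one_apply]
    rw [Finset.sum_eq_single g]
    · simp
    · intro b _ hb
      simp [Ne.symm hb]
    · intro hg
      exact absurd (Finset.mem_univ g) hg
  have op_zero : ∀ A, op A 0 = 0 := by
    intro A
    funext g
    simp [op]
  have op_inj : ∀ n, op (u : Matrix H H K) n = 0 → n = 0 := by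
    intro n hn
    have := op_mul (↑u⁻¹ : Matrix H H K) (u : Matrix H H K) n
    rw [Units.inv_mul, op_one, hn, op_zero] at this
    exact this
  have op_surj : ∀ t, ∃ n, op (u : Matrix H H K) n = t := fun t =>
    ⟨op (↑u⁻¹ : Matrix H H K) t, by rw [← op_mul, Units.mul_inv, op_one]⟩
  have hopE : ∀ n g, op (u : Matrix H H K) n g = ∑ h, act ((g * h) • x) (n h) := by
    intro n g
    simp only [op, hu, Matrix.of_apply]
  let Mfix : Submodule k M :=
    { carrier := {m | ∀ h, ψ h m = m}
      add_mem' := by
        intro a b ha hb h
        rw [map_add, ha h, hb h]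
      zero_mem' := by
        intro h
        rw [map_zero]
      smul_mem' := by
        intro c a ha h
        rw [map_smul, ha h] }
  have hMfix : ∀ m, m ∈ Mfix ↔ ∀ h, ψ h m = m := fun m => Iff.rfl
  have hterm : ∀ (g h : H) (n : M), n ∈ Mfix → ψ g (ψ h (act x n)) = act ((g * h) • x) n := by
    intro g h n hn
    rw [hsl, (hMfix n).mp hn h, hsl, (hMfix n).mp hn g, mul_smul]
  refine ⟨Mfix.map (act x), le_top, ?_, ?_⟩
  · intro w hw hsum
    have : ∀ h, ∃ n ∈ Mfix, act x n = w h := fun h => Submodule.mem_map.mp (hw h)
    choose n hn hnw using this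
    have hn0 : n = 0 := by
      apply op_inj
      funext g
      rw [hopE]
      have h1 : ψ g (∑ h, ψ h (w h)) = 0 := by rw [hsum, map_zero]
      rw [map_sum] at h1
      rw [Pi.zero_apply, ← h1]
      apply Finset.sum_congr rfl
      intro h _
      rw [← hnw h, hterm g h (n h) (hn h)]
    intro h
    rw [← hnw h, hn0, Pi.zero_apply, map_zero]
  · intro m _
    obtain ⟨n, hn⟩ := op_surj (fun g => ψ g m)
    have hfix : ∀ a h, ψ a (n h) = n h := by
      intro a
      have h0 : op (u : Matrix H H K) (fun h => ψ a (n h) - n h) = 0 := by
        funext g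
        rw [hopE]
        simp only [map_sub, Finset.sum_sub_distrib, Pi.zero_apply]
        rw [sub_eq_zero]
        have e1 : ∑ h, act ((g * h) • x) (n h) = ψ g m := by
          rw [← hopE, hn]
        have e2 : ∑ h, act ((g * h) • x) (ψ a (n h)) = ψ a (∑ h, act ((a⁻¹ * g * h) • x) (n h)) := by
          rw [map_sum]
          apply Finset.sum_congr rfl
          intro h _
          rw [hsl, ← mul_smul]
          congr 3
          group
        rw [e1, e2, ← hopE, hn, ← Module.End.mul_apply, ← map_mul]
        congr 2
        group
      have h1 := op_inj _ h0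
      intro h
      have := congrFun h1 h
      simpa [sub_eq_zero] using this
    refine ⟨fun h => act x (n h), fun h => Submodule.mem_map_of_mem (fun a => hfix a h), ?_⟩
    have e1 : ∑ h, act ((1 * h) • x) (n h) = ψ 1 m := by
      rw [← hopE, hn]
    rw [map_one, Module.End.one_apply] at e1
    rw [← e1]
    apply Finset.sum_congr rfl
    intro h _
    have := hterm 1 h (n h) (fun a => hfix a h)
    rw [map_one, Module.End.one_apply] at this
    exact this.symm

end Desc

end Cfsg.Agent.Lib.Helper21.FrobFree
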