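import Mathlib
import Cfsg.Agent.Lib.Helper21.FrobFreeA
import Cfsg.Agent.Lib.Helper21.FrobFreeB

set_option autoImplicit false

namespace Cfsg.Agent.Lib.Helper21.FrobFree

open scoped BigOperators

section Desc'

variable {K : Type*} [CommRing K] {H : Type*} [Group H] [Fintype H]
variable {k : Type*} [Field k] {M : Type*} [AddCommGroup M] [Module k M]

theorem EF_of_semilinear' (hK : IsField K) (θ : H →* RingAut K) (hθ : Function.Injective θ)
    (act : K →+* Module.End k M) (ψ : H →* Module.End k M)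
    (hsl : ∀ (h : H) (a : K) (m : M), ψ h (act a m) = act (θ h a) (ψ h m)) :
    EF (fun h : H => ψ h) := by
  letI : Field K := hK.toField
  letI : MulSemiringAction H K := MulSemiringAction.compHom K θ
  haveI : FaithfulSMul H K := ⟨fun {g g'} hgg => hθ (RingEquiv.ext hgg)⟩
  exact EF_of_semilinear act ψ hsl

end Desc'

section CA

variable {k : Type*} [Field k] {V : Type*} [AddCommGroup V] [Module k V]
variable {R : Type*} [CommRing R] [Algebra k R]

theorem exists_maximal_ann [FiniteDimensional k V] [Nontrivial V] (L : R →ₐ[k] Module.End k V) :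
    ∃ (𝔪 : Ideal R) (s : V), 𝔪.IsMaximal ∧ s ≠ 0 ∧ ∀ a ∈ 𝔪, L a s = 0 := by
  classical
  let 𝒮 : Set (Submodule k V) := {S | S ≠ ⊥ ∧ ∀ a : R, ∀ v ∈ S, L a v ∈ S}
  have h𝒮 : 𝒮.Nonempty := ⟨⊤, top_ne_bot, fun _ _ _ => Submodule.mem_top⟩
  obtain ⟨S, hS, hmin⟩ := (wellFounded_lt :
    WellFounded ((· < ·) : Submodule k V → Submodule k V → Prop)).has_min 𝒮 h𝒮
  obtain ⟨s, hsS, hs0⟩ := Submodule.exists_mem_ne_zero_of_ne_bot hS.1
  let cyc : V → Submodule k V := fun t =>
    LinearMap.range ((LinearMap.applyₗ t : (V →ₗ[k] V) →ₗ[k] V) ∘ₗ L.toLinearMap)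
  have hcyc : ∀ t u, u ∈ cyc t ↔ ∃ a, L a t = u := by
    intro t u
    simp [cyc, LinearMap.mem_range]
  have hcycS : ∀ t ∈ S, t ≠ 0 → cyc t = S := by
    intro t ht ht0
    have hle : cyc t ≤ S := by
      intro u hu
      obtain ⟨a, rfl⟩ := (hcyc t u).mp hu
      exact hS.2 a t ht
    have hmem : cyc t ∈ 𝒮 := by
      refine ⟨?_, ?_⟩
      · intro hbot
        have : t ∈ cyc t := (hcyc t t).mpr ⟨1, by simp⟩
        rw [hbot, Submodule.mem_bot] at this
        exact ht0 this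
      · intro b u hu
        obtain ⟨a, rfl⟩ := (hcyc t u).mp hu
        exact (hcyc t _).mpr ⟨b * a, by simp [map_mul]⟩
    by_contra hne
    exact hmin _ hmem (lt_of_le_of_ne hle hne)
  let 𝔪 : Ideal R :=
    { carrier := {a | L a s = 0}
      add_mem' := by
        intro a b ha hb
        simp only [Set.mem_ofPred_eq] at *
        rw [map_add, LinearMap.add_apply, ha, hb, add_zero]
      zero_mem' := by simp
      smul_mem' := by
        intro c a ha
        simp only [Set.mem_ofPred_eq, smul_eq_mul] at *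
        rw [map_mul, Module.End.mul_apply, ha, map_zero] }
  have hm : ∀ a, a ∈ 𝔪 ↔ L a s = 0 := fun a => Iff.rfl
  refine ⟨𝔪, s, ?_, hs0, fun a ha => (hm a).mp ha⟩
  rw [Ideal.isMaximal_iff]
  refine ⟨?_, ?_⟩
  · rw [hm, map_one]
    exact hs0
  · intro J x hJ hx hxJ
    rw [hm] at hx
    have hxs : L x s ∈ S := hS.2 x s hsS
    have hcx := hcycS (L x s) hxs hx
    have hs' : s ∈ cyc (L x s) := by
      rw [hcx]
      exact hsS
    obtain ⟨b, hb⟩ := (hcyc _ _).mp hs'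
    have hmem : b * x - 1 ∈ 𝔪 := by
      rw [hm, map_sub, map_mul, map_one, LinearMap.sub_apply, Module.End.mul_apply, hb,
        Module.End.one_apply, sub_self]
    have h1 : b * x - 1 ∈ J := hJ hmem
    have h2 : b * x ∈ J := J.mul_mem_left b hxJ
    have h3 : (1 : R) = b * x - (b * x - 1) := by ring
    rw [h3]
    exact J.sub_mem h2 h1

theorem indep_of_distinct_maximal (L : R →ₐ[k] Module.End k V) {ι : Type*} [Fintype ι]
    (𝔭 : ι → Ideal R) (hmax : ∀ i, (𝔭 i).IsMaximal) (hinj : Function.Injective 𝔭)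
    (u : ι → V) (hu : ∀ i, ∀ a ∈ 𝔭 i, L a (u i) = 0) (hsum : ∑ i, u i = 0) : ∀ i, u i = 0 := by
  classical
  intro i
  have hex : ∀ j, j ≠ i → ∃ c, c ∈ 𝔭 j ∧ c ∉ 𝔭 i := by
    intro j hji
    by_contra hcon
    push Not at hcon
    have hle : 𝔭 j ≤ 𝔭 i := hcon
    have := (hmax j).eq_of_le (hmax i).ne_top hle
    exact hji (hinj this)
  choose! c hc using hex
  let a : R := ∏ j ∈ Finset.univ.erase i, c j
  have ha_notin : a ∉ 𝔭 i := by
    haveI := (hmax i).isPrime
    rw [Ideal.IsPrime.prod_mem_iff]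
    rintro ⟨j, hj, hcj⟩
    exact (hc j (Finset.ne_of_mem_erase hj)).2 hcj
  have ha_in : ∀ j, j ≠ i → a ∈ 𝔭 j := by
    intro j hji
    exact Ideal.mem_of_dvd _
      (Finset.dvd_prod_of_mem c (Finset.mem_erase.mpr ⟨hji, Finset.mem_univ j⟩)) (hc j hji).1
  have h1 : L a (u i) = 0 := by
    have := congrArg (L a) hsum
    rw [map_sum, map_zero, Finset.sum_eq_single i] at this
    · exact this
    · intro j _ hji
      exact hu j a (ha_in j hji)
    · intro hi
      exact absurd (Finset.mem_univ i) hi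
  obtain ⟨b, m, hm, hbm⟩ := (hmax i).exists_inv ha_notin
  have : u i = L (b * a + m) (u i) := by rw [hbm, map_one, Module.End.one_apply]
  rw [this, map_add, map_mul, LinearMap.add_apply, Module.End.mul_apply, h1, map_zero,
    hu i m hm, add_zero]

/-- the subspace killed by an ideal -/
def annSub (L : R →ₐ[k] Module.End k V) (𝔪 : Ideal R) : Submodule k V where
  carrier := {v | ∀ a ∈ 𝔪, L a v = 0}
  add_mem' := by
    intro v w hv hw a ha
    rw [map_add, hv a ha, hw a ha, add_zero]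
  zero_mem' := by
    intro a _
    rw [map_zero]
  smul_mem' := by
    intro c v hv a ha
    rw [map_smul, hv a ha, smul_zero]

theorem mem_annSub (L : R →ₐ[k] Module.End k V) (𝔪 : Ideal R) (v : V) :
    v ∈ annSub L 𝔪 ↔ ∀ a ∈ 𝔪, L a v = 0 := Iff.rfl

theorem annSub_invariant (L : R →ₐ[k] Module.End k V) (𝔪 : Ideal R) (b : R) :
    ∀ v ∈ annSub L 𝔪, L b v ∈ annSub L 𝔪 := by
  intro v hv a ha
  rw [← Module.End.mul_apply, ← map_mul, mul_comm, map_mul, Module.End.mul_apply, hv a ha,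
    map_zero]

/-- the action of the residue ring on the annihilated subspace -/
def annAct (L : R →ₐ[k] Module.End k V) (𝔪 : Ideal R) :
    (R ⧸ 𝔪) →+* Module.End k (annSub L 𝔪) :=
  Ideal.Quotient.lift 𝔪
    { toFun := fun a => (L a).restrict (annSub_invariant L 𝔪 a)
      map_one' := by
        ext v
        simp
      map_mul' := by
        intro a b
        ext v
        simp
      map_zero' := by
        ext v
        simp
      map_add' := by
        intro a b
        ext v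
        simp }
    (by
      intro a ha
      ext v
      exact v.2 a ha)

theorem annAct_mk (L : R →ₐ[k] Module.End k V) (𝔪 : Ideal R) (a : R) (v : annSub L 𝔪) :
    ((annAct L 𝔪 (Ideal.Quotient.mk 𝔪 a) v : annSub L 𝔪) : V) = L a v := rfl

variable {H : Type*} [Group H]

/-- the stabilizer of an ideal -/
def stabIdeal (σ : H →* RingAut R) (𝔪 : Ideal R) : Subgroup H where
  carrier := {h | ∀ a, σ h a ∈ 𝔪 ↔ a ∈ 𝔪}
  mul_mem' := by
    intro g h hg hh a
    rw [map_mul, RingAut.mul_apply, hg, hh]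
  one_mem' := by
    intro a
    rw [map_one, RingAut.one_apply]
  inv_mem' := by
    intro h hh a
    rw [← hh, ← RingAut.mul_apply, ← map_mul, mul_inv_cancel, map_one, RingAut.one_apply]

theorem mem_stabIdeal (σ : H →* RingAut R) (𝔪 : Ideal R) (h : H) :
    h ∈ stabIdeal σ 𝔪 ↔ ∀ a, σ h a ∈ 𝔪 ↔ a ∈ 𝔪 := Iff.rfl

theorem stabIdeal_map (σ : H →* RingAut R) (𝔪 : Ideal R) (h : stabIdeal σ 𝔪) :
    𝔪 = Ideal.map ((σ (h : H) : R ≃+* R) : R →+* R) 𝔪 := by
  apply le_antisymm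
  · intro a ha
    have h1 : a = ((σ (h : H) : R ≃+* R) : R →+* R) (σ (h : H)⁻¹ a) := by
      rw [RingEquiv.coe_toRingHom, ← RingAut.mul_apply, ← map_mul, mul_inv_cancel, map_one,
        RingAut.one_apply]
    rw [h1]
    exact Ideal.mem_map_of_mem _
      (((mem_stabIdeal σ 𝔪 _).mp ((stabIdeal σ 𝔪).inv_mem h.2) a).mpr ha)
  · rw [Ideal.map_le_iff_le_comap]
    intro a ha
    exact ((mem_stabIdeal σ 𝔪 _).mp h.2 a).mpr ha

/-- the action of the stabilizer on the residue ring -/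
def quotTheta (σ : H →* RingAut R) (𝔪 : Ideal R) : stabIdeal σ 𝔪 →* RingAut (R ⧸ 𝔪) where
  toFun h := Ideal.quotientEquiv 𝔪 𝔪 (σ (h : H)) (stabIdeal_map σ 𝔪 h)
  map_one' := by
    apply RingEquiv.ext
    intro x
    obtain ⟨a, rfl⟩ := Ideal.Quotient.mk_surjective x
    rw [Ideal.quotientEquiv_mk]
    simp
  map_mul' := by
    intro g h
    apply RingEquiv.ext
    intro x
    obtain ⟨a, rfl⟩ := Ideal.Quotient.mk_surjective x
    rw [RingAut.mul_apply, Ideal.quotientEquiv_mk, Ideal.quotientEquiv_mk,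
      Ideal.quotientEquiv_mk]
    simp

theorem quotTheta_mk (σ : H →* RingAut R) (𝔪 : Ideal R) (h : stabIdeal σ 𝔪) (a : R) :
    quotTheta σ 𝔪 h (Ideal.Quotient.mk 𝔪 a) = Ideal.Quotient.mk 𝔪 (σ (h : H) a) := rfl

theorem exists_free_invariant [FiniteDimensional k V] [Nontrivial V] [Fintype H]
    (L : R →ₐ[k] Module.End k V) (σ : H →* RingAut R) (ρH : H →* Module.End k V)
    (hc : ∀ h a v, ρH h (L a v) = L (σ h a) (ρH h v))
    (hstar : ∀ h : H, h ≠ 1 → ∀ v, (∀ a, L (σ h a) v = L a v) → v = 0) :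
    ∃ U : Submodule k V, U ≠ ⊥ ∧ (∀ h, ∀ u ∈ U, ρH h u ∈ U) ∧ (∀ a, ∀ u ∈ U, L a u ∈ U) ∧
      EFon (fun h : H => ρH h) U := by
  classical
  obtain ⟨𝔪, s, hmax, hs0, hs⟩ := exists_maximal_ann L
  have σ_mul : ∀ g h a, σ (g * h) a = σ g (σ h a) := by
    intro g h a
    rw [map_mul]
    rfl
  have σ_one : ∀ a, σ 1 a = a := by
    intro a
    rw [map_one]
    rfl
  have σ_inv_left : ∀ h a, σ h⁻¹ (σ h a) = a := by
    intro h a
    rw [← σ_mul, inv_mul_cancel, σ_one]
  have σ_inv_right : ∀ h a, σ h (σ h⁻¹ a) = a := by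
    intro h a
    rw [← σ_mul, mul_inv_cancel, σ_one]
  have hc' : ∀ h a v, L a (ρH h v) = ρH h (L (σ h⁻¹ a) v) := by
    intro h a v
    rw [hc, σ_inv_right]
  have ρ_inv : ∀ h v, ρH h⁻¹ (ρH h v) = v := by
    intro h v
    rw [← Module.End.mul_apply, ← map_mul, inv_mul_cancel, map_one, Module.End.one_apply]
  have hsM : s ∈ annSub L 𝔪 := hs
  have hMH₁ : ∀ h ∈ stabIdeal σ 𝔪, ∀ v ∈ annSub L 𝔪, ρH h v ∈ annSub L 𝔪 := by
    intro h hh v hv a ha
    rw [hc', hv _ (((mem_stabIdeal σ 𝔪 h⁻¹).mp ((stabIdeal σ 𝔪).inv_mem hh) a).mpr ha),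
      map_zero]
  haveI : Fintype (stabIdeal σ 𝔪) := Fintype.ofFinite _
  haveI : Fintype (H ⧸ stabIdeal σ 𝔪) := Fintype.ofFinite _
  -- injectivity of θ
  have hθ : Function.Injective (quotTheta σ 𝔪) := by
    rw [injective_iff_map_eq_one]
    intro h hh
    by_contra hne
    have hne' : (h : H) ≠ 1 := fun h1 => hne (Subtype.ext h1)
    apply hs0
    apply hstar (h : H) hne' s
    intro a
    have h1 : quotTheta σ 𝔪 h (Ideal.Quotient.mk 𝔪 a) = Ideal.Quotient.mk 𝔪 a := by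
      rw [hh]
      rfl
    rw [quotTheta_mk, Ideal.Quotient.eq] at h1
    have h2 := hs _ h1
    rw [map_sub, LinearMap.sub_apply, sub_eq_zero] at h2
    exact h2
  let ψ : stabIdeal σ 𝔪 →* Module.End k (annSub L 𝔪) :=
    subRep (ρH.comp (stabIdeal σ 𝔪).subtype) (annSub L 𝔪) (fun g u hu => hMH₁ g g.2 u hu)
  have hsl : ∀ (h : stabIdeal σ 𝔪) (x : R ⧸ 𝔪) (m : annSub L 𝔪),
      ψ h (annAct L 𝔪 x m) = annAct L 𝔪 (quotTheta σ 𝔪 h x) (ψ h m) := by
    intro h x m
    obtain ⟨a, rfl⟩ := Ideal.Quotient.mk_surjective x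
    apply Subtype.ext
    rw [quotTheta_mk, annAct_mk]
    exact hc (h : H) a m
  have hEF₁ : EF (fun h : stabIdeal σ 𝔪 => ψ h) :=
    EF_of_semilinear' ((Ideal.Quotient.maximal_ideal_iff_isField_quotient 𝔪).mp hmax)
      (quotTheta σ 𝔪) hθ (annAct L 𝔪) ψ hsl
  have hEFon₁ : EFon (fun h : stabIdeal σ 𝔪 => ρH (h : H)) (annSub L 𝔪) :=
    EFon_of_EF_restrict _ (annSub L 𝔪) (fun h => ψ h) (fun h m => rfl) hEF₁
  have hcos : ∀ v : H ⧸ stabIdeal σ 𝔪 → V, (∀ q, v q ∈ annSub L 𝔪) →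
      ∑ q, ρH (q.out) (v q) = 0 → ∀ q, v q = 0 := by
    intro v hv hsum q
    have key := indep_of_distinct_maximal L
      (fun q : H ⧸ stabIdeal σ 𝔪 => 𝔪.comap ((σ (q.out)⁻¹ : R ≃+* R) : R →+* R))
      (fun q => Ideal.comap_isMaximal_of_surjective _ (σ (q.out)⁻¹ : R ≃+* R).surjective)
      ?_ (fun q => ρH q.out (v q)) ?_ hsum q
    · rw [← ρ_inv q.out (v q), key, map_zero]
    · intro q q' hqq
      have hmem : (q.out)⁻¹ * q'.out ∈ stabIdeal σ 𝔪 := by
        rw [mem_stabIdeal]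
        intro b
        have h1 := Ideal.ext_iff.mp hqq (σ q'.out b)
        rw [Ideal.mem_comap, Ideal.mem_comap, RingEquiv.coe_toRingHom, RingEquiv.coe_toRingHom,
          σ_inv_left] at h1
        rw [σ_mul]
        exact h1
      have := QuotientGroup.eq.mpr hmem
      rwa [QuotientGroup.out_eq', QuotientGroup.out_eq'] at this
    · intro q a ha
      rw [Ideal.mem_comap, RingEquiv.coe_toRingHom] at ha
      rw [hc', hv q _ ha, map_zero]
  have hfin := EFon_induced (stabIdeal σ 𝔪) ρH (annSub L 𝔪) hMH₁ hEFon₁ hcos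
  refine ⟨⨆ h : H, (annSub L 𝔪).map (ρH h), ?_, ?_, ?_, hfin⟩
  · intro hbot
    have : s ∈ ⨆ h : H, (annSub L 𝔪).map (ρH h) :=
      Submodule.mem_iSup_of_mem 1 ⟨s, hsM, by simp⟩
    rw [hbot, Submodule.mem_bot] at this
    exact hs0 this
  · intro g u hu
    obtain ⟨w, hw, rfl⟩ := (mem_iSup_map_iff (fun h : H => ρH h) _ u).mp hu
    rw [map_sum]
    refine Submodule.sum_mem _ (fun h _ => ?_)
    refine Submodule.mem_iSup_of_mem (g * h) ⟨w h, hw h, ?_⟩
    rw [map_mul, Module.End.mul_apply]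
  · intro a u hu
    obtain ⟨w, hw, rfl⟩ := (mem_iSup_map_iff (fun h : H => ρH h) _ u).mp hu
    rw [map_sum]
    refine Submodule.sum_mem _ (fun h _ => ?_)
    refine Submodule.mem_iSup_of_mem h ⟨L (σ h⁻¹ a) (w h), annSub_invariant L 𝔪 _ _ (hw h), ?_⟩
    exact (hc' h a (w h)).symm

end CA

end Cfsg.Agent.Lib.Helper21.FrobFree
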