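import Mathlib
import Cfsg.Agent.Lib.Helper21.FrobFreeA
import Cfsg.Agent.Lib.Helper21.FrobFreeB
import Cfsg.Agent.Lib.Helper21.FrobFreeC

set_option autoImplicit false

namespace Cfsg.Agent.Lib.Helper21.FrobFree

open scoped BigOperators

universe v

section AC

variable {k : Type*} [Field k] {Z : Type*} [CommGroup Z] {H : Type*} [Group H]

/-- the action on the group algebra induced by an action on the group -/
noncomputable def sigmaHom (k : Type*) [Field k] (φ : H →* MulAut Z) :
    H →* RingAut (MonoidAlgebra k Z) where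
  toFun h := (MonoidAlgebra.domCongr k k (φ h)).toRingEquiv
  map_one' := by
    apply RingEquiv.ext
    intro a
    show MonoidAlgebra.domCongr k k (φ 1) a = a
    rw [map_one]
    exact DFunLike.congr_fun (MonoidAlgebra.domCongr_refl (R := k) (A := k) (M := Z)) a
  map_mul' := by
    intro g h
    apply RingEquiv.ext
    intro a
    show MonoidAlgebra.domCongr k k (φ (g * h)) a =
      MonoidAlgebra.domCongr k k (φ g) (MonoidAlgebra.domCongr k k (φ h) a)
    rw [map_mul]
    exact (DFunLike.congr_fun (MonoidAlgebra.trans_domCongr_domCongr (R := k) (A := k)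
      (φ h) (φ g)) a).symm

theorem sigmaHom_apply (φ : H →* MulAut Z) (h : H) (a : MonoidAlgebra k Z) :
    sigmaHom k φ h a = MonoidAlgebra.domCongr k k (φ h) a := rfl

theorem sigmaHom_of (φ : H →* MulAut Z) (h : H) (z : Z) :
    sigmaHom k φ h (MonoidAlgebra.of k Z z) = MonoidAlgebra.of k Z (φ h z) := by
  rw [sigmaHom_apply, MonoidAlgebra.of_apply, MonoidAlgebra.domCongr_single,
    MonoidAlgebra.of_apply]

theorem abelian_core [Finite Z] [Fintype H] (hZk : (Nat.card Z : k) ≠ 0) (φ : H →* MulAut Z)
    (hφ : ∀ h : H, h ≠ 1 → ∀ z, φ h z = z → z = 1) :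
    ∀ (n : ℕ) (V : Type v) [AddCommGroup V] [Module k V] [FiniteDimensional k V]
      (ρZ : Z →* Module.End k V) (ρH : H →* Module.End k V)
      (_ : ∀ h z, ρH h * ρZ z = ρZ (φ h z) * ρH h) (_ : ∀ v, (∀ z, ρZ z v = v) → v = 0),
      Module.finrank k V = n → EF (fun h : H => ρH h) := by
  intro n
  induction n using Nat.strong_induction_on with
  | _ n ih =>
  intro V _ _ _ ρZ ρH hc hfix hn
  by_cases hV : Subsingleton V
  · exact EF_of_subsingleton _
  rw [not_subsingleton_iff_nontrivial] at hV
  let L : MonoidAlgebra k Z →ₐ[k] Module.End k V := MonoidAlgebra.lift k (Module.End k V) Z ρZ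
  have hLof : ∀ z, L (MonoidAlgebra.of k Z z) = ρZ z := fun z => MonoidAlgebra.lift_of ρZ z
  have hcL : ∀ h a v, ρH h (L a v) = L (sigmaHom k φ h a) (ρH h v) := by
    intro h a v
    induction a using MonoidAlgebra.induction_on with
    | of z =>
      rw [sigmaHom_of, hLof, hLof]
      exact LinearMap.congr_fun (hc h z) v
    | add a b ha hb =>
      rw [map_add, map_add, map_add, LinearMap.add_apply, LinearMap.add_apply, map_add, ha, hb]
    | smul r a ha =>
      rw [sigmaHom_apply, map_smul, map_smul, map_smul, LinearMap.smul_apply,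
        LinearMap.smul_apply, map_smul, ← sigmaHom_apply, ha]
  have hstar : ∀ h : H, h ≠ 1 → ∀ v, (∀ a, L (sigmaHom k φ h a) v = L a v) → v = 0 := by
    intro h hh v hv
    apply hfix
    intro w
    have hfpf : MonoidHom.FixedPointFree (φ h) := fun z hz => hφ h hh z hz
    obtain ⟨z, hz⟩ := hfpf.commutatorMap_surjective w⁻¹
    rw [MonoidHom.commutatorMap_apply] at hz
    have hw : w = z⁻¹ * φ h z := by
      have : w = (z / φ h z)⁻¹ := by rw [hz, inv_inv]
      rw [this, inv_div, div_eq_mul_inv, mul_comm]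
    have h1 := hv (MonoidAlgebra.of k Z z)
    rw [sigmaHom_of, hLof, hLof] at h1
    rw [hw, map_mul, Module.End.mul_apply, h1, ← Module.End.mul_apply, ← map_mul,
      inv_mul_cancel, map_one, Module.End.one_apply]
  obtain ⟨U, hU0, hUH, hUL, hEFon⟩ := exists_free_invariant L (sigmaHom k φ) ρH hcL hstar
  have hUZ : ∀ z, ∀ u ∈ U, ρZ z u ∈ U := by
    intro z u hu
    rw [← hLof]
    exact hUL _ u hu
  have hlt : Module.finrank k (V ⧸ U) < n := by
    have h1 := Submodule.finrank_quotient_add_finrank U
    have h2 : 0 < Module.finrank k U := by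
      rw [Module.finrank_pos_iff]
      exact (Submodule.nontrivial_iff_ne_bot).mpr hU0
    omega
  have hIH := ih _ hlt (V ⧸ U) (quotRep ρZ U hUZ) (quotRep ρH U hUH) ?_ ?_ rfl
  · exact EF_of_quotient (fun h : H => ρH h) U hUH (fun h => quotRep ρH U hUH h)
      (fun h v => rfl) hEFon hIH
  · intro h z
    apply LinearMap.ext
    intro y
    obtain ⟨v, rfl⟩ := U.mkQ_surjective y
    simp only [Module.End.mul_apply, quotRep_mk]
    congr 1
    exact LinearMap.congr_fun (hc h z) v
  · intro y hy
    exact fixed_quotient_eq_zero hZk ρZ U hUZ (fun v hv => by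
      rw [hfix v hv]
      exact U.zero_mem) y hy

end AC

end Cfsg.Agent.Lib.Helper21.FrobFree
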