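import Mathlib
import Cfsg.Agent.Lib.Helper21.FrobFreeA
import Cfsg.Agent.Lib.Helper21.FrobFreeD
import Cfsg.Agent.Lib.Helper1.FPF.Basic
import Cfsg.Agent.Lib.Helper22.FrobKernel
import Cfsg.Agent.S0670

set_option autoImplicit false

namespace Cfsg.Agent.Lib.Helper21.FrobFree

open scoped BigOperators
open Cfsg.Agent.Lib.Helper1.FPF

universe u v

section NC

variable {k : Type*} [Field k] {H : Type*} [Group H]

/-- abelian core with a `Group` and a commutativity hypothesis -/
theorem abelian_core' {Z : Type*} [Group Z] [Finite Z] [Fintype H]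
    (hcomm : ∀ a b : Z, a * b = b * a) (hZk : (Nat.card Z : k) ≠ 0) (φ : H →* MulAut Z)
    (hφ : ∀ h : H, h ≠ 1 → ∀ z, φ h z = z → z = 1)
    (V : Type v) [AddCommGroup V] [Module k V] [FiniteDimensional k V]
    (ρZ : Z →* Module.End k V) (ρH : H →* Module.End k V)
    (hc : ∀ h z, ρH h * ρZ z = ρZ (φ h z) * ρH h) (hfix : ∀ v, (∀ z, ρZ z v = v) → v = 0) :
    EF (fun h : H => ρH h) := by
  letI : CommGroup Z := { (inferInstance : Group Z) with mul_comm := hcomm }
  exact abelian_core hZk φ hφ _ V ρZ ρH hc hfix rfl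

/-- the induced action on a quotient -/
noncomputable def quotPhi {F : Type*} [Group F] [Finite F] (φ : H →* MulAut F) (N : Subgroup F)
    [N.Normal] (hN : ∀ h, Inv (φ h) N) : H →* MulAut (F ⧸ N) where
  toFun h := quotAut (φ h) N (hN h)
  map_one' := by
    apply MulEquiv.ext
    intro x
    obtain ⟨f, rfl⟩ := QuotientGroup.mk_surjective x
    rw [quotAut_mk]
    simp
  map_mul' := by
    intro g h
    apply MulEquiv.ext
    intro x
    obtain ⟨f, rfl⟩ := QuotientGroup.mk_surjective x
    rw [MulAut.mul_apply, quotAut_mk, quotAut_mk, quotAut_mk, map_mul, MulAut.mul_apply]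

theorem quotPhi_mk {F : Type*} [Group F] [Finite F] (φ : H →* MulAut F) (N : Subgroup F)
    [N.Normal] (hN : ∀ h, Inv (φ h) N) (h : H) (f : F) :
    quotPhi φ N hN h (QuotientGroup.mk f) = QuotientGroup.mk (φ h f) :=
  quotAut_mk (φ h) N (hN h) f

/-- the induced action on an invariant subgroup -/
noncomputable def resPhi {F : Type*} [Group F] [Finite F] (φ : H →* MulAut F) (N : Subgroup F)
    (hN : ∀ h, Inv (φ h) N) : H →* MulAut N where
  toFun h := resAut (φ h) N (hN h)
  map_one' := by
    apply MulEquiv.ext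
    intro x
    apply Subtype.ext
    rw [resAut_coe]
    simp
  map_mul' := by
    intro g h
    apply MulEquiv.ext
    intro x
    apply Subtype.ext
    rw [MulAut.mul_apply, resAut_coe, resAut_coe, resAut_coe, map_mul, MulAut.mul_apply]

theorem resPhi_coe {F : Type*} [Group F] [Finite F] (φ : H →* MulAut F) (N : Subgroup F)
    (hN : ∀ h, Inv (φ h) N) (h : H) (x : N) :
    ((resPhi φ N hN h x : N) : F) = φ h x :=
  resAut_coe (φ h) N (hN h) x

theorem nilpotent_core [Fintype H] :
    ∀ (n : ℕ) (F : Type u) [Group F] [Finite F] [Group.IsNilpotent F] (φ : H →* MulAut F)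
      (_ : ∀ h : H, h ≠ 1 → ∀ f, φ h f = f → f = 1)
      (V : Type v) [AddCommGroup V] [Module k V] [FiniteDimensional k V]
      (ρF : F →* Module.End k V) (ρH : H →* Module.End k V)
      (_ : ∀ h f, ρH h * ρF f = ρF (φ h f) * ρH h) (_ : ∀ v, (∀ f, ρF f v = v) → v = 0),
      Nat.card F = n → EF (fun h : H => ρH h) := by
  intro n
  induction n using Nat.strong_induction_on with
  | _ n ih =>
  intro F _ _ _ φ hφ V _ _ _ ρF ρH hc hfix hn
  by_cases hV : Subsingleton V
  · exact EF_of_subsingleton _
  rw [not_subsingleton_iff_nontrivial] at hV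
  have hc2 : ∀ h f v, ρH h (ρF f v) = ρF (φ h f) (ρH h v) :=
    fun h f v => LinearMap.congr_fun (hc h f) v
  by_cases hr : ∃ r : ℕ, r.Prime ∧ r ∣ Nat.card F ∧ (r : k) ≠ 0
  · obtain ⟨r, hrp, hrF, hrk⟩ := hr
    haveI : Fact r.Prime := ⟨hrp⟩
    obtain ⟨P⟩ : Nonempty (Sylow r F) := inferInstance
    have h03 := (isNilpotent_of_finite_tfae (G := F)).out 0 3
    have hPn : (P : Subgroup F).Normal := h03.mp inferInstance r ⟨hrp⟩ P
    have hPc : (P : Subgroup F).Characteristic := Sylow.characteristic_of_normal P hPn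
    have hPinv : ∀ α : F ≃* F, Inv α (P : Subgroup F) := by
      intro α
      apply inv_of_map_eq
      exact (Subgroup.characteristic_iff_map_eq.mp hPc) α
    obtain ⟨Z₀, hZ₀⟩ : ∃ Z₀ : Subgroup F,
        Z₀ = (P : Subgroup F) ⊓ Subgroup.centralizer ((P : Subgroup F) : Set F) := ⟨_, rfl⟩
    have hZP : Z₀ ≤ (P : Subgroup F) := by
      rw [hZ₀]
      exact inf_le_left
    have hZmem : ∀ x, x ∈ Z₀ ↔ x ∈ (P : Subgroup F) ∧
        x ∈ Subgroup.centralizer ((P : Subgroup F) : Set F) := by
      intro x
      rw [hZ₀]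
      exact Subgroup.mem_inf
    have hZinv : ∀ α : F ≃* F, Inv α Z₀ := by
      intro α
      rw [hZ₀]
      exact inv_inf (hPinv α) (inv_centralizer (hPinv α))
    haveI hZn : Z₀.Normal := by
      constructor
      intro z hz g
      have := hZinv (MulAut.conj g) z hz
      simpa using this
    have hZcomm : ∀ a b : Z₀, a * b = b * a := by
      intro a b
      apply Subtype.ext
      have hb : (b : F) ∈ Subgroup.centralizer ((P : Subgroup F) : Set F) :=
        ((hZmem _).mp b.2).2
      exact (Subgroup.mem_centralizer_iff.mp hb) a.1 (hZP a.2)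
    have hZne : Z₀ ≠ ⊥ := by
      have hPne : (P : Subgroup F) ≠ ⊥ := P.ne_bot_of_dvd_card hrF
      haveI : Nontrivial (P : Subgroup F) := (Subgroup.nontrivial_iff_ne_bot _).mpr hPne
      haveI := P.isPGroup'.center_nontrivial
      obtain ⟨c, hc1⟩ := exists_ne (1 : Subgroup.center (P : Subgroup F))
      intro hbot
      have hmem : ((c : (P : Subgroup F)) : F) ∈ Z₀ := by
        rw [hZmem]
        refine ⟨c.1.2, ?_⟩
        rw [Subgroup.mem_centralizer_iff]
        intro x hx
        have := Subgroup.mem_center_iff.mp c.2 ⟨x, hx⟩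
        exact congrArg Subtype.val this
      rw [hbot, Subgroup.mem_bot] at hmem
      apply hc1
      apply Subtype.ext
      apply Subtype.ext
      exact hmem
    obtain ⟨U, hU⟩ : ∃ U : Submodule k V, ∀ v, v ∈ U ↔ ∀ z ∈ Z₀, ρF z v = v := by
      refine ⟨{ carrier := {v | ∀ z ∈ Z₀, ρF z v = v}
                add_mem' := ?_
                zero_mem' := ?_
                smul_mem' := ?_ }, fun v => Iff.rfl⟩
      · intro a b ha hb z hz
        rw [map_add, ha z hz, hb z hz]
      · intro z _
        rw [map_zero]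
      · intro c a ha z hz
        rw [map_smul, ha z hz]
    have hUF : ∀ f, ∀ u ∈ U, ρF f u ∈ U := by
      intro f u hu
      rw [hU] at hu ⊢
      intro z hz
      have h1 : z * f = f * (f⁻¹ * z * f) := by group
      rw [← Module.End.mul_apply, ← map_mul, h1, map_mul, Module.End.mul_apply]
      congr 1
      apply hu
      have := hZn.conj_mem z hz f⁻¹
      simpa using this
    have hUH : ∀ h, ∀ u ∈ U, ρH h u ∈ U := by
      intro h u hu
      rw [hU] at hu ⊢
      intro z hz
      have h1 : z = φ h (φ h⁻¹ z) := by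
        rw [← MulAut.mul_apply, ← map_mul, mul_inv_cancel, map_one, MulAut.one_apply]
      rw [h1, ← hc2]
      congr 1
      exact hu _ (hZinv (φ h⁻¹) z hz)
    have hZk : (Nat.card Z₀ : k) ≠ 0 := by
      obtain ⟨m, hm⟩ := IsPGroup.iff_card.mp (P.isPGroup'.to_le hZP : IsPGroup r Z₀)
      rw [hm, Nat.cast_pow]
      exact pow_ne_zero _ hrk
    have hEFq : EF (fun h : H => quotRep ρH U hUH h) := by
      apply abelian_core' hZcomm hZk (resPhi φ Z₀ (fun h => hZinv (φ h))) ?_ (V ⧸ U)
        (quotRep (ρF.comp Z₀.subtype) U (fun z => hUF z)) (quotRep ρH U hUH) ?_ ?_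
      · intro h hh z hz
        apply Subtype.ext
        apply hφ h hh z.1
        have := congrArg Subtype.val hz
        rwa [resPhi_coe] at this
      · intro h z
        apply LinearMap.ext
        intro y
        obtain ⟨v, rfl⟩ := U.mkQ_surjective y
        have := hc2 h z v
        rw [← resPhi_coe φ Z₀ (fun h => hZinv (φ h)) h z] at this
        exact congrArg U.mkQ this
      · intro y hy
        refine fixed_quotient_eq_zero hZk (ρF.comp Z₀.subtype) U (fun z => hUF z) ?_ y hy
        intro v hv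
        rw [hU]
        intro z hz
        exact hv ⟨z, hz⟩
    have hker : Z₀ ≤ (subRep ρF U hUF).ker := by
      intro z hz
      rw [MonoidHom.mem_ker]
      apply LinearMap.ext
      intro u
      apply Subtype.ext
      rw [subRep_coe]
      exact (hU u).mp u.2 z hz
    have hcardlt : Nat.card (F ⧸ Z₀) < n := by
      have h1 := Subgroup.card_eq_card_quotient_mul_card_subgroup Z₀
      have h2 : 1 < Nat.card Z₀ := (Subgroup.one_lt_card_iff_ne_bot (H := Z₀)).mpr hZne
      have h3 : 0 < Nat.card (F ⧸ Z₀) := Nat.card_pos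
      rw [hn] at h1
      nlinarith
    have hEFU : EF (fun h : H => subRep ρH U hUH h) := by
      apply ih _ hcardlt (F ⧸ Z₀) (quotPhi φ Z₀ (fun h => hZinv (φ h))) ?_ U
        (QuotientGroup.lift Z₀ (subRep ρF U hUF) hker) (subRep ρH U hUH) ?_ ?_ rfl
      · intro h hh x hx
        have hfpf : MonoidHom.FixedPointFree ((φ h : F ≃* F) : F →* F) :=
          fun f hf => hφ h hh f hf
        exact quotAut_fpf (φ h) hfpf Z₀ (hZinv (φ h)) x hx
      · intro h x
        obtain ⟨f, rfl⟩ := QuotientGroup.mk_surjective x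
        apply LinearMap.ext
        intro u
        apply Subtype.ext
        rw [quotPhi_mk]
        exact hc2 h f u
      · intro u hu
        apply Subtype.ext
        apply hfix
        intro f
        exact congrArg Subtype.val (hu (QuotientGroup.mk f))
    have hEFonU : EFon (fun h : H => ρH h) U :=
      EFon_of_EF_restrict _ U (fun h => subRep ρH U hUH h) (fun h m => rfl) hEFU
    exact EF_of_quotient (fun h : H => ρH h) U hUH (fun h => quotRep ρH U hUH h)
      (fun h v => rfl) hEFonU hEFq
  · push Not at hr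
    exfalso
    have hFnt : Nontrivial F := by
      by_contra hF
      rw [not_nontrivial_iff_subsingleton] at hF
      obtain ⟨v, hv⟩ := exists_ne (0 : V)
      apply hv
      apply hfix
      intro f
      rw [Subsingleton.elim f 1, map_one, Module.End.one_apply]
    have hcard : 1 < Nat.card F := Finite.one_lt_card
    obtain ⟨p, hp, hpF⟩ := Nat.exists_prime_and_dvd (ne_of_gt hcard)
    have hpk : (p : k) = 0 := hr p hp hpF
    haveI : Fact p.Prime := ⟨hp⟩
    haveI : CharP k p := (CharP.charP_iff_prime_eq_zero hp).mpr hpk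
    have hPG : IsPGroup p F := by
      rw [IsPGroup.iff_card]
      refine ⟨_, Nat.eq_prime_pow_of_unique_prime_dvd (Nat.card_pos.ne') (fun {d} hd hdn => ?_)⟩
      have hdk : (d : k) = 0 := hr d hd hdn
      rw [CharP.cast_eq_zero_iff k p d] at hdk
      exact ((Nat.prime_dvd_prime_iff_eq hp hd).mp hdk).symm
    obtain ⟨w, -, hw0, hwfix⟩ := Cfsg.Agent.S0670.exists_fixed_vector hPG ρF ⊤
      (fun _ _ _ => Submodule.mem_top) top_ne_bot
    exact hw0 (hfix w hwfix)

end NC

section Wrapper

theorem frobenius_free {k V A : Type*} [Field k] [AddCommGroup V] [Module k V]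
    [FiniteDimensional k V] [Group A] [Finite A]
    (ρ : Representation k A V) (Fk Hc : Subgroup A) [Fk.Normal]
    (hHc : Cfsg.IsFrobeniusComplement Hc) (hker : Cfsg.frobeniusKernel Hc = (Fk : Set A))
    (hnil : Group.IsNilpotent ↥Fk)
    (hCF : ∀ v : V, (∀ f ∈ Fk, ρ f v = v) → v = 0) [Fintype Hc] :
    EF (fun h : Hc => (ρ.comp Hc.subtype) h) := by
  refine nilpotent_core (k := k) (H := ↥Hc) _ ↥Fk ((MulAut.conjNormal (H := Fk)).comp Hc.subtype)
    ?_ V (ρ.comp Fk.subtype) (ρ.comp Hc.subtype) ?_ ?_ rfl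
  · intro h hh f hf
    by_contra hf1
    apply hh
    apply Subtype.ext
    have h1 : (h : A) * f * (h : A)⁻¹ = f := by
      have := congrArg Subtype.val hf
      simpa [MulAut.conjNormal_apply] using this
    have hcomm : (h : A) * f = f * h := by
      calc (h : A) * f = ((h : A) * f * (h : A)⁻¹) * h := by group
        _ = f * h := by rw [h1]
    exact Cfsg.Agent.Lib.Helper22.FrobKernel.eq_one_of_commute Fk Hc hHc hker f.2
      (fun hf0 => hf1 (Subtype.ext hf0)) h.2 hcomm
  · intro h f
    show ρ (h : A) * ρ (f : A) = ρ ((MulAut.conjNormal (h : A) f : Fk) : A) * ρ (h : A)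
    rw [MulAut.conjNormal_apply, ← map_mul, ← map_mul]
    congr 1
    group
  · intro v hv
    exact hCF v (fun f hf => hv ⟨f, hf⟩)

end Wrapper

end Cfsg.Agent.Lib.Helper21.FrobFree
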