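import Mathlib
import Cfsg.Agent.Lib.Helper1.FrobQ.Props

set_option autoImplicit false

/-!
Piece T2 of helper1's plan for S4306, part A: the counting step in an elementary abelian
2-group `Y` with an automorphism `σ` of odd prime order, feeding `ChevWarnProp`.
-/

namespace Cfsg.Agent.Lib.Helper21.FrobQExcOne

open Cfsg.Agent.Lib.Helper1.FrobQ

universe u

section B

variable {Y : Type u} [CommGroup Y]

/-- the norm map `y ↦ ∏_{i<q} σ^i y` -/
noncomputable def nu (σ : MulAut Y) (q : ℕ) : Y →* Y :=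
  ∏ i ∈ Finset.range q, ((σ ^ i : MulAut Y) : Y ≃* Y).toMonoidHom

theorem nu_apply (σ : MulAut Y) (q : ℕ) (y : Y) :
    nu σ q y = ∏ i ∈ Finset.range q, (σ ^ i) y := by
  simp [nu]

theorem prod_shift (σ : MulAut Y) (q : ℕ) (hσ : σ ^ q = 1) (y : Y) :
    ∏ i ∈ Finset.range q, (σ ^ (i + 1)) y = ∏ i ∈ Finset.range q, (σ ^ i) y := by
  have h1 := Finset.prod_range_succ' (fun i => (σ ^ i) y) q
  have h2 := Finset.prod_range_succ (fun i => (σ ^ i) y) q
  rw [h1] at h2
  simp only [hσ, pow_zero] at h2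
  exact mul_right_cancel h2

theorem sigma_nu (σ : MulAut Y) (q : ℕ) (hσ : σ ^ q = 1) (y : Y) :
    σ (nu σ q y) = nu σ q y := by
  rw [nu_apply, map_prod, ← prod_shift σ q hσ y]
  refine Finset.prod_congr rfl ?_
  intro i _
  rw [pow_succ', MulAut.mul_apply]

theorem nu_sigma (σ : MulAut Y) (q : ℕ) (hσ : σ ^ q = 1) (y : Y) :
    nu σ q (σ y) = nu σ q y := by
  rw [nu_apply, nu_apply, ← prod_shift σ q hσ y]
  refine Finset.prod_congr rfl ?_
  intro i _
  rw [pow_succ, MulAut.mul_apply]

theorem pow_fixed (σ : MulAut Y) (y : Y) (h : σ y = y) (i : ℕ) : (σ ^ i) y = y := by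
  induction i with
  | zero => simp
  | succ n ih => rw [pow_succ, MulAut.mul_apply, h, ih]

theorem nu_fixed (σ : MulAut Y) (q : ℕ) (y : Y) (h : σ y = y) : nu σ q y = y ^ q := by
  rw [nu_apply]
  rw [Finset.prod_congr rfl (fun i _ => pow_fixed σ y h i)]
  simp

theorem lemB [Finite Y] (hCW : ChevWarnProp.{u}) (q : ℕ) (hq : q.Prime) (hq2 : q ≠ 2)
    (σ : MulAut Y) (hσ : σ ^ q = 1) (hY2 : ∀ y : Y, y ^ 2 = 1) (β : Y → Y → ZMod 2)
    (hβl : ∀ a b c : Y, β (a * b) c = β a c + β b c)
    (hβr : ∀ a b c : Y, β a (b * c) = β a b + β a c)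
    (hβa : ∀ a : Y, β a a = 0) (hβσ : ∀ a b : Y, β (σ a) (σ b) = β a b)
    (m : ℕ) (hm : 3 ≤ m) (hcard : Nat.card Y = m ^ q)
    (hfix : Nat.card {y : Y // σ y = y} ≤ m) :
    ∃ y : Y, σ y ≠ y ∧ ∀ j : ℕ, β y ((σ ^ j) y) = 0 := by
  set X : Subgroup Y := (nu σ q).ker with hX
  have hXinv : ∀ y ∈ X, σ y ∈ X := by
    intro y hy
    rw [hX, MonoidHom.mem_ker] at hy ⊢
    rw [nu_sigma σ q hσ, hy]
  have h1 : Nat.card X * Nat.card (nu σ q).range = Nat.card Y := by
    rw [← Subgroup.index_ker]
    exact Subgroup.card_mul_index X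
  have h2 : Nat.card (nu σ q).range ≤ m := by
    refine le_trans ?_ hfix
    refine Nat.card_le_card_of_injective
      (fun y : (nu σ q).range => (⟨y.1, ?_⟩ : {y : Y // σ y = y})) ?_
    · obtain ⟨w, hw⟩ := y.2
      rw [← hw]
      exact sigma_nu σ q hσ w
    · intro a b hab
      have h := congrArg (fun t : {y : Y // σ y = y} => (t : Y)) hab
      exact Subtype.ext h
  have hq1 : 1 ≤ q := hq.one_lt.le
  have hm0 : 0 < m := by omega
  have h3 : m ^ (q - 1) ≤ Nat.card X := by
    have h4 : m ^ (q - 1) * m ≤ Nat.card X * m := by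
      calc m ^ (q - 1) * m = m ^ q := by
            rw [← pow_succ]
            congr 1
            omega
        _ = Nat.card X * Nat.card (nu σ q).range := by rw [h1, hcard]
        _ ≤ Nat.card X * m := Nat.mul_le_mul_left _ h2
    exact Nat.le_of_mul_le_mul_right h4 hm0
  have h5 : 2 ^ (q - 1) < Nat.card X := by
    refine lt_of_lt_of_le ?_ h3
    have h6 : 2 ^ (q - 1) < 3 ^ (q - 1) := by
      apply Nat.pow_lt_pow_left (by norm_num)
      have := hq.two_le
      omega
    exact lt_of_lt_of_le h6 (Nat.pow_le_pow_left hm _)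
  obtain ⟨y, hyX, hy1, hyβ⟩ := hCW Y q σ β X hq hq2 hY2 hσ hβl hβr hβa hβσ hXinv h5
  refine ⟨y, ?_, hyβ⟩
  intro hfixy
  apply hy1
  have h7 : nu σ q y = 1 := by
    rw [hX, MonoidHom.mem_ker] at hyX
    exact hyX
  rw [nu_fixed σ q y hfixy] at h7
  obtain ⟨k, hk⟩ := hq.odd_of_ne_two hq2
  rw [hk, pow_succ, pow_mul, hY2, one_pow, one_mul] at h7
  exact h7

end B

/-- `lemB` for a `Group` that happens to be commutative -/
theorem lemB' {Y : Type u} [Group Y] [Finite Y] (hYc : ∀ a b : Y, a * b = b * a)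
    (hCW : ChevWarnProp.{u}) (q : ℕ) (hq : q.Prime) (hq2 : q ≠ 2)
    (σ : MulAut Y) (hσ : σ ^ q = 1) (hY2 : ∀ y : Y, y ^ 2 = 1) (β : Y → Y → ZMod 2)
    (hβl : ∀ a b c : Y, β (a * b) c = β a c + β b c)
    (hβr : ∀ a b c : Y, β a (b * c) = β a b + β a c)
    (hβa : ∀ a : Y, β a a = 0) (hβσ : ∀ a b : Y, β (σ a) (σ b) = β a b)
    (m : ℕ) (hm : 3 ≤ m) (hcard : Nat.card Y = m ^ q)
    (hfix : Nat.card {y : Y // σ y = y} ≤ m) :
    ∃ y : Y, σ y ≠ y ∧ ∀ j : ℕ, β y ((σ ^ j) y) = 0 := by
  letI : CommGroup Y := { (inferInstance : Group Y) with mul_comm := hYc }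
  exact lemB hCW q hq hq2 σ hσ hY2 β hβl hβr hβa hβσ m hm hcard hfix

theorem pow_fixed' {Y : Type*} [Group Y] (σ : MulAut Y) (y : Y) (h : σ y = y) (i : ℕ) :
    (σ ^ i) y = y := by
  induction i with
  | zero => simp
  | succ n ih => rw [pow_succ, MulAut.mul_apply, h, ih]

section comm

variable {G : Type*} [Group G]

/-- `cm a b = a b a⁻¹ b⁻¹` -/
def cm (a b : G) : G := a * b * a⁻¹ * b⁻¹

theorem cm_eq_one_iff (a b : G) : cm a b = 1 ↔ a * b = b * a := by
  unfold cm
  constructor
  · intro h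
    have h1 : a * b * a⁻¹ * b⁻¹ * (b * a) = b * a := by rw [h, one_mul]
    rw [← h1]
    group
  · intro h
    rw [h]
    group

theorem cm_self (a : G) : cm a a = 1 := by
  unfold cm
  group

theorem central_conj {κ : G} (hκ : ∀ g : G, g * κ = κ * g) (w : G) : κ * w * κ⁻¹ = w := by
  rw [← hκ w, mul_assoc, mul_inv_cancel, mul_one]

theorem cm_mul_left (a a' b : G) (hc : ∀ g : G, g * cm a' b = cm a' b * g) :
    cm (a * a') b = cm a b * cm a' b := by
  have h1 : cm (a * a') b = a * cm a' b * (b * a⁻¹ * b⁻¹) := by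
    unfold cm
    group
  rw [h1, hc a, mul_assoc, hc]
  unfold cm
  group

theorem cm_mul_right (a b b' : G) (hc : ∀ g : G, g * cm a b' = cm a b' * g) :
    cm a (b * b') = cm a b * cm a b' := by
  have h1 : cm a (b * b') = a * b * a⁻¹ * cm a b' * b⁻¹ := by
    unfold cm
    group
  rw [h1, hc (a * b * a⁻¹), mul_assoc, hc]
  unfold cm
  group

/-- the `ZMod 2`-valued commutation indicator -/
noncomputable def bf (a b : G) : ZMod 2 := by
  classical
  exact if a * b = b * a then 0 else 1

theorem bf_of_comm {a b : G} (h : a * b = b * a) : bf a b = 0 := by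
  unfold bf
  rw [if_pos h]

theorem bf_of_not_comm {a b : G} (h : ¬ a * b = b * a) : bf a b = 1 := by
  unfold bf
  rw [if_neg h]

theorem bf_eq_zero_iff {a b : G} : bf a b = 0 ↔ a * b = b * a := by
  constructor
  · intro h
    by_contra hne
    rw [bf_of_not_comm hne] at h
    exact one_ne_zero h
  · exact bf_of_comm

theorem bf_self (a : G) : bf a a = 0 := bf_of_comm rfl

theorem bf_aut (τ : MulAut G) (a b : G) : bf (τ a) (τ b) = bf a b := by
  by_cases h : a * b = b * a
  · rw [bf_of_comm h, bf_of_comm]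
    rw [← map_mul, ← map_mul, h]
  · rw [bf_of_not_comm h, bf_of_not_comm]
    intro h'
    apply h
    apply τ.injective
    rw [map_mul, map_mul, h']

/-- all commutators are `1` or the central involution `z` -/
structure ZComm (z : G) : Prop where
  sq : z * z = 1
  cen : ∀ a : G, a * z = z * a
  comm : ∀ a b : G, cm a b = 1 ∨ cm a b = z

namespace ZComm

variable {z : G} (h : ZComm z)
include h

theorem cm_central (a b g : G) : g * cm a b = cm a b * g := by
  rcases h.comm a b with h1 | h1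
  · rw [h1, mul_one, one_mul]
  · rw [h1]
    exact h.cen g

theorem cm_sq (a b : G) : cm a b * cm a b = 1 := by
  rcases h.comm a b with h1 | h1
  · rw [h1, mul_one]
  · rw [h1]
    exact h.sq

theorem cm_mul_left' (a a' b : G) : cm (a * a') b = cm a b * cm a' b :=
  cm_mul_left a a' b (fun g => h.cm_central a' b g)

theorem cm_mul_right' (a b b' : G) : cm a (b * b') = cm a b * cm a b' :=
  cm_mul_right a b b' (fun g => h.cm_central a b' g)

theorem bf_mul_left (a a' b : G) : bf (a * a') b = bf a b + bf a' b := by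
  have key := h.cm_mul_left' a a' b
  by_cases h1 : a * b = b * a <;> by_cases h2 : a' * b = b * a'
  · rw [bf_of_comm h1, bf_of_comm h2, bf_of_comm, add_zero]
    rw [← cm_eq_one_iff, key, (cm_eq_one_iff a b).mpr h1, (cm_eq_one_iff a' b).mpr h2, mul_one]
  · rw [bf_of_comm h1, bf_of_not_comm h2, bf_of_not_comm, zero_add]
    rw [← cm_eq_one_iff, key, (cm_eq_one_iff a b).mpr h1, one_mul, cm_eq_one_iff]
    exact h2
  · rw [bf_of_not_comm h1, bf_of_comm h2, bf_of_not_comm, add_zero]
    rw [← cm_eq_one_iff, key, (cm_eq_one_iff a' b).mpr h2, mul_one, cm_eq_one_iff]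
    exact h1
  · rw [bf_of_not_comm h1, bf_of_not_comm h2, bf_of_comm]
    · decide
    · rw [← cm_eq_one_iff, key]
      have e1 : cm a b = z := by
        rcases h.comm a b with h3 | h3
        · exact absurd ((cm_eq_one_iff a b).mp h3) h1
        · exact h3
      have e2 : cm a' b = z := by
        rcases h.comm a' b with h3 | h3
        · exact absurd ((cm_eq_one_iff a' b).mp h3) h2
        · exact h3
      rw [e1, e2, h.sq]

theorem bf_symm (a b : G) : bf a b = bf b a := by
  by_cases h1 : a * b = b * a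
  · rw [bf_of_comm h1, bf_of_comm h1.symm]
  · rw [bf_of_not_comm h1, bf_of_not_comm (fun h2 => h1 h2.symm)]

theorem bf_mul_right (a b b' : G) : bf a (b * b') = bf a b + bf a b' := by
  rw [h.bf_symm a (b * b'), h.bf_mul_left, h.bf_symm b a, h.bf_symm b' a]

theorem sq_mem_center (a : G) : a ^ 2 ∈ Subgroup.center G := by
  rw [Subgroup.mem_center_iff]
  intro g
  have h1 : cm (a * a) g = 1 := by
    rw [h.cm_mul_left', h.cm_sq]
  rw [pow_two]
  exact ((cm_eq_one_iff _ _).mp h1).symm

theorem cm_mem_center (a b : G) : cm a b ∈ Subgroup.center G := by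
  rw [Subgroup.mem_center_iff]
  intro g
  exact h.cm_central a b g

end ZComm

theorem bf_center_left {k : G} (hk : k ∈ Subgroup.center G) (a : G) : bf k a = 0 := by
  rw [Subgroup.mem_center_iff] at hk
  exact bf_of_comm (hk a).symm

theorem bf_center_right {k : G} (hk : k ∈ Subgroup.center G) (a : G) : bf a k = 0 := by
  rw [Subgroup.mem_center_iff] at hk
  exact bf_of_comm (hk a)

end comm

section A

variable {P : Type u} [Group P]

/-- the form induced on `P ⧸ Z(P)` -/
noncomputable def betaQ (u v : P ⧸ Subgroup.center P) : ZMod 2 := bf u.out v.out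

theorem ZComm.betaQ_mk {z : P} (h : ZComm z) (a b : P) :
    betaQ (QuotientGroup.mk a : P ⧸ Subgroup.center P) (QuotientGroup.mk b) = bf a b := by
  unfold betaQ
  obtain ⟨k, hk⟩ := QuotientGroup.mk_out_eq_mul (Subgroup.center P) a
  obtain ⟨l, hl⟩ := QuotientGroup.mk_out_eq_mul (Subgroup.center P) b
  rw [hk, hl, h.bf_mul_left, h.bf_mul_right, h.bf_mul_right, bf_center_left k.2, bf_center_left k.2,
    bf_center_right l.2]
  simp

theorem ZComm.quot_comm {z : P} (h : ZComm z) (u v : P ⧸ Subgroup.center P) : u * v = v * u := by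
  induction u using QuotientGroup.induction_on with
  | H a =>
    induction v using QuotientGroup.induction_on with
    | H b =>
      rw [← QuotientGroup.mk_mul, ← QuotientGroup.mk_mul, QuotientGroup.eq]
      have h1 : (a * b)⁻¹ * (b * a) = cm b⁻¹ a⁻¹ := by
        unfold cm
        group
      rw [h1]
      exact h.cm_mem_center _ _

theorem ZComm.quot_sq {z : P} (h : ZComm z) (u : P ⧸ Subgroup.center P) : u ^ 2 = 1 := by
  induction u using QuotientGroup.induction_on with
  | H a =>
    rw [← QuotientGroup.mk_pow, QuotientGroup.eq_one_iff]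
    exact h.sq_mem_center a

/-- the automorphism induced on `P ⧸ Z(P)` -/
noncomputable def sigmaQ (τ : MulAut P) : MulAut (P ⧸ Subgroup.center P) :=
  QuotientGroup.congr (Subgroup.center P) (Subgroup.center P) τ
    (Subgroup.characteristic_iff_map_eq.mp Subgroup.centerCharacteristic τ)

theorem sigmaQ_mk (τ : MulAut P) (a : P) :
    sigmaQ τ (QuotientGroup.mk a : P ⧸ Subgroup.center P) = QuotientGroup.mk (τ a) := rfl

theorem sigmaQ_pow_mk (τ : MulAut P) (j : ℕ) (a : P) :
    (sigmaQ τ ^ j) (QuotientGroup.mk a : P ⧸ Subgroup.center P) = QuotientGroup.mk ((τ ^ j) a) := by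
  induction j with
  | zero => simp
  | succ n ih => rw [pow_succ', MulAut.mul_apply, ih, sigmaQ_mk, pow_succ', MulAut.mul_apply]

theorem sigmaQ_pow_eq_one (τ : MulAut P) (q : ℕ) (hτ : τ ^ q = 1) : sigmaQ τ ^ q = 1 := by
  ext u
  induction u using QuotientGroup.induction_on with
  | H a => rw [sigmaQ_pow_mk, hτ]; rfl

/-- Lemma A: the quotient step. -/
theorem lemA [Finite P] (hCW : ChevWarnProp.{u}) {z : P} (h : ZComm z) (q : ℕ) (hq : q.Prime)
    (hq2 : q ≠ 2) (τ : MulAut P) (hτ : τ ^ q = 1) (F : Subgroup P)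
    (hlift : ∀ a : P, (∀ j : ℕ, (τ ^ j) a / a ∈ Subgroup.center P) →
      ∃ c ∈ F, a⁻¹ * c ∈ Subgroup.center P)
    (m : ℕ) (hm : 3 ≤ m)
    (hF : Nat.card (F.map (QuotientGroup.mk' (Subgroup.center P))) ≤ m)
    (hcard : Nat.card (P ⧸ Subgroup.center P) = m ^ q) :
    ∃ y : P, τ y ≠ y ∧ ∀ j : ℕ, y * (τ ^ j) y = (τ ^ j) y * y := by
  have hfix : Nat.card {u : P ⧸ Subgroup.center P // sigmaQ τ u = u} ≤ m := by
    refine le_trans ?_ hF
    refine Nat.card_le_card_of_injective
      (fun u : {u : P ⧸ Subgroup.center P // sigmaQ τ u = u} =>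
        (⟨u.1, ?_⟩ : (F.map (QuotientGroup.mk' (Subgroup.center P))))) ?_
    · obtain ⟨u, hu⟩ := u
      induction u using QuotientGroup.induction_on with
      | H a =>
        have h1 : ∀ j : ℕ, (τ ^ j) a / a ∈ Subgroup.center P := by
          intro j
          rw [← QuotientGroup.eq_iff_div_mem, ← sigmaQ_pow_mk]
          exact pow_fixed' _ _ hu j
        obtain ⟨c, hcF, hc⟩ := hlift a h1
        rw [Subgroup.mem_map]
        refine ⟨c, hcF, ?_⟩
        rw [QuotientGroup.mk'_apply]
        exact (QuotientGroup.eq.mpr hc).symm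
    · intro a b hab
      have h1 := congrArg
        (fun t : (F.map (QuotientGroup.mk' (Subgroup.center P))) => (t : P ⧸ Subgroup.center P)) hab
      exact Subtype.ext h1
  have hβl : ∀ a b c : P ⧸ Subgroup.center P, betaQ (a * b) c = betaQ a c + betaQ b c := by
    intro a b c
    induction a using QuotientGroup.induction_on with
    | H a =>
      induction b using QuotientGroup.induction_on with
      | H b =>
        induction c using QuotientGroup.induction_on with
        | H c => rw [← QuotientGroup.mk_mul, h.betaQ_mk, h.betaQ_mk, h.betaQ_mk, h.bf_mul_left]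
  have hβr : ∀ a b c : P ⧸ Subgroup.center P, betaQ a (b * c) = betaQ a b + betaQ a c := by
    intro a b c
    induction a using QuotientGroup.induction_on with
    | H a =>
      induction b using QuotientGroup.induction_on with
      | H b =>
        induction c using QuotientGroup.induction_on with
        | H c => rw [← QuotientGroup.mk_mul, h.betaQ_mk, h.betaQ_mk, h.betaQ_mk, h.bf_mul_right]
  have hβa : ∀ a : P ⧸ Subgroup.center P, betaQ a a = 0 := by
    intro a
    induction a using QuotientGroup.induction_on with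
    | H a => rw [h.betaQ_mk, bf_self]
  have hβσ : ∀ a b : P ⧸ Subgroup.center P, betaQ (sigmaQ τ a) (sigmaQ τ b) = betaQ a b := by
    intro a b
    induction a using QuotientGroup.induction_on with
    | H a =>
      induction b using QuotientGroup.induction_on with
      | H b => rw [sigmaQ_mk, sigmaQ_mk, h.betaQ_mk, h.betaQ_mk, bf_aut]
  obtain ⟨u, hu1, hu2⟩ := lemB' h.quot_comm hCW q hq hq2 (sigmaQ τ) (sigmaQ_pow_eq_one τ q hτ)
    h.quot_sq betaQ hβl hβr hβa hβσ m hm hcard hfix
  induction u using QuotientGroup.induction_on with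
  | H y =>
    refine ⟨y, ?_, ?_⟩
    · intro hy
      apply hu1
      rw [sigmaQ_mk, hy]
    · intro j
      have h1 := hu2 j
      rw [sigmaQ_pow_mk, h.betaQ_mk, bf_eq_zero_iff] at h1
      exact h1

end A

theorem card_map_mk' {P : Type u} [Group P] [Finite P] (N F : Subgroup P) [N.Normal] :
    Nat.card F = Nat.card (F.map (QuotientGroup.mk' N)) * Nat.card ↥(F ⊓ N) := by
  have h1 := Subgroup.card_mul_index ((QuotientGroup.mk' N).domRestrict F).ker
  rw [Subgroup.index_ker, MonoidHom.domRestrict_range, MonoidHom.ker_domRestrict,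
    QuotientGroup.ker_mk'] at h1
  have h2 : Nat.card (N.subgroupOf F) = Nat.card ↥(F ⊓ N) := by
    rw [← Subgroup.inf_subgroupOf_right, inf_comm]
    exact Nat.card_congr (Subgroup.subgroupOfEquivOfLe inf_le_left).toEquiv
  rw [h2] at h1
  rw [← h1, mul_comm]

/-- Lemma A with the counting hypothesis on `F` itself. -/
theorem lemA' {P : Type u} [Group P] [Finite P] (hCW : ChevWarnProp.{u}) {z : P} (h : ZComm z)
    (q : ℕ) (hq : q.Prime)
    (hq2 : q ≠ 2) (τ : MulAut P) (hτ : τ ^ q = 1) (F : Subgroup P)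
    (hlift : ∀ a : P, (∀ j : ℕ, (τ ^ j) a / a ∈ Subgroup.center P) →
      ∃ c ∈ F, a⁻¹ * c ∈ Subgroup.center P)
    (m : ℕ) (hm : 3 ≤ m)
    (hF : Nat.card F = m * Nat.card ↥(F ⊓ Subgroup.center P))
    (hcard : Nat.card (P ⧸ Subgroup.center P) = m ^ q) :
    ∃ y : P, τ y ≠ y ∧ ∀ j : ℕ, y * (τ ^ j) y = (τ ^ j) y * y := by
  refine lemA hCW h q hq hq2 τ hτ F hlift m hm ?_ hcard
  have h1 := card_map_mk' (Subgroup.center P) F
  rw [hF] at h1
  have h2 : 0 < Nat.card ↥(F ⊓ Subgroup.center P) := Nat.card_pos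
  exact (Nat.eq_of_mul_eq_mul_right h2 h1).ge

end Cfsg.Agent.Lib.Helper21.FrobQExcOne
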