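import Mathlib
import Cfsg.Agent.Lib.Helper21.FrobQExcOneA
import Cfsg.Agent.Lib.Helper11.FrobFourTerm2
import Cfsg.Agent.Lib.Helper20.HHExtK
import Cfsg.Agent.S0022
import Cfsg.Agent.S0026

set_option autoImplicit false

/-!
Piece T2 of helper1's plan for S4306, part B: the ambient group steps.
-/

namespace Cfsg.Agent.Lib.Helper21.FrobQExcOne

open Cfsg.Agent.Lib.Helper1.FrobQ
open scoped commutatorElement

universe u

section ambient

variable {G : Type u} [Group G]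

theorem conj_mem_Z {Q : Subgroup G} {g : G} (hg : g ∈ Subgroup.normalizer (Q : Set G)) {h : G}
    (hh : h ∈ Q ⊓ Subgroup.centralizer (Q : Set G)) :
    g * h * g⁻¹ ∈ Q ⊓ Subgroup.centralizer (Q : Set G) := by
  rw [Subgroup.mem_normalizer_iff] at hg
  obtain ⟨h1, h2⟩ := Subgroup.mem_inf.mp hh
  refine Subgroup.mem_inf.mpr ⟨(hg h).mp h1, ?_⟩
  rw [Subgroup.mem_centralizer_iff] at h2 ⊢
  intro w hw
  have hw' : g⁻¹ * w * g ∈ Q := by
    rw [hg (g⁻¹ * w * g)]
    have e : g * (g⁻¹ * w * g) * g⁻¹ = w := by group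
    rw [e]
    exact hw
  have h3 := h2 _ hw'
  calc w * (g * h * g⁻¹) = g * ((g⁻¹ * w * g) * h) * g⁻¹ := by group
    _ = g * (h * (g⁻¹ * w * g)) * g⁻¹ := by rw [h3]
    _ = g * h * g⁻¹ * w := by group

theorem normalizer_le_normalizer_Z (Q : Subgroup G) :
    Subgroup.normalizer (Q : Set G) ≤
      Subgroup.normalizer ((Q ⊓ Subgroup.centralizer (Q : Set G) : Subgroup G) : Set G) := by
  intro g hg
  rw [Subgroup.mem_normalizer_iff]
  intro h
  constructor
  · exact fun hh => conj_mem_Z hg hh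
  · intro hh
    have h1 := conj_mem_Z (Subgroup.inv_mem _ hg) hh
    have e : g⁻¹ * (g * h * g⁻¹) * g⁻¹⁻¹ = h := by group
    rwa [e] at h1

theorem cent_comm (Q T : Subgroup G) (y : G)
    (hcen : ∀ u ∈ Q, ∀ g : G, g * cm y u = cm y u * g) (hyT : ∀ t ∈ T, t * y = y * t) :
    ∀ w ∈ ⁅Q, T⁆, w * y = y * w := by
  have hle : ⁅Q, T⁆ ≤ Subgroup.centralizer ({y} : Set G) := by
    rw [Subgroup.commutator_le]
    intro u hu t ht
    rw [Subgroup.mem_centralizer_iff]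
    intro h hh
    rw [Set.mem_singleton_iff] at hh
    subst hh
    rw [commutatorElement_def]
    have h1 : h * u * h⁻¹ = cm h u * u := by
      unfold cm
      group
    have h2 : h * t * h⁻¹ = t := by
      rw [← hyT t ht]
      group
    have h3 : h * (u * t * u⁻¹ * t⁻¹) * h⁻¹ = u * t * u⁻¹ * t⁻¹ := by
      calc h * (u * t * u⁻¹ * t⁻¹) * h⁻¹
          = (h * u * h⁻¹) * (h * t * h⁻¹) * (h * u * h⁻¹)⁻¹ * (h * t * h⁻¹)⁻¹ := by group
        _ = cm h u * u * t * (cm h u * u)⁻¹ * t⁻¹ := by rw [h1, h2]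
        _ = (cm h u * (u * t * u⁻¹) * (cm h u)⁻¹) * t⁻¹ := by group
        _ = u * t * u⁻¹ * t⁻¹ := by rw [central_conj (hcen u hu)]
    calc h * (u * t * u⁻¹ * t⁻¹) = h * (u * t * u⁻¹ * t⁻¹) * h⁻¹ * h := by group
      _ = u * t * u⁻¹ * t⁻¹ * h := by rw [h3]
  intro w hw
  have h4 := hle hw
  rw [Subgroup.mem_centralizer_iff] at h4
  exact (h4 y rfl).symm

theorem center_subtype_eq (Q : Subgroup G) :
    Subgroup.center ↥Q = (Q ⊓ Subgroup.centralizer (Q : Set G)).subgroupOf Q := by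
  ext a
  rw [Subgroup.mem_center_iff, Subgroup.mem_subgroupOf, Subgroup.mem_inf,
    Subgroup.mem_centralizer_iff]
  constructor
  · intro h
    refine ⟨a.2, fun g hg => ?_⟩
    exact congrArg Subtype.val (h ⟨g, hg⟩)
  · rintro ⟨_, h⟩ g
    exact Subtype.ext (h g g.2)

/-- conjugation by a normalizing element -/
noncomputable def tauQ (Q : Subgroup G) (x : G) (hx : x ∈ Subgroup.normalizer (Q : Set G)) :
    MulAut Q :=
  Q.normalizerMonoidHom ⟨x, hx⟩

theorem tauQ_pow_apply (Q : Subgroup G) (x : G) (hx : x ∈ Subgroup.normalizer (Q : Set G))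
    (j : ℕ) (a : Q) : (((tauQ Q x hx) ^ j) a : G) = x ^ j * a * (x ^ j)⁻¹ := by
  unfold tauQ
  rw [← map_pow]
  rfl

theorem tauQ_apply (Q : Subgroup G) (x : G) (hx : x ∈ Subgroup.normalizer (Q : Set G))
    (a : Q) : ((tauQ Q x hx) a : G) = x * a * x⁻¹ := rfl

theorem tauQ_pow_eq_one (Q : Subgroup G) (x : G) (hx : x ∈ Subgroup.normalizer (Q : Set G))
    (q : ℕ) (hxq : x ^ q = 1) : (tauQ Q x hx) ^ q = 1 := by
  ext a
  rw [tauQ_pow_apply, hxq]
  simp

end ambient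

open Cfsg.Agent.Lib.Helper11.FrobConcCore in
theorem ambient_core {G : Type u} [Group G] [Finite G] (hCW : ChevWarnProp.{u}) (ι : G)
    (hι2 : ι * ι = 1) (hιc : ∀ g : G, g * ι = ι * g)
    (q r : ℕ) (hq : q.Prime) (hr : r.Prime) (hq2 : q ≠ 2) (hr2 : r ≠ 2)
    (Q B : Subgroup G) (x : G) (hQ2 : IsPGroup 2 Q) (hBr : IsPGroup r B) (hxq : x ^ q = 1)
    (hx1 : x ≠ 1)
    (hxQ : x ∈ Subgroup.normalizer (Q : Set G)) (hxB : x ∈ Subgroup.normalizer (B : Set G))
    (hBQ : B ≤ Subgroup.normalizer (Q : Set G))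
    (hfpfB : ∀ b ∈ B, x * b = b * x → b = 1)
    (hcommQ : ∀ y ∈ Q, ∀ z ∈ Q, y * z * y⁻¹ * z⁻¹ = 1 ∨ y * z * y⁻¹ * z⁻¹ = ι)
    (hQB : ⁅Q, B⁆ = Q) (hnab : ∃ y ∈ Q, ∃ z ∈ Q, y * z ≠ z * y) :
    ∃ y ∈ Q, x * y * x⁻¹ ≠ y ∧
      ∀ j : ℕ, y * (x ^ j * y * (x ^ j)⁻¹) = (x ^ j * y * (x ^ j)⁻¹) * y := by
  classical
  haveI : Fact (Nat.Prime 2) := ⟨Nat.prime_two⟩
  haveI : Fact r.Prime := ⟨hr⟩
  haveI : Fact q.Prime := ⟨hq⟩
  have hιQ : ι ∈ Q := by
    obtain ⟨y, hy, z, hz, hyz⟩ := hnab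
    rcases hcommQ y hy z hz with h | h
    · exact absurd ((cm_eq_one_iff y z).mp h) hyz
    · rw [← h]
      exact Q.mul_mem (Q.mul_mem (Q.mul_mem hy hz) (Q.inv_mem hy)) (Q.inv_mem hz)
  obtain ⟨Z, hZ⟩ : ∃ Z : Subgroup G, Z = Q ⊓ Subgroup.centralizer (Q : Set G) := ⟨_, rfl⟩
  obtain ⟨E, hE⟩ : ∃ E : Subgroup G, E = Subgroup.zpowers x := ⟨_, rfl⟩
  have hZQ : Z ≤ Q := hZ ▸ inf_le_left
  have hcardE : Nat.card E = q := by
    rw [hE, Nat.card_zpowers, orderOf_eq_prime hxq hx1]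
  have hEQ : E ≤ Subgroup.normalizer (Q : Set G) := by
    rw [hE, Subgroup.zpowers_le]
    exact hxQ
  have hEB : E ≤ Subgroup.normalizer (B : Set G) := by
    rw [hE, Subgroup.zpowers_le]
    exact hxB
  have hEZ : E ≤ Subgroup.normalizer (Z : Set G) := by
    rw [hZ]
    exact hEQ.trans (normalizer_le_normalizer_Z Q)
  have hBZ : B ≤ Subgroup.normalizer (Z : Set G) := by
    rw [hZ]
    exact hBQ.trans (normalizer_le_normalizer_Z Q)
  have hQZ : Q ≤ Subgroup.normalizer (Z : Set G) := by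
    rw [hZ]
    exact Subgroup.le_normalizer.trans (normalizer_le_normalizer_Z Q)
  have hcmc : ∀ y ∈ Q, ∀ u ∈ Q, ∀ g : G, g * cm y u = cm y u * g := by
    intro y hy u hu g
    unfold cm
    rcases hcommQ y hy u hu with h | h
    · rw [h, mul_one, one_mul]
    · rw [h]
      exact hιc g
  -- (a)
  have ha : Q ⊓ Subgroup.centralizer (B : Set G) ≤ Z := by
    intro y hy
    obtain ⟨hyQ, hyB⟩ := Subgroup.mem_inf.mp hy
    rw [hZ]
    refine Subgroup.mem_inf.mpr ⟨hyQ, ?_⟩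
    rw [Subgroup.mem_centralizer_iff]
    intro w hw
    have hw' : w ∈ ⁅Q, B⁆ := by
      rw [hQB]
      exact hw
    exact cent_comm Q B y (hcmc y hyQ)
      (fun t ht => (Subgroup.mem_centralizer_iff.mp hyB t ht)) w hw'
  -- solvability and coprimality
  have hZ2 : IsPGroup 2 Z := hQ2.to_le hZQ
  have hQsolv : Group.IsSolvable Q := by
    haveI := hQ2.isNilpotent
    infer_instance
  have hZsolv : Group.IsSolvable Z := by
    haveI := hZ2.isNilpotent
    infer_instance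
  have hBnil : Group.IsNilpotent B := hBr.isNilpotent
  obtain ⟨nq, hnq⟩ := IsPGroup.iff_card.mp hQ2
  obtain ⟨nz, hnz⟩ := IsPGroup.iff_card.mp hZ2
  obtain ⟨nb, hnb⟩ := IsPGroup.iff_card.mp hBr
  have h2r : Nat.Coprime 2 r := (Nat.coprime_primes Nat.prime_two hr).mpr hr2.symm
  have h2q : Nat.Coprime 2 q := (Nat.coprime_primes Nat.prime_two hq).mpr hq2.symm
  have hcopQB : (Nat.card Q).Coprime (Nat.card B) := by
    rw [hnq, hnb]
    exact Nat.Coprime.pow _ _ h2r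
  have hcopZB : (Nat.card Z).Coprime (Nat.card B) := by
    rw [hnz, hnb]
    exact Nat.Coprime.pow _ _ h2r
  have hcopQE : (Nat.card Q).Coprime (Nat.card E) := by
    rw [hnq, hcardE]
    exact Nat.Coprime.pow_left _ h2q
  have hcopZE : (Nat.card Z).Coprime (Nat.card E) := by
    rw [hnz, hcardE]
    exact Nat.Coprime.pow_left _ h2q
  have hfpfE : ∀ e ∈ E, e ≠ 1 → B ⊓ Subgroup.centralizer ({e} : Set G) = ⊥ := by
    intro e he he1
    rw [eq_bot_iff]
    intro b hb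
    obtain ⟨hbB, hbe⟩ := Subgroup.mem_inf.mp hb
    rw [Subgroup.mem_bot]
    apply hfpfB b hbB
    have hx' : (⟨x, hE ▸ Subgroup.mem_zpowers x⟩ : E) ∈ Subgroup.zpowers (⟨e, he⟩ : E) := by
      apply mem_zpowers_of_prime_card hcardE
      intro h
      apply he1
      exact congrArg Subtype.val h
    obtain ⟨k, hk⟩ := Subgroup.mem_zpowers_iff.mp hx'
    have hk' : e ^ k = x := by
      have := congrArg Subtype.val hk
      simpa using this
    rw [Subgroup.mem_centralizer_iff] at hbe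
    have h1 : e * b = b * e := hbe e rfl
    have h2 : Commute e b := h1
    rw [← hk']
    exact (h2.zpow_left k)
  have key1 := Cfsg.Agent.Lib.Helper11.FrobFourTerm2.four_term_conc Q B E hBQ hEQ hEB hBnil hfpfE
    hQsolv hcopQB hcopQE
  have key2 := Cfsg.Agent.Lib.Helper11.FrobFourTerm2.four_term_conc Z B E hBZ hEZ hEB hBnil hfpfE
    hZsolv hcopZB hcopZE
  have e1 : Q ⊓ Subgroup.centralizer (B : Set G) = Z ⊓ Subgroup.centralizer (B : Set G) :=
    le_antisymm (le_inf ha inf_le_right) (inf_le_inf_right _ hZQ)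
  have e2 : Q ⊓ Subgroup.centralizer ((B ⊔ E : Subgroup G) : Set G) =
      Z ⊓ Subgroup.centralizer ((B ⊔ E : Subgroup G) : Set G) := by
    refine le_antisymm (le_inf ?_ inf_le_right) (inf_le_inf_right _ hZQ)
    refine le_trans ?_ ha
    refine inf_le_inf_left _ ?_
    apply Subgroup.centralizer_le
    exact (le_sup_left : B ≤ B ⊔ E)
  rw [e1, e2, hcardE] at key1
  rw [hcardE] at key2
  -- the numbers
  obtain ⟨C, hC⟩ : ∃ C : Subgroup G, C = Q ⊓ Subgroup.centralizer (E : Set G) := ⟨_, rfl⟩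
  obtain ⟨CZ, hCZ⟩ : ∃ CZ : Subgroup G, CZ = Z ⊓ Subgroup.centralizer (E : Set G) := ⟨_, rfl⟩
  rw [← hC] at key1
  rw [← hCZ] at key2
  have hCQ : C ≤ Q := hC ▸ inf_le_left
  have hCZC : CZ ≤ C := by
    rw [hC, hCZ]
    exact inf_le_inf_right _ hZQ
  have hCZZ : CZ ≤ Z := hCZ ▸ inf_le_left
  have hmain : Nat.card Q * Nat.card CZ ^ q = Nat.card Z * Nat.card C ^ q := by
    have hpos : 0 < Nat.card ↥(Z ⊓ Subgroup.centralizer ((B ⊔ E : Subgroup G) : Set G)) ^ q *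
        Nat.card ↥(Z ⊓ Subgroup.centralizer (B : Set G)) :=
      Nat.mul_pos (pow_pos Nat.card_pos _) Nat.card_pos
    apply Nat.eq_of_mul_eq_mul_left hpos
    calc Nat.card ↥(Z ⊓ Subgroup.centralizer ((B ⊔ E : Subgroup G) : Set G)) ^ q *
          Nat.card ↥(Z ⊓ Subgroup.centralizer (B : Set G)) * (Nat.card Q * Nat.card CZ ^ q)
        = (Nat.card ↥(Z ⊓ Subgroup.centralizer ((B ⊔ E : Subgroup G) : Set G)) ^ q * Nat.card Q) *
          (Nat.card CZ ^ q * Nat.card ↥(Z ⊓ Subgroup.centralizer (B : Set G))) := by ring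
      _ = (Nat.card C ^ q * Nat.card ↥(Z ⊓ Subgroup.centralizer (B : Set G))) *
          (Nat.card ↥(Z ⊓ Subgroup.centralizer ((B ⊔ E : Subgroup G) : Set G)) ^ q *
            Nat.card Z) := by rw [key1, ← key2]
      _ = _ := by ring
  -- m
  obtain ⟨m, hm⟩ : ∃ m, Nat.card C = m * Nat.card CZ := by
    obtain ⟨m, hm⟩ := Subgroup.card_dvd_of_le hCZC
    exact ⟨m, by rw [hm, mul_comm]⟩
  have hfpos : 0 < Nat.card CZ := Nat.card_pos
  have hQm : Nat.card Q = Nat.card Z * m ^ q := by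
    rw [hm, mul_pow, ← mul_assoc] at hmain
    exact Nat.eq_of_mul_eq_mul_right (pow_pos hfpos q) hmain
  -- bridge to ↥Q
  have hcen := center_subtype_eq Q
  rw [← hZ] at hcen
  have hcardcen : Nat.card (Subgroup.center ↥Q) = Nat.card Z := by
    rw [hcen]
    exact card_subgroupOf_eq hZQ
  have hY : Nat.card (↥Q ⧸ Subgroup.center ↥Q) = m ^ q := by
    have h1 := Subgroup.card_eq_card_quotient_mul_card_subgroup (Subgroup.center ↥Q)
    rw [hcardcen, hQm, mul_comm] at h1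
    exact (Nat.eq_of_mul_eq_mul_right Nat.card_pos h1).symm
  have hm0 : m ≠ 0 := by
    intro h
    rw [h, zero_mul] at hm
    exact (Nat.card_pos (α := C)).ne' hm
  have hm1 : m ≠ 1 := by
    intro h
    rw [h, one_pow, mul_one] at hQm
    have hQZ' : Z = Q := Subgroup.eq_of_le_of_card_ge hZQ hQm.le
    obtain ⟨y, hy, z, hz, hyz⟩ := hnab
    apply hyz
    have h1 : y ∈ Z := hQZ' ▸ hy
    rw [hZ] at h1
    have h2 := (Subgroup.mem_inf.mp h1).2
    rw [Subgroup.mem_centralizer_iff] at h2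
    exact (h2 z hz).symm
  have hm2 : m ≠ 2 := by
    intro h
    rw [h] at hm
    have hidx : (CZ.subgroupOf C).index = 2 := by
      have h1 := Subgroup.card_mul_index (CZ.subgroupOf C)
      rw [card_subgroupOf_eq hCZC, hm, mul_comm] at h1
      exact Nat.eq_of_mul_eq_mul_right hfpos h1
    obtain ⟨u, huC, huCZ⟩ : ∃ u ∈ C, u ∉ CZ := by
      by_contra hcon
      push Not at hcon
      have h1 : C ≤ CZ := hcon
      have h2 := Nat.le_of_dvd hfpos (Subgroup.card_dvd_of_le h1)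
      omega
    have huQ : u ∈ Q := hCQ huC
    have huE : u ∈ Subgroup.centralizer (E : Set G) := by
      rw [hC] at huC
      exact (Subgroup.mem_inf.mp huC).2
    have huZ : u ∉ Z := fun h => huCZ (by rw [hCZ]; exact Subgroup.mem_inf.mpr ⟨h, huE⟩)
    apply huZ
    rw [hZ]
    refine Subgroup.mem_inf.mpr ⟨huQ, ?_⟩
    have hucomC : ∀ v ∈ C, v * u = u * v := by
      intro v hv
      by_cases hvZ : v ∈ CZ
      · have h1 : v ∈ Subgroup.centralizer (Q : Set G) := by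
          have h2 := hCZZ hvZ
          rw [hZ] at h2
          exact (Subgroup.mem_inf.mp h2).2
        rw [Subgroup.mem_centralizer_iff] at h1
        exact (h1 u huQ).symm
      · have h1 := Subgroup.mul_mem_iff_of_index_two hidx (a := (⟨u, huC⟩ : C)⁻¹)
          (b := (⟨v, hv⟩ : C))
        have h2 : ¬ ((⟨u, huC⟩ : C)⁻¹ ∈ CZ.subgroupOf C) := by
          rw [Subgroup.inv_mem_iff, Subgroup.mem_subgroupOf]
          exact huCZ
        have h3 : ¬ ((⟨v, hv⟩ : C) ∈ CZ.subgroupOf C) := by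
          rw [Subgroup.mem_subgroupOf]
          exact hvZ
        have h4 : (⟨u, huC⟩ : C)⁻¹ * ⟨v, hv⟩ ∈ CZ.subgroupOf C :=
          h1.mpr ⟨fun h => absurd h h2, fun h => absurd h h3⟩
        rw [Subgroup.mem_subgroupOf] at h4
        have h5 : u⁻¹ * v ∈ CZ := h4
        have h6 : u⁻¹ * v ∈ Subgroup.centralizer (Q : Set G) := by
          have h7 := hCZZ h5
          rw [hZ] at h7
          exact (Subgroup.mem_inf.mp h7).2
        rw [Subgroup.mem_centralizer_iff] at h6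
        have h7 := h6 u huQ
        calc v * u = u * ((u⁻¹ * v) * u) := by group
          _ = u * (u * (u⁻¹ * v)) := by rw [h7]
          _ = u * v := by group
    have hucomQE : ∀ w ∈ ⁅Q, E⁆, w * u = u * w :=
      cent_comm Q E u (hcmc u huQ) (fun t ht => Subgroup.mem_centralizer_iff.mp huE t ht)
    have hdec := Cfsg.Agent.S0026.result E Q hEQ (Nat.Coprime.symm hcopQE) (Or.inr hQsolv)
    rw [← hC] at hdec
    rw [Subgroup.mem_centralizer_iff]
    intro w hw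
    have hle : ⁅Q, E⁆ ⊔ C ≤ Subgroup.centralizer ({u} : Set G) := by
      refine sup_le ?_ ?_
      · intro w hw
        rw [Subgroup.mem_centralizer_iff]
        intro h hh
        rw [Set.mem_singleton_iff] at hh
        subst hh
        exact (hucomQE w hw).symm
      · intro w hw
        rw [Subgroup.mem_centralizer_iff]
        intro h hh
        rw [Set.mem_singleton_iff] at hh
        subst hh
        exact (hucomC w hw).symm
    rw [hdec] at hle
    have h8 := hle hw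
    rw [Subgroup.mem_centralizer_iff] at h8
    exact (h8 u rfl).symm
  have hm3 : 3 ≤ m := by omega
  have hzc : ZComm (⟨ι, hιQ⟩ : Q) := by
    refine ⟨Subtype.ext hι2, fun a => Subtype.ext (hιc a), ?_⟩
    intro a b
    rcases hcommQ a a.2 b b.2 with h | h
    · left
      exact Subtype.ext h
    · right
      exact Subtype.ext h
  obtain ⟨F, hF⟩ : ∃ F : Subgroup Q, F = C.subgroupOf Q := ⟨_, rfl⟩
  have hFcard : Nat.card F = m * Nat.card ↥(F ⊓ Subgroup.center ↥Q) := by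
    have h1 : F ⊓ Subgroup.center ↥Q = CZ.subgroupOf Q := by
      rw [hcen, hF]
      ext a
      rw [Subgroup.mem_inf, Subgroup.mem_subgroupOf, Subgroup.mem_subgroupOf,
        Subgroup.mem_subgroupOf, hC, hCZ, Subgroup.mem_inf, Subgroup.mem_inf]
      constructor
      · rintro ⟨⟨_, h1⟩, h2⟩
        exact ⟨h2, h1⟩
      · rintro ⟨h1, h2⟩
        exact ⟨⟨a.2, h2⟩, h1⟩
    rw [h1, card_subgroupOf_eq (hCZZ.trans hZQ), hF, card_subgroupOf_eq hCQ, hm]
  have hlift : ∀ a : Q, (∀ j : ℕ, ((tauQ Q x hxQ) ^ j) a / a ∈ Subgroup.center ↥Q) →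
      ∃ c ∈ F, a⁻¹ * c ∈ Subgroup.center ↥Q := by
    intro a ha
    have hfix : ∀ e ∈ E, e * (a : G) * e⁻¹ * (a : G)⁻¹ ∈ Z := by
      intro e he
      rw [hE, ← mem_powers_iff_mem_zpowers] at he
      obtain ⟨j, rfl⟩ := he
      have h1 := ha j
      rw [hcen, Subgroup.mem_subgroupOf] at h1
      have h2 : ((((tauQ Q x hxQ) ^ j) a / a : Q) : G) = x ^ j * a * (x ^ j)⁻¹ * (a : G)⁻¹ := by
        rw [div_eq_mul_inv, Subgroup.coe_mul, tauQ_pow_apply, Subgroup.coe_inv]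
      rw [h2] at h1
      exact h1
    obtain ⟨c, hc, hc2⟩ := Cfsg.Agent.S0022.result E Q hEQ (Nat.Coprime.symm hcopQE)
      (Or.inr hQsolv) Z hZQ hQZ hEZ a a.2 hfix
    rw [← hC] at hc
    refine ⟨⟨c, hCQ hc⟩, ?_, ?_⟩
    · rw [hF, Subgroup.mem_subgroupOf]
      exact hc
    · rw [hcen, Subgroup.mem_subgroupOf]
      exact hc2
  obtain ⟨y, hy1, hy2⟩ := lemA' hCW hzc q hq hq2 (tauQ Q x hxQ) (tauQ_pow_eq_one Q x hxQ q hxq) F
    hlift m hm3 hFcard hY
  refine ⟨y, y.2, ?_, ?_⟩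
  · intro h
    apply hy1
    exact Subtype.ext h
  · intro j
    have h1 := congrArg Subtype.val (hy2 j)
    rw [Subgroup.coe_mul, Subgroup.coe_mul, tauQ_pow_apply] at h1
    exact h1

/-- Piece T2 (Theorem X) of helper1's plan for S4306. -/
theorem excOne (hCW : ChevWarnProp.{u}) : ExcOneProp.{u} := by
  intro W _ _ ℓ q r hℓ hq hr hℓ2 hq2 hr2 hℓq hrq hW Q B x hQ2 hBr hxq hxQ hxB hBQ hfpfW hfpfB
    hcommQ hQB
  by_contra hnab
  push Not at hnab
  have hx1 : x ≠ 1 := by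
    intro h
    obtain ⟨y, hy, z, hz, hyz⟩ := hnab
    apply hyz
    have hW1 : ∀ w : W, w = 1 := fun w => hfpfW w (by rw [h]; rfl)
    ext w
    rw [hW1 ((y * z) w), hW1 ((z * y) w)]
  obtain ⟨ι, hι⟩ : ∃ ι : MulAut W, ι = MulEquiv.inv W := ⟨_, rfl⟩
  have hιw : ∀ w : W, ι w = w⁻¹ := by
    intro w
    rw [hι]
    rfl
  have hι2 : ι * ι = 1 := by
    ext w
    rw [MulAut.mul_apply, hιw, hιw, inv_inv]
    rfl
  have hιc : ∀ g : MulAut W, g * ι = ι * g := by
    intro g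
    ext w
    rw [MulAut.mul_apply, MulAut.mul_apply, hιw, hιw, map_inv]
  have hcommQ' : ∀ y ∈ Q, ∀ z ∈ Q, y * z * y⁻¹ * z⁻¹ = 1 ∨ y * z * y⁻¹ * z⁻¹ = ι := by
    intro y hy z hz
    rcases hcommQ y hy z hz with h | h
    · left
      exact h
    · right
      ext w
      rw [h w, hιw]
  obtain ⟨y, hyQ, hy1, hy2⟩ := ambient_core hCW ι hι2 hιc q r hq hr hq2 hr2 Q B x hQ2 hBr hxq hx1
    hxQ hxB hBQ hfpfB hcommQ' hQB hnab
  -- integer exponents
  have hy2' : ∀ j : ℤ, y * (x ^ j * y * (x ^ j)⁻¹) = (x ^ j * y * (x ^ j)⁻¹) * y := by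
    intro j
    have h1 : x ^ j ∈ Subgroup.zpowers x := Subgroup.zpow_mem_zpowers x j
    rw [← mem_powers_iff_mem_zpowers] at h1
    obtain ⟨n, hn⟩ := h1
    have hn' : x ^ n = x ^ j := hn
    rw [← hn']
    exact hy2 n
  obtain ⟨U, hU⟩ : ∃ U : Subgroup (MulAut W),
      U = Subgroup.closure (Set.range fun j : ℤ => x ^ j * y * (x ^ j)⁻¹) := ⟨_, rfl⟩
  have hgen : ∀ j : ℤ, x ^ j * y * (x ^ j)⁻¹ ∈ U := by
    intro j
    rw [hU]
    exact Subgroup.subset_closure ⟨j, rfl⟩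
  have hUQ : U ≤ Q := by
    rw [hU, Subgroup.closure_le]
    rintro _ ⟨j, rfl⟩
    have h1 : x ^ j ∈ Subgroup.normalizer (Q : Set (MulAut W)) := Subgroup.zpow_mem _ hxQ j
    exact (Subgroup.mem_normalizer_iff.mp h1 y).mp hyQ
  have hpair : ∀ a ∈ (Set.range fun j : ℤ => x ^ j * y * (x ^ j)⁻¹),
      ∀ b ∈ (Set.range fun j : ℤ => x ^ j * y * (x ^ j)⁻¹), a * b = b * a := by
    rintro _ ⟨i, rfl⟩ _ ⟨j, rfl⟩
    have h1 : x ^ j = x ^ i * x ^ (j - i) := by
      rw [← zpow_add]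
      congr 1
      ring
    have h2 := hy2' (j - i)
    simp only
    rw [h1]
    calc x ^ i * y * (x ^ i)⁻¹ * (x ^ i * x ^ (j - i) * y * (x ^ i * x ^ (j - i))⁻¹)
        = x ^ i * (y * (x ^ (j - i) * y * (x ^ (j - i))⁻¹)) * (x ^ i)⁻¹ := by group
      _ = x ^ i * ((x ^ (j - i) * y * (x ^ (j - i))⁻¹) * y) * (x ^ i)⁻¹ := by rw [h2]
      _ = _ := by group
  have hUab : ∀ a ∈ U, ∀ b ∈ U, a * b = b * a := by
    intro a ha b hb
    rw [hU] at ha hb
    have h1 := (Subgroup.closureCommGroupOfComm hpair).mul_comm ⟨a, ha⟩ ⟨b, hb⟩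
    exact congrArg Subtype.val h1
  have hconj : ∀ (s : ℤ), ∀ h ∈ U, x ^ s * h * (x ^ s)⁻¹ ∈ U := by
    intro s
    have h1 : U ≤ U.comap (MulAut.conj (x ^ s)).toMonoidHom := by
      conv_lhs => rw [hU]
      rw [Subgroup.closure_le]
      rintro _ ⟨j, rfl⟩
      rw [SetLike.mem_coe, Subgroup.mem_comap]
      have h2 : (MulAut.conj (x ^ s)).toMonoidHom (x ^ j * y * (x ^ j)⁻¹) =
          x ^ (s + j) * y * (x ^ (s + j))⁻¹ := by
        rw [MulEquiv.coe_toMonoidHom, MulAut.conj_apply, zpow_add]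
        group
      rw [h2]
      exact hgen (s + j)
    intro h hh
    have h3 := h1 hh
    rw [Subgroup.mem_comap, MulEquiv.coe_toMonoidHom, MulAut.conj_apply] at h3
    exact h3
  have hxU : x ∈ Subgroup.normalizer (U : Set (MulAut W)) := by
    rw [Subgroup.mem_normalizer_iff]
    intro h
    constructor
    · intro hh
      have h1 := hconj 1 h hh
      rwa [zpow_one] at h1
    · intro hh
      have h1 := hconj (-1) _ hh
      have e : x ^ (-1 : ℤ) * (x * h * x⁻¹) * (x ^ (-1 : ℤ))⁻¹ = h := by group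
      rwa [e] at h1
  have hxnc : ∃ g ∈ U, x * g ≠ g * x := by
    refine ⟨y, ?_, ?_⟩
    · have h1 := hgen 0
      simpa using h1
    · intro h
      apply hy1
      rw [h]
      group
  obtain ⟨v, hv1, hv2⟩ := Cfsg.Agent.Lib.Helper20.HHExt.exists_fixed_aut (p := ℓ) (q := 2) (r := q)
    hℓ Nat.prime_two hq hℓ2 hℓq hq2.symm hW (MonoidHom.id (MulAut W)) x U hxq (hQ2.to_le hUQ) hxU
    hxnc (fun d _ hd => hd) (fun _ _ => hUab)
  exact hv1 (hfpfW v hv2)

end Cfsg.Agent.Lib.Helper21.FrobQExcOne
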