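import Mathlib
import Cfsg.Prelude.Def_ChevG2
import Cfsg.Prelude.Def_SteinbergCover
import Cfsg.Agent.S1077
import Cfsg.Agent.S1078
import Cfsg.Agent.S2397

set_option autoImplicit false

namespace Cfsg.Agent.Lib.Helper21.G2MH

open Cfsg.Lie

/-- G2M-H: a homomorphism out of the Chevalley group `G₂(K)` (`K` finite with more than two elements)
from elements `y (r, t)` satisfying the relations (R1) and (R2) of Steinberg. -/
theorem exists_hom_of_rels {K : Type*} [Field K] [Finite K] (hK : ∃ x : K, x ≠ 0 ∧ x ≠ 1)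
    {G : Type*} [Group G] (y : Fin chevG2.nroots × K → G)
    (h1 : ∀ (r : Fin chevG2.nroots) (t u : K), y (r, t) * y (r, u) = y (r, t + u))
    (h2 : ∀ (r s : Fin chevG2.nroots) (t u : K), s ≠ r → s.val ≠ chevG2.neg r.val →
      y (s, u) * y (r, t) = y (r, t) * y (s, u) *
        ((chevG2.commWord K r.val s.val t u).map
          (fun p => if h : p.1 < chevG2.nroots then y (⟨p.1, h⟩, p.2) else 1)).prod) :
    ∃ ρ : ↥(chevG2.group K) →* G, ∀ (r : Fin chevG2.nroots) (t : K) (g : ↥(chevG2.group K)),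
      ((g : GL chevG2.Idx K) : Matrix chevG2.Idx chevG2.Idx K) = chevG2.xMat K r t →
        ρ g = y (r, t) := by
  classical
  have hstX : ∀ (r : ℕ) (t : K), FreeGroup.lift y (chevG2.stX r t) =
      if h : r < chevG2.nroots then y (⟨r, h⟩, t) else 1 := by
    intro r t
    unfold ChevalleyDatum.stX
    split_ifs with h
    · simp
    · simp
  have hword : ∀ w : List (ℕ × K), FreeGroup.lift y (chevG2.stWord w) =
      (w.map (fun p => if h : p.1 < chevG2.nroots then y (⟨p.1, h⟩, p.2) else 1)).prod := by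
    intro w
    unfold ChevalleyDatum.stWord
    rw [map_list_prod, List.map_map]
    congr 1
    apply List.map_congr_left
    intro p _
    exact hstX p.1 p.2
  have hrels : ∀ g ∈ chevG2.steinbergRelsAB K, FreeGroup.lift y g = 1 := by
    rintro g (⟨r, t₁, t₂, hr, rfl⟩ | ⟨r, s, t, u, hr, hs, hsr, hsn, rfl⟩)
    · simp only [map_mul, map_inv, hstX, dif_pos hr]
      rw [h1]; simp
    · simp only [map_mul, map_inv, hstX, hword, dif_pos hr, dif_pos hs]
      have h := h2 ⟨r, hr⟩ ⟨s, hs⟩ t u (by intro h; apply hsr; exact congrArg Fin.val h) hsn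
      simp only at h
      have h' : (y (⟨s, hs⟩, u))⁻¹ * (y (⟨r, hr⟩, t))⁻¹ * y (⟨s, hs⟩, u) * y (⟨r, hr⟩, t) =
          ((chevG2.commWord K r s t u).map
          (fun p => if h : p.1 < chevG2.nroots then y (⟨p.1, h⟩, p.2) else 1)).prod := by
        rw [mul_assoc, h]; group
      rw [h']; simp
  let φ : chevG2.SteinbergCover K →* G := PresentedGroup.toGroup hrels
  have hφ : ∀ (r : Fin chevG2.nroots) (t : K), φ (chevG2.scGen K r.val t) = y (r, t) := by
    intro r t
    have : φ (chevG2.scGen K r.val t) = FreeGroup.lift y (chevG2.stX r.val t) := rfl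
    rw [this, hstX, dif_pos r.isLt]
  have hD1 : chevG2 ∈ [chevG2, chevB2, chevD4, chevF4, chevE6, chevE7, chevE8] :=
    List.mem_cons_self
  have hD2 : chevG2 ∈ [chevG2, chevF4, chevE8] := List.mem_cons_self
  obtain ⟨e, he⟩ := Cfsg.Agent.S2397.result (K := K) chevG2 hD1 (fun _ => hK)
  obtain ⟨θ, hsurj, hker, hθ⟩ := Cfsg.Agent.S1077.result (K := K) chevG2 hD1
  have hcen := Cfsg.Agent.S1078.result (K := K) chevG2 hD2
  have hinj : Function.Injective θ := by
    rw [← MonoidHom.ker_eq_bot_iff, hker, hcen]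
  let Θ : chevG2.SteinbergGroup K ≃* ↥(chevG2.group K) := MulEquiv.ofBijective θ ⟨hinj, hsurj⟩
  refine ⟨φ.comp (e.symm.toMonoidHom.comp Θ.symm.toMonoidHom), ?_⟩
  intro r t g hg
  have hgθ : θ (chevG2.stGen K r.val t) = g := by
    apply Subtype.ext
    apply Units.ext
    rw [hg, hθ r.val t r.isLt]
    unfold ChevalleyDatum.x
    rw [dif_pos r.isLt]
  have h3 : Θ.symm g = chevG2.stGen K r.val t := by
    rw [MulEquiv.symm_apply_eq]
    exact hgθ.symm
  have h4 : e.symm (chevG2.stGen K r.val t) = chevG2.scGen K r.val t := by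
    rw [MulEquiv.symm_apply_eq]
    exact (he r.val t).symm
  change φ (e.symm (Θ.symm g)) = y (r, t)
  rw [h3, h4, hφ]

end Cfsg.Agent.Lib.Helper21.G2MH
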