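import Mathlib
import Cfsg.Prelude.Def_ChevStructure
import Cfsg.Prelude.Def_ChevG2
import Cfsg.Agent.Lib.helper14.G2T.Basic

/-!
# Project G2T (S2371), row B4: the character `chi` of the diagonal subgroup of `G₂`.
-/

set_option autoImplicit false

namespace Cfsg.Agent.Lib.helper14.G2T

open Cfsg.Lie Cfsg.Lie.ChevalleyDatum Matrix

universe u v

section B

variable {E : Type u} [Field E]

theorem g2tb4_c08 : chevG2.cartan 0 8 = -1 := by decide
theorem g2tb4_c18 : chevG2.cartan 1 8 = 1 := by decide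
theorem g2tb4_c07 : chevG2.cartan 0 7 = 2 := by decide
theorem g2tb4_c17 : chevG2.cartan 1 7 = -1 := by decide
theorem g2tb4_c02 : chevG2.cartan 0 2 = -1 := by decide
theorem g2tb4_c12 : chevG2.cartan 1 2 = 0 := by decide

/-- B4 [S]. -/
theorem chi_basic (c0 c1 : E) (hc0 : c0 ≠ 0) (hc1 : c1 ≠ 0) :
    (∀ (i : ℕ) (r : ℕ), chi (c0 ^ i) (c1 ^ i) r = chi c0 c1 r ^ i) ∧
    chi c0 c1 8 * chi c0 c1 7 * chi c0 c1 2 = 1 ∧
    c0 = (chi c0 c1 2)⁻¹ ∧ c1 = chi c0 c1 8 * (chi c0 c1 2)⁻¹ ∧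
    (∀ r : ℕ, chi c0 c1 r ≠ 0) := by
  have h2 : chi c0 c1 2 = c0⁻¹ := by
    unfold chi
    rw [g2tb4_c02, g2tb4_c12, _root_.zpow_zero, mul_one, _root_.zpow_neg_one]
  have h8 : chi c0 c1 8 = c0⁻¹ * c1 := by
    unfold chi
    rw [g2tb4_c08, g2tb4_c18, _root_.zpow_one, _root_.zpow_neg_one]
  have h7 : chi c0 c1 7 = c0 ^ 2 * c1⁻¹ := by
    unfold chi
    rw [g2tb4_c07, g2tb4_c17, _root_.zpow_neg_one]
    norm_cast
  refine ⟨?_, ?_, ?_, ?_, ?_⟩
  · intro i r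
    unfold chi
    rw [mul_pow, ← _root_.zpow_natCast (c0 ^ chevG2.cartan 0 r) i, ← _root_.zpow_natCast (c1 ^ chevG2.cartan 1 r) i,
      ← _root_.zpow_mul, ← _root_.zpow_mul, ← _root_.zpow_natCast c0 i, ← _root_.zpow_natCast c1 i, ← _root_.zpow_mul, ← _root_.zpow_mul,
      mul_comm (i : ℤ), mul_comm (i : ℤ)]
  · rw [h2, h8, h7]
    field_simp
  · rw [h2, inv_inv]
  · rw [h2, h8, inv_inv]
    field_simp
  · intro r
    unfold chi
    exact mul_ne_zero (_root_.zpow_ne_zero _ hc0) (_root_.zpow_ne_zero _ hc1)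

end B

end Cfsg.Agent.Lib.helper14.G2T
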