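import Mathlib
import Cfsg.Agent.Lib.Helper19.G2V.Defs
import Cfsg.Agent.Lib.Helper21.G2VG
import Cfsg.Agent.Lib.Helper21.P4VG1
import Cfsg.Agent.Lib.helper17.P4VG4

/-!
# Project G2V (helper19, S2461), row CB (`cov_big`): the core, with the cited rows
(I2 `iota_mul`, `iota_inv`, I6 `iota_mem_Gp`, N7 `absorb_m`, F5 `absorb`) as hypotheses.
Row G (`CjG.trans`, `CovG.of_mul`), `conj_cmp` and `insig_prod` are imported.
-/

set_option autoImplicit false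

namespace Cfsg.Agent.Lib.Helper19.G2V

open Cfsg.Lie Cfsg.Lie.ChevalleyDatum Matrix
open Cfsg.Agent.Lib.helper8
open Cfsg.Agent.Lib.helper23.P4V

universe u

variable {F : Type u} [Field F]

/-- `iota A` is conjugate to `xG τ ν` when `tr A = τ`, `det A = ν` (from `conj_cmp`, I2, I6). -/
theorem g2vcb_cj_xG
    (hI2 : ∀ A B : GL (Fin 2) F, iota (A * B) = iota A * iota B)
    (hI2i : ∀ A : GL (Fin 2) F, iota A⁻¹ = (iota A)⁻¹)
    (hI6 : ∀ A : GL (Fin 2) F, iota A ∈ Gp F)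
    (τ ν : F) (hG : Good τ ν) (A : GL (Fin 2) F) (htr : (A : M2 F).trace = τ)
    (hdet : (A : M2 F).det = ν) : CjG (xG τ ν hG.nu_ne_zero) (iota A) := by
  obtain ⟨P, hP, hA⟩ := conj_cmp τ ν hG.2.2 (A : M2 F) htr hdet
  set p : GL (Fin 2) F := mk2 P hP with hp
  have hAeq : A = p * cmpU τ ν hG.nu_ne_zero * p⁻¹ := by
    apply Units.ext
    have h1 : ((p * cmpU τ ν hG.nu_ne_zero * p⁻¹ : GL (Fin 2) F) : M2 F)
        = (p : M2 F) * (cmpU τ ν hG.nu_ne_zero : M2 F) * ((p⁻¹ : GL (Fin 2) F) : M2 F) := rfl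
    rw [h1, Matrix.coe_units_inv]
    exact hA
  refine ⟨iota p, hI6 p, ?_⟩
  rw [hAeq, hI2, hI2, hI2i]
  rfl

/-- **CB core**: the row with the cited rows as hypotheses. -/
theorem g2vcb_core [Fintype F]
    (hI2 : ∀ A B : GL (Fin 2) F, iota (A * B) = iota A * iota B)
    (hI2i : ∀ A : GL (Fin 2) F, iota A⁻¹ = (iota A)⁻¹)
    (hI6 : ∀ A : GL (Fin 2) F, iota A ∈ Gp F)
    (τ ν : F) (hG : Good' τ ν)
    (hF5 : ∀ A : GL (Fin 2) F, (A : M2 F).trace = τ → (A : M2 F).det = ν → ∀ u : GG F, u ∈ Qp F →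
      CjG (iota A) (iota A * u))
    (hN7 : ∀ A : GL (Fin 2) F, (A : M2 F).trace = τ → (A : M2 F).det = ν → ∀ v : GG F, v ∈ Qm F →
      CjG (iota A) (v * iota A))
    (v' : GG F) (hv : v' ∈ Qm F) (u' : GG F)
    (hu : u' ∈ Qp F) (M : GL (Fin 2) F) (hM : InSig ν (M : M2 F)) :
    CovG (xG τ ν hG.1.nu_ne_zero) (v' * iota M * u') := by
  obtain ⟨A₁, A₂, htr1, hdet1, htr2, hdet2, hprod⟩ := insig_prod τ ν hG.1 (M : M2 F) hM
  have hν : ν ≠ 0 := hG.1.nu_ne_zero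
  set a₁ : GL (Fin 2) F := mk2 A₁ (by rw [hdet1]; exact hν) with ha1
  set a₂ : GL (Fin 2) F := mk2 A₂ (by rw [hdet2]; exact hν) with ha2
  have hMeq : M = a₁ * a₂ := by
    apply Units.ext
    exact hprod.symm
  have e : v' * iota M * u' = (v' * iota a₁) * (iota a₂ * u') := by
    rw [hMeq, hI2]; group
  rw [e]
  apply CovG.of_mul
  · exact CjG.trans (g2vcb_cj_xG hI2 hI2i hI6 τ ν hG.1 a₁ htr1 hdet1) (hN7 a₁ htr1 hdet1 v' hv)
  · exact CjG.trans (g2vcb_cj_xG hI2 hI2i hI6 τ ν hG.1 a₂ htr2 hdet2) (hF5 a₂ htr2 hdet2 u' hu)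

end Cfsg.Agent.Lib.Helper19.G2V
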