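import Mathlib
import Cfsg.Agent.Lib.Helper19.G2V.Defs

/-!
# Project G2V (helper19, S2461), row F3 (`fpf_cmp`): the core, with the cited rows
(F1 `xG_val`, F2 `Qcol` + `Qcol11`, Q1 `Qp_form`) as hypotheses.
-/

set_option autoImplicit false

namespace Cfsg.Agent.Lib.Helper19.G2V

open Cfsg.Lie Cfsg.Lie.ChevalleyDatum Matrix
open Cfsg.Agent.Lib.helper8
open Cfsg.Agent.Lib.helper23.P4V

universe u

variable {F : Type u} [Field F]

theorem g2vf3_sum14 (g : Fin 2 ⊕ Fin 12 → F) :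
    ∑ j, g j = g (Sum.inl ⟨0, by decide⟩) + g (Sum.inl ⟨1, by decide⟩) +
      (g (Sum.inr ⟨0, by decide⟩) + g (Sum.inr ⟨1, by decide⟩)
      + g (Sum.inr ⟨2, by decide⟩) + g (Sum.inr ⟨3, by decide⟩) + g (Sum.inr ⟨4, by decide⟩)
      + g (Sum.inr ⟨5, by decide⟩) + g (Sum.inr ⟨6, by decide⟩) + g (Sum.inr ⟨7, by decide⟩)
      + g (Sum.inr ⟨8, by decide⟩) + g (Sum.inr ⟨9, by decide⟩) + g (Sum.inr ⟨10, by decide⟩)
      + g (Sum.inr ⟨11, by decide⟩)) := by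
  rw [Fintype.sum_sum_type, Fin.sum_univ_two]
  simp only [Fin.sum_univ_succ, Fin.sum_univ_zero, add_zero]
  simp only [← add_assoc]
  rfl

/-- a sum over the 14 coordinates. -/
theorem g2vf3_sum_idx (f : chevG2.Idx → F) :
    ∑ j, f j = f (hI 0) + f (hI 1) + (f (eI 0) + f (eI 1) + f (eI 2) + f (eI 3) + f (eI 4) + f (eI 5)
      + f (eI 6) + f (eI 7) + f (eI 8) + f (eI 9) + f (eI 10) + f (eI 11)) :=
  g2vf3_sum14 f

theorem g2vf3_xM (τ ν : F) (i j : chevG2.Idx) : xM τ ν i j = xMfun τ ν (idxN i) (idxN j) := rfl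

theorem g2vf3_idxN_h (i : ℕ) (hi : i < 2) : idxN (hI i hi) = i := rfl

theorem g2vf3_idxN_e (r : ℕ) (hr : r < 12) : idxN (eI r hr) = 2 + r := rfl

/-- column `e₀` of `U * xM`. -/
theorem g2vf3_colL (τ ν : F) (U : Matrix chevG2.Idx chevG2.Idx F) (k : chevG2.Idx) :
    (U * xM τ ν) k (eI 0) = U k (eI 0) * (1 / ν) := by
  rw [Matrix.mul_apply, g2vf3_sum_idx]
  simp only [g2vf3_xM, g2vf3_idxN_h, g2vf3_idxN_e, Nat.reduceAdd]
  simp [xMfun]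

/-- rows `e₁ e₂ e₃ e₅` and `h₀` of `xM * U`, column `e₀`. -/
theorem g2vf3_rowR (τ ν : F) (U : Matrix chevG2.Idx chevG2.Idx F) :
    (xM τ ν * U) (eI 1) (eI 0) = τ ^ 3 / ν ^ 2 * U (eI 1) (eI 0) + -3 * τ ^ 2 / ν ^ 2 * U (eI 2) (eI 0)
        + -3 * τ / ν ^ 2 * U (eI 3) (eI 0) + -1 / ν ^ 2 * U (eI 5) (eI 0) ∧
    (xM τ ν * U) (eI 2) (eI 0) = τ ^ 2 / ν * U (eI 1) (eI 0) + -2 * τ / ν * U (eI 2) (eI 0)
        + -1 / ν * U (eI 3) (eI 0) ∧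
    (xM τ ν * U) (eI 3) (eI 0) = -τ * U (eI 1) (eI 0) + U (eI 2) (eI 0) ∧
    (xM τ ν * U) (eI 5) (eI 0) = ν * U (eI 1) (eI 0) ∧
    (xM τ ν * U) (hI 0) (eI 0) = -U (hI 0) (eI 0) + U (hI 1) (eI 0) + -τ * U (eI 4) (eI 0) := by
  refine ⟨?_, ?_, ?_, ?_, ?_⟩
  all_goals
    rw [Matrix.mul_apply, g2vf3_sum_idx]
    simp only [g2vf3_xM, g2vf3_idxN_h, g2vf3_idxN_e, Nat.reduceAdd]
    simp [xMfun]

theorem g2vf3_X_zero (r : ℕ) : (X r (0 : F) : GG F) = 1 := by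
  apply Units.ext
  unfold X
  rw [h8xU_val, hB.zero]
  rfl

/-- **F3 core**: the row with the cited rows as hypotheses. -/
theorem g2vf3_core (τ ν : F) (hG : Good' τ ν)
    (hF1 : ((xG τ ν hG.1.nu_ne_zero : GG F) : Matrix chevG2.Idx chevG2.Idx F) = xM τ ν)
    (hQcol : ∀ t1 t2 t3 t4 t5 : F,
      ((X 6 t1 * X 8 t2 * X 9 t3 * X 10 t4 * X 11 t5 : GG F) :
          Matrix chevG2.Idx chevG2.Idx F) (eI 0) (eI 0) = 1 ∧
      ((X 6 t1 * X 8 t2 * X 9 t3 * X 10 t4 * X 11 t5 : GG F) :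
          Matrix chevG2.Idx chevG2.Idx F) (eI 1) (eI 0) = -t1 ∧
      ((X 6 t1 * X 8 t2 * X 9 t3 * X 10 t4 * X 11 t5 : GG F) :
          Matrix chevG2.Idx chevG2.Idx F) (eI 2) (eI 0) = -t2 ∧
      ((X 6 t1 * X 8 t2 * X 9 t3 * X 10 t4 * X 11 t5 : GG F) :
          Matrix chevG2.Idx chevG2.Idx F) (eI 3) (eI 0) = t3 ∧
      ((X 6 t1 * X 8 t2 * X 9 t3 * X 10 t4 * X 11 t5 : GG F) :
          Matrix chevG2.Idx chevG2.Idx F) (eI 5) (eI 0) = t4)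
    (hQcol11 : ∀ (t : F) (i : chevG2.Idx),
      ((X 11 t : GG F) : Matrix chevG2.Idx chevG2.Idx F) i (eI 0) =
        if i = hI 0 then t else if i = hI 1 then 2 * t else if i = eI 0 then 1
        else if i = eI 11 then -t ^ 2 else 0)
    (hQ1 : ∀ u : GG F, u ∈ Qp F →
      ∃ t1 t2 t3 t4 t5 : F, u = X 6 t1 * X 8 t2 * X 9 t3 * X 10 t4 * X 11 t5)
    (u : GG F) (hu : u ∈ Qp F)
    (hc : u * xG τ ν hG.1.nu_ne_zero = xG τ ν hG.1.nu_ne_zero * u) : u = 1 := by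
  obtain ⟨t1, t2, t3, t4, t5, rfl⟩ := hQ1 u hu
  have hν : ν ≠ 0 := hG.1.nu_ne_zero
  have hν1 : ν ≠ 1 := hG.1.2.1
  have hroot : (1 : F) - τ + ν ≠ 0 := by
    have := hG.1.2.2 1
    intro h
    apply this
    rw [← h]; ring
  have hcub : ν ^ 2 + ν - τ ^ 3 + 3 * τ * ν ≠ 0 := hG.2
  -- the matrix identity
  have hM : ∀ (w : GG F), w * xG τ ν hG.1.nu_ne_zero = xG τ ν hG.1.nu_ne_zero * w →
      (w : Matrix chevG2.Idx chevG2.Idx F) * xM τ ν = xM τ ν * (w : Matrix chevG2.Idx chevG2.Idx F) := by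
    intro w hw
    have := congrArg (fun g : GG F => (g : Matrix chevG2.Idx chevG2.Idx F)) hw
    simp only [Units.val_mul] at this
    rw [hF1] at this
    exact this
  have h1 := hM _ hc
  obtain ⟨-, w1, w2, w3, w5⟩ := hQcol t1 t2 t3 t4 t5
  obtain ⟨r1, r2, r3, r5, -⟩ := g2vf3_rowR τ ν
    ((X 6 t1 * X 8 t2 * X 9 t3 * X 10 t4 * X 11 t5 : GG F) : Matrix chevG2.Idx chevG2.Idx F)
  have e1 := congrFun (congrFun h1 (eI 1)) (eI 0)
  have e2 := congrFun (congrFun h1 (eI 2)) (eI 0)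
  have e3 := congrFun (congrFun h1 (eI 3)) (eI 0)
  have e5 := congrFun (congrFun h1 (eI 5)) (eI 0)
  rw [g2vf3_colL, r1, w1, w2, w3, w5] at e1
  rw [g2vf3_colL, r2, w1, w2, w3] at e2
  rw [g2vf3_colL, r3, w1, w2, w3] at e3
  rw [g2vf3_colL, r5, w1, w5] at e5
  field_simp at e1 e2 e3 e5
  -- linear system
  have ht4 : t4 = -(ν ^ 2 * t1) := by linear_combination e5
  have ht3 : t3 = ν * (τ * t1 - t2) := by linear_combination e3
  subst ht4 ht3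
  have eA : τ * (τ + ν) * t1 - (1 + 2 * τ + ν) * t2 = 0 := by linear_combination e2
  have eB : (τ ^ 3 + 3 * τ ^ 2 * ν - ν ^ 2 - ν) * t1 - 3 * τ * (τ + ν) * t2 = 0 := by
    linear_combination e1
  have hdet1 : ((1 - τ + ν) * (ν ^ 2 + ν - τ ^ 3 + 3 * τ * ν)) * t1 = 0 := by
    linear_combination (3 * τ * (τ + ν)) * eA - (1 + 2 * τ + ν) * eB
  have hdet2 : ((1 - τ + ν) * (ν ^ 2 + ν - τ ^ 3 + 3 * τ * ν)) * t2 = 0 := by
    linear_combination (τ ^ 3 + 3 * τ ^ 2 * ν - ν ^ 2 - ν) * eA - (τ * (τ + ν)) * eB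
  have hd : (1 - τ + ν) * (ν ^ 2 + ν - τ ^ 3 + 3 * τ * ν) ≠ 0 := mul_ne_zero hroot hcub
  have ht1 : t1 = 0 := (mul_eq_zero.mp hdet1).resolve_left hd
  have ht2 : t2 = 0 := (mul_eq_zero.mp hdet2).resolve_left hd
  subst ht1 ht2
  have hu0 : X 6 (0 : F) * X 8 0 * X 9 (ν * (τ * 0 - 0)) * X 10 (-(ν ^ 2 * 0)) * X 11 t5 = X 11 t5 := by
    have a : ν * (τ * 0 - 0) = 0 := by ring
    have b : -(ν ^ 2 * 0) = (0 : F) := by ring
    rw [a, b, g2vf3_X_zero, g2vf3_X_zero, g2vf3_X_zero, g2vf3_X_zero]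
    simp
  rw [hu0] at hc ⊢
  have h2 := hM _ hc
  have e0 := congrFun (congrFun h2 (hI 0)) (eI 0)
  obtain ⟨-, -, -, -, r0⟩ := g2vf3_rowR τ ν
    ((X 11 t5 : GG F) : Matrix chevG2.Idx chevG2.Idx F)
  rw [g2vf3_colL, r0, hQcol11, hQcol11, hQcol11] at e0
  simp [hI, eI, Fin.ext_iff] at e0
  have ht5 : t5 = 0 := by
    field_simp at e0
    have h3 : t5 * (1 - ν) = 0 := by linear_combination e0
    rcases mul_eq_zero.mp h3 with h | h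
    · exact h
    · exact absurd (by linear_combination -h : ν = 1) hν1
  rw [ht5]
  exact g2vf3_X_zero 11

end Cfsg.Agent.Lib.Helper19.G2V
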