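import Mathlib
import Cfsg.Agent.Lib.Helper19.G2V.Defs
import Cfsg.Agent.Lib.helper8.G2VF1
import Cfsg.Agent.Lib.Helper19.G2VF2
import Cfsg.Agent.Lib.Helper5.G2VQ1
import Cfsg.Agent.Lib.Helper21.G2VF3core

/-!
# Project G2V (helper19, S2461), row F3 (`fpf_cmp`), VERBATIM: the core on the landed F1 F2 Q1.
-/

set_option autoImplicit false

namespace Cfsg.Agent.Lib.Helper19.G2V

open Cfsg.Lie Cfsg.Lie.ChevalleyDatum Matrix
open Cfsg.Agent.Lib.helper8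
open Cfsg.Agent.Lib.helper23.P4V

universe u

variable {F : Type u} [Field F]

theorem fpf_cmp (τ ν : F) (hG : Good' τ ν) (u : GG F) (hu : u ∈ Qp F)
    (hc : u * xG τ ν hG.1.nu_ne_zero = xG τ ν hG.1.nu_ne_zero * u) : u = 1 :=
  g2vf3_core τ ν hG (xG_val τ ν hG.1.nu_ne_zero) (fun t1 t2 t3 t4 t5 => Qcol t1 t2 t3 t4 t5)
    (fun t i => Qcol11 t i) (fun u hu => Qp_form u hu) u hu hc

end Cfsg.Agent.Lib.Helper19.G2V
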