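import Mathlib
import Cfsg.Agent.Lib.Helper21.PSeries
import Cfsg.Agent.Lib.Helper5.PConstr
import Cfsg.Agent.Lib.Helper5.PConstrDual
import Cfsg.Agent.Lib.helper17.PClosed
import Cfsg.Agent.S0120
import Cfsg.Agent.S0001

set_option autoImplicit false

/-!
Gaschütz–Yen: a `p`-soluble group (`p` odd) whose automorphism group permutes the subgroups of
order `p` transitively has `p`-length one.  Part A: characteristic subgroups and `Ω₁(Z(O_p))`.
-/

namespace Cfsg.Agent.Lib.Helper21.GYen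

open Cfsg

variable {X : Type*} [Group X]

/-- `O_p` is invariant under automorphisms -/
theorem aut_mem_pCore {p : ℕ} [Fact p.Prime] (a : MulAut X) {x : X} (hx : x ∈ pCore p X) :
    a x ∈ pCore p X := by
  have h : (pCore p X).map a.toMonoidHom ≤ pCore p X := by
    apply Cfsg.Agent.Lib.Helper1.le_pCore
    · exact Subgroup.Normal.map (Cfsg.pCore_normal p X) _ a.surjective
    · exact (Cfsg.Agent.Lib.Helper1.pCore_isPGroup p).map _
  exact h ⟨x, hx, rfl⟩

/-- `O_{p'}` is invariant under automorphisms -/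
theorem aut_mem_pPrimeCore [Finite X] {p : ℕ} (a : MulAut X) {x : X} (hx : x ∈ pPrimeCore p X) :
    a x ∈ pPrimeCore p X := by
  have h : (pPrimeCore p X).map a.toMonoidHom ≤ pPrimeCore p X := by
    apply Cfsg.Agent.Lib.Helper1.le_pPrimeCore
    · exact Subgroup.Normal.map (Cfsg.pPrimeCore_normal p X) _ a.surjective
    · rw [Subgroup.card_map_of_injective a.injective]
      exact Cfsg.Agent.Lib.Helper1.pPrimeCore_card_coprime p
  exact h ⟨x, hx, rfl⟩

/-- `W = Ω₁(Z(O_p(X)))` -/
def wSub (p : ℕ) (X : Type*) [Group X] : Subgroup X where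
  carrier := {x | x ∈ pCore p X ∧ (∀ y ∈ pCore p X, y * x = x * y) ∧ x ^ p = 1}
  one_mem' := ⟨one_mem _, fun y _ => by simp, one_pow _⟩
  mul_mem' := by
    rintro a b ⟨ha, hac, hap⟩ ⟨hb, hbc, hbp⟩
    refine ⟨mul_mem ha hb, fun y hy => ?_, ?_⟩
    · rw [← mul_assoc, hac y hy, mul_assoc, hbc y hy, mul_assoc]
    · have hab : Commute a b := hbc a ha
      rw [hab.mul_pow, hap, hbp, one_mul]
  inv_mem' := by
    rintro a ⟨ha, hac, hap⟩
    refine ⟨inv_mem ha, fun y hy => ?_, by rw [inv_pow, hap, inv_one]⟩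
    have := hac y hy
    calc y * a⁻¹ = a⁻¹ * (a * y) * a⁻¹ := by group
      _ = a⁻¹ * (y * a) * a⁻¹ := by rw [this]
      _ = a⁻¹ * y := by group

theorem mem_wSub {p : ℕ} {x : X} :
    x ∈ wSub p X ↔ x ∈ pCore p X ∧ (∀ y ∈ pCore p X, y * x = x * y) ∧ x ^ p = 1 := Iff.rfl

theorem wSub_le (p : ℕ) : wSub p X ≤ pCore p X := fun _ hx => hx.1

theorem aut_mem_wSub {p : ℕ} [Fact p.Prime] (a : MulAut X) {x : X} (hx : x ∈ wSub p X) :
    a x ∈ wSub p X := by
  refine ⟨aut_mem_pCore a hx.1, fun y hy => ?_, by rw [← map_pow, hx.2.2, map_one]⟩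
  have hy' : a.symm y ∈ pCore p X := aut_mem_pCore (a.symm : MulAut X) hy
  have h := congrArg a (hx.2.1 _ hy')
  simpa using h

/-- an element of order `p` in `W` when `O_p ≠ 1` -/
theorem exists_orderOf_in_wSub [Finite X] {p : ℕ} [hp : Fact p.Prime] (hQ : pCore p X ≠ ⊥) :
    ∃ z ∈ wSub p X, orderOf z = p := by
  haveI : Nontrivial (pCore p X) := (Subgroup.nontrivial_iff_ne_bot _).mpr hQ
  have hQp : IsPGroup p (pCore p X) := Cfsg.Agent.Lib.Helper1.pCore_isPGroup p
  haveI := hQp.center_nontrivial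
  have hZp : IsPGroup p (Subgroup.center (pCore p X)) := hQp.to_subgroup _
  obtain ⟨k, hk⟩ := IsPGroup.iff_card.mp hZp
  have hk0 : k ≠ 0 := by
    rintro rfl
    rw [pow_zero] at hk
    exact (Finite.one_lt_card (α := Subgroup.center (pCore p X))).ne' hk
  have hdvd : p ∣ Nat.card (Subgroup.center (pCore p X)) := by
    rw [hk]; exact dvd_pow_self p hk0
  obtain ⟨c, hc⟩ := exists_prime_orderOf_dvd_card' p hdvd
  refine ⟨((c : pCore p X) : X), ⟨(c : pCore p X).2, fun y hy => ?_, ?_⟩, ?_⟩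
  · have := Subgroup.mem_center_iff.mp c.2 ⟨y, hy⟩
    exact congrArg Subtype.val this
  · have h1 : c ^ p = 1 := by
      have := pow_orderOf_eq_one c
      rwa [hc] at this
    have h2 := congrArg (fun t : Subgroup.center (pCore p X) => ((t : pCore p X) : X)) h1
    simpa using h2
  · rw [Subgroup.orderOf_coe, Subgroup.orderOf_coe, hc]

variable [Finite X] {p : ℕ} [hp : Fact p.Prime]

/-- the transitivity hypothesis -/
def Trans (p : ℕ) (X : Type*) [Group X] : Prop :=
  ∀ U V : Subgroup X, Nat.card U = p → Nat.card V = p →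
    ∃ a : MulAut X, U.map a.toMonoidHom = V

/-- a characteristic subgroup containing an element of order `p` contains all of them -/
theorem char_all (htr : Trans p X) (C : Subgroup X) (hC : ∀ (a : MulAut X) (x : X), x ∈ C → a x ∈ C)
    {z : X} (hz : z ∈ C) (hzo : orderOf z = p) {x : X} (hx : orderOf x = p) : x ∈ C := by
  obtain ⟨a, ha⟩ := htr (Subgroup.zpowers z) (Subgroup.zpowers x)
    (by rw [Nat.card_zpowers, hzo]) (by rw [Nat.card_zpowers, hx])
  have hxm : x ∈ (Subgroup.zpowers z).map a.toMonoidHom := by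
    rw [ha]; exact Subgroup.mem_zpowers x
  obtain ⟨u, hu, rfl⟩ := hxm
  exact hC a u ((Subgroup.zpowers_le.mpr hz) hu)

theorem mem_wSub_of_orderOf (htr : Trans p X) (hQ : pCore p X ≠ ⊥) {x : X}
    (hx : orderOf x = p) : x ∈ wSub p X := by
  obtain ⟨z, hz, hzo⟩ := exists_orderOf_in_wSub (p := p) hQ
  exact char_all htr (wSub p X) (fun a x hx => aut_mem_wSub a hx) hz hzo hx

theorem orderOf_eq_of_pow_eq_one {x : X} (hx : x ^ p = 1) (hx1 : x ≠ 1) : orderOf x = p := by
  have h := orderOf_dvd_of_pow_eq_one hx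
  rcases (Nat.dvd_prime hp.out).mp h with h1 | h1
  · exact absurd (orderOf_eq_one_iff.mp h1) hx1
  · exact h1

theorem mem_wSub_of_pow (htr : Trans p X) (hQ : pCore p X ≠ ⊥) {x : X}
    (hx : x ^ p = 1) : x ∈ wSub p X := by
  by_cases hx1 : x = 1
  · rw [hx1]; exact one_mem _
  · exact mem_wSub_of_orderOf htr hQ (orderOf_eq_of_pow_eq_one hx hx1)

/-- **Claim 2**: a `p'`-element centralizing `W` is trivial -/
theorem eq_one_of_centralizes_wSub (hp2 : p ≠ 2) (hsol : IsPSolvable p X)
    (hO : pPrimeCore p X = ⊥) (htr : Trans p X) (hQ : pCore p X ≠ ⊥) {k : X}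
    (hk : (orderOf k).Coprime p) (hkW : ∀ w ∈ wSub p X, k * w = w * k) : k = 1 := by
  have hQp : IsPGroup p (pCore p X) := Cfsg.Agent.Lib.Helper1.pCore_isPGroup p
  have hQn : (pCore p X).Normal := Cfsg.pCore_normal p X
  have hC := Cfsg.Agent.Lib.Helper5.h5_centralizer_pCore_le hsol hO
  -- the automorphism of Q induced by k
  obtain ⟨a, ha⟩ : ∃ a : MulAut (pCore p X), a = MulAut.conjNormal k := ⟨_, rfl⟩
  have hav : ∀ x : pCore p X, ((a x : pCore p X) : X) = k * x * k⁻¹ := by
    intro x; rw [ha]; rfl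
  have hpow : ∀ (j : ℕ) (x : pCore p X), (((a ^ j) x : pCore p X) : X) = k ^ j * x * (k ^ j)⁻¹ := by
    intro j
    induction j with
    | zero => intro x; simp
    | succ j ih =>
      intro x
      rw [pow_succ, MulAut.mul_apply, ih, hav, pow_succ]
      group
  have hao : a ^ orderOf k = 1 := by
    ext x
    rw [hpow, pow_orderOf_eq_one]
    simp
  have hcop : Nat.Coprime (orderOf a) p :=
    Nat.Coprime.coprime_dvd_left (orderOf_dvd_of_pow_eq_one hao) hk
  have h1 : a = 1 := by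
    apply Cfsg.Agent.S0120.result hp2 hQp a hcop
    intro x hx
    apply Subtype.ext
    rw [hav]
    have hx' : (x : X) ^ p = 1 := by
      have := congrArg Subtype.val hx
      simpa using this
    rw [hkW _ (mem_wSub_of_pow htr hQ hx'), mul_inv_cancel_right]
  have hkc : k ∈ Subgroup.centralizer (pCore p X : Set X) := by
    rw [Subgroup.mem_centralizer_iff]
    intro x hx
    have h2 := hav ⟨x, hx⟩
    rw [h1] at h2
    simp only [MulAut.one_apply] at h2
    -- x = k x k⁻¹
    calc x * k = (k * x * k⁻¹) * k := by rw [← h2]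
      _ = k * x := by group
  have hkQ : k ∈ pCore p X := hC hkc
  obtain ⟨n, hn⟩ := (hQp ⟨k, hkQ⟩)
  have hn' : k ^ p ^ n = 1 := by
    have := congrArg Subtype.val hn
    simpa using this
  have hd : orderOf k ∣ p ^ n := orderOf_dvd_of_pow_eq_one hn'
  have h1' : orderOf k = 1 := Nat.eq_one_of_dvd_coprimes (Nat.Coprime.pow_right n hk) dvd_rfl hd
  exact orderOf_eq_one_iff.mp h1'

end Cfsg.Agent.Lib.Helper21.GYen
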