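import Mathlib
import Cfsg.Agent.Lib.Helper21.GYenA

set_option autoImplicit false

/-!
Gaschütz–Yen, part B: Schur–Zassenhaus complement with the Frattini argument, and the main lemma.
-/

namespace Cfsg.Agent.Lib.Helper21.GYen

open Cfsg
open Pointwise

variable {X : Type*} [Group X] [Finite X] {p : ℕ} [hp : Fact p.Prime]

/-- A normal `p`-subgroup `Q` of `p'`-index in a normal subgroup `L` has a complement `K` in `L`,
and `X = Q N_X(K)` (Frattini argument). -/
theorem frattini_complement (Q L : Subgroup X) [hQn : Q.Normal] [hLn : L.Normal]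
    (hQp : IsPGroup p Q) (hcop : (Q.relIndex L).Coprime p) :
    ∃ K : Subgroup X, (∀ x ∈ K, x ∈ Q → x = 1) ∧
      (∀ l ∈ L, ∃ n ∈ Q, ∃ h ∈ K, l = n * h) ∧
      (∀ g : X, ∃ n ∈ Q, ∀ k ∈ K, (n⁻¹ * g) * k * (n⁻¹ * g)⁻¹ ∈ K) := by
  set N : Subgroup L := Q.subgroupOf L with hN
  haveI : N.Normal := Subgroup.normal_subgroupOf
  have hNp : IsPGroup p N := hQp.comap_subtype
  obtain ⟨k, hk⟩ := IsPGroup.iff_card.mp hNp
  have hidx : N.index = Q.relIndex L := rfl
  have hcop' : (Nat.card N).Coprime N.index := by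
    rw [hk, hidx]; exact Nat.Coprime.pow_left k hcop.symm
  obtain ⟨H₀, hH₀⟩ := Subgroup.exists_right_complement'_of_coprime hcop'
  have hsolvN : Group.IsSolvable N := by
    haveI := hNp.isNilpotent
    infer_instance
  have hcardH₀ : Nat.card H₀ = N.index := hH₀.symm.index_eq_card.symm
  refine ⟨H₀.map L.subtype, ?_, ?_, ?_⟩
  · rintro _ ⟨h, hh, rfl⟩ hq
    have h1 : h ∈ N ⊓ H₀ := ⟨Subgroup.mem_subgroupOf.mpr hq, hh⟩
    rw [hH₀.disjoint.eq_bot, Subgroup.mem_bot] at h1
    rw [h1]; rfl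
  · intro l hl
    obtain ⟨⟨n, h⟩, hnh, -⟩ := (Subgroup.isComplement'_def.mp hH₀).existsUnique ⟨l, hl⟩
    refine ⟨((n : L) : X), Subgroup.mem_subgroupOf.mp n.2, ((h : L) : X), ⟨h, h.2, rfl⟩, ?_⟩
    have := congrArg Subtype.val hnh
    simpa using this.symm
  · intro g
    set φ : MulAut L := MulAut.conjNormal g with hφ
    set H₁ : Subgroup L := H₀.map φ.toMonoidHom with hH₁
    have hc1 : Nat.card H₁ = Nat.card H₀ := Subgroup.card_map_of_injective φ.injective
    have hH₁c : Subgroup.IsComplement' N H₁ := by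
      apply Subgroup.isComplement'_of_coprime
      · rw [hc1]; exact hH₀.card_mul_card
      · rw [hc1, hcardH₀]; exact hcop'
    obtain ⟨l, hl⟩ := Cfsg.Agent.S0001.result N hcop' (Or.inl hsolvN) H₀ H₁ hH₀ hH₁c
    obtain ⟨⟨n, h⟩, hnh, -⟩ := (Subgroup.isComplement'_def.mp hH₀).existsUnique l
    have hn : MulAut.conj (n : L) • H₀ = H₁ := by
      rw [← hl, ← hnh, map_mul, mul_smul, Subgroup.conj_smul_eq_self_of_mem h.2]
    refine ⟨((n : L) : X), Subgroup.mem_subgroupOf.mp n.2, ?_⟩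
    rintro _ ⟨h', hh', rfl⟩
    have h2 : φ h' ∈ MulAut.conj (n : L) • H₀ := by
      rw [hn]; exact ⟨h', hh', rfl⟩
    rw [Subgroup.mem_pointwise_smul_iff_inv_smul_mem] at h2
    refine ⟨_, h2, ?_⟩
    simp [MulAut.smul_def, hφ, MulAut.conjNormal_apply]
    group


/-- an automorphism induces an automorphism of the quotient by a characteristic subgroup -/
theorem exists_quotient_aut (Q : Subgroup X) [Q.Normal] (a : MulAut X)
    (hQ : ∀ (b : MulAut X) (x : X), x ∈ Q → b x ∈ Q) :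
    ∃ ā : MulAut (X ⧸ Q), ∀ x : X, ā (QuotientGroup.mk' Q x) = QuotientGroup.mk' Q (a x) := by
  have hmap : Q.map (a : X →* X) = Q := by
    apply le_antisymm
    · rintro _ ⟨x, hx, rfl⟩; exact hQ a x hx
    · intro x hx
      exact ⟨a.symm x, hQ a.symm x hx, by simp⟩
  exact ⟨QuotientGroup.congr Q Q a hmap, fun x => rfl⟩

theorem subsingleton_of_centralizer_bot_le {Y : Type*} [Group Y] {A : Subgroup Y} (hA : A = ⊥)
    (h : Subgroup.centralizer (A : Set Y) ≤ A) : Subsingleton Y := by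
  subst hA
  have htop : ∀ x : Y, x = 1 := by
    intro x
    have hx : x ∈ Subgroup.centralizer (((⊥ : Subgroup Y)) : Set Y) := by
      rw [Subgroup.mem_centralizer_iff]
      intro y hy
      have : y = 1 := hy
      rw [this]; simp
    exact Subgroup.mem_bot.mp (h hx)
  exact ⟨fun a b => by rw [htop a, htop b]⟩

/-- `C_X(W) ≤ O_p(X)` -/
theorem centralizer_wSub_le (hp2 : p ≠ 2) (hsol : IsPSolvable p X)
    (hO : pPrimeCore p X = ⊥) (htr : Trans p X) (hQ : pCore p X ≠ ⊥) :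
    Subgroup.centralizer (wSub p X : Set X) ≤ pCore p X := by
  haveI hWn : (wSub p X).Normal := by
    constructor
    intro w hw g
    exact aut_mem_wSub (MulAut.conj g) hw
  apply Cfsg.Agent.Lib.Helper1.le_pCore
  · exact Subgroup.normal_centralizer
  · intro c
    obtain ⟨k, m, hm, hkm⟩ :=
      Nat.exists_eq_pow_mul_and_not_dvd (orderOf_pos (c : X)).ne' p hp.out.ne_one
    refine ⟨k, ?_⟩
    apply Subtype.ext
    rw [Subgroup.coe_pow, Subgroup.coe_one]
    apply eq_one_of_centralizes_wSub hp2 hsol hO htr hQ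
    · have h1 : orderOf ((c : X) ^ p ^ k) = m := by
        rw [orderOf_pow_of_dvd (pow_ne_zero _ hp.out.ne_zero) (hkm ▸ dvd_mul_right _ _), hkm,
          Nat.mul_div_cancel_left _ (pow_pos hp.out.pos k)]
      rw [h1]
      exact ((Nat.Prime.coprime_iff_not_dvd hp.out).mpr hm).symm
    · intro w hw
      have hc : w * (c : X) = (c : X) * w := Subgroup.mem_centralizer_iff.mp c.2 w hw
      exact ((show Commute w (c : X) from hc).pow_right _).eq.symm

/-- **Main lemma**: if `O_{p'}(X) = 1` then `X / O_p(X)` is a `p'`-group. -/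
theorem coprime_card_quotient_pCore (hp2 : p ≠ 2) (hsol : IsPSolvable p X)
    (hO : pPrimeCore p X = ⊥) (htr : Trans p X) :
    (Nat.card (X ⧸ pCore p X)).Coprime p := by
  haveI hQn : (pCore p X).Normal := Cfsg.pCore_normal p X
  have hQp : IsPGroup p (pCore p X) := Cfsg.Agent.Lib.Helper1.pCore_isPGroup p
  by_cases hQ : pCore p X = ⊥
  · haveI := subsingleton_of_centralizer_bot_le hQ
      (Cfsg.Agent.Lib.Helper5.h5_centralizer_pCore_le hsol hO)
    rw [Nat.card_unique]
    exact Nat.coprime_one_left p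
  -- notation
  obtain ⟨π, hπ⟩ : ∃ π : X →* X ⧸ pCore p X, π = QuotientGroup.mk' (pCore p X) := ⟨_, rfl⟩
  have hπs : Function.Surjective π := by rw [hπ]; exact QuotientGroup.mk'_surjective _
  have hπker : ∀ x : X, π x = 1 ↔ x ∈ pCore p X := by
    intro x; rw [hπ]; exact QuotientGroup.eq_one_iff x
  have hsolvQ : IsPSolvable p (X ⧸ pCore p X) :=
    Cfsg.Agent.Lib.Helper5.h5_isPSolvable_of_surjective π hπs hsol
  have hOq : pCore p (X ⧸ pCore p X) = ⊥ := by
    rw [Cfsg.Agent.Lib.helper17.pCore_quotient (pCore p X) hQp, eq_bot_iff]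
    rintro _ ⟨r, hr, rfl⟩
    rw [Subgroup.mem_bot]
    exact (QuotientGroup.eq_one_iff r).mpr hr
  have hle := Cfsg.Agent.Lib.Helper5.h5_centralizer_pPrimeCore_le hsolvQ hOq
  obtain ⟨L, hL⟩ : ∃ L : Subgroup X, L = (pPrimeCore p (X ⧸ pCore p X)).comap π := ⟨_, rfl⟩
  have hLmem : ∀ x : X, x ∈ L ↔ π x ∈ pPrimeCore p (X ⧸ pCore p X) := by
    intro x; rw [hL]; exact Subgroup.mem_comap
  haveI hLn : L.Normal := by
    rw [hL]; exact Subgroup.Normal.comap (Cfsg.pPrimeCore_normal p _) π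
  have hrel : (pCore p X).relIndex L = Nat.card (pPrimeCore p (X ⧸ pCore p X)) := by
    have h2 := Subgroup.relIndex_comap (H := (⊥ : Subgroup (X ⧸ pCore p X))) π L
    rw [MonoidHom.comap_bot, Subgroup.relIndex_bot_left] at h2
    have h3 : π.ker = pCore p X := by rw [hπ]; exact QuotientGroup.ker_mk' _
    rw [h3] at h2
    rw [h2, hL, Subgroup.map_comap_eq_self_of_surjective hπs]
  have hcop : ((pCore p X).relIndex L).Coprime p := by
    rw [hrel]; exact Cfsg.Agent.Lib.Helper1.pPrimeCore_card_coprime p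
  -- L is characteristic
  have hLchar : ∀ (a : MulAut X) (x : X), x ∈ L → a x ∈ L := by
    intro a x hx
    obtain ⟨ā, hā⟩ := exists_quotient_aut (pCore p X) a (fun b x hx => aut_mem_pCore b hx)
    rw [hLmem] at hx ⊢
    have h1 := aut_mem_pPrimeCore ā hx
    rw [hπ] at h1 ⊢
    rwa [hā] at h1
  -- the characteristic subgroup W ∩ C(L)
  obtain ⟨cwl, hcwl⟩ : ∃ C : Subgroup X, C = wSub p X ⊓ Subgroup.centralizer (L : Set X) :=
    ⟨_, rfl⟩
  have hcwlmem : ∀ x : X, x ∈ cwl ↔ x ∈ wSub p X ∧ ∀ l ∈ L, l * x = x * l := by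
    intro x; rw [hcwl, Subgroup.mem_inf, Subgroup.mem_centralizer_iff]; rfl
  have hcwlchar : ∀ (a : MulAut X) (x : X), x ∈ cwl → a x ∈ cwl := by
    intro a x hx
    rw [hcwlmem] at hx ⊢
    refine ⟨aut_mem_wSub a hx.1, fun l hl => ?_⟩
    have h1 := hx.2 _ (hLchar a.symm l hl)
    have h2 := congrArg a h1
    simpa using h2
  by_cases hc : ∃ z ∈ cwl, z ≠ 1
  · -- case (i): W ≤ C(L), hence L ≤ C(W) ≤ Q
    obtain ⟨z, hz, hz1⟩ := hc
    have hzo : orderOf z = p := orderOf_eq_of_pow_eq_one ((hcwlmem z).mp hz).1.2.2 hz1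
    have hWc : ∀ w ∈ wSub p X, w ∈ cwl := by
      intro w hw
      by_cases hw1 : w = 1
      · rw [hw1]; exact one_mem _
      · exact char_all htr cwl hcwlchar hz hzo (orderOf_eq_of_pow_eq_one hw.2.2 hw1)
    have hLQ : L ≤ pCore p X := by
      intro l hl
      apply centralizer_wSub_le hp2 hsol hO htr hQ
      rw [Subgroup.mem_centralizer_iff]
      intro w hw
      exact (((hcwlmem w).mp (hWc w hw)).2 l hl).symm
    have hP' : pPrimeCore p (X ⧸ pCore p X) = ⊥ := by
      rw [eq_bot_iff]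
      intro y hy
      obtain ⟨x, rfl⟩ := hπs y
      rw [Subgroup.mem_bot, hπker]
      exact hLQ ((hLmem x).mpr hy)
    haveI := subsingleton_of_centralizer_bot_le hP' hle
    rw [Nat.card_unique]
    exact Nat.coprime_one_left p
  · -- case (ii): W ∩ C(L) = 1
    push Not at hc
    obtain ⟨K, hKQ, hLK, hfr⟩ := frattini_complement (pCore p X) L hQp hcop
    rw [Nat.coprime_comm, Nat.Prime.coprime_iff_not_dvd hp.out]
    intro hdvd
    obtain ⟨gb, hgb⟩ := exists_prime_orderOf_dvd_card' p hdvd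
    obtain ⟨g, rfl⟩ := hπs gb
    obtain ⟨n, hn, hnK⟩ := hfr g
    obtain ⟨m, hm⟩ : ∃ m : X, m = n⁻¹ * g := ⟨_, rfl⟩
    rw [← hm] at hnK
    have hπm : π m = π g := by
      rw [hm, map_mul, map_inv, (hπker n).mpr hn, inv_one, one_mul]
    have hpm : p ∣ orderOf m := by
      have := orderOf_map_dvd π m
      rwa [hπm, hgb] at this
    obtain ⟨t, ht⟩ := hpm
    have ht0 : t ≠ 0 := by
      rintro rfl
      rw [mul_zero] at ht
      exact (orderOf_pos m).ne' ht
    have hvo : orderOf (m ^ t) = p := by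
      rw [orderOf_pow_of_dvd ht0 (ht ▸ dvd_mul_left _ _), ht,
        Nat.mul_div_cancel _ (Nat.pos_of_ne_zero ht0)]
    have hpowK : ∀ (j : ℕ) (k : X), k ∈ K → m ^ j * k * (m ^ j)⁻¹ ∈ K := by
      intro j
      induction j with
      | zero => intro k hk; simpa using hk
      | succ j ih =>
        intro k hk
        have h1 := ih _ (hnK k hk)
        have h2 : m ^ (j + 1) * k * (m ^ (j + 1))⁻¹ = m ^ j * (m * k * m⁻¹) * (m ^ j)⁻¹ := by
          rw [pow_succ]; group
        rw [h2]; exact h1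
    obtain ⟨v, hv⟩ : ∃ v : X, v = m ^ t := ⟨_, rfl⟩
    rw [← hv] at hvo
    have hvK : ∀ k ∈ K, v * k * v⁻¹ ∈ K := by
      intro k hk; rw [hv]; exact hpowK t k hk
    have hvW : v ∈ wSub p X := mem_wSub_of_orderOf htr hQ hvo
    have hvcK : ∀ k ∈ K, k * v = v * k := by
      intro k hk
      have h1 : v * k * v⁻¹ * k⁻¹ ∈ K := K.mul_mem (hvK k hk) (K.inv_mem hk)
      have h2 : v * k * v⁻¹ * k⁻¹ ∈ pCore p X := by
        have h3 : k * v⁻¹ * k⁻¹ ∈ pCore p X := hQn.conj_mem _ ((pCore p X).inv_mem hvW.1) k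
        have h4 : v * k * v⁻¹ * k⁻¹ = v * (k * v⁻¹ * k⁻¹) := by group
        rw [h4]; exact (pCore p X).mul_mem hvW.1 h3
      have h5 := hKQ _ h1 h2
      calc k * v = (v * k * v⁻¹ * k⁻¹)⁻¹ * (v * k) := by group
        _ = v * k := by rw [h5, inv_one, one_mul]
    have hvc : v ∈ cwl := by
      rw [hcwlmem]
      refine ⟨hvW, fun l hl => ?_⟩
      obtain ⟨n', hn', h', hh', rfl⟩ := hLK l hl
      rw [mul_assoc, hvcK h' hh', ← mul_assoc, hvW.2.1 n' hn', mul_assoc]
    have hv1 : v = 1 := by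
      by_contra hne
      exact hne (hc v hvc)
    rw [hv1, orderOf_one] at hvo
    exact hp.out.one_lt.ne hvo

end Cfsg.Agent.Lib.Helper21.GYen
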