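import Mathlib
import Cfsg.Agent.Lib.Helper21.GYenB

set_option autoImplicit false

/-!
Gaschütz–Yen, part C: passing to `G / O_{p'}(G)` and the final assembly.
-/

namespace Cfsg.Agent.Lib.Helper21.GYen

open Cfsg

variable {G : Type*} [Group G] [Finite G] {p : ℕ} [hp : Fact p.Prime]

/-- a subgroup of order `p` of `G / O_{p'}(G)` is the image of a subgroup of order `p` of `G` -/
theorem exists_lift_order_p (U : Subgroup (G ⧸ pPrimeCore p G)) (hU : Nat.card U = p) :
    ∃ x : G, orderOf x = p ∧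
      Subgroup.zpowers (QuotientGroup.mk' (pPrimeCore p G) x) = U := by
  haveI hN0 : (pPrimeCore p G).Normal := Cfsg.pPrimeCore_normal p G
  obtain ⟨π, hπ⟩ : ∃ π : G →* G ⧸ pPrimeCore p G, π = QuotientGroup.mk' (pPrimeCore p G) :=
    ⟨_, rfl⟩
  have hπs : Function.Surjective π := by rw [hπ]; exact QuotientGroup.mk'_surjective _
  rw [← hπ]
  have hdvd : p ∣ Nat.card (U.comap π) := by
    have h1 := Subgroup.card_dvd_of_surjective (π.subgroupComap U)
      (MonoidHom.subgroupComap_surjective_of_surjective π U hπs)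
    rwa [hU] at h1
  obtain ⟨c, hc⟩ := exists_prime_orderOf_dvd_card' p hdvd
  have hxo : orderOf (c : G) = p := by rw [Subgroup.orderOf_coe, hc]
  have hxU : π (c : G) ∈ U := c.2
  have hx1 : π (c : G) ≠ 1 := by
    intro h1
    have hmem : (c : G) ∈ pPrimeCore p G := by
      have h1' : QuotientGroup.mk' (pPrimeCore p G) (c : G) = 1 := by
        have := h1
        simpa [hπ] using this
      exact (QuotientGroup.eq_one_iff _).mp h1'
    have h2 : orderOf (c : G) ∣ Nat.card (pPrimeCore p G) :=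
      Subgroup.orderOf_dvd_natCard _ hmem
    rw [hxo] at h2
    have h3 := Cfsg.Agent.Lib.Helper1.pPrimeCore_card_coprime (G := G) p
    have h4 : p ∣ Nat.gcd (Nat.card (pPrimeCore p G)) p := Nat.dvd_gcd h2 dvd_rfl
    rw [h3] at h4
    exact hp.out.one_lt.ne' (Nat.dvd_one.mp h4)
  have hpow : (π (c : G)) ^ p = 1 := by
    have h5 : (c : G) ^ p = 1 := by
      have := pow_orderOf_eq_one (c : G)
      rwa [hxo] at this
    rw [← map_pow, h5, map_one]
  have hπo : orderOf (π (c : G)) = p := orderOf_eq_of_pow_eq_one hpow hx1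
  refine ⟨(c : G), hxo, ?_⟩
  apply Subgroup.eq_of_le_of_card_ge
  · exact Subgroup.zpowers_le.mpr hxU
  · rw [Nat.card_zpowers, hπo, hU]

/-- the transitivity hypothesis passes to `G / O_{p'}(G)` -/
theorem trans_quotient (htr : Trans p G) :
    haveI := Cfsg.pPrimeCore_normal p G
    Trans p (G ⧸ pPrimeCore p G) := by
  haveI hN0 : (pPrimeCore p G).Normal := Cfsg.pPrimeCore_normal p G
  intro U V hU hV
  obtain ⟨x, hxo, hxU⟩ := exists_lift_order_p U hU
  obtain ⟨y, hyo, hyV⟩ := exists_lift_order_p V hV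
  obtain ⟨a, ha⟩ := htr (Subgroup.zpowers x) (Subgroup.zpowers y)
    (by rw [Nat.card_zpowers, hxo]) (by rw [Nat.card_zpowers, hyo])
  obtain ⟨ā, hā⟩ := exists_quotient_aut (pPrimeCore p G) a (fun b x hx => aut_mem_pPrimeCore b hx)
  refine ⟨ā, ?_⟩
  apply Subgroup.eq_of_le_of_card_ge
  · rw [← hxU, MonoidHom.map_zpowers, Subgroup.zpowers_le]
    have h1 : a x ∈ Subgroup.zpowers y := by
      rw [← ha]; exact ⟨x, Subgroup.mem_zpowers x, rfl⟩
    have h2 : ā.toMonoidHom (QuotientGroup.mk' (pPrimeCore p G) x)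
        = QuotientGroup.mk' (pPrimeCore p G) (a x) := hā x
    rw [h2, ← hyV]
    obtain ⟨j, hj⟩ := Subgroup.mem_zpowers_iff.mp h1
    rw [← hj, map_zpow]
    exact Subgroup.zpow_mem_zpowers _ j
  · rw [Subgroup.card_map_of_injective ā.injective, hU, hV]

/-- **Gaschütz–Yen** -/
theorem gaschutz_yen (hp2 : p ≠ 2) (hG : IsPSolvable p G) (htr : Trans p G) :
    PLengthLE p 1 G := by
  haveI hN0 : (pPrimeCore p G).Normal := Cfsg.pPrimeCore_normal p G
  have hsolX : IsPSolvable p (G ⧸ pPrimeCore p G) :=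
    Cfsg.Agent.Lib.Helper5.h5_isPSolvable_of_surjective (QuotientGroup.mk' _)
      (QuotientGroup.mk'_surjective _) hG
  have hOX : pPrimeCore p (G ⧸ pPrimeCore p G) = ⊥ :=
    Cfsg.Agent.Lib.Helper1.pPrimeCore_quotient_eq_bot p
  have htrX : Trans p (G ⧸ pPrimeCore p G) := trans_quotient htr
  have hmain := coprime_card_quotient_pCore hp2 hsolX hOX htrX
  haveI : (pCore p (G ⧸ pPrimeCore p G)).Normal := Cfsg.pCore_normal p _
  have h1 : PLengthLE p 1 (pCore p (G ⧸ pPrimeCore p G)) :=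
    Cfsg.Agent.Lib.Helper21.plength_one_of_isPGroup (Cfsg.Agent.Lib.Helper1.pCore_isPGroup p)
  have h0 : PLengthLE p 0 ((G ⧸ pPrimeCore p G) ⧸ pCore p (G ⧸ pPrimeCore p G)) :=
    Cfsg.Agent.Lib.Helper21.plength_zero_of_coprime hmain
  have hX : PLengthLE p (1 + 0) (G ⧸ pPrimeCore p G) :=
    Cfsg.Agent.Lib.Helper21.plength_add (pCore p (G ⧸ pPrimeCore p G)) h1 h0
  have hN : PLengthLE p 0 (pPrimeCore p G) :=
    Cfsg.Agent.Lib.Helper21.plength_zero_of_coprime
      (Cfsg.Agent.Lib.Helper1.pPrimeCore_card_coprime p)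
  have := Cfsg.Agent.Lib.Helper21.plength_add (pPrimeCore p G) hN hX
  simpa using this

end Cfsg.Agent.Lib.Helper21.GYen
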