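import Mathlib
import Cfsg.Prelude.Def_HallClasses
import Cfsg.Agent.S0799
import Cfsg.Agent.Lib.helper6.PSL2Index
import Cfsg.Agent.Lib.helper6.SylowPSL

set_option autoImplicit false
open Cfsg

namespace Cfsg.Agent.Lib.Helper21.HallPSL

theorem hdiv_lemma (l : ℕ) (hl : 3 ≤ l) (m : ℕ) (hm : 2 * m = (l - 1) * (l + 1)) (n : ℕ)
    (hn : n ∣ m) (hn1 : n % l = 1) : n = 1 ∨ n = l + 1 := by
  by_cases h1 : n = 1
  · left; exact h1
  right
  obtain ⟨c, hc⟩ := hn
  have hmpos : 0 < m := by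
    have : 0 < (l - 1) * (l + 1) := Nat.mul_pos (by omega) (by omega)
    omega
  have hcpos : 0 < c := by
    rcases Nat.eq_zero_or_pos c with h | h
    · rw [h, mul_zero] at hc; omega
    · exact h
  have hnl : l + 1 ≤ n := by
    have h2 := Nat.div_add_mod n l
    rw [hn1] at h2
    have h3 : n / l ≠ 0 := by
      intro h
      rw [h, mul_zero, zero_add] at h2
      exact h1 h2.symm
    have h4 : 1 ≤ n / l := Nat.one_le_iff_ne_zero.mpr h3
    nlinarith
  have hmod : (2 * c) % l = l - 1 := by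
    have h2 : (2 * c * n) % l = ((l - 1) * (l + 1)) % l := by
      rw [← hm, hc]; ring_nf
    have h3 : (2 * c * n) % l = (2 * c) % l := by
      rw [Nat.mul_mod, hn1, mul_one, Nat.mod_mod]
    have h4 : ((l - 1) * (l + 1)) % l = l - 1 := by
      have : (l - 1) * (l + 1) = (l - 1) * l + (l - 1) := by ring
      rw [this, Nat.mul_add_mod', Nat.mod_eq_of_lt (by omega)]
    rw [← h3, h2, h4]
  have h2c : l - 1 ≤ 2 * c := by
    rw [← hmod]; exact Nat.mod_le _ _
  have hle : n ≤ l + 1 := by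
    have h2 : (l - 1) * n ≤ (l - 1) * (l + 1) := by
      calc (l - 1) * n ≤ (2 * c) * n := Nat.mul_le_mul_right n h2c
        _ = 2 * m := by rw [hc]; ring
        _ = (l - 1) * (l + 1) := hm
    exact Nat.le_of_mul_le_mul_left h2 (by omega)
  omega

section PSL

variable (l : ℕ) [hl : Fact l.Prime]

theorem two_mul_card_psl (hl5 : 5 ≤ l) :
    2 * Nat.card (Matrix.ProjectiveSpecialLinearGroup (Fin 2) (ZMod l)) = l * (l - 1) * (l + 1) := by
  have h1 := Cfsg.Agent.Lib.helper6.PSL2Index.card_PSL2_mul (F := ZMod l)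
  rw [ZMod.card] at h1
  have hodd : Odd l := hl.out.odd_of_ne_two (by omega)
  have hg : Nat.gcd 2 (l - 1) = 2 := by
    obtain ⟨k, hk⟩ := hodd
    have : l - 1 = 2 * k := by omega
    rw [this]
    simp
  rw [hg, Cfsg.Agent.Lib.helper6.PSL2Index.sq_sub_one_eq l (by omega)] at h1
  rw [mul_comm, h1]; ring

theorem psl_simple (hl5 : 5 ≤ l) :
    IsSimpleGroup (Matrix.ProjectiveSpecialLinearGroup (Fin 2) (ZMod l)) :=
  Matrix.ProjectiveSpecialLinearGroup.rank_two_simple (by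
    rw [Nat.card_eq_fintype_card, ZMod.card]; omega)

theorem two_mul_card_normalizer (hl5 : 5 ≤ l)
    (P : Sylow l (Matrix.ProjectiveSpecialLinearGroup (Fin 2) (ZMod l))) :
    2 * Nat.card (Subgroup.normalizer
      ((P : Subgroup (Matrix.ProjectiveSpecialLinearGroup (Fin 2) (ZMod l))) :
        Set (Matrix.ProjectiveSpecialLinearGroup (Fin 2) (ZMod l)))) = l * (l - 1) := by
  haveI := psl_simple l hl5
  have hcard := two_mul_card_psl l hl5
  have hodd : Odd l := hl.out.odd_of_ne_two (by omega)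
  obtain ⟨k, hk⟩ := hodd
  obtain ⟨m, hm⟩ : ∃ m, 2 * m = (l - 1) * (l + 1) := ⟨k * (l + 1), by
    have : l - 1 = 2 * k := by omega
    rw [this]; ring⟩
  have hG : Nat.card (Matrix.ProjectiveSpecialLinearGroup (Fin 2) (ZMod l)) = l * m := by
    have h1 : 2 * Nat.card (Matrix.ProjectiveSpecialLinearGroup (Fin 2) (ZMod l)) = 2 * (l * m) := by
      rw [hcard, mul_assoc, ← hm]; ring
    omega
  have hpm : ¬ l ∣ m := by
    intro h
    have h1 : l ∣ (l - 1) * (l + 1) := by rw [← hm]; exact h.trans (dvd_mul_left _ _)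
    rcases (Nat.Prime.dvd_mul hl.out).mp h1 with h | h
    · have := Nat.le_of_dvd (by omega) h
      omega
    · have h5 : l ∣ 1 := (Nat.dvd_add_right (dvd_refl l)).mp h
      have := Nat.le_of_dvd (by norm_num) h5
      omega
  have hm1 : 1 < m := by
    have : 4 * 6 ≤ (l - 1) * (l + 1) := Nat.mul_le_mul (by omega) (by omega)
    omega
  have hcount := Cfsg.Agent.Lib.helper6.SylowPSL.sylow_count l m hG hpm hm1
    (fun n hn hn1 => hdiv_lemma l (by omega) m hm n hn hn1)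
  rw [P.card_eq_index_normalizer] at hcount
  have hcount' : (Subgroup.normalizer
      ((P : Subgroup (Matrix.ProjectiveSpecialLinearGroup (Fin 2) (ZMod l))) :
        Set (Matrix.ProjectiveSpecialLinearGroup (Fin 2) (ZMod l)))).index = l + 1 := hcount
  have h2 := Subgroup.card_mul_index (Subgroup.normalizer
      ((P : Subgroup (Matrix.ProjectiveSpecialLinearGroup (Fin 2) (ZMod l))) :
        Set (Matrix.ProjectiveSpecialLinearGroup (Fin 2) (ZMod l))))
  rw [hcount', hG] at h2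
  have h3 : (2 * Nat.card (Subgroup.normalizer
      ((P : Subgroup (Matrix.ProjectiveSpecialLinearGroup (Fin 2) (ZMod l))) :
        Set (Matrix.ProjectiveSpecialLinearGroup (Fin 2) (ZMod l))))) * (l + 1) =
      (l * (l - 1)) * (l + 1) := by
    calc _ = 2 * (l * m) := by rw [← h2]; ring
      _ = l * (2 * m) := by ring
      _ = _ := by rw [hm]; ring
  exact Nat.eq_of_mul_eq_mul_right (by omega) h3

theorem card_cases (hl5 : 5 ≤ l)
    (H : Subgroup (Matrix.ProjectiveSpecialLinearGroup (Fin 2) (ZMod l))) :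
    Nat.card H ∣ l + 1 ∨ Nat.card H ∣ l - 1 ∨ Nat.card H ∣ l * (l - 1) ∨ Nat.card H ∣ 120 ∨
      H = ⊤ := by
  have hodd : Odd l := hl.out.odd_of_ne_two (by omega)
  obtain ⟨k₀, hk₀⟩ := hodd
  have hg : Nat.gcd 2 (l - 1) = 2 := by
    have : l - 1 = 2 * k₀ := by omega
    rw [this]
    simp
  have h2p : 2 ∣ l + 1 := ⟨k₀ + 1, by omega⟩
  have h2m : 2 ∣ l - 1 := ⟨k₀, by omega⟩
  rcases Cfsg.Agent.S0799.result (F := ZMod l) (q := l) (ZMod.card l) l H with
    h | h | h | h | h | h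
  · obtain ⟨k, hk, hH⟩ := h
    rw [hg] at hk
    rcases hH with ⟨_, hHk⟩ | ⟨⟨e⟩⟩
    · rcases hk with hk | hk
      · left; rw [hHk]; exact hk.trans (Nat.div_dvd_of_dvd h2p)
      · right; left; rw [hHk]; exact hk.trans (Nat.div_dvd_of_dvd h2m)
    · have hc : Nat.card H = 2 * k := by rw [Nat.card_congr e.toEquiv, DihedralGroup.nat_card]
      rcases hk with hk | hk
      · left
        rw [hc, ← Nat.mul_div_cancel' h2p]
        exact Nat.mul_dvd_mul_left 2 hk
      · right; left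
        rw [hc, ← Nat.mul_div_cancel' h2m]
        exact Nat.mul_dvd_mul_left 2 hk
  · obtain ⟨P, K, hK, ⟨e⟩⟩ := h
    right; right; left
    rw [Nat.card_congr e.toEquiv]
    refine (Subgroup.card_dvd_of_le hK).trans ?_
    exact ⟨2, by rw [← two_mul_card_normalizer l hl5 P]; ring⟩
  · obtain ⟨e⟩ := h
    right; right; right; left
    rw [Nat.card_congr e.toEquiv, nat_card_alternatingGroup, Nat.card_eq_fintype_card,
      Fintype.card_fin]
    decide
  · obtain ⟨e⟩ := h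
    right; right; right; left
    rw [Nat.card_congr e.toEquiv, Nat.card_perm, Nat.card_eq_fintype_card, Fintype.card_fin]
    decide
  · obtain ⟨e⟩ := h
    right; right; right; left
    rw [Nat.card_congr e.toEquiv, nat_card_alternatingGroup, Nat.card_eq_fintype_card,
      Fintype.card_fin]
    decide
  · obtain ⟨K, instK, instF, m, hKm, hH⟩ := h
    right; right; right; right
    obtain ⟨hKl, -⟩ := (Nat.Prime.pow_eq_iff hl.out).mp hKm
    have hcard := two_mul_card_psl l hl5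
    rcases hH with ⟨⟨e⟩⟩ | ⟨⟨e⟩⟩
    · have h1 := Cfsg.Agent.Lib.helper6.PSL2Index.card_PSL2_mul (F := K)
      rw [hKl, hg, Cfsg.Agent.Lib.helper6.PSL2Index.sq_sub_one_eq l (by omega)] at h1
      rw [← Nat.card_congr e.toEquiv] at h1
      apply (Subgroup.card_eq_iff_eq_top H).mp
      have : 2 * Nat.card H = 2 * Nat.card (Matrix.ProjectiveSpecialLinearGroup (Fin 2) (ZMod l)) := by
        rw [hcard, mul_comm, h1]; ring
      omega
    · exfalso
      have h1 := Cfsg.Agent.Lib.helper6.PSL2Index.card_PGL2 (F := K)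
      rw [hKl, Cfsg.Agent.Lib.helper6.PSL2Index.sq_sub_one_eq l (by omega)] at h1
      rw [← Nat.card_congr e.toEquiv] at h1
      have h2 : Nat.card H ≤ Nat.card (Matrix.ProjectiveSpecialLinearGroup (Fin 2) (ZMod l)) :=
        Nat.le_of_dvd Nat.card_pos (Subgroup.card_subgroup_dvd_card H)
      have h3 : Nat.card H = 2 * Nat.card (Matrix.ProjectiveSpecialLinearGroup (Fin 2) (ZMod l)) := by
        rw [hcard, h1]; ring
      have h4 : 0 < Nat.card (Matrix.ProjectiveSpecialLinearGroup (Fin 2) (ZMod l)) := Nat.card_pos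
      omega

end PSL

theorem exists_prime_cong (A B : ℕ) (hA : 0 < A) (hB : 0 < B) (hAB : A.Coprime B) (n : ℕ) :
    ∃ l > n, l.Prime ∧ A ∣ l - 1 ∧ B ∣ l + 1 := by
  obtain ⟨k, hk1, hk2⟩ := Nat.chineseRemainder hAB 1 (B - 1)
  have hcop : k.Coprime (A * B) := by
    apply Nat.Coprime.mul_right
    · have h1 := hk1.gcd_eq
      rw [Nat.Coprime, h1]
      exact Nat.gcd_one_left A
    · have h1 := hk2.gcd_eq
      rw [Nat.Coprime, h1]
      obtain ⟨b, rfl⟩ : ∃ b, B = b + 1 := ⟨B - 1, by omega⟩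
      simp
  obtain ⟨l, hln, hlp, hl⟩ := Nat.forall_exists_prime_gt_and_modEq n
    (q := A * B) (a := k) (Nat.mul_pos hA hB).ne' hcop
  refine ⟨l, hln, hlp, ?_, ?_⟩
  · have h1 : l ≡ 1 [MOD A] := (hl.of_mul_right B).trans hk1
    exact (Nat.modEq_iff_dvd' hlp.one_lt.le).mp h1.symm
  · have h1 : l ≡ B - 1 [MOD B] := (hl.of_mul_left A).trans hk2
    have h2 : l + 1 ≡ B - 1 + 1 [MOD B] := h1.add_right 1
    rw [Nat.sub_add_cancel hB] at h2
    exact (Nat.modEq_zero_iff_dvd).mp (h2.trans (Nat.modEq_zero_iff_dvd.mpr (dvd_refl B)))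

theorem pow_dvd_card_of_hall {G : Type*} [Group G] [Finite G] {π : Set ℕ} {H : Subgroup G}
    (hH : IsPiHall π H) {p k : ℕ} (hp : p.Prime) (hpπ : p ∈ π) (hk : p ^ k ∣ Nat.card G) :
    p ^ k ∣ Nat.card H := by
  rw [← Subgroup.card_mul_index H] at hk
  have hcop : Nat.Coprime (p ^ k) H.index :=
    Nat.Coprime.pow_left k ((Nat.Prime.coprime_iff_not_dvd hp).mpr (hH.2 p hp hpπ))
  exact hcop.dvd_of_dvd_mul_right hk

theorem dvd_two_of_dvd {d l : ℕ} (hl : 1 ≤ l) (h1 : d ∣ l - 1) (h2 : d ∣ l + 1) : d ∣ 2 := by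
  have h3 := Nat.dvd_sub h2 h1
  have h4 : l + 1 - (l - 1) = 2 := by omega
  rwa [h4] at h3

theorem not_dvd_mul_pred {q l : ℕ} (hq : q.Prime) (hq2 : q ≠ 2) (hl : l.Prime)
    (hB : q ^ 2 ∣ l + 1) : ¬ q ∣ l * (l - 1) := by
  intro h
  have hq1 : q ∣ l + 1 := (dvd_pow_self q two_ne_zero).trans hB
  rcases (Nat.Prime.dvd_mul hq).mp h with h | h
  · have h1 : q = l := (Nat.prime_dvd_prime_iff_eq hq hl).mp h
    rw [h1] at hq1
    have h2 : l ∣ 1 := (Nat.dvd_add_right (dvd_refl l)).mp hq1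
    exact hl.one_lt.ne' (Nat.dvd_one.mp h2)
  · have h1 := dvd_two_of_dvd hl.one_lt.le h hq1
    exact hq2 ((Nat.prime_dvd_prime_iff_eq hq Nat.prime_two).mp h1)

theorem no_hall_odd (π : Set ℕ) (p q : ℕ) (hp : p.Prime) (hq : q.Prime) (hpq : p ≠ q)
    (hp2 : p ≠ 2) (hq2 : q ≠ 2) (hpπ : p ∈ π) (hqπ : q ∈ π) (h2 : 2 ∉ π) :
    ∃ (G : Type) (_ : Group G) (_ : Finite G), ¬ IsEPiGroup π G := by
  have hcop : (p ^ 2).Coprime (q ^ 2) :=
    Nat.Coprime.pow 2 2 ((Nat.coprime_primes hp hq).mpr hpq)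
  obtain ⟨l, hl5, hlp, hA, hB⟩ := exists_prime_cong (p ^ 2) (q ^ 2) (pow_pos hp.pos 2)
    (pow_pos hq.pos 2) hcop 5
  haveI : Fact l.Prime := ⟨hlp⟩
  refine ⟨Matrix.ProjectiveSpecialLinearGroup (Fin 2) (ZMod l), inferInstance, inferInstance, ?_⟩
  rintro ⟨H, hH⟩
  have hcard := two_mul_card_psl l (by omega)
  have hp1 : p ∣ l - 1 := (dvd_pow_self p two_ne_zero).trans hA
  have hq1 : q ∣ l + 1 := (dvd_pow_self q two_ne_zero).trans hB
  have hpG : p ^ 2 ∣ Nat.card (Matrix.ProjectiveSpecialLinearGroup (Fin 2) (ZMod l)) := by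
    have h1 : p ^ 2 ∣ 2 * Nat.card (Matrix.ProjectiveSpecialLinearGroup (Fin 2) (ZMod l)) := by
      rw [hcard]
      exact (hA.trans (dvd_mul_left _ _)).trans (dvd_mul_right _ _)
    have h3 : Nat.Coprime (p ^ 2) 2 :=
      Nat.Coprime.pow_left 2 ((Nat.coprime_primes hp Nat.prime_two).mpr hp2)
    exact h3.dvd_of_dvd_mul_left h1
  have hqG : q ^ 2 ∣ Nat.card (Matrix.ProjectiveSpecialLinearGroup (Fin 2) (ZMod l)) := by
    have h1 : q ^ 2 ∣ 2 * Nat.card (Matrix.ProjectiveSpecialLinearGroup (Fin 2) (ZMod l)) := by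
      rw [hcard]
      exact hB.trans (dvd_mul_left _ _)
    have h3 : Nat.Coprime (q ^ 2) 2 :=
      Nat.Coprime.pow_left 2 ((Nat.coprime_primes hq Nat.prime_two).mpr hq2)
    exact h3.dvd_of_dvd_mul_left h1
  have hpH := pow_dvd_card_of_hall hH hp hpπ hpG
  have hqH := pow_dvd_card_of_hall hH hq hqπ hqG
  have hpH1 : p ∣ Nat.card H := (dvd_pow_self p two_ne_zero).trans hpH
  have hqH1 : q ∣ Nat.card H := (dvd_pow_self q two_ne_zero).trans hqH
  rcases card_cases l (by omega) H with h | h | h | h | h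
  · have h1 := dvd_two_of_dvd hlp.one_lt.le hp1 (hpH1.trans h)
    exact hp2 ((Nat.prime_dvd_prime_iff_eq hp Nat.prime_two).mp h1)
  · have h1 := dvd_two_of_dvd hlp.one_lt.le (hqH1.trans h) hq1
    exact hq2 ((Nat.prime_dvd_prime_iff_eq hq Nat.prime_two).mp h1)
  · exact not_dvd_mul_pred hq hq2 hlp hB (hqH1.trans h)
  · have h1 : p ^ 2 ∣ 120 := hpH.trans h
    have h2 : p ∣ 8 * 15 := (dvd_pow_self p two_ne_zero).trans h1
    rcases (Nat.Prime.dvd_mul hp).mp h2 with h3 | h3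
    · have h4 : p ∣ 2 := hp.dvd_of_dvd_pow (show p ∣ 2 ^ 3 from h3)
      exact hp2 ((Nat.prime_dvd_prime_iff_eq hp Nat.prime_two).mp h4)
    · rcases (Nat.Prime.dvd_mul hp).mp (show p ∣ 3 * 5 from h3) with h4 | h4
      · have h5 := (Nat.prime_dvd_prime_iff_eq hp Nat.prime_three).mp h4
        rw [h5] at h1
        exact absurd h1 (by decide)
      · have h5 := (Nat.prime_dvd_prime_iff_eq hp Nat.prime_five).mp h4
        rw [h5] at h1
        exact absurd h1 (by decide)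
  · apply h2
    apply hH.1 2 Nat.prime_two
    rw [h, Subgroup.card_top]
    have hodd : Odd l := hlp.odd_of_ne_two (by omega)
    obtain ⟨k, hk⟩ := hodd
    have h3 : 2 * Nat.card (Matrix.ProjectiveSpecialLinearGroup (Fin 2) (ZMod l)) =
        2 * (2 * (l * k * (k + 1))) := by
      rw [hcard]
      have : l - 1 = 2 * k := by omega
      rw [this, hk]; ring
    exact ⟨l * k * (k + 1), by omega⟩

theorem no_hall_even (π : Set ℕ) (q r : ℕ) (hq : q.Prime) (hr : r.Prime) (hq2 : q ≠ 2)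
    (h2π : 2 ∈ π) (hqπ : q ∈ π) (hrπ : r ∉ π) :
    ∃ (G : Type) (_ : Group G) (_ : Finite G), ¬ IsEPiGroup π G := by
  have hr2 : r ≠ 2 := fun h => hrπ (h ▸ h2π)
  have hrq : r ≠ q := fun h => hrπ (h ▸ hqπ)
  have hcop : (16 * r).Coprime (q ^ 2) := by
    apply Nat.Coprime.pow_right
    apply Nat.Coprime.mul_left
    · exact Nat.Coprime.pow_left 4 ((Nat.coprime_primes Nat.prime_two hq).mpr (Ne.symm hq2))
    · exact (Nat.coprime_primes hr hq).mpr hrq
  obtain ⟨l, hl5, hlp, hA, hB⟩ := exists_prime_cong (16 * r) (q ^ 2)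
    (Nat.mul_pos (by norm_num) hr.pos) (pow_pos hq.pos 2) hcop 5
  haveI : Fact l.Prime := ⟨hlp⟩
  refine ⟨Matrix.ProjectiveSpecialLinearGroup (Fin 2) (ZMod l), inferInstance, inferInstance, ?_⟩
  rintro ⟨H, hH⟩
  have hcard := two_mul_card_psl l (by omega)
  have h16 : 16 ∣ l - 1 := (dvd_mul_right 16 r).trans hA
  have hr1 : r ∣ l - 1 := (dvd_mul_left r 16).trans hA
  have hq1 : q ∣ l + 1 := (dvd_pow_self q two_ne_zero).trans hB
  have h16G : 2 ^ 4 ∣ Nat.card (Matrix.ProjectiveSpecialLinearGroup (Fin 2) (ZMod l)) := by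
    obtain ⟨a, ha⟩ := h16
    have hodd : Odd l := hlp.odd_of_ne_two (by omega)
    obtain ⟨k, hk⟩ := hodd
    have h3 : 2 * Nat.card (Matrix.ProjectiveSpecialLinearGroup (Fin 2) (ZMod l)) =
        2 * (16 * (l * a * (k + 1))) := by
      rw [hcard, ha, hk]; ring
    exact ⟨l * a * (k + 1), by omega⟩
  have hqG : q ^ 2 ∣ Nat.card (Matrix.ProjectiveSpecialLinearGroup (Fin 2) (ZMod l)) := by
    have h1 : q ^ 2 ∣ 2 * Nat.card (Matrix.ProjectiveSpecialLinearGroup (Fin 2) (ZMod l)) := by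
      rw [hcard]
      exact hB.trans (dvd_mul_left _ _)
    have h3 : Nat.Coprime (q ^ 2) 2 :=
      Nat.Coprime.pow_left 2 ((Nat.coprime_primes hq Nat.prime_two).mpr hq2)
    exact h3.dvd_of_dvd_mul_left h1
  have h2H := pow_dvd_card_of_hall hH Nat.prime_two h2π h16G
  have hqH := pow_dvd_card_of_hall hH hq hqπ hqG
  have hqH1 : q ∣ Nat.card H := (dvd_pow_self q two_ne_zero).trans hqH
  rcases card_cases l (by omega) H with h | h | h | h | h
  · have h1 := dvd_two_of_dvd hlp.one_lt.le h16 ((show 16 ∣ Nat.card H from h2H).trans h)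
    exact absurd h1 (by decide)
  · have h1 := dvd_two_of_dvd hlp.one_lt.le (hqH1.trans h) hq1
    exact hq2 ((Nat.prime_dvd_prime_iff_eq hq Nat.prime_two).mp h1)
  · exact not_dvd_mul_pred hq hq2 hlp hB (hqH1.trans h)
  · have h1 : 16 ∣ 120 := (show 16 ∣ Nat.card H from h2H).trans h
    exact absurd h1 (by decide)
  · apply hrπ
    apply hH.1 r hr
    rw [h, Subgroup.card_top]
    have h1 : r ∣ 2 * Nat.card (Matrix.ProjectiveSpecialLinearGroup (Fin 2) (ZMod l)) := by
      rw [hcard]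
      exact (hr1.trans (dvd_mul_left _ _)).trans (dvd_mul_right _ _)
    exact ((Nat.coprime_primes hr Nat.prime_two).mpr hr2).dvd_of_dvd_mul_left h1

end Cfsg.Agent.Lib.Helper21.HallPSL
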