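import Mathlib
import Cfsg.Agent.Lib.Helper1.Hig.Basic

/-!
# Hig-O3 (project S3050): elements of order 3 in `SL₂(F)`, `F` finite of characteristic 2,
are conjugate to `g1 F = uu 1 * ll 1`
-/

set_option autoImplicit false

namespace Cfsg.Agent.Lib.Helper21.Hig

universe u

open Matrix Cfsg.Agent.Lib.helper15.NatMod Cfsg.Agent.Lib.helper15.QS Cfsg.Agent.Lib.Helper1.Hig

lemma g1_coe_mat {F : Type u} [Field F] :
    ((g1 F : SpecialLinearGroup (Fin 2) F) : Matrix (Fin 2) (Fin 2) F) = !![2, 1; 1, 1] := by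
  show (!![1, 1; 0, 1] : Matrix (Fin 2) (Fin 2) F) * !![1, 0; 1, 1] = !![2, 1; 1, 1]
  rw [Matrix.mul_fin_two]
  norm_num

lemma mat2_eq {F : Type u} {x1 x2 x3 x4 y1 y2 y3 y4 : F} (h1 : x1 = y1) (h2 : x2 = y2)
    (h3 : x3 = y3) (h4 : x4 = y4) : !![x1, x2; x3, x4] = !![y1, y2; y3, y4] := by
  subst h1 h2 h3 h4; rfl

lemma conj_of_mat {F : Type u} [Field F] (g : SpecialLinearGroup (Fin 2) F)
    (P : Matrix (Fin 2) (Fin 2) F) (hP : P.det = 1)
    (hcomm : P * !![2, 1; 1, 1] = (g : Matrix (Fin 2) (Fin 2) F) * P) :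
    ∃ c : SpecialLinearGroup (Fin 2) F, c * g1 F * c⁻¹ = g := by
  obtain ⟨c, hc⟩ : ∃ c : SpecialLinearGroup (Fin 2) F,
      (c : Matrix (Fin 2) (Fin 2) F) = P := ⟨⟨P, hP⟩, rfl⟩
  refine ⟨c, ?_⟩
  rw [mul_inv_eq_iff_eq_mul]
  apply Subtype.ext
  show (c : Matrix (Fin 2) (Fin 2) F) *
      ((g1 F : SpecialLinearGroup (Fin 2) F) : Matrix (Fin 2) (Fin 2) F) =
    (g : Matrix (Fin 2) (Fin 2) F) * (c : Matrix (Fin 2) (Fin 2) F)
  rw [g1_coe_mat, hc]
  exact hcomm

theorem order_three_conj {F : Type u} [Field F] [Fintype F] [CharP F 2]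
    (g : SpecialLinearGroup (Fin 2) F) (hg : orderOf g = 3) :
    ∃ c : SpecialLinearGroup (Fin 2) F, c * g1 F * c⁻¹ = g := by
  have h2 : (2 : F) = 0 := CharTwo.two_eq_zero
  have hg3 : g ^ 3 = 1 := by rw [← hg]; exact pow_orderOf_eq_one g
  have hg1 : g ≠ 1 := by
    intro h; rw [h, orderOf_one] at hg; omega
  obtain ⟨a, b, c, d, hM⟩ : ∃ a b c d : F, (g : Matrix (Fin 2) (Fin 2) F) = !![a, b; c, d] :=
    ⟨_, _, _, _, Matrix.eta_fin_two _⟩
  have hdet : a * d - b * c = 1 := by
    have := g.2
    rw [hM, Matrix.det_fin_two_of] at this; exact this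
  have h3 : (!![a, b; c, d] * !![a, b; c, d]) * !![a, b; c, d] =
      (1 : Matrix (Fin 2) (Fin 2) F) := by
    have := congrArg (fun x : SpecialLinearGroup (Fin 2) F => (x : Matrix (Fin 2) (Fin 2) F)) hg3
    simp only [pow_succ, pow_zero, one_mul] at this
    rw [← hM]
    exact this
  rw [Matrix.mul_fin_two, Matrix.mul_fin_two, Matrix.one_fin_two] at h3
  have E00 : (a * a + b * c) * a + (a * b + b * d) * c = 1 := by
    have := congrFun (congrFun h3 0) 0; simpa using this
  have E01 : (a * a + b * c) * b + (a * b + b * d) * d = 0 := by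
    have := congrFun (congrFun h3 0) 1; simpa using this
  have E10 : (c * a + d * c) * a + (c * b + d * d) * c = 0 := by
    have := congrFun (congrFun h3 1) 0; simpa using this
  have E11 : (c * a + d * c) * b + (c * b + d * d) * d = 1 := by
    have := congrFun (congrFun h3 1) 1; simpa using this
  have hA : a * (a + d) ^ 2 + d + 1 = 0 := by
    linear_combination E00 + d * hdet + (a ^ 2 * d - a * b * c + d + 1) * h2
  have hB : d * (a + d) ^ 2 + a + 1 = 0 := by
    linear_combination E11 + a * hdet + (d ^ 2 * a - d * b * c + a + 1) * h2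
  have ht : (a + d) * (a + d + 1) ^ 2 = 0 := by
    linear_combination hA + hB + ((a + d) ^ 2 - 1) * h2
  have hT : a + d = 1 := by
    rcases mul_eq_zero.mp ht with h0 | h1
    · exfalso
      have hd : d = 1 := by linear_combination hA - a * (a + d) * h0 - h2
      have ha : a = 1 := by linear_combination hB - d * (a + d) * h0 - h2
      subst hd ha
      have hbc : b * c = 0 := by linear_combination -hdet
      have hb : b = 0 := by linear_combination E01 - b * hbc - b * h2
      have hc : c = 0 := by linear_combination E10 - c * hbc - c * h2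
      subst hb hc
      apply hg1
      apply Subtype.ext
      show (g : Matrix (Fin 2) (Fin 2) F) = (1 : Matrix (Fin 2) (Fin 2) F)
      rw [hM, Matrix.one_fin_two]
    · have h1' := (pow_eq_zero_iff (by norm_num : (2 : ℕ) ≠ 0)).mp h1
      linear_combination h1' - h2
  by_cases hc : c = 0
  · by_cases hb : b = 0
    · subst hb hc
      refine conj_of_mat g !![1, a; 1, d] ?_ ?_
      · rw [Matrix.det_fin_two_of]; linear_combination hT - a * h2
      · rw [hM, Matrix.mul_fin_two, Matrix.mul_fin_two]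
        refine mat2_eq ?_ ?_ ?_ ?_
        · linear_combination h2
        · linear_combination h2 - a * hT + hdet
        · linear_combination h2
        · linear_combination h2 - d * hT + hdet
    · obtain ⟨s, hs⟩ := exists_sq (b⁻¹)
      have hsb : s ^ 2 * b = 1 := by rw [hs, inv_mul_cancel₀ hb]
      refine conj_of_mat g !![0, s * b; s, s * d] ?_ ?_
      · rw [Matrix.det_fin_two_of]; linear_combination -hsb - h2
      · rw [hM, Matrix.mul_fin_two, Matrix.mul_fin_two]
        refine mat2_eq ?_ ?_ ?_ ?_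
        · ring
        · linear_combination (-s * b) * hT
        · linear_combination s * h2
        · linear_combination s * h2 - s * d * hT + s * hdet
  · obtain ⟨s, hs⟩ := exists_sq (c⁻¹)
    have hsc : s ^ 2 * c = 1 := by rw [hs, inv_mul_cancel₀ hc]
    refine conj_of_mat g !![s, s * a; 0, s * c] ?_ ?_
    · rw [Matrix.det_fin_two_of]; linear_combination hsc
    · rw [hM, Matrix.mul_fin_two, Matrix.mul_fin_two]
      refine mat2_eq ?_ ?_ ?_ ?_
      · linear_combination s * h2
      · linear_combination s * h2 - s * a * hT + s * hdet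
      · ring
      · linear_combination (-s * c) * hT

end Cfsg.Agent.Lib.Helper21.Hig
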