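import Mathlib

set_option autoImplicit false

namespace Cfsg.Agent.Lib.Helper21

open Polynomial

/-- An irreducible operator of prime order `p` on a finite-dimensional space over `ZMod q`
(`q ≠ p` primes), not the identity, acts on a space of dimension the order of `q` mod `p`. -/
theorem finrank_eq_orderOf_of_irreducible {q p : ℕ} [hq : Fact q.Prime] [hp : Fact p.Prime]
    (hqp : q ≠ p) {V : Type*} [AddCommGroup V] [Module (ZMod q) V] [Module.Finite (ZMod q) V]
    (f : V →ₗ[ZMod q] V) (hfp : f ^ p = 1) (hf1 : f ≠ 1)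
    (hirr : ∀ W : Submodule (ZMod q) V, (∀ v ∈ W, f v ∈ W) → W = ⊥ ∨ W = ⊤) :
    Module.finrank (ZMod q) V = orderOf (q : ZMod p) := by
  classical
  haveI : Nontrivial V := by
    by_contra hnt
    rw [not_nontrivial_iff_subsingleton] at hnt
    apply hf1
    ext v
    exact Subsingleton.elim _ _
  haveI : Nontrivial (Module.AEval' f) := (Module.AEval'.of f).toEquiv.symm.nontrivial
  have hs : IsSimpleModule (ZMod q)[X] (Module.AEval' f) := by
    rw [isSimpleModule_iff]
    refine ⟨fun N => ?_⟩
    have hW : ∀ v ∈ ((Module.AEval.mapSubmodule (ZMod q) V f).symm N : Submodule (ZMod q) V),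
        f v ∈ ((Module.AEval.mapSubmodule (ZMod q) V f).symm N : Submodule (ZMod q) V) := by
      intro v hv
      rw [Module.AEval.mem_mapSubmodule_symm_apply] at hv ⊢
      have := N.smul_mem (X : (ZMod q)[X]) hv
      rwa [Module.AEval.X_smul_of] at this
    rcases hirr _ hW with h | h
    · left
      rw [eq_bot_iff]
      intro m hm
      have h1 : (Module.AEval.of (ZMod q) V f).symm m ∈
          ((Module.AEval.mapSubmodule (ZMod q) V f).symm N : Submodule (ZMod q) V) := by
        rw [Module.AEval.mem_mapSubmodule_symm_apply]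
        simpa using hm
      rw [h, Submodule.mem_bot] at h1
      rw [Submodule.mem_bot]
      simpa using h1
    · right
      rw [eq_top_iff]
      intro m _
      have h1 : (Module.AEval.of (ZMod q) V f).symm m ∈
          ((Module.AEval.mapSubmodule (ZMod q) V f).symm N : Submodule (ZMod q) V) := by
        rw [h]; exact Submodule.mem_top
      rw [Module.AEval.mem_mapSubmodule_symm_apply] at h1
      simpa using h1
  obtain ⟨I, hI, ⟨e⟩⟩ := isSimpleModule_iff_quot_maximal.mp hs
  obtain ⟨m, rfl⟩ : ∃ m : (ZMod q)[X], I = Ideal.span {m} :=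
    (IsPrincipalIdealRing.principal I).principal
  -- dimension
  have hdim : Module.finrank (ZMod q) V = m.natDegree := by
    rw [← finrank_quotient_span_eq_natDegree (f := m)]
    rw [(Module.AEval'.of f).finrank_eq]
    exact (e.restrictScalars (ZMod q)).finrank_eq
  have hpos : 0 < Module.finrank (ZMod q) V := Module.finrank_pos
  have hm0 : m ≠ 0 := by
    rintro rfl
    rw [hdim, natDegree_zero] at hpos
    exact lt_irrefl _ hpos
  have hmirr : Irreducible m :=
    ((Ideal.span_singleton_prime hm0).mp hI.isPrime).irreducible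
  -- annihilation
  have hann : ∀ (g : (ZMod q)[X]), (∀ y : Module.AEval' f, g • y = 0) → m ∣ g := by
    intro g hg
    have h1 := hg (e.symm (Ideal.Quotient.mk _ 1))
    have h2 : e (g • e.symm (Ideal.Quotient.mk _ 1)) = 0 := by rw [h1, map_zero]
    rw [map_smul, LinearEquiv.apply_symm_apply] at h2
    have h3 : Ideal.Quotient.mk (Ideal.span {m}) g = 0 := by
      rw [← h2]
      have : g • (Ideal.Quotient.mk (Ideal.span {m}) 1) = Ideal.Quotient.mk (Ideal.span {m}) (g * 1) := rfl
      rw [this, mul_one]
    rw [Ideal.Quotient.eq_zero_iff_mem, Ideal.mem_span_singleton] at h3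
    exact h3
  have hann' : ∀ (g : (ZMod q)[X]), m ∣ g → ∀ y : Module.AEval' f, g • y = 0 := by
    intro g hg y
    have h1 : g • e y = 0 := by
      obtain ⟨r, hr⟩ := Ideal.Quotient.mk_surjective (e y)
      rw [← hr]
      have : g • (Ideal.Quotient.mk (Ideal.span {m}) r) = Ideal.Quotient.mk (Ideal.span {m}) (g * r) := rfl
      rw [this, Ideal.Quotient.eq_zero_iff_mem, Ideal.mem_span_singleton]
      exact dvd_mul_of_dvd_left hg r
    have h2 : e (g • y) = 0 := by rw [map_smul, h1]
    exact e.map_eq_zero_iff.mp h2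
  have hdvd1 : m ∣ X ^ p - 1 := by
    apply hann
    intro y
    obtain ⟨v, rfl⟩ := (Module.AEval'.of f).surjective y
    rw [sub_smul, one_smul, Module.AEval'.X_pow_smul_of, hfp]
    simp
  have hndvd : ¬ m ∣ X - 1 := by
    intro h
    apply hf1
    ext v
    have := hann' _ h (Module.AEval'.of f v)
    rw [sub_smul, one_smul, Module.AEval'.X_smul_of, ← map_sub, LinearEquiv.map_eq_zero_iff,
      sub_eq_zero] at this
    simpa using this
  have hcyc : m ∣ cyclotomic p (ZMod q) := by
    rw [← cyclotomic_prime_mul_X_sub_one (ZMod q) p] at hdvd1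
    rcases (hmirr.prime.dvd_mul).mp hdvd1 with h | h
    · exact h
    · exact absurd h hndvd
  have hcop : q.Coprime p := (Nat.coprime_primes hq.out hp.out).mpr hqp
  have hcard : Fintype.card (ZMod q) = q ^ 1 := by rw [ZMod.card, pow_one]
  have hdeg := natDegree_of_dvd_cyclotomic_of_irreducible hcard hcop hcyc hmirr
  rw [hdim, hdeg, ← orderOf_units, ZMod.coe_unitOfCoprime]
  simp


/-- Additive group version. -/
theorem card_eq_of_irreducible_addHom {q p : ℕ} [hq : Fact q.Prime] [hp : Fact p.Prime]
    (hqp : q ≠ p) {V : Type*} [AddCommGroup V] [Module (ZMod q) V] [Finite V]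
    (ψ : V →+ V) (hψp : ∀ v, (ψ^[p]) v = v) (hψ1 : ∃ v, ψ v ≠ v)
    (hirr : ∀ B : AddSubgroup V, (∀ b ∈ B, ψ b ∈ B) → B = ⊥ ∨ B = ⊤) :
    Nat.card V = q ^ orderOf (q : ZMod p) := by
  classical
  haveI : Module.Finite (ZMod q) V := Module.Finite.of_finite
  have hfapp : ∀ v : V, (AddMonoidHom.toZModLinearMap q ψ) v = ψ v := fun v => rfl
  have hfiter : ∀ (n : ℕ) (v : V), ((AddMonoidHom.toZModLinearMap q ψ) ^ n) v = (ψ^[n]) v := by
    intro n
    induction n with
    | zero => intro v; simp
    | succ n ih =>
      intro v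
      rw [pow_succ', Module.End.mul_apply, ih, hfapp, Function.iterate_succ_apply']
  have hfp : (AddMonoidHom.toZModLinearMap q ψ) ^ p = 1 := by
    ext v
    rw [hfiter, hψp]; rfl
  have hf1 : (AddMonoidHom.toZModLinearMap q ψ) ≠ 1 := by
    intro h
    obtain ⟨v, hv⟩ := hψ1
    apply hv
    have := congrArg (fun g : V →ₗ[ZMod q] V => g v) h
    simpa [hfapp] using this
  have hirr' : ∀ W : Submodule (ZMod q) V,
      (∀ v ∈ W, (AddMonoidHom.toZModLinearMap q ψ) v ∈ W) → W = ⊥ ∨ W = ⊤ := by
    intro W hW
    rcases hirr W.toAddSubgroup (fun b hb => hW b hb) with h | h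
    · left
      rw [eq_bot_iff]
      intro v hv
      have : v ∈ W.toAddSubgroup := hv
      rw [h, AddSubgroup.mem_bot] at this
      rw [Submodule.mem_bot]; exact this
    · right
      rw [eq_top_iff]
      intro v _
      have : v ∈ W.toAddSubgroup := by rw [h]; exact AddSubgroup.mem_top _
      exact this
  have hdim := finrank_eq_orderOf_of_irreducible hqp _ hfp hf1 hirr'
  haveI : Fintype V := Fintype.ofFinite _
  have hcard := Module.card_eq_pow_finrank (K := ZMod q) (V := V)
  rw [ZMod.card, hdim, ← Nat.card_eq_fintype_card] at hcard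
  exact hcard

/-- Group version: an automorphism `φ` with `φ^p = 1`, `φ ≠ 1`, of a finite elementary abelian
`q`-group `T` without proper nontrivial `φ`-invariant subgroups: `|T| = q ^ (order of q mod p)`. -/
theorem card_eq_of_irreducible_aut {T : Type*} [CommGroup T] [Finite T] {q p : ℕ}
    [hq : Fact q.Prime] [hp : Fact p.Prime] (hqp : q ≠ p)
    (hT : ∀ t : T, t ^ q = 1) (φ : T →* T) (hφp : ∀ t, (φ^[p]) t = t) (hφ1 : ∃ t, φ t ≠ t)
    (hirr : ∀ B : Subgroup T, (∀ b ∈ B, φ b ∈ B) → B = ⊥ ∨ B = ⊤) :
    Nat.card T = q ^ orderOf (q : ZMod p) := by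
  have hmod : ∀ v : Additive T, q • v = 0 := by
    intro v
    show Additive.ofMul ((Additive.toMul v) ^ q) = 0
    rw [hT]; rfl
  have hiter : ∀ (n : ℕ) (t : T), ((MonoidHom.toAdditive φ)^[n]) (Additive.ofMul t) =
      Additive.ofMul ((φ^[n]) t) := by
    intro n
    induction n with
    | zero => intro t; rfl
    | succ n ih =>
      intro t
      rw [Function.iterate_succ_apply', ih, Function.iterate_succ_apply']
      rfl
  have key := @card_eq_of_irreducible_addHom q p hq hp hqp (Additive T) _
    (AddCommGroup.zmodModule (n := q) hmod) (inferInstanceAs (Finite T))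
    (MonoidHom.toAdditive φ)
    (by
      intro v
      obtain ⟨t, rfl⟩ : ∃ t : T, Additive.ofMul t = v := ⟨Additive.toMul v, rfl⟩
      rw [hiter, hφp])
    (by
      obtain ⟨t, ht⟩ := hφ1
      refine ⟨Additive.ofMul t, ?_⟩
      intro h
      exact ht (Additive.ofMul.injective h))
    (by
      intro B hB
      rcases hirr (AddSubgroup.toSubgroup' B) (fun b hb => hB _ hb) with h | h
      · left
        rw [eq_bot_iff]
        intro v hv
        have : Additive.toMul v ∈ AddSubgroup.toSubgroup' B := hv
        rw [h, Subgroup.mem_bot] at this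
        rw [AddSubgroup.mem_bot]
        exact congrArg Additive.ofMul this
      · right
        rw [eq_top_iff]
        intro v _
        have : Additive.toMul v ∈ AddSubgroup.toSubgroup' B := by rw [h]; exact Subgroup.mem_top _
        exact this)
  exact key

end Cfsg.Agent.Lib.Helper21
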