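import Mathlib
import Cfsg.Agent.Lib.Helper10.LW7.Defs

set_option autoImplicit false

namespace Cfsg.Agent.Lib.Helper21.LW8H2

open MulAction Equiv
open Cfsg.Agent.Lib.Helper10.LW7

variable {α : Type*} [Fintype α] [DecidableEq α]

theorem trans_of_alt_le {β : Type*} [Fintype β] [DecidableEq β] (hβ : 3 ≤ Fintype.card β)
    (L : Subgroup (Perm β)) (hL : alternatingGroup β ≤ L) (x y : β) : ∃ n ∈ L, n x = y := by
  by_cases hxy : x = y
  · exact ⟨1, L.one_mem, by rw [hxy]; rfl⟩
  · -- a third point
    have hcard : ({x, y} : Finset β).card < Fintype.card β := by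
      rw [Finset.card_pair hxy]; omega
    obtain ⟨z, hz⟩ : ∃ z, z ∉ ({x, y} : Finset β) := by
      by_contra hcon
      push Not at hcon
      have : ({x, y} : Finset β) = Finset.univ := Finset.eq_univ_iff_forall.mpr hcon
      rw [this, Finset.card_univ] at hcard
      exact lt_irrefl _ hcard
    rw [Finset.mem_insert, Finset.mem_singleton, not_or] at hz
    obtain ⟨hzx, hzy⟩ := hz
    refine ⟨swap x z * swap x y, hL ?_, ?_⟩
    · rw [Equiv.Perm.mem_alternatingGroup, Equiv.Perm.sign_mul, Equiv.Perm.sign_swap (Ne.symm hzx),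
        Equiv.Perm.sign_swap hxy]
      rfl
    · rw [Perm.mul_apply, swap_apply_left]
      exact swap_apply_of_ne_of_ne (Ne.symm hxy) (Ne.symm hzy)

end Cfsg.Agent.Lib.Helper21.LW8H2
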