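import Mathlib
import Cfsg.Agent.Lib.Helper10.LW7.Defs

set_option autoImplicit false

namespace Cfsg.Agent.Lib.Helper21.LW8H5a

open MulAction Equiv
open scoped Pointwise
open Cfsg.Agent.Lib.Helper10.LW7

variable {α : Type*} [Fintype α] [DecidableEq α]

omit [Fintype α] in
/-- under `k`-homogeneity every `k`-tuple of distinct points can be moved into a given `k`-set -/
theorem move_into (G : Subgroup (Perm α)) (k : ℕ)
    (hh : IsPretransitive G (Set.powersetCard α k)) (Δ : Finset α) (hΔ : Δ.card = k)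
    (x : Fin k ↪ α) : ∃ g : G, ∀ i, (g : Perm α) (x i) ∈ Δ := by
  have hsx : (Finset.univ.map x).card = k := by
    rw [Finset.card_map, Finset.card_univ, Fintype.card_fin]
  obtain ⟨g, hg⟩ := hh.exists_smul_eq
    (⟨Finset.univ.map x, Set.powersetCard.mem_iff.mpr hsx⟩ : Set.powersetCard α k)
    ⟨Δ, Set.powersetCard.mem_iff.mpr hΔ⟩
  have hg' : g • (Finset.univ.map x : Finset α) = Δ := by
    have := congrArg Subtype.val hg
    exact (Set.powersetCard.coe_smul (g := g)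
      (s := (⟨Finset.univ.map x, Set.powersetCard.mem_iff.mpr hsx⟩ :
        Set.powersetCard α k))).symm.trans this
  refine ⟨g, fun i => ?_⟩
  rw [← hg']
  exact Finset.smul_mem_smul_finset (Finset.mem_map_of_mem x (Finset.mem_univ i))

theorem trans_of_top (G : Subgroup (Perm α)) (k : ℕ)
    (hh : IsPretransitive G (Set.powersetCard α k)) (Δ : Finset α) (hΔ : Δ.card = k)
    (htop : induced G Δ = ⊤) : IsMultiplyPretransitive G α k := by
  refine ⟨fun x y => ?_⟩
  obtain ⟨g₁, h₁⟩ := move_into G k hh Δ hΔ x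
  obtain ⟨g₂, h₂⟩ := move_into G k hh Δ hΔ y
  have hcard : Fintype.card (Fin k) = Fintype.card ↥Δ := by
    rw [Fintype.card_fin, Fintype.card_coe, hΔ]
  let f₁ : Fin k → ↥Δ := fun i => ⟨(g₁ : Perm α) (x i), h₁ i⟩
  let f₂ : Fin k → ↥Δ := fun i => ⟨(g₂ : Perm α) (y i), h₂ i⟩
  have hf₁ : Function.Bijective f₁ :=
    (Fintype.bijective_iff_injective_and_card f₁).mpr
      ⟨fun i j hij => x.injective ((g₁ : Perm α).injective (congrArg Subtype.val hij)), hcard⟩
  have hf₂ : Function.Bijective f₂ :=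
    (Fintype.bijective_iff_injective_and_card f₂).mpr
      ⟨fun i j hij => y.injective ((g₂ : Perm α).injective (congrArg Subtype.val hij)), hcard⟩
  let e₁ : Fin k ≃ ↥Δ := Equiv.ofBijective f₁ hf₁
  let e₂ : Fin k ≃ ↥Δ := Equiv.ofBijective f₂ hf₂
  let σ : Perm ↥Δ := e₁.symm.trans e₂
  have hσ : σ ∈ induced G Δ := by rw [htop]; exact Subgroup.mem_top σ
  obtain ⟨g₀, hg₀, hg₀σ⟩ := mem_induced.mp hσ
  refine ⟨g₂⁻¹ * ⟨g₀, hg₀⟩ * g₁, ?_⟩
  ext i
  show ((g₂ : Perm α)⁻¹ * g₀ * (g₁ : Perm α)) (x i) = y i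
  rw [Perm.mul_apply, Perm.mul_apply]
  have h1 : g₀ ((g₁ : Perm α) (x i)) = (g₂ : Perm α) (y i) := by
    have := hg₀σ (f₁ i)
    have hσf : σ (f₁ i) = f₂ i := by
      show e₂ (e₁.symm (f₁ i)) = f₂ i
      have : e₁.symm (f₁ i) = i := by
        rw [Equiv.symm_apply_eq]; rfl
      rw [this]; rfl
    rw [hσf] at this
    exact this
  rw [h1]
  simp

end Cfsg.Agent.Lib.Helper21.LW8H5a
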