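import Mathlib
import Cfsg.Agent.Lib.Helper10.LW7.Defs
import Cfsg.Agent.Lib.Helper10.LWP2

set_option autoImplicit false

namespace Cfsg.Agent.Lib.Helper21.LW8H5c

open MulAction Equiv
open Cfsg.Agent.Lib.Helper10.LW7

variable {α : Type*} [Fintype α] [DecidableEq α]

theorem not_homog_eleven (G : Subgroup (Perm α)) (hn : Fintype.card α = 11)
    (hG : Nat.card G = 7920) (hh : IsPretransitive G (Set.powersetCard α 5)) : False := by
  obtain ⟨b, hb⟩ := Cfsg.Agent.Lib.Helper10.LWP2.card_eq_choose_mul G 5 (by omega) hh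
  rw [hG, hn] at hb
  have h462 : Nat.choose 11 5 = 462 := by decide
  rw [h462] at hb
  omega

end Cfsg.Agent.Lib.Helper21.LW8H5c
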