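import Mathlib
import Cfsg.Agent.Lib.helper2.MIDefs
import Cfsg.Agent.Lib.helper14.SLnVec

set_option autoImplicit false
set_option linter.unusedSectionVars false
set_option linter.unusedVariables false

/-! Project MI (S2140), piece MI-C: double counting over the orbit of `W` under the stabiliser
of the vector `v`. -/

namespace Cfsg.Agent.Lib.Helper21.MI

open Matrix Cfsg.Agent.Lib.helper2.MI

variable {n : ℕ} {F : Type*} [Field F]

theorem colAct_mul (g k : SpecialLinearGroup (Fin n) F) :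
    colAct (k * g) = (colAct k).comp (colAct g) := by
  refine AddMonoidHom.ext (fun y => ?_)
  show (k * g).1 *ᵥ y = k.1 *ᵥ (g.1 *ᵥ y)
  rw [Matrix.SpecialLinearGroup.coe_mul, Matrix.mulVec_mulVec]

theorem colAct_one : colAct (1 : SpecialLinearGroup (Fin n) F) = AddMonoidHom.id _ := by
  refine AddMonoidHom.ext (fun y => ?_)
  show (1 : SpecialLinearGroup (Fin n) F).1 *ᵥ y = y
  rw [Matrix.SpecialLinearGroup.coe_one, Matrix.one_mulVec]

theorem colAct_injective (g : SpecialLinearGroup (Fin n) F) : Function.Injective (colAct g) := by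
  intro a b hab
  have h1 : colAct g⁻¹ (colAct g a) = colAct g⁻¹ (colAct g b) := by rw [hab]
  have h2 : ∀ x, colAct g⁻¹ (colAct g x) = x := by
    intro x
    have := congrArg (fun f => f x) (colAct_mul g g⁻¹)
    simp only [AddMonoidHom.comp_apply] at this
    rw [← this, inv_mul_cancel, colAct_one]
    rfl
  rwa [h2, h2] at h1

/-- the orbit of `W` under the stabiliser of `v` -/
def orbW (v : Fin n → F) (W : AddSubgroup (Fin n → F)) : Set (AddSubgroup (Fin n → F)) :=
  {W' | ∃ g : SpecialLinearGroup (Fin n) F, g.1 *ᵥ v = v ∧ W' = W.map (colAct g)}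

theorem self_mem_orbW (v : Fin n → F) (W : AddSubgroup (Fin n → F)) : W ∈ orbW v W := by
  refine ⟨1, ?_, ?_⟩
  · rw [Matrix.SpecialLinearGroup.coe_one, Matrix.one_mulVec]
  · rw [colAct_one, AddSubgroup.map_id]

theorem map_mem_orbW {v : Fin n → F} {W W' : AddSubgroup (Fin n → F)} (h : W' ∈ orbW v W)
    (k : SpecialLinearGroup (Fin n) F) (hk : k.1 *ᵥ v = v) : W'.map (colAct k) ∈ orbW v W := by
  obtain ⟨g, hg, rfl⟩ := h
  refine ⟨k * g, ?_, ?_⟩
  · rw [Matrix.SpecialLinearGroup.coe_mul, ← Matrix.mulVec_mulVec, hg, hk]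
  · rw [AddSubgroup.map_map, colAct_mul]

theorem line_sub_of_mem_orbW {v : Fin n → F} {W W' : AddSubgroup (Fin n → F)}
    (hvW : ∀ c : F, c • v ∈ W) (h : W' ∈ orbW v W) (c : F) : c • v ∈ W' := by
  obtain ⟨g, hg, rfl⟩ := h
  refine ⟨c • v, hvW c, ?_⟩
  rw [colAct_apply, Matrix.mulVec_smul, hg]

theorem card_of_mem_orbW [Finite F] {v : Fin n → F} {W W' : AddSubgroup (Fin n → F)}
    (h : W' ∈ orbW v W) : Nat.card W' = Nat.card W := by
  obtain ⟨g, hg, rfl⟩ := h
  exact (Nat.card_congr (W.equivMapOfInjective (colAct g) (colAct_injective g)).toEquiv).symm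

theorem not_line_iff (v y : Fin n → F) :
    (¬ ∃ c : F, y = c • v) ↔ y ∉ Submodule.span F ({v} : Set (Fin n → F)) := by
  rw [Submodule.mem_span_singleton]
  constructor
  · rintro h ⟨c, hc⟩
    exact h ⟨c, hc.symm⟩
  · rintro h ⟨c, hc⟩
    exact h ⟨c, hc.symm⟩

/-- MI-C -/
theorem cover_count [Fintype F] (hn : 3 ≤ n) (v : Fin n → F) (hv : v ≠ 0)
    (W : AddSubgroup (Fin n → F)) (hvW : ∀ c : F, c • v ∈ W)
    (hW : ∃ y ∈ W, ¬ ∃ c : F, y = c • v) :
    ∃ c : ℕ, 1 ≤ c ∧
      Nat.card {W' : AddSubgroup (Fin n → F) | ∃ g : SpecialLinearGroup (Fin n) F,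
          g.1 *ᵥ v = v ∧ W' = W.map (colAct g)} * (Nat.card W - Fintype.card F)
        = c * (Fintype.card F ^ n - Fintype.card F) ∧
      (c = 1 → ∀ y ∈ W, (¬ ∃ c : F, y = c • v) → ∀ g : SpecialLinearGroup (Fin n) F,
          g.1 *ᵥ v = v → g.1 *ᵥ y = y → W.map (colAct g) = W) := by
  classical
  obtain ⟨y0, hy0W, hy0⟩ := hW
  have hfin : (orbW v W).Finite := Set.toFinite _
  set 𝒲 : Finset (AddSubgroup (Fin n → F)) := hfin.toFinset with h𝒲
  have mem𝒲 : ∀ W', W' ∈ 𝒲 ↔ W' ∈ orbW v W := fun W' => Set.Finite.mem_toFinset hfin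
  -- the line
  set L : Finset (Fin n → F) := Finset.univ.image (fun c : F => c • v) with hL
  have memL : ∀ y, y ∈ L ↔ ∃ c : F, y = c • v := by
    intro y
    rw [hL, Finset.mem_image]
    constructor
    · rintro ⟨c, -, hc⟩
      exact ⟨c, hc.symm⟩
    · rintro ⟨c, hc⟩
      exact ⟨c, Finset.mem_univ _, hc.symm⟩
  have cardL : L.card = Fintype.card F := by
    rw [hL, Finset.card_image_of_injective, Finset.card_univ]
    intro a b hab
    exact smul_left_injective F hv hab
  set Y : Finset (Fin n → F) := Finset.univ.filter (fun y => ¬ ∃ c : F, y = c • v) with hY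
  have memY : ∀ y, y ∈ Y ↔ ¬ ∃ c : F, y = c • v := by
    intro y
    rw [hY, Finset.mem_filter]
    simp
  have cardY : Y.card = Fintype.card F ^ n - Fintype.card F := by
    have h1 : Y = Finset.univ \ L := by
      ext y
      rw [memY, Finset.mem_sdiff, memL]
      simp
    rw [h1, Finset.card_sdiff_of_subset (Finset.subset_univ _), Finset.card_univ, cardL,
      Fintype.card_fun, Fintype.card_fin]
  -- counting function
  let cnt : (Fin n → F) → ℕ := fun y => (𝒲.filter (fun W' => y ∈ W')).card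
  have cnt_le : ∀ y y', y ∈ Y → y' ∈ Y → cnt y ≤ cnt y' := by
    intro y y' hy hy'
    rw [memY, not_line_iff] at hy hy'
    obtain ⟨k, hkv, hky⟩ := Cfsg.Agent.Lib.helper14.SLnVec.exists_sl_fix hn v y y' hy hy'
    refine Finset.card_le_card_of_injOn (fun W' => W'.map (colAct k)) ?_ ?_
    · intro W' hW'
      rw [Finset.coe_filter, Set.mem_ofPred_eq] at hW'
      rw [Finset.coe_filter, Set.mem_ofPred_eq, mem𝒲]
      refine ⟨map_mem_orbW ((mem𝒲 W').1 hW'.1) k hkv, ?_⟩
      exact ⟨y, hW'.2, by rw [colAct_apply]; exact hky⟩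
    · intro A _ B _ hAB
      exact AddSubgroup.map_injective (colAct_injective k) hAB
  have cnt_eq : ∀ y, y ∈ Y → cnt y = cnt y0 := fun y hy =>
    le_antisymm (cnt_le y y0 hy ((memY y0).2 hy0)) (cnt_le y0 y ((memY y0).2 hy0) hy)
  have hW𝒲 : W ∈ 𝒲 := (mem𝒲 W).2 (self_mem_orbW v W)
  refine ⟨cnt y0, ?_, ?_, ?_⟩
  · -- c ≥ 1
    apply Finset.card_pos.2
    exact ⟨W, Finset.mem_filter.2 ⟨hW𝒲, hy0W⟩⟩
  · -- double counting
    have hcardset : Nat.card {W' : AddSubgroup (Fin n → F) | ∃ g : SpecialLinearGroup (Fin n) F,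
          g.1 *ᵥ v = v ∧ W' = W.map (colAct g)} = 𝒲.card := by
      rw [Nat.card_coe_set_eq]
      exact Set.ncard_eq_toFinset_card _ hfin
    rw [hcardset]
    have hdc := Finset.sum_card_bipartiteAbove_eq_sum_card_bipartiteBelow
      (s := 𝒲) (t := Y) (fun (W' : AddSubgroup (Fin n → F)) (y : Fin n → F) => y ∈ W')
    have hl : ∀ W' ∈ 𝒲, (Finset.bipartiteAbove
        (fun (W' : AddSubgroup (Fin n → F)) (y : Fin n → F) => y ∈ W') Y W').card =
        Nat.card W - Fintype.card F := by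
      intro W' hW'
      have hW'o := (mem𝒲 W').1 hW'
      have h1 : Finset.bipartiteAbove
          (fun (W' : AddSubgroup (Fin n → F)) (y : Fin n → F) => y ∈ W') Y W' =
          (Finset.univ.filter (fun y => y ∈ W')) \ L := by
        ext y
        rw [Finset.mem_bipartiteAbove, memY, Finset.mem_sdiff, memL, Finset.mem_filter]
        simp [and_comm]
      have h2 : L ⊆ Finset.univ.filter (fun y => y ∈ W') := by
        intro y hy
        obtain ⟨c, rfl⟩ := (memL y).1 hy
        rw [Finset.mem_filter]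
        exact ⟨Finset.mem_univ _, line_sub_of_mem_orbW hvW hW'o c⟩
      have h3 : (Finset.univ.filter (fun y => y ∈ W')).card = Nat.card W' := by
        rw [Nat.card_eq_fintype_card, Fintype.card_subtype]
      rw [h1, Finset.card_sdiff_of_subset h2, h3, cardL, card_of_mem_orbW hW'o]
    have hr : ∀ y ∈ Y, (Finset.bipartiteBelow
        (fun (W' : AddSubgroup (Fin n → F)) (y : Fin n → F) => y ∈ W') 𝒲 y).card = cnt y0 := by
      intro y hy
      rw [← cnt_eq y hy]
      rfl
    rw [Finset.sum_congr rfl hl, Finset.sum_congr rfl hr, Finset.sum_const, Finset.sum_const,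
      smul_eq_mul, smul_eq_mul, cardY] at hdc
    rw [hdc, mul_comm]
  · -- c = 1
    intro hc1 y hyW hy g hgv hgy
    have hcy : cnt y = 1 := by rw [cnt_eq y ((memY y).2 hy), hc1]
    have hA : W ∈ 𝒲.filter (fun W' => y ∈ W') := Finset.mem_filter.2 ⟨hW𝒲, hyW⟩
    have hB : W.map (colAct g) ∈ 𝒲.filter (fun W' => y ∈ W') := by
      refine Finset.mem_filter.2 ⟨(mem𝒲 _).2 (map_mem_orbW (self_mem_orbW v W) g hgv), ?_⟩
      exact ⟨y, hyW, by rw [colAct_apply]; exact hgy⟩
    exact Finset.card_le_one.1 (le_of_eq hcy) _ hB _ hA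

end Cfsg.Agent.Lib.Helper21.MI
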