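import Mathlib
import Cfsg.Agent.Lib.helper2.MIDefs

set_option autoImplicit false
set_option linter.unusedSectionVars false
set_option linter.unusedVariables false

/-! Project MI (S2140), piece MI-IIb, case `n = 3`. -/

namespace Cfsg.Agent.Lib.Helper21.MI

open Matrix Cfsg.Agent.Lib.helper2.MI

variable {n : ℕ} {F : Type*} [Field F]

/-- case `n = 3` of `no_Psi`, with the power relation `(P)` as a hypothesis -/
theorem no_Psi_three_aux (hn : 3 ≤ n) (Ψ : (Fin n → F) → (Fin n → F)) (h : PsiData hn Ψ)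
    (h3 : n = 3) (hP : ∀ c : F, c ≠ 0 → c ^ n = 1) : False := by
  subst h3
  have hadd : ∀ y y' : Fin 3 → F, Pi.single (2 : Fin 3) (1 : F) ⬝ᵥ y = 0 →
      Pi.single (2 : Fin 3) (1 : F) ⬝ᵥ y' = 0 →
      Ψ (y + y') = Ψ y + Ψ y' + (Ψ y ⬝ᵥ y') • Pi.single (2 : Fin 3) (1 : F) := h.add
  have hperp : ∀ y : Fin 3 → F, Pi.single (2 : Fin 3) (1 : F) ⬝ᵥ y = 0 →
      Ψ y ⬝ᵥ Pi.single (0 : Fin 3) (1 : F) = 0 := h.perp_v
  have hinj : ∀ y : Fin 3 → F, Pi.single (2 : Fin 3) (1 : F) ⬝ᵥ y = 0 →
      (∃ c : F, Ψ y = c • Pi.single (2 : Fin 3) (1 : F)) →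
      ∃ c : F, y = c • Pi.single (0 : Fin 3) (1 : F) := h.inj
  by_cases h2 : (2 : F) = 0
  · -- characteristic 2
    have hΨ0 : Ψ 0 = 0 := by
      have := hadd 0 0 (dotProduct_zero _) (dotProduct_zero _)
      rw [add_zero, dotProduct_zero, zero_smul, add_zero] at this
      exact left_eq_add.1 this
    have hyy : ∀ y : Fin 3 → F, Pi.single (2 : Fin 3) (1 : F) ⬝ᵥ y = 0 → Ψ y ⬝ᵥ y = 0 := by
      intro y hy
      have h1 := hadd y y hy hy
      have hy2 : y + y = 0 := by
        rw [← two_smul F y, h2, zero_smul]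
      have hΨ2 : Ψ y + Ψ y = 0 := by
        rw [← two_smul F (Ψ y), h2, zero_smul]
      rw [hy2, hΨ0, hΨ2, zero_add] at h1
      have h4 := congrFun h1 2
      simp only [Pi.zero_apply, Pi.smul_apply, Pi.single_eq_same, smul_eq_mul, mul_one] at h4
      exact h4.symm
    set e1 : Fin 3 → F := Pi.single (1 : Fin 3) 1 with he1
    have hL1 : Pi.single (2 : Fin 3) (1 : F) ⬝ᵥ e1 = 0 := by
      rw [he1, single_dotProduct, one_mul, Pi.single_apply, if_neg]
      decide
    have hA : Ψ e1 1 = 0 := by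
      have := hyy e1 hL1
      rwa [he1, dotProduct_single, mul_one] at this
    have hB : Ψ e1 0 = 0 := by
      have := hperp e1 hL1
      rwa [dotProduct_single, mul_one] at this
    have hC : Ψ e1 = (Ψ e1 2) • Pi.single (2 : Fin 3) (1 : F) := by
      funext i
      fin_cases i
      · simp only [Fin.zero_eta, Pi.smul_apply, smul_eq_mul]
        rw [hB, Pi.single_apply, if_neg (by decide), mul_zero]
      · simp only [Fin.mk_one, Pi.smul_apply, smul_eq_mul]
        rw [hA, Pi.single_apply, if_neg (by decide), mul_zero]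
      · simp only [Fin.reduceFinMk, Pi.smul_apply, smul_eq_mul]
        rw [Pi.single_apply, if_pos (by decide), mul_one]
    obtain ⟨c, hc⟩ := hinj e1 hL1 ⟨_, hC⟩
    have h5 := congrFun hc 1
    rw [he1, Pi.single_eq_same, Pi.smul_apply, Pi.single_apply, if_neg (by decide),
      smul_zero] at h5
    exact one_ne_zero h5
  · -- characteristic not 2
    have h1 := hP (-1) (neg_ne_zero.2 one_ne_zero)
    apply h2
    have : (-1 : F) ^ 3 = -1 := by ring
    rw [this] at h1
    have h6 : (2 : F) = 1 + 1 := by norm_num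
    rw [h6]
    nth_rewrite 1 [← h1]
    ring

end Cfsg.Agent.Lib.Helper21.MI
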