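import Mathlib
import Cfsg.Agent.Lib.helper2.MIPsi
import Cfsg.Agent.Lib.Helper21.MIIIb3

set_option autoImplicit false
set_option linter.unusedSectionVars false
set_option linter.unusedVariables false

/-! Project MI (S2140), piece MI-IIb, case `n = 3` (final form, on top of `Psi_pow`). -/

namespace Cfsg.Agent.Lib.Helper21.MI

open Matrix Cfsg.Agent.Lib.helper2.MI

variable {n : ℕ} {F : Type*} [Field F]

theorem no_Psi_three (hn : 3 ≤ n) (Ψ : (Fin n → F) → (Fin n → F)) (h : PsiData hn Ψ)
    (h3 : n = 3) : False :=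
  no_Psi_three_aux hn Ψ h h3 (fun c hc => Psi_pow hn Ψ h c hc)

end Cfsg.Agent.Lib.Helper21.MI
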