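import Mathlib
import Cfsg.Agent.Lib.Helper24.MNP.Defs
import Cfsg.Agent.Lib.Helper9.SCHA1
import Cfsg.Agent.Lib.Helper9.SCHA4
import Cfsg.Agent.Lib.Helper1.Frat

set_option autoImplicit false

namespace Cfsg.Agent.Lib.Helper24.MNP

open scoped commutatorElement
open Cfsg.Agent.Lib.Helper24.SCH (SchAct)

universe u

section C

variable {P : Type u} [Group P] [Finite P] {p q : ℕ} [Fact p.Prime] {α : MulAut P}

theorem mnpc3_fix_top (h : SchAct p q P α) (hfix : ∀ s : P, α (α s * s⁻¹) = α s * s⁻¹) :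
    False := by
  have hgen := SCH.act_gen h
  have hle : Subgroup.closure {t : P | ∃ s : P, t = α s * s⁻¹} ≤ fixSub α := by
    rw [Subgroup.closure_le]
    rintro t ⟨s, rfl⟩
    exact hfix s
  rw [hgen] at hle
  apply h.ne_one
  ext t
  exact hle (Subgroup.mem_top t)

theorem mnpc3_aux (h : SchAct p q P α) {Q : Type u} [CommGroup Q] [Finite Q] (φ : P →* Q)
    (hφs : Function.Surjective φ) (hφk : ∀ x, φ x = 1 ↔ α x = x) (B : Q ≃* Q)
    (hφB : ∀ x, φ (α x) = B (φ x)) :
    ∃ (V : Type u) (_ : AddCommGroup V) (_ : Finite V) (A : V ≃+ V) (π : P →* Multiplicative V),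
      (∀ v : V, p • v = 0) ∧ (∀ v, (⇑A)^[q] v = v) ∧ (∃ v, A v ≠ v) ∧
      (∀ S : AddSubgroup V, (∀ v ∈ S, A v ∈ S) → S = ⊥ ∨ S = ⊤) ∧ Function.Surjective π ∧
      (∀ x, π x = 1 ↔ α x = x) ∧
      ∀ x, π (α x) = Multiplicative.ofAdd (A (Multiplicative.toAdd (π x))) := by
  classical
  let ψ : P → Additive Q := fun x => Additive.ofMul (φ x)
  have hψs : Function.Surjective ψ := fun v => by
    obtain ⟨x, hx⟩ := hφs (Additive.toMul v)
    exact ⟨x, by show Additive.ofMul (φ x) = v; rw [hx]; rfl⟩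
  have hψ0 : ∀ x, ψ x = 0 ↔ α x = x := fun x => by
    rw [← hφk x]
    exact Iff.rfl
  let A : Additive Q ≃+ Additive Q := MulEquiv.toAdditive B
  have hA : ∀ x, A (ψ x) = ψ (α x) := fun x => by
    show Additive.ofMul (B (φ x)) = Additive.ofMul (φ (α x))
    rw [hφB]
  have hAit : ∀ (j : ℕ) (x : P), (⇑A)^[j] (ψ x) = ψ ((α ^ j) x) := by
    intro j
    induction j with
    | zero => intro x; simp
    | succ n ih =>
      intro x
      rw [Function.iterate_succ_apply', ih, hA, pow_succ', MulAut.mul_apply]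
  let π : P →* Multiplicative (Additive Q) :=
    { toFun := fun x => Multiplicative.ofAdd (ψ x)
      map_one' := by
        show Multiplicative.ofAdd (Additive.ofMul (φ 1)) = 1
        rw [map_one]; rfl
      map_mul' := fun a b => by
        show Multiplicative.ofAdd (Additive.ofMul (φ (a * b))) = _
        rw [map_mul]; rfl }
  refine ⟨Additive Q, inferInstance, inferInstance, A, π, ?_, ?_, ?_, ?_, ?_, ?_, ?_⟩
  · intro v
    obtain ⟨x, rfl⟩ := hψs v
    have h1 : α (x ^ p) = x ^ p :=
      SCH.frattini_fixed h _ (Cfsg.Agent.Lib.Helper1.pgroup_pow_mem_frattini h.pgroup x)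
    have h2 : φ (x ^ p) = 1 := (hφk _).2 h1
    show p • Additive.ofMul (φ x) = 0
    rw [← ofMul_pow, ← map_pow, h2]; rfl
  · intro v
    obtain ⟨x, rfl⟩ := hψs v
    rw [hAit, h.powq, MulAut.one_apply]
  · by_contra hall
    push Not at hall
    apply mnpc3_fix_top h
    intro s
    rw [← hφk, map_mul, map_inv, mul_inv_eq_one]
    have h1 := hall (ψ s)
    rw [hA] at h1
    exact Additive.ofMul.injective h1
  · intro S hS
    let S' : Subgroup P := (AddSubgroup.toSubgroup' S).comap φ
    have hmem : ∀ x, x ∈ S' ↔ ψ x ∈ S := fun x => Iff.rfl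
    have hinv : ∀ s ∈ S', α s ∈ S' := by
      intro s hs
      rw [hmem] at hs ⊢
      rw [← hA]
      exact hS _ hs
    by_cases htop : S' = ⊤
    · right
      rw [eq_top_iff]
      intro v _
      obtain ⟨x, rfl⟩ := hψs v
      rw [← hmem, htop]
      exact Subgroup.mem_top x
    · left
      rw [eq_bot_iff]
      intro v hv
      obtain ⟨x, rfl⟩ := hψs v
      have h1 := h.min S' hinv htop x ((hmem x).2 hv)
      rw [AddSubgroup.mem_bot]
      exact (hψ0 x).2 h1
  · intro w
    obtain ⟨x, hx⟩ := hψs (Multiplicative.toAdd w)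
    exact ⟨x, by show Multiplicative.ofAdd (ψ x) = w; rw [hx]; rfl⟩
  · intro x
    rw [← hψ0]
    exact Iff.rfl
  · intro x
    show Multiplicative.ofAdd (ψ (α x)) = Multiplicative.ofAdd (A (ψ x))
    rw [hA]

theorem exists_bar (h : SchAct p q P α) :
    ∃ (V : Type u) (_ : AddCommGroup V) (_ : Finite V) (A : V ≃+ V) (π : P →* Multiplicative V),
      (∀ v : V, p • v = 0) ∧ (∀ v, (⇑A)^[q] v = v) ∧ (∃ v, A v ≠ v) ∧
      (∀ S : AddSubgroup V, (∀ v ∈ S, A v ∈ S) → S = ⊥ ∨ S = ⊤) ∧ Function.Surjective π ∧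
      (∀ x, π x = 1 ↔ α x = x) ∧ ∀ x, π (α x) = Multiplicative.ofAdd (A (Multiplicative.toAdd (π x))) := by
  have hFc : fixSub α ≤ Subgroup.center P := fun x hx => SCH.fixed_central h x hx
  have hFn : (fixSub α).Normal := ⟨fun n hn g => by
    have hc := hFc hn
    rw [Subgroup.mem_center_iff] at hc
    have e : g * n * g⁻¹ = n := by rw [hc g, mul_inv_cancel_right]
    rw [e]
    exact hn⟩
  letI : CommGroup (P ⧸ fixSub α) :=
    { (inferInstance : Group (P ⧸ fixSub α)) with
      mul_comm := by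
        intro a b
        induction a using QuotientGroup.induction_on with | _ a => ?_
        induction b using QuotientGroup.induction_on with | _ b => ?_
        rw [← QuotientGroup.mk_mul, ← QuotientGroup.mk_mul, QuotientGroup.eq]
        show α _ = _
        have e : (a * b)⁻¹ * (b * a) = ⁅b⁻¹, a⁻¹⁆ := by
          rw [commutatorElement_def]; group
        rw [e]
        exact SCH.comm_fixed h _ _ }
  have hmap : (fixSub α).map (α : P →* P) = fixSub α := by
    ext x
    constructor
    · rintro ⟨y, hy, rfl⟩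
      have hy' : α y = y := hy
      show α y ∈ fixSub α
      rw [hy']
      exact hy
    · intro hx
      exact ⟨x, hx, hx⟩
  exact mnpc3_aux h (QuotientGroup.mk' (fixSub α)) (QuotientGroup.mk'_surjective _)
    (fun x => QuotientGroup.eq_one_iff x) (QuotientGroup.congr (fixSub α) (fixSub α) α hmap)
    (fun x => (QuotientGroup.congr_mk _ _ _ _ x).symm)

end C

end Cfsg.Agent.Lib.Helper24.MNP
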