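import Mathlib
import Cfsg.Agent.Lib.Helper24.MNP.Defs

set_option autoImplicit false

namespace Cfsg.Agent.Lib.Helper24.MNP

open scoped commutatorElement

universe u

section F

variable {K : Type u} [Field K] [Finite K] {p q : ℕ} [Fact p.Prime] [Fact q.Prime] [CharP K p]

theorem mnpf9_ne (hq2 : q ≠ 2) {a : ℕ} (ha : a = orderOf (p : ZMod q)) (hodd : a % 2 = 1)
    (ζ : K) (hζ : orderOf ζ = q) (i : ℕ) : ζ⁻¹ ≠ ζ ^ p ^ i := by
  intro h
  have hq : q.Prime := Fact.out
  have hζ0 : ζ ≠ 0 := by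
    intro h0
    have h1 : ζ ^ q = 1 := by rw [← hζ]; exact pow_orderOf_eq_one ζ
    rw [h0, zero_pow hq.ne_zero] at h1
    exact zero_ne_one h1
  have h1 : ζ ^ (p ^ i + 1) = 1 := by
    rw [pow_succ, ← h, inv_mul_cancel₀ hζ0]
  have hdvd : q ∣ p ^ i + 1 := by
    rw [← hζ]
    exact orderOf_dvd_of_pow_eq_one h1
  have h2 : (p : ZMod q) ^ i = -1 := by
    have h0 := (ZMod.natCast_eq_zero_iff (p ^ i + 1) q).2 hdvd
    push_cast at h0
    exact eq_neg_of_add_eq_zero_left h0
  have h3 : (p : ZMod q) ^ (2 * i) = 1 := by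
    rw [mul_comm, pow_mul, h2]
    norm_num
  have h4 : a ∣ 2 * i := by
    rw [ha]
    exact orderOf_dvd_of_pow_eq_one h3
  have hcop : Nat.Coprime a 2 := by
    rw [Nat.coprime_two_right, Nat.odd_iff]
    exact hodd
  have h5 : a ∣ i := hcop.dvd_of_dvd_mul_left h4
  have h6 : (p : ZMod q) ^ i = 1 := by
    rw [ha] at h5
    exact orderOf_dvd_iff_pow_eq_one.1 h5
  have h7 : ((2 : ℕ) : ZMod q) = 0 := by
    have h8 : (1 : ZMod q) = -1 := h6.symm.trans h2
    push_cast
    linear_combination h8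
  have h8 : q ∣ 2 := (ZMod.natCast_eq_zero_iff 2 q).1 h7
  exact hq2 ((Nat.prime_dvd_prime_iff_eq hq Nat.prime_two).1 h8)

theorem exists_sep_poly (hpq : p ≠ q) (hq2 : q ≠ 2) {a : ℕ} (hK : Nat.card K = p ^ a)
    (ha : a = orderOf (p : ZMod q)) (hodd : a % 2 = 1) (ζ : K) (hζ : orderOf ζ = q) :
    ∃ g : Polynomial (ZMod p), Polynomial.eval₂ (ZMod.castHom (dvd_refl p) K) ζ g = 0 ∧
      Polynomial.eval₂ (ZMod.castHom (dvd_refl p) K) ζ⁻¹ g ≠ 0 := by
  classical
  have : Fintype K := Fintype.ofFinite K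
  have ha1 : 0 < a := by omega
  set gK : Polynomial K :=
    ∏ i ∈ Finset.range a, (Polynomial.X - Polynomial.C (ζ ^ p ^ i)) with hgK
  have hpa : ζ ^ p ^ a = ζ := by
    rw [← hK, Nat.card_eq_fintype_card]
    exact FiniteField.pow_card ζ
  have hfrob : gK.map (frobenius K p) = gK := by
    rw [hgK, Polynomial.map_prod]
    have h1 : ∀ i : ℕ, (Polynomial.X - Polynomial.C (ζ ^ p ^ i)).map (frobenius K p) =
        Polynomial.X - Polynomial.C (ζ ^ p ^ (i + 1)) := by
      intro i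
      rw [Polynomial.map_sub, Polynomial.map_X, Polynomial.map_C, frobenius_def, ← pow_mul,
        ← pow_succ]
    simp_rw [h1]
    have hs := Finset.prod_range_succ'
      (fun i => (Polynomial.X - Polynomial.C (ζ ^ p ^ i) : Polynomial K)) a
    have hs2 := Finset.prod_range_succ
      (fun i => (Polynomial.X - Polynomial.C (ζ ^ p ^ i) : Polynomial K)) a
    rw [hs2] at hs
    simp only [hpa, pow_zero, pow_one] at hs
    exact (mul_right_cancel₀ (Polynomial.X_sub_C_ne_zero ζ) hs).symm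
  have hcoef : ∀ n, gK.coeff n ∈ Set.range (ZMod.castHom (dvd_refl p) K) := by
    intro n
    have hc : (gK.coeff n) ^ p = gK.coeff n := by
      conv_rhs => rw [← hfrob]
      rw [Polynomial.coeff_map, frobenius_def]
    have hbot : gK.coeff n ∈ (⊥ : Subfield K) := (Subfield.mem_bot_iff_pow_eq_self K p).2 hc
    let _ : Algebra (ZMod p) K := ZMod.algebra K p
    rw [Subfield.bot_eq_of_zMod_algebra p] at hbot
    exact hbot
  obtain ⟨g, hg⟩ : ∃ g : Polynomial (ZMod p), g.map (ZMod.castHom (dvd_refl p) K) = gK := by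
    have hl : gK ∈ Polynomial.lifts (ZMod.castHom (dvd_refl p) K) :=
      (Polynomial.lifts_iff_coeff_lifts gK).2 hcoef
    exact (Polynomial.mem_lifts gK).1 hl
  refine ⟨g, ?_, ?_⟩
  · rw [Polynomial.eval₂_eq_eval_map, hg, hgK, Polynomial.eval_prod]
    apply Finset.prod_eq_zero (Finset.mem_range.2 ha1)
    simp
  · rw [Polynomial.eval₂_eq_eval_map, hg, hgK, Polynomial.eval_prod, Finset.prod_ne_zero_iff]
    intro i _
    simp only [Polynomial.eval_sub, Polynomial.eval_X, Polynomial.eval_C]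
    exact sub_ne_zero.2 (mnpf9_ne hq2 ha hodd ζ hζ i)

end F

end Cfsg.Agent.Lib.Helper24.MNP
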