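import Mathlib
import Cfsg.Agent.Lib.Helper24.MNP.Defs
import Cfsg.Agent.Lib.Helper21.MNPF9

set_option autoImplicit false

namespace Cfsg.Agent.Lib.Helper24.MNP

open scoped commutatorElement

universe u

section F

variable {K : Type u} [Field K] {Z : Type u} [AddCommGroup Z] (β : K → K → Z)

def mnpf10E (u v : K) : Prop := ∀ x y, β (u * x) y = β x (v * y)

variable {β}

theorem mnpf10_zero_left (hadd1 : ∀ x x' y, β (x + x') y = β x y + β x' y) (y : K) :
    β 0 y = 0 := by
  have h := hadd1 0 0 y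
  rw [add_zero] at h
  exact add_eq_left.mp h.symm

theorem mnpf10_zero_right (hadd2 : ∀ x y y', β x (y + y') = β x y + β x y') (x : K) :
    β x 0 = 0 := by
  have h := hadd2 x 0 0
  rw [add_zero] at h
  exact add_eq_left.mp h.symm

theorem mnpf10E_zero (hadd1 : ∀ x x' y, β (x + x') y = β x y + β x' y)
    (hadd2 : ∀ x y y', β x (y + y') = β x y + β x y') : mnpf10E β 0 0 := by
  intro x y
  rw [zero_mul, zero_mul, mnpf10_zero_left hadd1, mnpf10_zero_right hadd2]

theorem mnpf10E_one : mnpf10E β 1 1 := by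
  intro x y
  rw [one_mul, one_mul]

theorem mnpf10E_add (hadd1 : ∀ x x' y, β (x + x') y = β x y + β x' y)
    (hadd2 : ∀ x y y', β x (y + y') = β x y + β x y') {u v u' v' : K}
    (h : mnpf10E β u v) (h' : mnpf10E β u' v') : mnpf10E β (u + u') (v + v') := by
  intro x y
  rw [add_mul, add_mul, hadd1, hadd2, h x y, h' x y]

theorem mnpf10E_mul {u v u' v' : K}
    (h : mnpf10E β u v) (h' : mnpf10E β u' v') : mnpf10E β (u * u') (v * v') := by
  intro x y
  rw [mul_assoc, h (u' * x) y, h' x (v * y), ← mul_assoc, mul_comm v' v]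

theorem mnpf10E_pow {u v : K} (h : mnpf10E β u v) (n : ℕ) : mnpf10E β (u ^ n) (v ^ n) := by
  induction n with
  | zero => rw [pow_zero, pow_zero]; exact mnpf10E_one
  | succ n ih => rw [pow_succ, pow_succ]; exact mnpf10E_mul ih h

theorem mnpf10E_natCast (hadd1 : ∀ x x' y, β (x + x') y = β x y + β x' y)
    (hadd2 : ∀ x y y', β x (y + y') = β x y + β x y') (n : ℕ) : mnpf10E β (n : K) (n : K) := by
  induction n with
  | zero => rw [Nat.cast_zero]; exact mnpf10E_zero hadd1 hadd2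
  | succ n ih => rw [Nat.cast_succ]; exact mnpf10E_add hadd1 hadd2 ih mnpf10E_one

theorem mnpf10E_zeta (ζ : K) (hζ0 : ζ ≠ 0) (hinv : ∀ x y, β (ζ * x) (ζ * y) = β x y) :
    mnpf10E β ζ ζ⁻¹ := by
  intro x y
  rw [← hinv x (ζ⁻¹ * y), ← mul_assoc, mul_inv_cancel₀ hζ0, one_mul]

theorem mnpf10E_eval {p : ℕ} [Fact p.Prime] [CharP K p]
    (hadd1 : ∀ x x' y, β (x + x') y = β x y + β x' y)
    (hadd2 : ∀ x y y', β x (y + y') = β x y + β x y') (ζ : K) (hζ0 : ζ ≠ 0)
    (hinv : ∀ x y, β (ζ * x) (ζ * y) = β x y) (g : Polynomial (ZMod p)) :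
    mnpf10E β (Polynomial.eval₂ (ZMod.castHom (dvd_refl p) K) ζ g)
      (Polynomial.eval₂ (ZMod.castHom (dvd_refl p) K) ζ⁻¹ g) := by
  have hC : ∀ c : ZMod p, mnpf10E β (ZMod.castHom (dvd_refl p) K c)
      (ZMod.castHom (dvd_refl p) K c) := by
    intro c
    obtain ⟨n, rfl⟩ : ∃ n : ℕ, c = n := ⟨c.val, (ZMod.natCast_zmod_val c).symm⟩
    rw [map_natCast]
    exact mnpf10E_natCast hadd1 hadd2 n
  induction g using Polynomial.induction_on with
  | C a =>
    rw [Polynomial.eval₂_C, Polynomial.eval₂_C]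
    exact hC a
  | add f g hf hg =>
    rw [Polynomial.eval₂_add, Polynomial.eval₂_add]
    exact mnpf10E_add hadd1 hadd2 hf hg
  | monomial n a _ =>
    rw [Polynomial.eval₂_mul, Polynomial.eval₂_mul, Polynomial.eval₂_C, Polynomial.eval₂_C,
      Polynomial.eval₂_pow, Polynomial.eval₂_pow, Polynomial.eval₂_X, Polynomial.eval₂_X]
    exact mnpf10E_mul (hC a) (mnpf10E_pow (mnpf10E_zeta ζ hζ0 hinv) (n + 1))

theorem mnpf10_closure_one [Finite K] {p : ℕ} [Fact p.Prime] (hK : Nat.card K = p) :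
    AddSubgroup.closure {(1 : K)} = ⊤ := by
  have hp : p.Prime := Fact.out
  have hd : Nat.card (AddSubgroup.closure {(1 : K)}) ∣ p := by
    rw [← hK]
    exact AddSubgroup.card_addSubgroup_dvd_card _
  rcases (Nat.dvd_prime hp).1 hd with h1 | h1
  · exfalso
    have hb := AddSubgroup.eq_bot_of_card_eq _ h1
    have hm : (1 : K) ∈ AddSubgroup.closure {(1 : K)} :=
      AddSubgroup.subset_closure (Set.mem_singleton _)
    rw [hb, AddSubgroup.mem_bot] at hm
    exact one_ne_zero hm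
  · rw [← hK] at h1
    exact (AddSubgroup.card_eq_iff_eq_top _).1 h1

theorem mnpf10_prime_field [Finite K] {p : ℕ} [Fact p.Prime] (hK : Nat.card K = p)
    (hadd1 : ∀ x x' y, β (x + x') y = β x y + β x' y)
    (hadd2 : ∀ x y y', β x (y + y') = β x y + β x y') (halt : ∀ x, β x x = 0) :
    ∀ x y, β x y = 0 := by
  have hcl := mnpf10_closure_one hK
  have h1 : ∀ y, β 1 y = 0 := by
    intro y
    have hy : y ∈ AddSubgroup.closure {(1 : K)} := by rw [hcl]; exact AddSubgroup.mem_top y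
    induction hy using AddSubgroup.closure_induction with
    | mem x hx => rw [Set.mem_singleton_iff.1 hx]; exact halt 1
    | zero => exact mnpf10_zero_right hadd2 1
    | add x y _ _ hx hy => rw [hadd2, hx, hy, add_zero]
    | neg x _ hx =>
      have h2 := hadd2 1 x (-x)
      rw [add_neg_cancel, mnpf10_zero_right hadd2, hx, zero_add] at h2
      exact h2.symm
  intro x y
  have hx : x ∈ AddSubgroup.closure {(1 : K)} := by rw [hcl]; exact AddSubgroup.mem_top x
  induction hx using AddSubgroup.closure_induction with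
  | mem x hx => rw [Set.mem_singleton_iff.1 hx]; exact h1 y
  | zero => exact mnpf10_zero_left hadd1 y
  | add x x' _ _ hx hx' => rw [hadd1, hx, hx', add_zero]
  | neg x _ hx =>
    have h2 := hadd1 x (-x) y
    rw [add_neg_cancel, mnpf10_zero_left hadd1, hx, zero_add] at h2
    exact h2.symm

end F

section F'

variable {K : Type u} [Field K] [Finite K] {p q : ℕ} [Fact p.Prime] [Fact q.Prime] [CharP K p]

theorem mnpf10_h21_form_zero_odd (hpq : p ≠ q) {a : ℕ} (hK : Nat.card K = p ^ a)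
    (ha : a = orderOf (p : ZMod q)) (hodd : a % 2 = 1) (ζ : K) (hζ : orderOf ζ = q)
    {Z : Type u} [AddCommGroup Z] (β : K → K → Z)
    (hadd1 : ∀ x x' y, β (x + x') y = β x y + β x' y) (hadd2 : ∀ x y y', β x (y + y') = β x y + β x y')
    (halt : ∀ x, β x x = 0) (hinv : ∀ x y, β (ζ * x) (ζ * y) = β x y) : ∀ x y, β x y = 0 := by
  have hp : p.Prime := Fact.out
  have hq : q.Prime := Fact.out
  by_cases hq2 : q = 2
  · subst hq2
    have h1 : ((p : ℕ) : ZMod 2) = 1 := by
      rw [ZMod.natCast_eq_one_iff_odd]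
      exact hp.odd_of_ne_two hpq
    rw [h1, orderOf_one] at ha
    rw [ha, pow_one] at hK
    exact mnpf10_prime_field hK hadd1 hadd2 halt
  · have hζ0 : ζ ≠ 0 := by
      intro h0
      have h1 : ζ ^ q = 1 := by rw [← hζ]; exact pow_orderOf_eq_one ζ
      rw [h0, zero_pow hq.ne_zero] at h1
      exact zero_ne_one h1
    obtain ⟨g, hg0, hg1⟩ := exists_sep_poly hpq hq2 hK ha hodd ζ hζ
    have hE := mnpf10E_eval (p := p) hadd1 hadd2 ζ hζ0 hinv g
    rw [hg0] at hE
    intro x y
    have h2 := hE x ((Polynomial.eval₂ (ZMod.castHom (dvd_refl p) K) ζ⁻¹ g)⁻¹ * y)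
    rw [zero_mul, mnpf10_zero_left hadd1, ← mul_assoc, mul_inv_cancel₀ hg1, one_mul] at h2
    exact h2.symm

end F'

end Cfsg.Agent.Lib.Helper24.MNP
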