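import Mathlib
import Cfsg.Agent.Lib.Helper27.MSS.Base
import Cfsg.Agent.Lib.Helper27.OddMeta
import Cfsg.Agent.Lib.Helper27.SsChain

/-!
Project MSS, piece ODD: a non-abelian metacyclic `p`-group, `p` odd, has `SmallAut`.
-/

set_option autoImplicit false

namespace Cfsg.Agent.Lib.Helper27.MSS

open Cfsg Cfsg.Agent.Lib.Helper27.AbInvNeg
open scoped commutatorElement

/-- iterating an automorphism that moves `t` by a fixed element `z` -/
theorem mssodd_pow_apply {M : Type*} [Group M] (γ : MulAut M) (t z : M) (h1 : γ t = t * z)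
    (h2 : γ z = z) : ∀ q : ℕ, (γ ^ q) t = t * z ^ q := by
  intro q
  induction q with
  | zero => simp
  | succ q ih =>
    rw [pow_succ', MulAut.mul_apply, ih, map_mul, map_pow, h1, h2, pow_succ', mul_assoc]

/-- an element of a `p'`-group of automorphisms whose `p^k`-th power is trivial is trivial -/
theorem mssodd_eq_one_of_pow {A : Type*} [Group A] {p : ℕ} (H : Subgroup A) [Finite H]
    (hcop : (Nat.card ↥H).Coprime p) {γ : A} (hγ : γ ∈ H) (k : ℕ) (hk : γ ^ (p ^ k) = 1) :
    γ = 1 := by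
  have h2 : γ ^ Nat.card H = 1 := by
    have : (⟨γ, hγ⟩ : ↥H) ^ Nat.card H = 1 := pow_card_eq_one'
    exact congrArg Subtype.val this
  have h3 := pow_gcd_eq_one.mpr ⟨hk, h2⟩
  have h4 : Nat.gcd (p ^ k) (Nat.card H) = 1 := Nat.Coprime.pow_left k hcop.symm
  rw [h4, pow_one] at h3
  exact h3

/-- the structure used for ODD: the subgroup `V` of elements of order dividing `p` and a nontrivial
cyclic characteristic subgroup `V1` of it with `V / V1` cyclic -/
theorem mssodd_struct {M : Type*} [Group M] [Finite M] {p : ℕ} [Fact p.Prime] (hp : p ≠ 2)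
    (hM : IsPGroup p M) (hm : Cfsg.IsMetacyclic M) (hnc : ¬ ∀ a b : M, a * b = b * a) :
    ∃ (V V1 : Subgroup M) (_ : V1.Normal), (∀ x : M, x ∈ V ↔ x ^ p = 1) ∧ V1 ≤ V ∧
      (∀ α : MulAut M, ∀ t ∈ V1, α t ∈ V1) ∧
      IsCyclic ↥(V1.map (QuotientGroup.mk' (⊥ : Subgroup M))) ∧
      IsCyclic ↥(V.map (QuotientGroup.mk' V1)) := by
  have hpp : p.Prime := Fact.out
  have hncyc : ¬ IsCyclic M := by
    intro hc
    apply hnc
    intro a b
    obtain ⟨g, hg⟩ := IsCyclic.exists_generator (α := M)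
    obtain ⟨i, rfl⟩ := hg a
    obtain ⟨j, rfl⟩ := hg b
    exact zpow_mul_comm g i j
  obtain ⟨V, hV, hVcard, hVcomm⟩ := OddMeta.omega_sub hp hM hm hncyc
  obtain ⟨N, hNn, hNc, hQc⟩ := hm
  have hcomN : commutator M ≤ N := by
    haveI := hNn
    apply Subgroup.Normal.quotient_commutative_iff_commutator_le.mp
    exact ⟨⟨fun a b => by
      obtain ⟨g, hg⟩ := IsCyclic.exists_generator (α := M ⧸ N)
      obtain ⟨i, rfl⟩ := hg a
      obtain ⟨j, rfl⟩ := hg b
      exact zpow_mul_comm g i j⟩⟩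
  have hcomne : commutator M ≠ ⊥ := by
    intro h
    apply hnc
    intro a b
    have h1 : ⁅a, b⁆ ∈ commutator M := by
      rw [commutator_def]
      exact Subgroup.commutator_mem_commutator (Subgroup.mem_top a) (Subgroup.mem_top b)
    rw [h, Subgroup.mem_bot] at h1
    exact (commutatorElement_eq_one_iff_commute.mp h1).eq
  obtain ⟨w, hwc, hwo⟩ := OddMeta.exists_orderOf_eq_of_ne_bot (p := p) (commutator M)
    (hM.to_subgroup _) hcomne
  have hw1 : w ≠ 1 := by
    rintro rfl
    rw [orderOf_one] at hwo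
    exact hpp.one_lt.ne hwo
  have hwV : w ∈ V := by
    rw [hV, ← hwo]
    exact pow_orderOf_eq_one w
  have hVn : V.Normal := by
    refine ⟨fun x hx g => ?_⟩
    rw [hV] at hx ⊢
    rw [conj_pow, hx, mul_one, mul_inv_cancel]
  let V1 : Subgroup M := V ⊓ commutator M
  have hV1n : V1.Normal := Subgroup.normal_inf_normal V (commutator M)
  have hV1le : V1 ≤ V := inf_le_left
  have hwV1 : w ∈ V1 := ⟨hwV, hwc⟩
  refine ⟨V, V1, hV1n, hV, hV1le, ?_, ?_, ?_⟩
  · intro α t ht
    refine ⟨?_, ?_⟩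
    · have h1 : t ∈ V := ht.1
      show α t ∈ V
      rw [hV] at h1 ⊢
      rw [← map_pow, h1, map_one]
    · have h2 : t ∈ commutator M := ht.2
      have hch : (commutator M).Characteristic := by
        rw [commutator_def]
        infer_instance
      have h3 := (Subgroup.characteristic_iff_map_le.mp hch) α
      exact h3 ⟨t, h2, rfl⟩
  · haveI : IsCyclic ↥N := hNc
    haveI : IsCyclic ↥V1 := Subgroup.isCyclic_of_le (inf_le_right.trans hcomN)
    exact isCyclic_of_surjective
      ((QuotientGroup.mk' (⊥ : Subgroup M)).subgroupMap V1)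
      (MonoidHom.subgroupMap_surjective _ _)
  · apply isCyclic_of_card_dvd_prime (p := p)
    have h1 : Nat.card ↥(V.map (QuotientGroup.mk' V1)) = V1.relIndex V := by
      rw [← Subgroup.relIndex_ker, QuotientGroup.ker_mk']
    rw [h1]
    have h2 := Subgroup.relIndex_mul_relIndex (⊥ : Subgroup M) V1 V bot_le hV1le
    rw [Subgroup.relIndex_bot_left, Subgroup.relIndex_bot_left, hVcard] at h2
    have h3 : p ∣ Nat.card ↥V1 := by
      have h4 : orderOf (⟨w, hwV1⟩ : ↥V1) = p := by
        rw [← hwo, ← Subgroup.orderOf_coe]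
      rw [← h4]
      exact orderOf_dvd_natCard _
    obtain ⟨c, hc⟩ := h3
    rw [hc] at h2
    have h5 : c * V1.relIndex V = p := by
      have h6 : p * (c * V1.relIndex V) = p * p := by
        rw [← mul_assoc, h2, sq]
      exact Nat.eq_of_mul_eq_mul_left hpp.pos h6
    exact Dvd.intro_left c h5

/-- an element of a `p'`-group of automorphisms of `M` that moves every `t` with `t ^ p = 1` by an
element of `V1` and fixes `V1` pointwise is trivial -/
theorem mssodd_kill {M : Type*} [Group M] [Finite M] {p : ℕ} [Fact p.Prime] (hp : p ≠ 2)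
    (hM : IsPGroup p M) (hm : Cfsg.IsMetacyclic M) (V V1 : Subgroup M)
    (hV : ∀ x : M, x ∈ V ↔ x ^ p = 1) (hV1le : V1 ≤ V) (H : Subgroup (MulAut M))
    (hcop : (Nat.card ↥H).Coprime p) {γ : MulAut M} (hγ : γ ∈ H)
    (h1 : ∀ t ∈ V, t⁻¹ * γ t ∈ V1) (h2 : ∀ t ∈ V1, γ t = t) : γ = 1 := by
  have hfix : ∀ x : M, x ^ p = 1 → (γ ^ p) x = x := by
    intro x hx
    have hxV : x ∈ V := (hV x).mpr hx
    have hz := h1 x hxV
    have h3 : γ x = x * (x⁻¹ * γ x) := by group
    have h4 := mssodd_pow_apply γ x (x⁻¹ * γ x) h3 (h2 _ hz) p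
    rw [h4, (hV _).mp (hV1le hz), mul_one]
  have hmem : γ ^ p ∈ H := H.pow_mem hγ p
  have hord : (orderOf (γ ^ p)).Coprime p := by
    have h5 : orderOf (γ ^ p) ∣ Nat.card ↥H := by
      have h6 : orderOf (⟨γ ^ p, hmem⟩ : ↥H) ∣ Nat.card ↥H := orderOf_dvd_natCard _
      rwa [Subgroup.orderOf_mk] at h6
    exact Nat.Coprime.coprime_dvd_left h5 hcop
  have h7 := OddMeta.eq_one_of_coprime_of_fix hp hM hm (γ ^ p) hord hfix
  exact mssodd_eq_one_of_pow H hcop hγ 1 (by rwa [pow_one])

/-- ODD -/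
theorem smallAut_odd_meta {M : Type*} [Group M] [Finite M] {p : ℕ} [Fact p.Prime] (hp : p ≠ 2)
    (hM : IsPGroup p M) (hm : Cfsg.IsMetacyclic M) (hnc : ¬ ∀ a b : M, a * b = b * a) :
    SmallAut p M := by
  obtain ⟨V, V1, hV1n, hV, hV1le, hV1pres, hcyc0, hcyc1⟩ := mssodd_struct hp hM hm hnc
  haveI := hV1n
  have hVpres : ∀ α : MulAut M, ∀ t ∈ V, α t ∈ V := by
    intro α t ht
    rw [hV] at ht ⊢
    rw [← map_pow, ht, map_one]
  have hbotpres : ∀ α : MulAut M, ∀ t ∈ (⊥ : Subgroup M), α t ∈ (⊥ : Subgroup M) := by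
    intro α t ht
    rw [Subgroup.mem_bot] at ht ⊢
    rw [ht, map_one]
  obtain ⟨n, hn⟩ := IsPGroup.iff_card.mp hM
  intro H hcop
  refine ⟨⟨⟨fun a b => ?_⟩⟩, fun α hα => ?_⟩
  · -- commutativity
    obtain ⟨α, hα⟩ := a
    obtain ⟨β, hβ⟩ := b
    apply Subtype.ext
    show α * β = β * α
    set γ : MulAut M := (β * α)⁻¹ * (α * β) with hγdef
    have hγH : γ ∈ H := H.mul_mem (H.inv_mem (H.mul_mem hβ hα)) (H.mul_mem hα hβ)
    have hγ1 : γ = 1 := by
      apply mssodd_kill hp hM hm V V1 hV hV1le H hcop hγH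
      · intro t ht
        have h1 := SsChain.comm_mod V1 V hcyc1 α β (hV1pres α) (hVpres α) (hV1pres β) (hVpres β) ht
        have h2 := hV1pres (β * α)⁻¹ _ h1
        have e : t⁻¹ * γ t = (β * α)⁻¹ ((β (α t))⁻¹ * α (β t)) := by
          rw [hγdef]
          simp only [MulAut.mul_apply, map_mul, map_inv]
          have h3 : (β * α)⁻¹ (β (α t)) = t := by
            have h4 : β (α t) = (β * α) t := rfl
            rw [h4, MulAut.inv_apply_self]
          rw [h3]
        rw [e]
        exact h2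
      · intro t ht
        have h1 := SsChain.comm_mod (⊥ : Subgroup M) V1 hcyc0 α β (hbotpres α) (hV1pres α)
          (hbotpres β) (hV1pres β) ht
        rw [Subgroup.mem_bot, inv_mul_eq_one] at h1
        have h4 : β (α t) = (β * α) t := rfl
        rw [hγdef, MulAut.mul_apply, MulAut.mul_apply, ← h1, h4, MulAut.inv_apply_self]
    calc α * β = (β * α) * γ := by rw [hγdef]; group
      _ = β * α := by rw [hγ1, mul_one]
  · -- exponent
    set γ : MulAut M := α ^ ((p - 1) * p ^ n) with hγdef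
    have hγH : γ ∈ H := H.pow_mem hα _
    have hγ1 : γ = 1 := by
      apply mssodd_kill hp hM hm V V1 hV hV1le H hcop hγH
      · intro t ht
        exact SsChain.pow_mod V1 V hn hcyc1 α (hV1pres α) (hVpres α) ht
      · intro t ht
        have h1 := SsChain.pow_mod (⊥ : Subgroup M) V1 hn hcyc0 α (hbotpres α) (hV1pres α) ht
        rw [Subgroup.mem_bot, inv_mul_eq_one] at h1
        exact h1.symm
    have hmem : α ^ (p - 1) ∈ H := H.pow_mem hα _
    apply mssodd_eq_one_of_pow H hcop hmem n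
    rw [← pow_mul]
    exact hγ1

end Cfsg.Agent.Lib.Helper27.MSS
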