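import Mathlib

set_option autoImplicit false

namespace Cfsg.Agent.Lib.Helper21


/-- relators of the metacyclic presentation `⟨a,b | a^M, b^n = a^T, b a b⁻¹ = a^R⟩` -/
def metaRels (M n R T : ℕ) : Set (FreeGroup Bool) :=
  {FreeGroup.of true ^ M, (FreeGroup.of false) ^ n * (FreeGroup.of true ^ T)⁻¹,
    FreeGroup.of false * FreeGroup.of true * (FreeGroup.of false)⁻¹ * (FreeGroup.of true ^ R)⁻¹}

abbrev MetaGrp (M n R T : ℕ) : Type := PresentedGroup (metaRels M n R T)

namespace MetaGrp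

variable (M n R T : ℕ)

def ga : MetaGrp M n R T := PresentedGroup.of true
def gb : MetaGrp M n R T := PresentedGroup.of false

theorem ga_pow : (ga M n R T) ^ M = 1 := by
  have h : (FreeGroup.of true ^ M : FreeGroup Bool) ∈ metaRels M n R T := by
    simp [metaRels]
  have := PresentedGroup.one_of_mem h
  simpa [ga, PresentedGroup.of] using this

theorem gb_pow : (gb M n R T) ^ n = (ga M n R T) ^ T := by
  have h : ((FreeGroup.of false) ^ n * (FreeGroup.of true ^ T)⁻¹ : FreeGroup Bool) ∈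
      metaRels M n R T := by
    simp [metaRels]
  have := PresentedGroup.one_of_mem h
  rw [map_mul, map_inv, map_pow, map_pow, mul_inv_eq_one] at this
  exact this

theorem gb_conj : gb M n R T * ga M n R T * (gb M n R T)⁻¹ = (ga M n R T) ^ R := by
  have h : (FreeGroup.of false * FreeGroup.of true * (FreeGroup.of false)⁻¹ *
      (FreeGroup.of true ^ R)⁻¹ : FreeGroup Bool) ∈ metaRels M n R T := by
    simp [metaRels]
  have := PresentedGroup.one_of_mem h
  rw [map_mul, map_inv, map_pow, mul_inv_eq_one, map_mul, map_mul, map_inv] at this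
  exact this

theorem closure_gens : Subgroup.closure {ga M n R T, gb M n R T} = ⊤ := by
  have := PresentedGroup.closure_range_of (metaRels M n R T)
  rw [← this]
  congr 1
  ext x
  constructor
  · rintro (rfl | rfl)
    · exact ⟨true, rfl⟩
    · exact ⟨false, rfl⟩
  · rintro ⟨b, rfl⟩
    cases b
    · right; rfl
    · left; rfl

/-- universal property -/
theorem exists_hom {H : Type*} [Group H] (x y : H) (h1 : x ^ M = 1) (h2 : y ^ n = x ^ T)
    (h3 : y * x * y⁻¹ = x ^ R) :
    ∃ f : MetaGrp M n R T →* H, f (ga M n R T) = x ∧ f (gb M n R T) = y := by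
  let g : Bool → H := fun b => if b then x else y
  have hrel : ∀ r ∈ metaRels M n R T, FreeGroup.lift g r = 1 := by
    intro r hr
    simp only [metaRels, Set.mem_insert_iff, Set.mem_singleton_iff] at hr
    rcases hr with rfl | rfl | rfl
    · simp [g, h1]
    · simp [g, h2]
    · simp [g, h3]
  refine ⟨PresentedGroup.toGroup hrel, ?_, ?_⟩
  · simp [ga, g]
  · simp [gb, g]

end MetaGrp



/-- a group generated by `x, y` with `x^M = 1`, `y x y⁻¹ ∈ ⟨x⟩`, `y^n ∈ ⟨x⟩` is finite of order
dividing `M * n` -/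
theorem meta_card_dvd {H : Type*} [Group H] (x y : H) (hgen : Subgroup.closure {x, y} = ⊤)
    (M n : ℕ) (hM : 0 < M) (hn : 0 < n) (h1 : x ^ M = 1) (h2 : y ^ n ∈ Subgroup.zpowers x)
    (h3 : y * x * y⁻¹ ∈ Subgroup.zpowers x) :
    Finite H ∧ Nat.card H ∣ M * n ∧ (Subgroup.zpowers x).Normal := by
  classical
  set Nx := Subgroup.zpowers x with hNx
  have hfo : IsOfFinOrder x := isOfFinOrder_iff_pow_eq_one.mpr ⟨M, hM, h1⟩
  have hfinN : Finite Nx := by
    rw [hNx]
    exact (Nat.finite_of_card_ne_zero (by rw [Nat.card_zpowers]; exact (orderOf_pos_iff.mpr hfo).ne'))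
  have hcardN : Nat.card Nx ∣ M := by
    rw [hNx, Nat.card_zpowers]; exact orderOf_dvd_of_pow_eq_one h1
  -- conjugation by y maps Nx into Nx
  have hconj : ∀ z ∈ Nx, y * z * y⁻¹ ∈ Nx := by
    intro z hz
    obtain ⟨j, rfl⟩ := Subgroup.mem_zpowers_iff.mp hz
    have : y * x ^ j * y⁻¹ = (y * x * y⁻¹) ^ j := (conj_zpow (a := y) (b := x) (i := j)).symm
    rw [this]
    exact Subgroup.zpow_mem _ h3 j
  have hynorm : y ∈ Subgroup.normalizer (Nx : Set H) := by
    rw [Subgroup.mem_normalizer_iff]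
    intro h
    refine ⟨hconj h, fun hh => ?_⟩
    let f : Nx → Nx := fun z => ⟨y * z * y⁻¹, hconj z z.2⟩
    have hfinj : Function.Injective f := by
      intro a b hab
      have h1 : y * (a : H) * y⁻¹ = y * (b : H) * y⁻¹ := congrArg Subtype.val hab
      apply Subtype.ext
      have h2 : (a : H) = y⁻¹ * (y * (a : H) * y⁻¹) * y := by group
      rw [h2, h1]; group
    obtain ⟨z, hz⟩ := (Finite.injective_iff_surjective.mp hfinj) ⟨y * h * y⁻¹, hh⟩
    have h1 : y * (z : H) * y⁻¹ = y * h * y⁻¹ := congrArg Subtype.val hz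
    have h2 : h = (z : H) := by
      have : h = y⁻¹ * (y * h * y⁻¹) * y := by group
      rw [this, ← h1]; group
    rw [h2]; exact z.2
  have hxnorm : x ∈ Subgroup.normalizer (Nx : Set H) :=
    Subgroup.le_normalizer (Subgroup.mem_zpowers x)
  have hnormal : Nx.Normal := by
    rw [← Subgroup.normalizer_eq_top_iff, eq_top_iff, ← hgen, Subgroup.closure_le]
    rintro g (rfl | rfl)
    · exact hxnorm
    · exact hynorm
  haveI := hnormal
  set yb : H ⧸ Nx := QuotientGroup.mk' Nx y with hyb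
  have hxb : QuotientGroup.mk' Nx x = 1 := by
    rw [QuotientGroup.mk'_apply, QuotientGroup.eq_one_iff]
    exact Subgroup.mem_zpowers x
  have hybn : yb ^ n = 1 := by
    rw [hyb, ← map_pow, QuotientGroup.mk'_apply, QuotientGroup.eq_one_iff]
    exact h2
  have hall : ∀ q : H ⧸ Nx, q ∈ Subgroup.zpowers yb := by
    intro q
    obtain ⟨g, rfl⟩ := QuotientGroup.mk'_surjective Nx q
    have hg : g ∈ Subgroup.closure {x, y} := by rw [hgen]; trivial
    have h4 : QuotientGroup.mk' Nx g ∈ (Subgroup.closure {x, y}).map (QuotientGroup.mk' Nx) :=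
      ⟨g, hg, rfl⟩
    rw [MonoidHom.map_closure, Set.image_pair, hxb] at h4
    have h5 : Subgroup.closure {1, QuotientGroup.mk' Nx y} ≤ Subgroup.zpowers yb := by
      rw [Subgroup.closure_le]
      rintro z (rfl | rfl)
      · exact Subgroup.one_mem _
      · exact Subgroup.mem_zpowers _
    exact h5 h4
  have hcardQ : Nat.card (H ⧸ Nx) ∣ n := by
    have h6 : Subgroup.zpowers yb = ⊤ := by
      rw [eq_top_iff]; intro q _; exact hall q
    have h7 : Nat.card (H ⧸ Nx) = orderOf yb := by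
      rw [← Nat.card_zpowers, h6, Subgroup.card_top]
    rw [h7]
    exact orderOf_dvd_of_pow_eq_one hybn
  have hcard : Nat.card H = Nat.card (H ⧸ Nx) * Nat.card Nx :=
    Subgroup.card_eq_card_quotient_mul_card_subgroup Nx
  have hdvd : Nat.card H ∣ M * n := by
    rw [hcard, mul_comm M n]
    exact Nat.mul_dvd_mul hcardQ hcardN
  refine ⟨?_, hdvd, hnormal⟩
  apply Nat.finite_of_card_ne_zero
  intro h0
  rw [h0] at hdvd
  have := Nat.eq_zero_of_zero_dvd hdvd
  have : M * n ≠ 0 := (Nat.mul_pos hM hn).ne'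
  contradiction



def mmAut (M : ℕ) (u : (ZMod M)ˣ) : MulAut (Multiplicative (ZMod M)) where
  toFun x := Multiplicative.ofAdd ((u : ZMod M) * Multiplicative.toAdd x)
  invFun x := Multiplicative.ofAdd (((u⁻¹ : (ZMod M)ˣ) : ZMod M) * Multiplicative.toAdd x)
  left_inv x := by
    show Multiplicative.ofAdd (((u⁻¹ : (ZMod M)ˣ) : ZMod M) * ((u : ZMod M) * Multiplicative.toAdd x)) = x
    rw [← mul_assoc, Units.inv_mul, one_mul]; rfl
  right_inv x := by
    show Multiplicative.ofAdd ((u : ZMod M) * (((u⁻¹ : (ZMod M)ˣ) : ZMod M) * Multiplicative.toAdd x)) = x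
    rw [← mul_assoc, Units.mul_inv, one_mul]; rfl
  map_mul' x y := by
    show Multiplicative.ofAdd ((u : ZMod M) * (Multiplicative.toAdd x + Multiplicative.toAdd y)) = _
    rw [mul_add]; rfl

def mmAutHom (M : ℕ) : (ZMod M)ˣ →* MulAut (Multiplicative (ZMod M)) where
  toFun := mmAut M
  map_one' := by
    ext x
    show Multiplicative.ofAdd (((1 : (ZMod M)ˣ) : ZMod M) * Multiplicative.toAdd x) = x
    rw [Units.val_one, one_mul]; rfl
  map_mul' u v := by
    ext x
    show Multiplicative.ofAdd (((u * v : (ZMod M)ˣ) : ZMod M) * Multiplicative.toAdd x) =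
      Multiplicative.ofAdd ((u : ZMod M) * ((v : ZMod M) * Multiplicative.toAdd x))
    rw [Units.val_mul, mul_assoc]

theorem mmAutHom_apply (M : ℕ) (u : (ZMod M)ˣ) (x : ZMod M) :
    mmAutHom M u (Multiplicative.ofAdd x) = Multiplicative.ofAdd ((u : ZMod M) * x) := rfl

noncomputable def mmPowHom (M : ℕ) (k : ℕ) (u : (ZMod M)ˣ) (hu : u ^ k = 1) :
    Multiplicative (ZMod k) →* (ZMod M)ˣ :=
  AddMonoidHom.toMultiplicativeLeft
    (ZMod.lift k ⟨zmultiplesHom (Additive (ZMod M)ˣ) (Additive.ofMul u), by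
      simp only [zmultiplesHom_apply, natCast_zsmul]
      rw [← ofMul_pow, hu, ofMul_one]⟩)

theorem mmPowHom_apply (M : ℕ) (k : ℕ) (u : (ZMod M)ˣ) (hu : u ^ k = 1) (j : ℕ) :
    mmPowHom M k u hu (Multiplicative.ofAdd (j : ZMod k)) = u ^ j := by
  show Additive.toMul (ZMod.lift k _ ((j : ZMod k))) = u ^ j
  have : ((j : ZMod k)) = (((j : ℤ)) : ZMod k) := by push_cast; rfl
  rw [this, ZMod.lift_coe]
  simp only [zmultiplesHom_apply, natCast_zsmul]
  rfl

theorem normal_of_le_center' {G : Type*} [Group G] (H : Subgroup G)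
    (h : H ≤ Subgroup.center G) : H.Normal := by
  constructor
  intro a ha g
  have hc := Subgroup.mem_center_iff.mp (h ha) g
  have : g * a * g⁻¹ = a := by rw [hc, mul_inv_cancel_right]
  rw [this]; exact ha

set_option maxHeartbeats 800000 in
theorem meta_model (M n R T : ℕ) (hM : 0 < M) (hn : 0 < n) (hR : R ^ n ≡ 1 [MOD M])
    (hT : T * R ≡ T [MOD M]) :
    ∃ (X : Type) (_ : Group X) (_ : Finite X) (x y : X), x ^ M = 1 ∧ y ^ n = x ^ T ∧
      y * x * y⁻¹ = x ^ R ∧ orderOf x = M ∧ Nat.card X = M * n ∧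
      Subgroup.closure {x, y} = ⊤ := by
  classical
  haveI : NeZero M := ⟨hM.ne'⟩
  haveI : NeZero n := ⟨hn.ne'⟩
  haveI : NeZero (n * M) := ⟨(Nat.mul_pos hn hM).ne'⟩
  -- the unit u = R
  have hRz : ((R : ZMod M)) ^ n = 1 := by
    have := (ZMod.natCast_eq_natCast_iff _ _ _).mpr hR
    push_cast at this
    exact this
  have hn1 : n = (n - 1) + 1 := by omega
  have hRinv : (R : ZMod M) * (R : ZMod M) ^ (n - 1) = 1 := by
    rw [← pow_succ', ← hn1, hRz]
  set u : (ZMod M)ˣ := Units.mkOfMulEqOne (R : ZMod M) ((R : ZMod M) ^ (n - 1)) hRinv with hu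
  have huv : (u : ZMod M) = (R : ZMod M) := rfl
  have hun : u ^ n = 1 := by
    apply Units.ext
    rw [Units.val_pow_eq_pow_val, huv, hRz]; rfl
  have huk : u ^ (n * M) = 1 := by rw [pow_mul, hun, one_pow]
  have hTz : (R : ZMod M) * (T : ZMod M) = (T : ZMod M) := by
    have := (ZMod.natCast_eq_natCast_iff _ _ _).mpr hT
    push_cast at this
    rw [mul_comm]; exact this
  set φ : Multiplicative (ZMod (n * M)) →* MulAut (Multiplicative (ZMod M)) :=
    (mmAutHom M).comp (mmPowHom M (n * M) u huk) with hφ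
  have hφ1 : ∀ (j : ℕ) (x : ZMod M), φ (Multiplicative.ofAdd (j : ZMod (n * M)))
      (Multiplicative.ofAdd x) = Multiplicative.ofAdd ((R : ZMod M) ^ j * x) := by
    intro j x
    rw [hφ, MonoidHom.comp_apply, mmPowHom_apply, mmAutHom_apply, Units.val_pow_eq_pow_val, huv]
  set A : Multiplicative (ZMod M) ⋊[φ] Multiplicative (ZMod (n * M)) :=
    SemidirectProduct.inl (Multiplicative.ofAdd (1 : ZMod M)) with hA
  set B : Multiplicative (ZMod M) ⋊[φ] Multiplicative (ZMod (n * M)) :=
    SemidirectProduct.inr (Multiplicative.ofAdd (1 : ZMod (n * M))) with hB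
  have hApow : ∀ j : ℕ, A ^ j = SemidirectProduct.inl (Multiplicative.ofAdd (j : ZMod M)) := by
    intro j
    rw [hA, ← map_pow, ← ofAdd_nsmul]
    simp
  have hBpow : ∀ j : ℕ, B ^ j =
      SemidirectProduct.inr (Multiplicative.ofAdd (j : ZMod (n * M))) := by
    intro j
    rw [hB, ← map_pow, ← ofAdd_nsmul]
    simp
  have hAM : A ^ M = 1 := by
    rw [hApow, ZMod.natCast_self]
    simp
  have hconj : ∀ j : ℕ, B * A ^ j * B⁻¹ = A ^ (R * j) := by
    intro j
    rw [hApow, hApow, hB, ← map_inv, ← SemidirectProduct.inl_aut]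
    have := hφ1 1 (j : ZMod M)
    rw [Nat.cast_one] at this
    rw [this, pow_one]
    push_cast
    rfl
  have hgenY : Subgroup.closure {A, B} = ⊤ := by
    rw [eq_top_iff]
    intro y _
    rw [← SemidirectProduct.inl_left_mul_inr_right y]
    apply Subgroup.mul_mem
    · have h1 : y.left = Multiplicative.ofAdd (((Multiplicative.toAdd y.left).val : ℕ) : ZMod M) := by
        rw [ZMod.natCast_zmod_val]; rfl
      rw [h1, ← hApow]
      exact Subgroup.pow_mem _ (Subgroup.subset_closure (by simp)) _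
    · have h1 : y.right =
          Multiplicative.ofAdd (((Multiplicative.toAdd y.right).val : ℕ) : ZMod (n * M)) := by
        rw [ZMod.natCast_zmod_val]; rfl
      rw [h1, ← hBpow]
      exact Subgroup.pow_mem _ (Subgroup.subset_closure (by simp)) _
  have hBnA : B ^ n * A = A * B ^ n := by
    have h1 : B ^ n * A * (B ^ n)⁻¹ = A := by
      rw [hBpow, hA, ← map_inv, ← SemidirectProduct.inl_aut, hφ1, hRz, one_mul]
    calc B ^ n * A = (B ^ n * A * (B ^ n)⁻¹) * B ^ n := by group
      _ = A * B ^ n := by rw [h1]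
  have hBAT : B * A ^ T = A ^ T * B := by
    have h1 : B * A ^ T * B⁻¹ = A ^ T := by
      rw [hconj, hApow, hApow]
      push_cast
      rw [hTz]
    calc B * A ^ T = (B * A ^ T * B⁻¹) * B := by group
      _ = A ^ T * B := by rw [h1]
  set z₀ := B ^ n * (A ^ T)⁻¹ with hz₀
  have hz₀A : z₀ * A = A * z₀ := by
    have h2 : (A ^ T)⁻¹ * A = A * (A ^ T)⁻¹ := by
      have : Commute A (A ^ T) := (Commute.refl A).pow_right T
      exact (this.inv_right).symm.eq
    rw [hz₀, mul_assoc, h2, ← mul_assoc, hBnA, mul_assoc]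
  have hz₀B : z₀ * B = B * z₀ := by
    have h2 : (A ^ T)⁻¹ * B = B * (A ^ T)⁻¹ := by
      have : Commute B (A ^ T) := hBAT
      exact (this.inv_right).symm.eq
    have h3 : B ^ n * B = B * B ^ n := by rw [← pow_succ, ← pow_succ']
    rw [hz₀, mul_assoc, h2, ← mul_assoc, h3, mul_assoc]
  have hz₀c : z₀ ∈ Subgroup.center
      (Multiplicative (ZMod M) ⋊[φ] Multiplicative (ZMod (n * M))) := by
    have h1 : Subgroup.closure {A, B} ≤ Subgroup.centralizer {z₀} := by
      rw [Subgroup.closure_le]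
      rintro g (rfl | rfl)
      · rw [SetLike.mem_coe, Subgroup.mem_centralizer_iff]
        intro w hw
        rw [Set.mem_singleton_iff] at hw
        subst hw
        exact hz₀A
      · rw [SetLike.mem_coe, Subgroup.mem_centralizer_iff]
        intro w hw
        rw [Set.mem_singleton_iff] at hw
        subst hw
        exact hz₀B
    rw [hgenY] at h1
    rw [Subgroup.mem_center_iff]
    intro g
    have := h1 (Subgroup.mem_top g)
    rw [Subgroup.mem_centralizer_iff] at this
    exact (this z₀ rfl).symm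
  have hcommBA : Commute (B ^ n) ((A ^ T)⁻¹) := by
    have : Commute (B ^ n) (A ^ T) := (show Commute (B ^ n) A from hBnA).pow_right T
    exact this.inv_right
  have hz₀pow : ∀ k : ℕ, z₀ ^ k = B ^ (n * k) * (A ^ (T * k))⁻¹ := by
    intro k
    rw [hz₀, hcommBA.mul_pow, ← pow_mul, inv_pow, ← pow_mul]
  have hz₀M : z₀ ^ M = 1 := by
    rw [hz₀pow, hBpow, ZMod.natCast_self, pow_mul', hAM, one_pow]
    simp
  have hright : ∀ j : ℤ, SemidirectProduct.rightHom (z₀ ^ j) =
      Multiplicative.ofAdd (((j * n : ℤ)) : ZMod (n * M)) := by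
    intro j
    rw [map_zpow, hz₀, map_mul, map_inv, hApow, hBpow, SemidirectProduct.rightHom_inl,
      SemidirectProduct.rightHom_inr, inv_one, mul_one, ← ofAdd_zsmul]
    congr 1
    simp
  have hMdvd : ∀ j : ℤ, SemidirectProduct.rightHom (z₀ ^ j) = 1 → (M : ℤ) ∣ j := by
    intro j hj
    rw [hright] at hj
    have h1 : (((j * n : ℤ)) : ZMod (n * M)) = 0 := hj
    rw [ZMod.intCast_zmod_eq_zero_iff_dvd] at h1
    have h2 : ((n * M : ℕ) : ℤ) = (n : ℤ) * M := by push_cast; ring
    rw [h2, mul_comm j] at h1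
    exact Int.dvd_of_mul_dvd_mul_left (by exact_mod_cast hn.ne') h1
  have hord : orderOf z₀ = M := by
    apply Nat.dvd_antisymm (orderOf_dvd_of_pow_eq_one hz₀M)
    have h1 : z₀ ^ ((orderOf z₀ : ℕ) : ℤ) = 1 := by rw [zpow_natCast, pow_orderOf_eq_one]
    have h2 := hMdvd _ (by rw [h1, map_one])
    exact_mod_cast h2
  have hZn : (Subgroup.zpowers z₀).Normal := normal_of_le_center' _ (by
    rw [Subgroup.zpowers_le]; exact hz₀c)
  set mk := QuotientGroup.mk' (Subgroup.zpowers z₀) with hmk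
  have hmks : Function.Surjective mk := QuotientGroup.mk'_surjective _
  have hcardY : Nat.card (Multiplicative (ZMod M) ⋊[φ] Multiplicative (ZMod (n * M))) =
      M * (n * M) := by
    rw [Nat.card_congr SemidirectProduct.equivProd, Nat.card_prod]
    simp [Nat.card_eq_fintype_card, ZMod.card]
  have hcardX : Nat.card ((Multiplicative (ZMod M) ⋊[φ] Multiplicative (ZMod (n * M))) ⧸
      Subgroup.zpowers z₀) = M * n := by
    have h1 := Subgroup.card_eq_card_quotient_mul_card_subgroup (Subgroup.zpowers z₀)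
    rw [hcardY, Nat.card_zpowers, hord] at h1
    have h2 : M * (n * M) = (M * n) * M := by ring
    rw [h2] at h1
    exact (Nat.eq_of_mul_eq_mul_right hM h1).symm
  have hxord : orderOf (mk A) = M := by
    apply Nat.dvd_antisymm
    · apply orderOf_dvd_of_pow_eq_one
      rw [← map_pow, hAM, map_one]
    · have h1 : mk (A ^ orderOf (mk A)) = 1 := by rw [map_pow, pow_orderOf_eq_one]
      rw [hmk, QuotientGroup.mk'_apply, QuotientGroup.eq_one_iff, Subgroup.mem_zpowers_iff] at h1
      obtain ⟨j, hj⟩ := h1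
      have h2 : SemidirectProduct.rightHom (z₀ ^ j) = 1 := by
        rw [hj, hApow, SemidirectProduct.rightHom_inl]
      obtain ⟨c, hc⟩ := hMdvd j h2
      have h3 : z₀ ^ j = 1 := by
        rw [hc, zpow_mul, zpow_natCast, hz₀M, one_zpow]
      rw [h3, hApow] at hj
      have h4 : Multiplicative.ofAdd ((orderOf (mk A) : ℕ) : ZMod M) = 1 :=
        SemidirectProduct.inl_injective (by rw [← hj, map_one])
      have h5 : ((orderOf (mk A) : ℕ) : ZMod M) = 0 := h4
      exact (ZMod.natCast_eq_zero_iff _ _).mp h5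
  refine ⟨_, inferInstance, ?_, mk A, mk B, ?_, ?_, ?_, hxord, hcardX, ?_⟩
  · apply Nat.finite_of_card_ne_zero
    rw [hcardX]
    exact (Nat.mul_pos hM hn).ne'
  · rw [← map_pow, hAM, map_one]
  · have h1 : mk B ^ n = mk (B ^ n) := (map_pow mk B n).symm
    have h2 : mk A ^ T = mk (A ^ T) := (map_pow mk A T).symm
    rw [h1, h2, hmk, QuotientGroup.mk'_eq_mk']
    refine ⟨(B ^ n)⁻¹ * A ^ T, ?_, by group⟩
    have hc2 : Commute (B ^ n) (A ^ T) := (show Commute (B ^ n) A from hBnA).pow_right T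
    have : (B ^ n)⁻¹ * A ^ T = z₀⁻¹ := by
      rw [hz₀, (hc2.inv_left).eq]; group
    rw [this]
    exact Subgroup.inv_mem _ (Subgroup.mem_zpowers z₀)
  · have h2 : mk A ^ R = mk (A ^ R) := (map_pow mk A R).symm
    rw [← map_inv, ← map_mul, ← map_mul, h2]
    have := hconj 1
    rw [pow_one, mul_one] at this
    rw [this]
  · rw [← Set.image_pair, ← MonoidHom.map_closure, hgenY, Subgroup.map_top_of_surjective _ hmks]


/-- the metacyclic presentation defines a group of order `M * n` in which `a` has order `M` -/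
theorem MetaGrp.card_order (M n R T : ℕ) (hM : 0 < M) (hn : 0 < n) (hR : R ^ n ≡ 1 [MOD M])
    (hT : T * R ≡ T [MOD M]) :
    Finite (MetaGrp M n R T) ∧ Nat.card (MetaGrp M n R T) = M * n ∧
      orderOf (MetaGrp.ga M n R T) = M := by
  obtain ⟨X, instX, finX, x, y, hx1, hx2, hx3, hxord, hcardX, hgenX⟩ := meta_model M n R T hM hn hR hT
  obtain ⟨f, hfa, hfb⟩ := MetaGrp.exists_hom M n R T x y hx1 hx2 hx3
  have hfs : Function.Surjective f := by
    rw [← MonoidHom.range_eq_top, eq_top_iff, ← hgenX, Subgroup.closure_le]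
    rintro g (rfl | rfl)
    · exact ⟨_, hfa⟩
    · exact ⟨_, hfb⟩
  have h2 : (MetaGrp.gb M n R T) ^ n ∈ Subgroup.zpowers (MetaGrp.ga M n R T) := by
    rw [MetaGrp.gb_pow]; exact Subgroup.pow_mem _ (Subgroup.mem_zpowers _) _
  have h3 : MetaGrp.gb M n R T * MetaGrp.ga M n R T * (MetaGrp.gb M n R T)⁻¹ ∈
      Subgroup.zpowers (MetaGrp.ga M n R T) := by
    rw [MetaGrp.gb_conj]; exact Subgroup.pow_mem _ (Subgroup.mem_zpowers _) _
  obtain ⟨hfin, hdvd, -⟩ := meta_card_dvd (MetaGrp.ga M n R T) (MetaGrp.gb M n R T)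
    (MetaGrp.closure_gens M n R T) M n hM hn (MetaGrp.ga_pow M n R T) h2 h3
  have hle : M * n ≤ Nat.card (MetaGrp M n R T) := by
    rw [← hcardX]
    exact Nat.card_le_card_of_surjective f hfs
  have hcard : Nat.card (MetaGrp M n R T) = M * n :=
    Nat.le_antisymm (Nat.le_of_dvd (Nat.mul_pos hM hn) hdvd) hle
  refine ⟨hfin, hcard, ?_⟩
  apply Nat.dvd_antisymm (orderOf_dvd_of_pow_eq_one (MetaGrp.ga_pow M n R T))
  have := orderOf_map_dvd f (MetaGrp.ga M n R T)
  rw [hfa, hxord] at this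
  exact this

end Cfsg.Agent.Lib.Helper21
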