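import Mathlib

set_option autoImplicit false

namespace Cfsg.Agent.Lib.Helper21

theorem commutator_le_of_gen {Γ : Type*} [Group Γ] (K N : Subgroup Γ) [N.Normal]
    (hKc : K ≤ Subgroup.center Γ) (a b : Γ) (hgen : Subgroup.closure {a, b} ⊔ K = ⊤)
    (hu : a * b * a⁻¹ * b⁻¹ ∈ N) : commutator Γ ≤ N := by
  set u := a * b * a⁻¹ * b⁻¹ with hudef
  have hQcomm : ∀ x y : Γ ⧸ N, x * y = y * x := by
    set π := QuotientGroup.mk' N with hπ
    set S : Set (Γ ⧸ N) := π '' ({a, b} ∪ (K : Set Γ)) with hS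
    have hcl : Subgroup.closure S = ⊤ := by
      rw [hS, ← MonoidHom.map_closure, Subgroup.closure_union, Subgroup.closure_eq, hgen,
        Subgroup.map_top_of_surjective _ (QuotientGroup.mk'_surjective _)]
    have hπu : π u = 1 := by
      rw [hπ, QuotientGroup.mk'_apply, QuotientGroup.eq_one_iff]
      exact hu
    have hab : π a * π b = π b * π a := by
      have : a * b = u * (b * a) := by rw [hudef]; group
      rw [← map_mul, this, map_mul, hπu, one_mul, map_mul]
    have hcentral : ∀ k ∈ K, ∀ y : Γ, π k * π y = π y * π k := by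
      intro k hk y
      have hkc : ∀ g : Γ, g * k = k * g := Subgroup.mem_center_iff.mp (hKc hk)
      rw [← map_mul, ← map_mul, hkc y]
    have hcomm : ∀ x ∈ S, ∀ y ∈ S, x * y = y * x := by
      rintro _ ⟨x, hx, rfl⟩ _ ⟨y, hy, rfl⟩
      rcases hx with hx | hx
      · rcases hy with hy | hy
        · rcases hx with rfl | hx <;> rcases hy with rfl | hy
          · rfl
          · rw [Set.mem_singleton_iff] at hy; subst hy; exact hab
          · rw [Set.mem_singleton_iff] at hx; subst hx; exact hab.symm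
          · rw [Set.mem_singleton_iff] at hx hy; subst hx; subst hy; rfl
        · exact (hcentral y hy x).symm
      · exact hcentral x hx y
    have hmc := Subgroup.isMulCommutative_closure hcomm
    rw [hcl] at hmc
    intro x y
    have := hmc.is_comm.comm ⟨x, trivial⟩ ⟨y, trivial⟩
    exact congrArg Subtype.val this
  rw [commutator_def, Subgroup.commutator_le]
  intro g1 _ g2 _
  rw [← QuotientGroup.eq_one_iff, commutatorElement_def]
  simp only [QuotientGroup.mk_mul, QuotientGroup.mk_inv]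
  rw [hQcomm (g1 : Γ ⧸ N) (g2 : Γ ⧸ N)]
  group

theorem stem_abelian_core {Γ : Type*} [Group Γ] (K : Subgroup Γ) (hKc : K ≤ Subgroup.center Γ)
    (hKd : K ≤ commutator Γ) (a b : Γ) (hgen : Subgroup.closure {a, b} ⊔ K = ⊤)
    (hu : a * b * a⁻¹ * b⁻¹ ∈ K) (N : ℕ) (hN : a * b ^ N = b ^ N * a) :
    (a * b * a⁻¹ * b⁻¹) ^ N = 1 ∧ K ≤ Subgroup.zpowers (a * b * a⁻¹ * b⁻¹) := by
  set u := a * b * a⁻¹ * b⁻¹ with hudef
  have huc : ∀ g : Γ, g * u = u * g := Subgroup.mem_center_iff.mp (hKc hu)
  have hconj : a * b * a⁻¹ = u * b := by rw [hudef]; group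
  have huN : u ^ N = 1 := by
    have h1 : a * b ^ N * a⁻¹ = (u * b) ^ N := by rw [← conj_pow, hconj]
    have h2 : a * b ^ N * a⁻¹ = b ^ N := by rw [hN]; group
    have hcomm : Commute u b := (huc b).symm
    rw [h2, hcomm.mul_pow] at h1
    have : u ^ N * b ^ N = 1 * b ^ N := by rw [one_mul]; exact h1.symm
    exact mul_right_cancel this
  refine ⟨huN, ?_⟩
  haveI hnorm : (Subgroup.zpowers u).Normal := by
    constructor
    intro x hx g
    obtain ⟨j, rfl⟩ := Subgroup.mem_zpowers_iff.mp hx
    have hc : ∀ g : Γ, g * u ^ j = u ^ j * g := by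
      intro g
      exact ((Commute.zpow_right (huc g) j)).eq
    rw [hc g]
    have : u ^ j * g * g⁻¹ = u ^ j := by group
    rw [this]
    exact hx
  have hder := commutator_le_of_gen K (Subgroup.zpowers u) hKc a b hgen (Subgroup.mem_zpowers u)
  exact le_trans hKd hder

end Cfsg.Agent.Lib.Helper21
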