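import Mathlib
import Cfsg.Prelude.Def_KGroupFacts
import Cfsg.Agent.Lib.Helper21.StemAbelian
import Cfsg.Agent.Lib.Helper21.StemMeta

set_option autoImplicit false

namespace Cfsg.Agent.Lib.Helper21


/-- in a finite group, a cyclic subgroup whose generator is conjugated into it by a generating set
is normal -/
theorem zpowers_normal_of_gen {Γ : Type*} [Group Γ] [Finite Γ] (c : Γ) (S : Set Γ)
    (hS : Subgroup.closure S = ⊤) (h : ∀ s ∈ S, s * c * s⁻¹ ∈ Subgroup.zpowers c) :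
    (Subgroup.zpowers c).Normal := by
  classical
  set N := Subgroup.zpowers c with hN
  rw [← Subgroup.normalizer_eq_top_iff, eq_top_iff, ← hS, Subgroup.closure_le]
  intro y hy
  have hconj : ∀ z ∈ N, y * z * y⁻¹ ∈ N := by
    intro z hz
    obtain ⟨j, rfl⟩ := Subgroup.mem_zpowers_iff.mp hz
    have : y * c ^ j * y⁻¹ = (y * c * y⁻¹) ^ j := (conj_zpow (a := y) (b := c) (i := j)).symm
    rw [this]
    exact Subgroup.zpow_mem _ (h y hy) j
  show y ∈ Subgroup.normalizer (N : Set Γ)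
  rw [Subgroup.mem_normalizer_iff]
  intro g
  refine ⟨hconj g, fun hh => ?_⟩
  let f : N → N := fun z => ⟨y * z * y⁻¹, hconj z z.2⟩
  have hfinj : Function.Injective f := by
    intro a b hab
    have h1 : y * (a : Γ) * y⁻¹ = y * (b : Γ) * y⁻¹ := congrArg Subtype.val hab
    apply Subtype.ext
    have h2 : (a : Γ) = y⁻¹ * (y * (a : Γ) * y⁻¹) * y := by group
    rw [h2, h1]; group
  obtain ⟨z, hz⟩ := (Finite.injective_iff_surjective.mp hfinj) ⟨y * g * y⁻¹, hh⟩
  have h1 : y * (z : Γ) * y⁻¹ = y * g * y⁻¹ := congrArg Subtype.val hz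
  have h2 : g = (z : Γ) := by
    have : g = y⁻¹ * (y * g * y⁻¹) * y := by group
    rw [this, ← h1]; group
  rw [h2]; exact z.2

/-- number theory behind Beyl's formula -/
theorem meta_nt (m n r : ℕ) (hm : 0 < m) (hr : 0 < r) (hrn : r ^ n ≡ 1 [MOD m]) :
    ∃ m' r' s' u : ℕ, m = Nat.gcd m (r - 1) * m' ∧ r - 1 = Nat.gcd m (r - 1) * r' ∧
      Nat.Coprime m' r' ∧ (∑ i ∈ Finset.range n, r ^ i) = m' * s' ∧ r ^ n = 1 + m * u ∧
      u = r' * s' ∧ 0 < m' := by
  set d := Nat.gcd m (r - 1) with hd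
  have hdpos : 0 < d := Nat.gcd_pos_of_pos_left _ hm
  obtain ⟨m', hm'⟩ := Nat.gcd_dvd_left m (r - 1)
  obtain ⟨r', hr'⟩ := Nat.gcd_dvd_right m (r - 1)
  rw [← hd] at hm' hr'
  have hm'pos : 0 < m' := by
    rcases Nat.eq_zero_or_pos m' with h | h
    · rw [h, mul_zero] at hm'; omega
    · exact h
  have hcop : Nat.Coprime m' r' := by
    have h1 := Nat.coprime_div_gcd_div_gcd (m := m) (n := r - 1) (by rw [← hd]; exact hdpos)
    rw [← hd] at h1
    have h2 : m / d = m' := by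
      conv_lhs => rw [hm']
      exact Nat.mul_div_cancel_left m' hdpos
    have h3 : (r - 1) / d = r' := by
      conv_lhs => rw [hr']
      exact Nat.mul_div_cancel_left r' hdpos
    rw [h2, h3] at h1
    exact h1
  set S := ∑ i ∈ Finset.range n, r ^ i with hS
  have hgeom : (r - 1) * S + 1 = r ^ n := by
    have h1 := geom_sum_mul_add (r - 1) n
    have h2 : r - 1 + 1 = r := by omega
    rw [h2] at h1
    rw [mul_comm]; exact h1
  -- m ∣ r^n - 1
  have hdvd : m ∣ (r - 1) * S := by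
    have h1 : r ^ n % m = 1 % m := hrn
    have h2 : ((r - 1) * S + 1) % m = 1 % m := by rw [hgeom]; exact h1
    have h3 : ((r - 1) * S + 1) ≡ 0 + 1 [MOD m] := by
      show ((r - 1) * S + 1) % m = (0 + 1) % m
      rw [h2]
    exact (Nat.modEq_zero_iff_dvd).mp (Nat.ModEq.add_right_cancel' 1 h3)
  obtain ⟨u, hu⟩ := hdvd
  -- d r' S = d m' u
  have h4 : r' * S = m' * u := by
    have h5 : d * (r' * S) = d * (m' * u) := by
      calc d * (r' * S) = (d * r') * S := by ring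
        _ = (r - 1) * S := by rw [← hr']
        _ = m * u := hu
        _ = d * (m' * u) := by rw [hm']; ring
    exact Nat.eq_of_mul_eq_mul_left hdpos h5
  have h6 : m' ∣ S := by
    have : m' ∣ r' * S := ⟨u, h4⟩
    exact hcop.dvd_of_dvd_mul_left this
  obtain ⟨s', hs'⟩ := h6
  have h7 : u = r' * s' := by
    have : m' * u = m' * (r' * s') := by rw [← h4, hs']; ring
    exact Nat.eq_of_mul_eq_mul_left hm'pos this
  refine ⟨m', r', s', u, hm', hr', hcop, hs', ?_, h7, hm'pos⟩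
  rw [← hgeom, hu]; ring



/-- Kernel of a stem extension of a metacyclic group: cyclic, generated by `k₀` with
`k₀^d = k₀^l = k₀^{s'} = 1`. -/
theorem meta_stem_bound {Γ G : Type*} [Group Γ] [Finite Γ] [Group G] (σ : Γ →* G)
    (hσ : Cfsg.IsStemExtension σ) (a b : G) (hgen : Subgroup.closure {a, b} = ⊤)
    (m n r t d m' r' s' u l : ℕ) (hr : 0 < r) (ha : orderOf a = m) (hbn : b ^ n = a ^ t)
    (hconj : b * a * b⁻¹ = a ^ r) (hm' : m = d * m') (hr' : r - 1 = d * r')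
    (hcop : Nat.Coprime m' r') (hS : (∑ i ∈ Finset.range n, r ^ i) = m' * s')
    (hrn : r ^ n = 1 + m * u) (hu : u = r' * s') (ht : t = m' * l) :
    ∃ k₀ : Γ, k₀ ∈ σ.ker ∧ σ.ker ≤ Subgroup.zpowers k₀ ∧ k₀ ^ d = 1 ∧ k₀ ^ l = 1 ∧
      k₀ ^ s' = 1 := by
  classical
  obtain ⟨hsurj, hKc, hKd⟩ := hσ
  obtain ⟨α, hα⟩ := hsurj a
  obtain ⟨β, hβ⟩ := hsurj b
  have hgenΓ : Subgroup.closure {β, α} ⊔ σ.ker = ⊤ := by
    apply gen_lift σ β α
    rw [hα, hβ, Set.pair_comm]; exact hgen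
  -- central elements
  set z₁ := β * α * β⁻¹ * (α ^ r)⁻¹ with hz₁
  set z₂ := α ^ m with hz₂
  have hz₁K : z₁ ∈ σ.ker := by
    rw [MonoidHom.mem_ker, hz₁]
    simp only [map_mul, map_inv, map_pow, hα, hβ]
    rw [hconj, mul_inv_cancel]
  have hz₂K : z₂ ∈ σ.ker := by
    rw [MonoidHom.mem_ker, hz₂, map_pow, hα, ← ha, pow_orderOf_eq_one]
  have hcent : ∀ z ∈ σ.ker, ∀ g : Γ, Commute z g := by
    intro z hz g
    exact (Subgroup.mem_center_iff.mp (hKc hz) g).symm
  have hz₁c : ∀ g : Γ, Commute z₁ g := hcent z₁ hz₁K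
  have hz₂c : ∀ g : Γ, Commute z₂ g := hcent z₂ hz₂K
  -- (E1), (E2)
  have hE1 : β * α * β⁻¹ = z₁ * α ^ r := by rw [hz₁]; group
  have hE2 : ∀ j : ℕ, β * α ^ j * β⁻¹ = z₁ ^ j * α ^ (r * j) := by
    intro j
    rw [← conj_pow, hE1, (hz₁c (α ^ r)).mul_pow, ← pow_mul]
  -- the commutator c
  set c := β * α * β⁻¹ * α⁻¹ with hc
  have hr1 : r = (r - 1) + 1 := by omega
  have hE3 : c = z₁ * α ^ (r - 1) := by
    rw [hc, hE1]
    have : α ^ r = α ^ (r - 1) * α := by rw [← pow_succ, ← hr1]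
    rw [this]; group
  have hcpow : ∀ j : ℕ, c ^ j = z₁ ^ j * α ^ ((r - 1) * j) := by
    intro j
    rw [hE3, (hz₁c (α ^ (r - 1))).mul_pow, ← pow_mul]
  have hcα : α * c * α⁻¹ = c := by
    rw [hE3]
    have h1 : Commute α (z₁ * α ^ (r - 1)) :=
      Commute.mul_right (hz₁c α).symm ((Commute.refl α).pow_right _)
    rw [h1.eq]; group
  have hcβ : β * c * β⁻¹ = c ^ r := by
    rw [hcpow, hE3]
    have h1 : β * (z₁ * α ^ (r - 1)) * β⁻¹ = z₁ * (β * α ^ (r - 1) * β⁻¹) := by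
      rw [← mul_assoc, ← (hz₁c β).eq]; group
    rw [h1, hE2, ← mul_assoc, ← pow_succ', ← hr1, mul_comm r (r - 1)]
  have hnorm : (Subgroup.zpowers c).Normal := by
    apply zpowers_normal_of_gen c ({β, α} ∪ (σ.ker : Set Γ))
    · rw [Subgroup.closure_union, Subgroup.closure_eq]; exact hgenΓ
    · rintro s ((rfl | rfl) | hs)
      · rw [hcβ]; exact Subgroup.pow_mem _ (Subgroup.mem_zpowers c) _
      · rw [hcα]; exact Subgroup.mem_zpowers c
      · have : s * c * s⁻¹ = c := by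
          rw [(hcent s hs c).eq]; group
        rw [this]; exact Subgroup.mem_zpowers c
  have hder : commutator Γ ≤ Subgroup.zpowers c :=
    commutator_le_of_gen σ.ker (Subgroup.zpowers c) hKc β α hgenΓ (Subgroup.mem_zpowers c)
  have hKz : σ.ker ≤ Subgroup.zpowers c := le_trans hKd hder
  have hσc : σ c = a ^ (r - 1) := by
    rw [hc]
    simp only [map_mul, map_inv, hα, hβ]
    rw [hconj]
    have : a ^ r = a ^ (r - 1) * a := by rw [← pow_succ, ← hr1]
    rw [this]; group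
  set k₀ := c ^ m' with hk₀
  have hk₀eq : k₀ = z₁ ^ m' * z₂ ^ r' := by
    rw [hk₀, hcpow, hz₂, ← pow_mul, hr', hm']
    congr 2
    ring
  have hk₀K : k₀ ∈ σ.ker := by
    rw [hk₀eq]
    exact Subgroup.mul_mem _ (Subgroup.pow_mem _ hz₁K _) (Subgroup.pow_mem _ hz₂K _)
  have hKk₀ : σ.ker ≤ Subgroup.zpowers k₀ := by
    intro k hk
    obtain ⟨j, hj⟩ := Subgroup.mem_zpowers_iff.mp (hKz hk)
    have h1 : (a ^ (r - 1)) ^ j = 1 := by
      rw [← hσc, ← map_zpow, hj]; exact hk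
    rw [← zpow_natCast, ← zpow_mul] at h1
    have h2 := (orderOf_dvd_iff_zpow_eq_one).mpr h1
    rw [ha, hm', hr'] at h2
    have h3 : (m' : ℤ) ∣ j := by
      rcases Nat.eq_zero_or_pos d with hd0 | hdpos
      · -- d = 0 : then m = 0 and r - 1 = 0
        subst hd0
        simp only [zero_mul] at hm' hr'
        -- a has order 0 = m, m' arbitrary; but c = z₁ is central ... handle: k = c^j
        exfalso
        -- orderOf a = 0 contradicts finiteness of Γ? a = σ α has finite order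
        have hfo : IsOfFinOrder α := isOfFinOrder_of_finite α
        have := (σ.isOfFinOrder hfo)
        rw [hα] at this
        have h4 := orderOf_pos_iff.mpr this
        omega
      · push_cast at h2
        have h4 : (d : ℤ) * m' ∣ d * (r' * j) := by
          have : ((d : ℤ) * r') * j = d * (r' * j) := by ring
          rw [← this]; exact h2
        have h5 : (m' : ℤ) ∣ r' * j :=
          Int.dvd_of_mul_dvd_mul_left (by exact_mod_cast hdpos.ne') h4
        have h6 : IsCoprime (m' : ℤ) (r' : ℤ) := Nat.isCoprime_iff_coprime.mpr hcop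
        exact h6.dvd_of_dvd_mul_left h5
    obtain ⟨j', hj'⟩ := h3
    rw [Subgroup.mem_zpowers_iff]
    refine ⟨j', ?_⟩
    rw [hk₀, ← zpow_natCast, ← zpow_mul, ← hj', hj]
  have hk₀pow : ∀ j : ℕ, k₀ ^ j = z₁ ^ (m' * j) * z₂ ^ (r' * j) := by
    intro j
    rw [hk₀eq, ((hz₁c z₂).pow_pow m' r').mul_pow, ← pow_mul, ← pow_mul]
  -- (R2)
  have hR2 : k₀ ^ d = 1 := by
    have h1 : β * z₂ * β⁻¹ = z₂ := by rw [← (hz₂c β).eq]; group
    have h2 : β * z₂ * β⁻¹ = z₁ ^ m * z₂ ^ r := by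
      rw [hz₂, hE2, mul_comm r m, pow_mul]
    rw [h1] at h2
    rw [hk₀pow, mul_comm m' d, mul_comm r' d, ← hm', ← hr']
    have h3 : z₂ ^ r = z₂ ^ (r - 1) * z₂ := by rw [← pow_succ, ← hr1]
    rw [h3, ← mul_assoc] at h2
    have h4 : 1 * z₂ = z₁ ^ m * z₂ ^ (r - 1) * z₂ := by rw [one_mul]; exact h2
    exact (mul_right_cancel h4).symm
  -- z₃
  set z₃ := β ^ n * (α ^ t)⁻¹ with hz₃
  have hz₃K : z₃ ∈ σ.ker := by
    rw [MonoidHom.mem_ker, hz₃]
    simp only [map_mul, map_inv, map_pow, hα, hβ]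
    rw [hbn, mul_inv_cancel]
  have hz₃c : ∀ g : Γ, Commute z₃ g := hcent z₃ hz₃K
  have hαt : α ^ t = z₃⁻¹ * β ^ n := by rw [hz₃]; group
  have hβn : β ^ n = z₃ * α ^ t := by rw [hz₃]; group
  -- (R4)
  have hR4 : k₀ ^ l = 1 := by
    have h1 : Commute β (α ^ t) := by
      rw [hαt]
      exact Commute.mul_right (hz₃c β).symm.inv_right ((Commute.refl β).pow_right n)
    have h2 : β * α ^ t * β⁻¹ = α ^ t := by rw [h1.eq]; group
    rw [hE2] at h2
    have h3 : α ^ (r * t) = α ^ ((r - 1) * t) * α ^ t := by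
      rw [← pow_add]
      congr 1
      conv_lhs => rw [hr1]
      ring
    rw [h3, ← mul_assoc] at h2
    have h4 : z₁ ^ t * α ^ ((r - 1) * t) * α ^ t = 1 * α ^ t := by rw [one_mul]; exact h2
    have h5 := mul_right_cancel h4
    rw [hk₀pow, hz₂, ← pow_mul]
    rw [ht, hr'] at h5
    have h6 : d * r' * (m' * l) = m * (r' * l) := by rw [hm']; ring
    rw [h6] at h5
    exact h5
  -- (R3)
  have hE11 : ∀ j : ℕ, β ^ j * α * (β ^ j)⁻¹ =
      z₁ ^ (∑ i ∈ Finset.range j, r ^ i) * α ^ (r ^ j) := by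
    intro j
    induction j with
    | zero => simp
    | succ j ih =>
      have h1 : β ^ (j + 1) * α * (β ^ (j + 1))⁻¹ = β * (β ^ j * α * (β ^ j)⁻¹) * β⁻¹ := by
        rw [pow_succ']; group
      rw [h1, ih]
      have h2 : β * (z₁ ^ (∑ i ∈ Finset.range j, r ^ i) * α ^ (r ^ j)) * β⁻¹ =
          z₁ ^ (∑ i ∈ Finset.range j, r ^ i) * (β * α ^ (r ^ j) * β⁻¹) := by
        rw [← mul_assoc, ← ((hz₁c β).pow_left _).eq]; group
      rw [h2, hE2, ← mul_assoc, ← pow_add, Finset.sum_range_succ, pow_succ']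
  have hR3 : k₀ ^ s' = 1 := by
    have h1 : Commute (β ^ n) α := by
      rw [hβn]
      exact Commute.mul_left (hz₃c α) ((Commute.refl α).pow_left t)
    have h2 : β ^ n * α * (β ^ n)⁻¹ = α := by rw [h1.eq]; group
    rw [hE11, hS, hrn, pow_add, pow_one] at h2
    have h2' : α ^ (m * u) = z₂ ^ u := by rw [hz₂, pow_mul]
    rw [h2'] at h2
    -- z₁^(m' s') * (α * z₂^u) = α
    have h3 : z₁ ^ (m' * s') * (α * z₂ ^ u) = (z₁ ^ (m' * s') * z₂ ^ u) * α := by
      rw [((hz₂c α).pow_left u).symm.eq, mul_assoc]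
    rw [h3] at h2
    have h4 : z₁ ^ (m' * s') * z₂ ^ u * α = 1 * α := by rw [one_mul]; exact h2
    have h5 := mul_right_cancel h4
    rw [hk₀pow, ← hu]
    exact h5
  exact ⟨k₀, hk₀K, hKk₀, hR2, hR4, hR3⟩


end Cfsg.Agent.Lib.Helper21
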