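import Mathlib
import Cfsg.Prelude.Def_KGroupFacts
import Cfsg.Agent.Lib.Helper21.MetaModel
import Cfsg.Agent.Lib.Helper21.MetaStem
import Cfsg.Agent.Lib.Helper21.SchurCyclic

set_option autoImplicit false

namespace Cfsg.Agent.Lib.Helper21

open scoped commutatorElement


theorem exists_coprime_lift (m' e₀ r' : ℕ) (hm' : 0 < m') (he : 0 < e₀)
    (hcop : Nat.Coprime m' r') : ∃ ρ : ℕ, ρ ≡ r' [MOD m'] ∧ Nat.Coprime ρ (m' * e₀) := by
  haveI : NeZero (m' * e₀) := ⟨(Nat.mul_pos hm' he).ne'⟩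
  haveI : NeZero m' := ⟨hm'.ne'⟩
  set x : (ZMod m')ˣ := ZMod.unitOfCoprime r' hcop.symm with hx
  obtain ⟨v, hv⟩ := ZMod.unitsMap_surjective (dvd_mul_right m' e₀) x
  refine ⟨(v : ZMod (m' * e₀)).val, ?_, ZMod.val_coe_unit_coprime v⟩
  rw [← ZMod.natCast_eq_natCast_iff, ZMod.natCast_val]
  have h1 : ((ZMod.unitsMap (dvd_mul_right m' e₀) v : (ZMod m')ˣ) : ZMod m') =
      ((v : ZMod (m' * e₀)).cast : ZMod m') := ZMod.unitsMap_val _ v
  rw [← h1, hv, hx, ZMod.coe_unitOfCoprime]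

/-- the power sums of congruent bases are congruent -/
theorem geom_sum_modEq (R r m n : ℕ) (h : R ≡ r [MOD m]) :
    (∑ i ∈ Finset.range n, R ^ i) ≡ (∑ i ∈ Finset.range n, r ^ i) [MOD m] := by
  rw [← ZMod.natCast_eq_natCast_iff]
  push_cast
  have : (R : ZMod m) = (r : ZMod m) := (ZMod.natCast_eq_natCast_iff _ _ _).mpr h
  rw [this]

set_option maxHeartbeats 800000 in
theorem meta_cover (m n r l d m' r' s' u e₀ : ℕ) (hm : 0 < m) (hn : 0 < n) (hr : 0 < r)
    (hd : 0 < d) (hm' : m = d * m') (hr' : r - 1 = d * r') (hcop : Nat.Coprime m' r')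
    (hS : (∑ i ∈ Finset.range n, r ^ i) = m' * s') (hrn : r ^ n = 1 + m * u)
    (hm'pos : 0 < m') (he₀ : 0 < e₀) (hel : e₀ ∣ l) (hed : e₀ ∣ d) (hes : e₀ ∣ s') :
    ∃ (Γ : Type) (_ : Group Γ) (_ : Finite Γ) (σ : Γ →* MetaGrp m n r (m' * l)),
      Cfsg.IsStemExtension σ ∧ Nonempty (σ.ker ≃* Multiplicative (ZMod e₀)) := by
  classical
  obtain ⟨ρ, hρ, hρcop⟩ := exists_coprime_lift m' e₀ r' hm'pos he₀ hcop
  set R := 1 + d * ρ with hR
  set t := m' * l with ht
  have hr1 : r = 1 + d * r' := by omega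
  -- R ≡ r mod m
  have hRr : R ≡ r [MOD m] := by
    rw [hR, hr1, hm']
    exact Nat.ModEq.add_left 1 (Nat.ModEq.mul_left' d hρ)
  -- conditions for G
  have hG1 : r ^ n ≡ 1 [MOD m] := by
    rw [hrn]
    have : (1 + m * u) ≡ 1 + 0 [MOD m] :=
      Nat.ModEq.add_left 1 ((Nat.modEq_zero_iff_dvd).mpr (dvd_mul_right m u))
    simpa using this
  have hG2 : t * r ≡ t [MOD m] := by
    have h1 : t * r = t + m * (l * r') := by
      rw [ht, hr1, hm']; ring
    rw [h1]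
    have : t + m * (l * r') ≡ t + 0 [MOD m] :=
      Nat.ModEq.add_left t ((Nat.modEq_zero_iff_dvd).mpr (dvd_mul_right m _))
    simpa using this
  obtain ⟨hfinG, hcardG, hordG⟩ := MetaGrp.card_order m n r t hm hn hG1 hG2
  -- conditions for Γ
  obtain ⟨l', hl'⟩ := hel
  obtain ⟨d', hd'⟩ := hed
  obtain ⟨s'', hs''⟩ := hes
  have hΓ2 : t * R ≡ t [MOD m * e₀] := by
    have h1 : t * R = t + m * e₀ * (l' * ρ) := by
      rw [ht, hR, hm', hl']; ring
    rw [h1]
    have : t + m * e₀ * (l' * ρ) ≡ t + 0 [MOD m * e₀] :=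
      Nat.ModEq.add_left t ((Nat.modEq_zero_iff_dvd).mpr (dvd_mul_right _ _))
    simpa using this
  have hΓ1 : R ^ n ≡ 1 [MOD m * e₀] := by
    have h1 := geom_sum_mul_add (d * ρ) n
    have h2 : d * ρ + 1 = R := by rw [hR]; ring
    rw [h2] at h1
    -- m' e₀ ∣ S̃
    have h3 : (∑ i ∈ Finset.range n, R ^ i) ≡ (∑ i ∈ Finset.range n, r ^ i) [MOD m' * e₀] := by
      apply Nat.ModEq.of_dvd _ (geom_sum_modEq R r m n hRr)
      rw [hm', hd']
      exact ⟨d', by ring⟩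
    have h4 : (∑ i ∈ Finset.range n, r ^ i) ≡ 0 [MOD m' * e₀] := by
      rw [Nat.modEq_zero_iff_dvd, hS, hs'']
      exact ⟨s'', by ring⟩
    have h5 : m' * e₀ ∣ (∑ i ∈ Finset.range n, R ^ i) := (Nat.modEq_zero_iff_dvd).mp (h3.trans h4)
    obtain ⟨q, hq⟩ := h5
    rw [← h1, hq]
    have h6 : m' * e₀ * q * (d * ρ) + 1 = 1 + m * e₀ * (q * ρ) := by rw [hm']; ring
    rw [h6]
    have : 1 + m * e₀ * (q * ρ) ≡ 1 + 0 [MOD m * e₀] :=
      Nat.ModEq.add_left 1 ((Nat.modEq_zero_iff_dvd).mpr (dvd_mul_right _ _))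
    simpa using this
  have hme : 0 < m * e₀ := Nat.mul_pos hm he₀
  obtain ⟨hfinΓ, hcardΓ, hordΓ⟩ := MetaGrp.card_order (m * e₀) n R t hme hn hΓ1 hΓ2
  set α := MetaGrp.ga (m * e₀) n R t with hα
  set β := MetaGrp.gb (m * e₀) n R t with hβ
  set a := MetaGrp.ga m n r t with ha
  set b := MetaGrp.gb m n r t with hb
  have ham : a ^ m = 1 := MetaGrp.ga_pow m n r t
  have haR : a ^ R = a ^ r := by
    rw [pow_eq_pow_iff_modEq, hordG]
    exact hRr
  obtain ⟨σ, hσa, hσb⟩ := MetaGrp.exists_hom (m * e₀) n R t a b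
    (by rw [pow_mul, ham, one_pow]) (MetaGrp.gb_pow m n r t)
    (by rw [haR]; exact MetaGrp.gb_conj m n r t)
  have hσs : Function.Surjective σ := by
    rw [← MonoidHom.range_eq_top, eq_top_iff, ← MetaGrp.closure_gens m n r t, Subgroup.closure_le]
    rintro g (rfl | rfl)
    · exact ⟨_, hσa⟩
    · exact ⟨_, hσb⟩
  -- the kernel
  have hcardker : Nat.card σ.ker = e₀ := by
    have h1 := Subgroup.card_eq_card_quotient_mul_card_subgroup σ.ker
    have h2 : Nat.card (MetaGrp (m * e₀) n R t ⧸ σ.ker) = Nat.card (MetaGrp m n r t) :=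
      Nat.card_congr (QuotientGroup.quotientKerEquivOfSurjective σ hσs).toEquiv
    rw [h2, hcardΓ, hcardG] at h1
    have h3 : m * e₀ * n = m * n * e₀ := by ring
    rw [h3] at h1
    exact (Nat.eq_of_mul_eq_mul_left (Nat.mul_pos hm hn) h1).symm
  set κ₀ := α ^ m with hκ₀
  have hκ₀ker : κ₀ ∈ σ.ker := by
    rw [MonoidHom.mem_ker, hκ₀, map_pow, hσa, ham]
  have hκ₀ord : orderOf κ₀ = e₀ := by
    rw [hκ₀, orderOf_pow' α hm.ne', hordΓ, Nat.gcd_mul_right_left]
    exact Nat.mul_div_cancel_left e₀ hm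
  have hkereq : σ.ker = Subgroup.zpowers κ₀ := by
    symm
    apply Subgroup.eq_of_le_of_card_ge
    · rw [Subgroup.zpowers_le]; exact hκ₀ker
    · rw [hcardker, Nat.card_zpowers, hκ₀ord]
  have hαM : α ^ (m * e₀) = 1 := MetaGrp.ga_pow (m * e₀) n R t
  have hβα : β * α * β⁻¹ = α ^ R := MetaGrp.gb_conj (m * e₀) n R t
  have hgenΓ : Subgroup.closure {α, β} = ⊤ := MetaGrp.closure_gens (m * e₀) n R t
  -- κ₀ is central
  have hκ₀β : β * κ₀ * β⁻¹ = κ₀ := by
    rw [hκ₀, ← conj_pow, hβα, ← pow_mul, pow_eq_pow_iff_modEq, hordΓ]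
    have h1 : R * m = m + m * e₀ * (d' * ρ) := by
      rw [hR, hd']; ring
    rw [h1]
    have : m + m * e₀ * (d' * ρ) ≡ m + 0 [MOD m * e₀] :=
      Nat.ModEq.add_left m ((Nat.modEq_zero_iff_dvd).mpr (dvd_mul_right _ _))
    simpa using this
  have hκ₀c : κ₀ ∈ Subgroup.center (MetaGrp (m * e₀) n R t) := by
    have h1 : Subgroup.closure {α, β} ≤ Subgroup.centralizer {κ₀} := by
      rw [Subgroup.closure_le]
      intro g hg
      rw [Set.mem_insert_iff, Set.mem_singleton_iff] at hg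
      rw [SetLike.mem_coe, Subgroup.mem_centralizer_iff]
      intro w hw
      rw [Set.mem_singleton_iff] at hw
      rw [hw]
      rcases hg with hg | hg
      · rw [hg]
        exact ((Commute.refl α).pow_left m).eq
      · rw [hg]
        calc κ₀ * β = (β * κ₀ * β⁻¹) * β := by rw [hκ₀β]
          _ = β * κ₀ := by group
    rw [hgenΓ] at h1
    rw [Subgroup.mem_center_iff]
    intro g
    have := h1 (Subgroup.mem_top g)
    rw [Subgroup.mem_centralizer_iff] at this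
    exact (this κ₀ rfl).symm
  -- κ₀ is in the commutator subgroup
  have hcomm : α ^ (d * ρ) ∈ commutator (MetaGrp (m * e₀) n R t) := by
    have hR2 : R = d * ρ + 1 := by rw [hR]; ring
    have hpowR : α ^ R = α ^ (d * ρ + 1) := congrArg (fun k => α ^ k) hR2
    have h1 : α ^ (d * ρ) = ⁅β, α⁆ := by
      rw [commutatorElement_def, hβα, hpowR, pow_succ]
      group
    rw [h1]
    exact Subgroup.commutator_mem_commutator (Subgroup.mem_top β) (Subgroup.mem_top α)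
  have hκ₀comm : κ₀ ∈ commutator (MetaGrp (m * e₀) n R t) := by
    rcases Nat.eq_or_lt_of_le (Nat.succ_le_of_lt he₀) with h1 | h1
    · -- e₀ = 1
      have : κ₀ = 1 := by
        rw [← orderOf_eq_one_iff, hκ₀ord]; exact h1.symm
      rw [this]; exact Subgroup.one_mem _
    · have hρe : Nat.Coprime ρ e₀ := Nat.Coprime.coprime_mul_left_right hρcop
      obtain ⟨ρb, -, hρb⟩ := Nat.exists_mul_mod_eq_one_of_coprime hρe h1
      have h2 : κ₀ = (α ^ (d * ρ)) ^ (ρb * m') := by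
        rw [hκ₀, ← pow_mul, pow_eq_pow_iff_modEq, hordΓ]
        have h3 : d * ρ * (ρb * m') = m * (ρ * ρb) := by rw [hm']; ring
        rw [h3]
        have h4 : ρ * ρb ≡ 1 [MOD e₀] := by
          show ρ * ρb % e₀ = 1 % e₀
          rw [hρb, Nat.mod_eq_of_lt h1]
        have h5 := Nat.ModEq.mul_left' m h4
        rw [mul_one] at h5
        exact h5.symm
      rw [h2]
      exact Subgroup.pow_mem _ hcomm _
  have hstem : Cfsg.IsStemExtension σ := by
    refine ⟨hσs, ?_, ?_⟩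
    · rw [hkereq, Subgroup.zpowers_le]; exact hκ₀c
    · rw [hkereq, Subgroup.zpowers_le]; exact hκ₀comm
  have hcyc : IsCyclic σ.ker := by
    rw [hkereq]; infer_instance
  have hiso : Nonempty (σ.ker ≃* Multiplicative (ZMod e₀)) := by
    have e1 := zmodCyclicMulEquiv hcyc
    rw [hcardker] at e1
    exact ⟨e1.symm⟩
  exact ⟨MetaGrp (m * e₀) n R t, inferInstance, hfinΓ, σ, hstem, hiso⟩

theorem meta_multiplier (m n r l : ℕ) (hm : 0 < m) (hn : 0 < n) (hr : 0 < r)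
    (hrn : r ^ n ≡ 1 [MOD m]) :
    Cfsg.HasCyclicSchurMultiplier (MetaGrp m n r (m * l / Nat.gcd m (r - 1)))
      (Nat.gcd l (Nat.gcd m (r - 1) * Nat.gcd m (∑ i ∈ Finset.range n, r ^ i) / m)) := by
  obtain ⟨m', r', s', u, hm', hr', hcop, hS, hrnu, hu, hm'pos⟩ := meta_nt m n r hm hr hrn
  set d := Nat.gcd m (r - 1) with hd
  have hdpos : 0 < d := Nat.gcd_pos_of_pos_left _ hm
  have ht : m * l / d = m' * l := by
    have : m * l = d * (m' * l) := by rw [hm']; ring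
    rw [this, Nat.mul_div_cancel_left _ hdpos]
  have hh : d * Nat.gcd m (∑ i ∈ Finset.range n, r ^ i) / m = Nat.gcd d s' := by
    have h1 : Nat.gcd m (∑ i ∈ Finset.range n, r ^ i) = m' * Nat.gcd d s' := by
      rw [hS]
      conv_lhs => rw [hm', mul_comm d m']
      exact Nat.gcd_mul_left m' d s'
    rw [h1]
    have h2 : d * (m' * Nat.gcd d s') = m * Nat.gcd d s' := by
      conv_rhs => rw [hm']
      ring
    rw [h2, Nat.mul_div_cancel_left _ hm]
  rw [ht, hh]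
  set e₀ := Nat.gcd l (Nat.gcd d s') with he₀
  have he₀pos : 0 < e₀ := Nat.gcd_pos_of_pos_right _ (Nat.gcd_pos_of_pos_left _ hdpos)
  have hel : e₀ ∣ l := Nat.gcd_dvd_left _ _
  have hed : e₀ ∣ d := (Nat.gcd_dvd_right _ _).trans (Nat.gcd_dvd_left _ _)
  have hes : e₀ ∣ s' := (Nat.gcd_dvd_right _ _).trans (Nat.gcd_dvd_right _ _)
  have hG2 : m' * l * r ≡ m' * l [MOD m] := by
    have hr1 : r = 1 + d * r' := by omega
    have h1 : m' * l * r = m' * l + m * (l * r') := by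
      conv_lhs => rw [hr1]
      conv_rhs => rw [hm']
      ring
    rw [h1]
    have : m' * l + m * (l * r') ≡ m' * l + 0 [MOD m] :=
      Nat.ModEq.add_left _ ((Nat.modEq_zero_iff_dvd).mpr (dvd_mul_right m _))
    simpa using this
  obtain ⟨hfinG, hcardG, hordG⟩ := MetaGrp.card_order m n r (m' * l) hm hn hrn hG2
  constructor
  · exact meta_cover m n r l d m' r' s' u e₀ hm hn hr hdpos hm' hr' hcop hS hrnu hm'pos he₀pos
      hel hed hes
  · intro Γ _ _ σ hσ
    obtain ⟨k₀, hk₀K, hKk₀, hk1, hk2, hk3⟩ := meta_stem_bound σ hσ (MetaGrp.ga m n r (m' * l))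
      (MetaGrp.gb m n r (m' * l)) (MetaGrp.closure_gens m n r (m' * l)) m n r (m' * l) d m' r' s'
      u l hr hordG (MetaGrp.gb_pow m n r (m' * l)) (MetaGrp.gb_conj m n r (m' * l)) hm' hr' hcop
      hS hrnu hu rfl
    have hk₀e : k₀ ^ e₀ = 1 := by
      rw [← orderOf_dvd_iff_pow_eq_one, he₀]
      exact Nat.dvd_gcd (orderOf_dvd_of_pow_eq_one hk2)
        (Nat.dvd_gcd (orderOf_dvd_of_pow_eq_one hk1) (orderOf_dvd_of_pow_eq_one hk3))
    apply exists_surj_of_cyclic e₀ (⟨k₀, hk₀K⟩ : σ.ker)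
    · apply Subtype.ext
      simp only [Subgroup.coe_pow, Subgroup.coe_one]
      exact hk₀e
    · rintro ⟨k, hk⟩
      obtain ⟨j, hj⟩ := Subgroup.mem_zpowers_iff.mp (hKk₀ hk)
      rw [Subgroup.mem_zpowers_iff]
      refine ⟨j, ?_⟩
      apply Subtype.ext
      simp only [Subgroup.coe_zpow]
      exact hj


end Cfsg.Agent.Lib.Helper21
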