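import Mathlib
import Cfsg.Prelude.Def_KGroupFacts
import Cfsg.Agent.Lib.helper23.SchurIndex
import Cfsg.Agent.Lib.helper23.SchurCoverD

set_option autoImplicit false

universe u v w

namespace Cfsg.Agent.Lib.Helper21

open Cfsg.Agent.Lib.helper23
open scoped IsMulCommutative


/-- the p'-part power of any element of a finite abelian group lies in the p-primary component -/
theorem msy_pow_mem {A : Type*} [CommGroup A] [Finite A] (p : ℕ) [hp : Fact p.Prime] (a : A) :
    a ^ (ordCompl[p] (Nat.card A)) ∈ CommGroup.primaryComponent A p := by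
  rw [CommGroup.mem_primaryComponent]
  refine ⟨(Nat.card A).factorization p, ?_⟩
  rw [← pow_mul, mul_comm, Nat.ordProj_mul_ordCompl_eq_self]
  exact pow_card_eq_one'

theorem msy_final {A B Z : Type*} [CommGroup A] [Finite A] [CommGroup B] [Group Z] (p : ℕ)
    [hp : Fact p.Prime] (κ : A →* B) (π : B →* Z) (Abar : Subgroup Z)
    (hcard : Nat.card Abar = Nat.card (CommGroup.primaryComponent A p))
    (hπ : ∀ b, π b ∈ Abar) (hsurj : ∀ z ∈ Abar, ∃ a : A, π (κ a) = z) :
    ∃ C D : Subgroup B, C ⊓ D = ⊥ ∧ C ⊔ D = ⊤ ∧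
      Nonempty (CommGroup.primaryComponent A p ≃* C) := by
  classical
  set Ap := CommGroup.primaryComponent A p with hAp
  set m := ordCompl[p] (Nat.card A) with hm
  have hmp : m.Coprime p := by
    have := Nat.coprime_ordCompl hp.out (Nat.card_pos (α := A)).ne'
    exact this.symm
  have hApP : IsPGroup p Ap := CommGroup.primaryComponent.isPGroup
  obtain ⟨k, hk⟩ := hApP.exists_card_eq
  have hfinAbar : Finite Abar := by
    apply Nat.finite_of_card_ne_zero
    rw [hcard, hk]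
    exact pow_ne_zero _ hp.out.ne_zero
  have hcardAbar : Nat.card Abar = p ^ k := by rw [hcard, hk]
  -- m-th power surjective on Abar
  have hpowsurj : ∀ z ∈ Abar, ∃ w ∈ Abar, w ^ m = z := by
    intro z hz
    have hcop : (Nat.card Abar).Coprime m := by
      rw [hcardAbar]
      exact (Nat.Coprime.pow_left k hmp.symm)
    obtain ⟨w, hw⟩ := (powCoprime hcop).surjective ⟨z, hz⟩
    refine ⟨w, w.2, ?_⟩
    have := congrArg Subtype.val hw
    simpa using this
  have hsurj2 : ∀ z ∈ Abar, ∃ a ∈ Ap, π (κ a) = z := by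
    intro z hz
    obtain ⟨w, hw, rfl⟩ := hpowsurj z hz
    obtain ⟨a, ha⟩ := hsurj w hw
    refine ⟨a ^ m, msy_pow_mem p a, ?_⟩
    rw [map_pow, map_pow, ha]
  let g : Ap → Abar := fun a => ⟨π (κ a), hπ _⟩
  have hgsurj : Function.Surjective g := by
    rintro ⟨z, hz⟩
    obtain ⟨a, ha, rfl⟩ := hsurj2 z hz
    exact ⟨⟨a, ha⟩, rfl⟩
  have hgbij : Function.Bijective g :=
    hgsurj.bijective_of_nat_card_le (le_of_eq hcard.symm)
  have hκinj : Function.Injective (κ.comp Ap.subtype) := by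
    intro a b hab
    apply hgbij.1
    apply Subtype.ext
    show π (κ a) = π (κ b)
    have : κ a = κ b := hab
    rw [this]
  refine ⟨(κ.comp Ap.subtype).range, π.ker, ?_, ?_, ⟨MonoidHom.ofInjective hκinj⟩⟩
  · rw [eq_bot_iff]
    rintro x ⟨⟨a, rfl⟩, hx2⟩
    have hx2 : π ((κ.comp Ap.subtype) a) = 1 := hx2
    have h1 : g a = g 1 := by
      apply Subtype.ext
      show π (κ a) = π (κ ((1 : Ap) : A))
      have : κ ((a : A)) = (κ.comp Ap.subtype) a := rfl
      rw [this, hx2]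
      simp
    have := hgbij.1 h1
    rw [this]
    simp
  · rw [eq_top_iff]
    intro b _
    obtain ⟨a, ha, hab⟩ := hsurj2 (π b) (hπ b)
    have h1 : b = κ a * ((κ a)⁻¹ * b) := by group
    rw [h1]
    apply Subgroup.mul_mem_sup
    · exact ⟨⟨a, ha⟩, rfl⟩
    · rw [MonoidHom.mem_ker, map_mul, map_inv, hab, inv_mul_cancel]



section norm

variable {F : Type*} [Group F] {B : Type*} [CommGroup B]

/-- the norm of a hom `μ : R →* B` from a normal subgroup `R` of `F`, relative to a finite-index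
subgroup `F₁` (product over coset representatives of the conjugates of `μ`) -/
noncomputable def msyNorm (F₁ R : Subgroup F) [R.Normal] [Fintype (F ⧸ F₁)] (μ : R →* B) :
    R →* B :=
  ∏ q : F ⧸ F₁, μ.comp (MulAut.conjNormal (Quotient.out q)⁻¹ : MulAut R).toMonoidHom

theorem msyNorm_apply (F₁ R : Subgroup F) [R.Normal] [Fintype (F ⧸ F₁)] (μ : R →* B) (r : R) :
    msyNorm F₁ R μ r = ∏ q : F ⧸ F₁, μ (MulAut.conjNormal (Quotient.out q)⁻¹ r) := by
  rw [msyNorm, MonoidHom.finsetProd_apply]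
  rfl

/-- the norm is invariant under conjugation by all of `F` when `μ` is `F₁`-invariant -/
theorem msyNorm_conj (F₁ R : Subgroup F) [R.Normal] [Fintype (F ⧸ F₁)] (μ : R →* B)
    (hinv : ∀ h ∈ F₁, ∀ r : R, μ (MulAut.conjNormal h r) = μ r) (g : F) (r : R) :
    msyNorm F₁ R μ (MulAut.conjNormal g r) = msyNorm F₁ R μ r := by
  rw [msyNorm_apply, msyNorm_apply]
  -- reindex by q ↦ g⁻¹ • q
  let e : F ⧸ F₁ ≃ F ⧸ F₁ := MulAction.toPerm (g⁻¹ : F)
  rw [← Equiv.prod_comp e (fun q => μ (MulAut.conjNormal (Quotient.out q)⁻¹ r))]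
  apply Finset.prod_congr rfl
  intro q _
  -- h = (out (e q))⁻¹ * g⁻¹ * out q ∈ F₁
  set t := Quotient.out q with ht
  set t' := Quotient.out (e q) with ht'
  have hmem : t'⁻¹ * (g⁻¹ * t) ∈ F₁ := by
    rw [← QuotientGroup.eq]
    have h1 : ((t' : F) : F ⧸ F₁) = e q := Quotient.out_eq' (e q)
    have h2 : ((t : F) : F ⧸ F₁) = q := Quotient.out_eq' q
    rw [h1]
    show g⁻¹ • q = _
    rw [← h2]
    rfl
  have hh := hinv _ (F₁.inv_mem hmem) (MulAut.conjNormal t'⁻¹ r)
  rw [← hh]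
  congr 1
  apply Subtype.ext
  simp only [MulAut.conjNormal_apply]
  group

end norm



/-- a `p`-element that is a `p^N`-th power (`N = |A|`) is trivial -/
theorem msy_ab_inj {A : Type*} [CommGroup A] [Finite A] (p : ℕ) [hp : Fact p.Prime] (a : A)
    (ha : a ∈ CommGroup.primaryComponent A p)
    (hT : a ∈ (powMonoidHom (p ^ Nat.card A) : A →* A).range) : a = 1 := by
  obtain ⟨c, rfl⟩ := hT
  rw [CommGroup.mem_primaryComponent] at ha
  obtain ⟨k, hk⟩ := ha
  set N := Nat.card A with hN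
  set m := ordCompl[p] N with hm
  have hmp : m.Coprime p := by
    have := Nat.coprime_ordCompl hp.out (Nat.card_pos (α := A)).ne'
    exact this.symm
  have hv : N.factorization p ≤ N := by
    have h1 : p ^ (N.factorization p) ≤ N :=
      Nat.le_of_dvd Nat.card_pos (Nat.ordProj_dvd N p)
    have h2 : N.factorization p < p ^ (N.factorization p) :=
      Nat.lt_pow_self hp.out.one_lt
    omega
  have h1 : (powMonoidHom (p ^ N) c) ^ m = 1 := by
    rw [powMonoidHom_apply, ← pow_mul]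
    have hdvd : N ∣ p ^ N * m := by
      conv_lhs => rw [← Nat.ordProj_mul_ordCompl_eq_self N p]
      exact Nat.mul_dvd_mul (pow_dvd_pow p hv) dvd_rfl
    obtain ⟨d, hd⟩ := hdvd
    rw [hd, pow_mul, pow_card_eq_one', one_pow]
  have h2 : orderOf (powMonoidHom (p ^ N) c) ∣ m := orderOf_dvd_of_pow_eq_one h1
  have h3 : orderOf (powMonoidHom (p ^ N) c) ∣ p ^ k := orderOf_dvd_of_pow_eq_one hk
  have h4 : orderOf (powMonoidHom (p ^ N) c) ∣ 1 := by
    have hc : (m).Coprime (p ^ k) := Nat.Coprime.pow_right k hmp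
    have := Nat.dvd_gcd h2 h3
    rwa [hc.gcd_eq_one] at this
  exact orderOf_eq_one_iff.mp (Nat.dvd_one.mp h4)

/-- every element is a `p`-element times a `p^N`-th power -/
theorem msy_ab_surj {A : Type*} [CommGroup A] [Finite A] (p : ℕ) [hp : Fact p.Prime] (a : A) :
    ∃ b ∈ CommGroup.primaryComponent A p,
      a * b⁻¹ ∈ (powMonoidHom (p ^ Nat.card A) : A →* A).range := by
  set N := Nat.card A with hN
  set m := ordCompl[p] N with hm
  have hmp : m.Coprime p := by
    have := Nat.coprime_ordCompl hp.out (Nat.card_pos (α := A)).ne'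
    exact this.symm
  have hc : (p ^ N).Coprime m := (Nat.Coprime.pow_left N hmp.symm)
  have hbez := Nat.gcd_eq_gcd_ab (p ^ N) m
  rw [hc.gcd_eq_one] at hbez
  set x := Nat.gcdA (p ^ N) m with hx
  set y := Nat.gcdB (p ^ N) m with hy
  refine ⟨(a ^ m) ^ y, Subgroup.zpow_mem _ (msy_pow_mem p a) y, ?_⟩
  refine ⟨a ^ x, ?_⟩
  rw [powMonoidHom_apply]
  have h1 : a = (a ^ x) ^ (p ^ N) * (a ^ m) ^ y := by
    have : (a : A) = a ^ ((1 : ℕ) : ℤ) := by simp
    conv_lhs => rw [this, hbez]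
    rw [zpow_add, mul_comm ((p ^ N : ℕ) : ℤ) x, zpow_mul, zpow_mul, zpow_natCast, zpow_natCast]
  have h2 : a * ((a ^ m) ^ y)⁻¹ = (a ^ x) ^ (p ^ N) := by
    rw [mul_inv_eq_iff_eq_mul]
    exact h1
  exact h2.symm



/-- quotient of a stem extension by the `p'`-part of the kernel -/
theorem msy_quot_stem {G : Type u} [Group G] {A : Type v} [CommGroup A] (p : ℕ)
    [hp : Fact p.Prime] {Γ : Type u} [Group Γ] [Finite Γ] (σ : Γ →* G)
    (hσ : Cfsg.IsStemExtension σ) (e : σ.ker ≃* A) :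
    ∃ (Γ' : Type u) (_ : Group Γ') (_ : Finite Γ') (σ' : Γ' →* G), Cfsg.IsStemExtension σ' ∧
      IsPGroup p σ'.ker ∧ Nat.card σ'.ker = Nat.card (CommGroup.primaryComponent A p) := by
  classical
  have hfinA : Finite A := Finite.of_equiv _ e.toEquiv
  set N := Nat.card A with hN
  set T : Subgroup A := (powMonoidHom (p ^ N) : A →* A).range with hT
  set A' : Subgroup Γ := (T.comap e.toMonoidHom).map σ.ker.subtype with hA'
  have hA'ker : A' ≤ σ.ker := by
    rw [hA']
    exact Subgroup.map_subtype_le _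
  have hA'n : A'.Normal := by
    constructor
    intro a ha g
    have hc : a ∈ Subgroup.center Γ := hσ.2.1 (hA'ker ha)
    have : g * a * g⁻¹ = a := by
      rw [Subgroup.mem_center_iff] at hc
      rw [hc g, mul_inv_cancel_right]
    rw [this]; exact ha
  have hmemA' : ∀ x : σ.ker, (x : Γ) ∈ A' ↔ e x ∈ T := by
    intro x
    rw [hA']
    constructor
    · rintro ⟨y, hy, hyx⟩
      have : y = x := Subtype.ext hyx
      rw [← this]
      exact hy
    · intro hx
      exact ⟨x, hx, rfl⟩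
  set mk : Γ →* Γ ⧸ A' := QuotientGroup.mk' A' with hmk
  have hmks : Function.Surjective mk := QuotientGroup.mk'_surjective A'
  set σ' : Γ ⧸ A' →* G := QuotientGroup.lift A' σ hA'ker with hσ'
  have hσ'mk : ∀ x, σ' (mk x) = σ x := fun x => QuotientGroup.lift_mk A' hA'ker x
  have hstem : Cfsg.IsStemExtension σ' := by
    refine ⟨?_, ?_, ?_⟩
    · intro g
      obtain ⟨x, hx⟩ := hσ.1 g
      exact ⟨mk x, by rw [hσ'mk, hx]⟩
    · intro y hy
      obtain ⟨x, rfl⟩ := hmks y
      rw [MonoidHom.mem_ker, hσ'mk] at hy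
      have hc : x ∈ Subgroup.center Γ := hσ.2.1 hy
      rw [Subgroup.mem_center_iff] at hc ⊢
      intro z
      obtain ⟨w, rfl⟩ := hmks z
      rw [← map_mul, ← map_mul, hc w]
    · intro y hy
      obtain ⟨x, rfl⟩ := hmks y
      rw [MonoidHom.mem_ker, hσ'mk] at hy
      have hc : x ∈ commutator Γ := hσ.2.2 hy
      have h1 : (commutator Γ).map mk ≤ commutator (Γ ⧸ A') := by
        rw [commutator_def, commutator_def, Subgroup.map_commutator]
        exact Subgroup.commutator_mono le_top le_top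
      exact h1 ⟨x, hc, rfl⟩
  set Ap := CommGroup.primaryComponent A p with hAp
  have hkermem : ∀ a : A, mk ((e.symm a : σ.ker) : Γ) ∈ σ'.ker := by
    intro a
    rw [MonoidHom.mem_ker, hσ'mk]
    exact (e.symm a).2
  let g : Ap → σ'.ker := fun a => ⟨mk ((e.symm (a : A) : σ.ker) : Γ), hkermem a⟩
  have hginj : Function.Injective g := by
    intro a b hab
    have h1 : mk ((e.symm (a : A) : σ.ker) : Γ) = mk ((e.symm (b : A) : σ.ker) : Γ) :=
      congrArg Subtype.val hab
    rw [hmk, QuotientGroup.mk'_eq_mk'] at h1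
    obtain ⟨z, hz, hzab⟩ := h1
    -- z = (e.symm a)⁻¹ * e.symm b
    have hz2 : z = (((e.symm (a : A))⁻¹ * e.symm (b : A) : σ.ker) : Γ) := by
      rw [Subgroup.coe_mul, Subgroup.coe_inv, ← hzab]
      group
    rw [hz2, hmemA', map_mul, map_inv, e.apply_symm_apply, e.apply_symm_apply] at hz
    have h2 : ((a : A))⁻¹ * (b : A) ∈ Ap := Ap.mul_mem (Ap.inv_mem a.2) b.2
    have h3 := msy_ab_inj p _ h2 hz
    apply Subtype.ext
    rw [inv_mul_eq_one] at h3
    exact h3
  have hgsurj : Function.Surjective g := by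
    rintro ⟨y, hy⟩
    obtain ⟨x, rfl⟩ := hmks y
    rw [MonoidHom.mem_ker, hσ'mk] at hy
    obtain ⟨b, hb, hbT⟩ := msy_ab_surj p (e ⟨x, hy⟩)
    refine ⟨⟨b, hb⟩, ?_⟩
    apply Subtype.ext
    show mk ((e.symm b : σ.ker) : Γ) = mk x
    rw [hmk, QuotientGroup.mk'_eq_mk']
    refine ⟨(((e.symm b)⁻¹ * ⟨x, hy⟩ : σ.ker) : Γ), ?_, ?_⟩
    · rw [hmemA', map_mul, map_inv, e.apply_symm_apply, mul_comm]
      exact hbT
    · rw [Subgroup.coe_mul, Subgroup.coe_inv]
      group
  have hcard : Nat.card σ'.ker = Nat.card Ap :=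
    (Nat.card_congr (Equiv.ofBijective g ⟨hginj, hgsurj⟩)).symm
  refine ⟨Γ ⧸ A', inferInstance, inferInstance, σ', hstem, ?_, hcard⟩
  obtain ⟨k, hk⟩ := (CommGroup.primaryComponent.isPGroup (G := A) (p := p)).exists_card_eq
  exact IsPGroup.of_card (hcard.trans hk)




/-- the preimage of a Sylow `p`-subgroup in a stem extension with `p`-group kernel is a stem
extension of the Sylow subgroup -/
theorem msy_sylow_stem {G : Type u} [Group G] [Finite G] (p : ℕ) [hp : Fact p.Prime]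
    (P : Sylow p G) {Γ : Type u} [Group Γ] [Finite Γ] (σ : Γ →* G)
    (hσ : Cfsg.IsStemExtension σ) (hker : IsPGroup p σ.ker) :
    Cfsg.IsStemExtension (σ.subgroupComap (P : Subgroup G)) ∧
      Nat.card (σ.subgroupComap (P : Subgroup G)).ker = Nat.card σ.ker := by
  classical
  set S₀ : Subgroup Γ := (P : Subgroup G).comap σ with hS0
  set σP : S₀ →* (P : Subgroup G) := σ.subgroupComap (P : Subgroup G) with hσP
  have hσPa : ∀ x : S₀, ((σP x : (P : Subgroup G)) : G) = σ (x : Γ) := fun x => rfl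
  have hkerP : ∀ x : S₀, x ∈ σP.ker ↔ (x : Γ) ∈ σ.ker := by
    intro x
    rw [MonoidHom.mem_ker, MonoidHom.mem_ker]
    constructor
    · intro hx
      rw [← hσPa, hx]; rfl
    · intro hx
      apply Subtype.ext
      rw [hσPa, hx]; rfl
  have hidx : S₀.index = (P : Subgroup G).index := Subgroup.index_comap_of_surjective _ hσ.1
  have hcop : (S₀.index).Coprime p := by
    rw [hidx]
    have := P.not_dvd_index
    exact ((Nat.Prime.coprime_iff_not_dvd hp.out).mpr this).symm
  refine ⟨⟨σ.subgroupComap_surjective_of_surjective _ hσ.1, ?_, ?_⟩, ?_⟩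
  · intro x hx
    rw [Subgroup.mem_center_iff]
    intro g
    exact Subtype.ext (Subgroup.mem_center_iff.mp (hσ.2.1 ((hkerP x).mp hx)) (g : Γ))
  · intro x hx
    have hxk : (x : Γ) ∈ σ.ker := (hkerP x).mp hx
    obtain ⟨h1, h2⟩ := sci_transfer_pow S₀ (x : Γ) (hσ.2.1 hxk) (hσ.2.2 hxk)
    have h3 : (⟨(x : Γ) ^ S₀.index, h1⟩ : S₀) = x ^ S₀.index := by
      apply Subtype.ext
      simp
    rw [h3] at h2
    -- x has p-power order
    obtain ⟨k, hk⟩ := hker ⟨(x : Γ), hxk⟩
    have hxk' : x ^ (p ^ k) = 1 := by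
      apply Subtype.ext
      have := congrArg Subtype.val hk
      simpa using this
    by_cases hk1 : p ^ k = 1
    · rw [hk1, pow_one] at hxk'
      rw [hxk']; exact Subgroup.one_mem _
    · have hk2 : 1 < p ^ k := by
        have : 0 < p ^ k := pow_pos hp.out.pos k
        omega
      obtain ⟨m, hm⟩ := Nat.exists_mul_mod_eq_one_of_coprime
        (Nat.Coprime.pow_right k hcop) hk2
      have h4 : x = (x ^ S₀.index) ^ m := by
        rw [← pow_mul, pow_eq_pow_mod _ hxk', hm.2, pow_one]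
      rw [h4]
      exact Subgroup.pow_mem _ h2 m
  · let g : σP.ker → σ.ker := fun x => ⟨((x : S₀) : Γ), (hkerP x).mp x.2⟩
    have hg : Function.Bijective g := by
      constructor
      · intro a b hab
        apply Subtype.ext
        apply Subtype.ext
        have : ((g a : σ.ker) : Γ) = ((g b : σ.ker) : Γ) := by rw [hab]
        exact this
      · rintro ⟨y, hy⟩
        have hyS₀ : y ∈ S₀ := by
          rw [hS0, Subgroup.mem_comap]
          rw [MonoidHom.mem_ker] at hy
          rw [hy]; exact Subgroup.one_mem _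
        exact ⟨⟨⟨y, hyS₀⟩, (hkerP _).mpr hy⟩, rfl⟩
    exact Nat.card_congr (Equiv.ofBijective g hg)




/-- lifting homs out of a free group through a surjection -/
theorem msy_free_lift {X : Type*} [Group X] [IsFreeGroup X] {D S : Type*} [Group D] [Group S]
    (f : D →* S) (hf : Function.Surjective f) (h : X →* S) : ∃ l : X →* D, f.comp l = h := by
  refine ⟨IsFreeGroup.lift (fun x => Function.surjInv hf (h (IsFreeGroup.of x))), ?_⟩
  apply IsFreeGroup.ext_hom
  intro a
  rw [MonoidHom.comp_apply, IsFreeGroup.lift_of, Function.surjInv_eq hf]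


set_option maxHeartbeats 800000 in
theorem msy_main {G : Type u} [Group G] [Finite G] (p : ℕ) [hp : Fact p.Prime] (P : Sylow p G)
    {A : Type v} {B : Type w} [CommGroup A] [CommGroup B]
    (hA : Cfsg.HasSchurMultiplier G A) (hB : Cfsg.HasSchurMultiplier (P : Subgroup G) B) :
    ∃ C D : Subgroup B, C ⊓ D = ⊥ ∧ C ⊔ D = ⊤ ∧
      Nonempty (CommGroup.primaryComponent A p ≃* C) := by
  classical
  obtain ⟨Γ₀, instΓ₀, finΓ₀, σ₀, hσ₀, ⟨e₀⟩⟩ := hA.1
  have hfinA : Finite A := Finite.of_equiv _ e₀.toEquiv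
  obtain ⟨Γ, instΓ, finΓ, σ, hσ, hkerp, hcardker⟩ := msy_quot_stem p σ₀ hσ₀ e₀
  obtain ⟨hstemP, hcardP⟩ := msy_sylow_stem p P σ hσ hkerp
  set S₀ : Subgroup Γ := (P : Subgroup G).comap σ with hS₀
  set σP : S₀ →* (P : Subgroup G) := σ.subgroupComap (P : Subgroup G) with hσP
  have hσPa : ∀ x : S₀, ((σP x : (P : Subgroup G)) : G) = σ (x : Γ) := fun x => rfl
  obtain ⟨Δ, instΔ, finΔ, τ, hτ, ⟨eB⟩, f, hfsurj, hfτ⟩ := scv_image_of_cover hB σP hstemP
  have hfτ' : ∀ d : Δ, σP (f d) = τ d := fun d => DFunLike.congr_fun hfτ d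
  -- free presentation of G
  set φ : FreeGroup G →* G := FreeGroup.lift (id : G → G) with hφdef
  have hφ : Function.Surjective φ := by
    intro q
    exact ⟨FreeGroup.of q, by rw [hφdef, FreeGroup.lift_apply_of]; rfl⟩
  set R : Subgroup (FreeGroup G) := φ.ker with hR
  set F₁ : Subgroup (FreeGroup G) := (P : Subgroup G).comap φ with hF₁
  have hRF₁ : R ≤ F₁ := by
    intro x hx
    rw [hF₁, Subgroup.mem_comap]
    rw [hR, MonoidHom.mem_ker] at hx
    rw [hx]; exact Subgroup.one_mem _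
  obtain ⟨ψ, hψ, -⟩ := scv_lift φ σ hσ.1 hσ.2.1
  have hψ' : ∀ x, σ (ψ x) = φ x := fun x => DFunLike.congr_fun hψ x
  have hψs : Function.Surjective ψ := scv_lift_surjective φ hφ σ hσ ψ hψ
  -- the hom F₁ → S₀
  have hlS : ∀ x : F₁, (ψ.comp F₁.subtype) x ∈ S₀ := by
    intro x
    rw [hS₀, Subgroup.mem_comap, MonoidHom.comp_apply, hψ']
    exact x.2
  set lS : F₁ →* S₀ := (ψ.comp F₁.subtype).codRestrict S₀ hlS with hlSdef
  have hlSv : ∀ x : F₁, ((lS x : S₀) : Γ) = ψ (x : FreeGroup G) := fun x => rfl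
  obtain ⟨l, hl⟩ := msy_free_lift f hfsurj lS
  have hl' : ∀ x : F₁, f (l x) = lS x := fun x => DFunLike.congr_fun hl x
  -- τ (l x) has value φ x
  have hτl : ∀ x : F₁, ((τ (l x) : (P : Subgroup G)) : G) = φ (x : FreeGroup G) := by
    intro x
    rw [← hfτ', hl', hσPa, hlSv, hψ']
  -- μ : R →* B
  have hμmem : ∀ r : R, (l.comp (Subgroup.inclusion hRF₁)) r ∈ τ.ker := by
    intro r
    rw [MonoidHom.mem_ker]
    apply Subtype.ext
    rw [MonoidHom.comp_apply, hτl]
    have : ((Subgroup.inclusion hRF₁ r : F₁) : FreeGroup G) = (r : FreeGroup G) := rfl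
    rw [this]
    exact r.2
  set μ₀ : R →* τ.ker := (l.comp (Subgroup.inclusion hRF₁)).codRestrict τ.ker hμmem with hμ₀
  set μ : R →* B := eB.toMonoidHom.comp μ₀ with hμ
  have hμ₀v : ∀ r : R, ((μ₀ r : τ.ker) : Δ) = l (Subgroup.inclusion hRF₁ r) := fun r => rfl
  have hinv : ∀ h ∈ F₁, ∀ r : R, μ (MulAut.conjNormal h r) = μ r := by
    intro h hh r
    rw [hμ, MonoidHom.comp_apply, MonoidHom.comp_apply]
    congr 1
    apply Subtype.ext
    rw [hμ₀v, hμ₀v]
    have h1 : Subgroup.inclusion hRF₁ (MulAut.conjNormal h r) =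
        (⟨h, hh⟩ : F₁) * Subgroup.inclusion hRF₁ r * (⟨h, hh⟩ : F₁)⁻¹ := by
      apply Subtype.ext
      simp [MulAut.conjNormal_apply]
    rw [h1, map_mul, map_mul, map_inv]
    have hc : l (Subgroup.inclusion hRF₁ r) ∈ Subgroup.center Δ := hτ.2.1 (hμmem r)
    rw [Subgroup.mem_center_iff] at hc
    rw [hc (l ⟨h, hh⟩), mul_inv_cancel_right]
  -- finiteness of the coset space
  have hidx : F₁.index = (P : Subgroup G).index := Subgroup.index_comap_of_surjective _ hφ
  have hfi : F₁.FiniteIndex := by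
    constructor
    rw [hidx]
    exact Subgroup.index_ne_zero_of_finite
  have hfinq : Finite (FreeGroup G ⧸ F₁) := Subgroup.finite_quotient_of_finiteIndex
  obtain ⟨instFq⟩ : Nonempty (Fintype (FreeGroup G ⧸ F₁)) := ⟨Fintype.ofFinite _⟩
  have hcardq : Fintype.card (FreeGroup G ⧸ F₁) = (P : Subgroup G).index := by
    rw [← hidx, Subgroup.index, Nat.card_eq_fintype_card]
  set ν : R →* B := msyNorm F₁ R μ with hν
  have hνconj : ∀ (g : FreeGroup G) (r : R), ν (MulAut.conjNormal g r) = ν r :=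
    fun g r => msyNorm_conj F₁ R μ hinv g r
  -- the normal subgroup K = ker ν
  set K : Subgroup (FreeGroup G) := ν.ker.map R.subtype with hK
  have hKR : K ≤ R := by
    rw [hK]; exact Subgroup.map_subtype_le _
  have hmemK : ∀ r : R, (r : FreeGroup G) ∈ K ↔ ν r = 1 := by
    intro r
    rw [hK]
    constructor
    · rintro ⟨y, hy, hyr⟩
      have : y = r := Subtype.ext hyr
      rw [← this]
      exact hy
    · intro hr
      exact ⟨r, hr, rfl⟩
  have hKn : K.Normal := by
    constructor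
    intro k hk g
    have hkR : k ∈ R := hKR hk
    have h1 : g * k * g⁻¹ = ((MulAut.conjNormal g (⟨k, hkR⟩ : R) : R) : FreeGroup G) := by
      rw [MulAut.conjNormal_apply]
    rw [h1, hmemK, hνconj]
    exact (hmemK ⟨k, hkR⟩).mp hk
  set mk : FreeGroup G →* FreeGroup G ⧸ K := QuotientGroup.mk' K with hmk
  have hmks : Function.Surjective mk := QuotientGroup.mk'_surjective K
  set σE : FreeGroup G ⧸ K →* G := QuotientGroup.lift K φ hKR with hσE
  have hσEmk : ∀ x, σE (mk x) = φ x := fun x => QuotientGroup.lift_mk K hKR x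
  have hσEs : Function.Surjective σE := by
    intro g
    obtain ⟨x, hx⟩ := hφ g
    exact ⟨mk x, by rw [hσEmk, hx]⟩
  have hσEc : σE.ker ≤ Subgroup.center (FreeGroup G ⧸ K) := by
    intro y hy
    obtain ⟨x, rfl⟩ := hmks y
    rw [MonoidHom.mem_ker, hσEmk] at hy
    have hxR : x ∈ R := hy
    rw [Subgroup.mem_center_iff]
    intro z
    obtain ⟨g, rfl⟩ := hmks z
    rw [← map_mul, ← map_mul, hmk, QuotientGroup.mk'_eq_mk']
    refine ⟨(g * x)⁻¹ * (x * g), ?_, by group⟩
    have h1 : (g * x)⁻¹ * (x * g) =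
        (((⟨x, hxR⟩ : R)⁻¹ * MulAut.conjNormal g⁻¹ (⟨x, hxR⟩ : R) : R) : FreeGroup G) := by
      rw [Subgroup.coe_mul, Subgroup.coe_inv, MulAut.conjNormal_apply]
      group
    rw [h1, hmemK, map_mul, map_inv, hνconj, inv_mul_cancel]
  obtain ⟨ρ, hρ⟩ := scv_mult_to_central hA σE hσEs hσEc
  -- ν̄ : σE.ker →* B
  have hιmem : ∀ r : R, (mk.comp R.subtype) r ∈ σE.ker := by
    intro r
    rw [MonoidHom.mem_ker, MonoidHom.comp_apply, hσEmk]
    exact r.2
  set ιR : R →* σE.ker := (mk.comp R.subtype).codRestrict σE.ker hιmem with hιR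
  have hιRv : ∀ r : R, ((ιR r : σE.ker) : FreeGroup G ⧸ K) = mk (r : FreeGroup G) := fun r => rfl
  have hιRs : Function.Surjective ιR := by
    rintro ⟨y, hy⟩
    obtain ⟨x, rfl⟩ := hmks y
    rw [MonoidHom.mem_ker, hσEmk] at hy
    exact ⟨⟨x, hy⟩, rfl⟩
  have hιRker : ιR.ker ≤ ν.ker := by
    intro r hr
    rw [MonoidHom.mem_ker] at hr
    have h1 : mk (r : FreeGroup G) = 1 := by
      rw [← hιRv, hr]; rfl
    rw [hmk, QuotientGroup.mk'_apply, QuotientGroup.eq_one_iff] at h1
    exact (hmemK r).mp h1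
  set νb : σE.ker →* B := ιR.liftOfSurjective hιRs ⟨ν, hιRker⟩ with hνb
  have hνbv : ∀ r : R, νb (ιR r) = ν r := fun r =>
    ιR.liftOfRightInverse_comp_apply _ _ ⟨ν, hιRker⟩ r
  set κ : A →* B := νb.comp ρ with hκ
  -- π : B →* Γ through the centre
  have hπmem : ∀ b : B, ((f ((eB.symm b : τ.ker) : Δ) : S₀) : Γ) ∈ σ.ker := by
    intro b
    rw [MonoidHom.mem_ker, ← hσPa, hfτ']
    have : τ ((eB.symm b : τ.ker) : Δ) = 1 := (eB.symm b).2
    rw [this]; rfl
  set π₀ : B →* Γ := S₀.subtype.comp (f.comp (τ.ker.subtype.comp eB.symm.toMonoidHom)) with hπ₀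
  have hπ₀v : ∀ b : B, π₀ b = ((f ((eB.symm b : τ.ker) : Δ) : S₀) : Γ) := fun b => rfl
  have hπ₀c : ∀ b : B, π₀ b ∈ Subgroup.center Γ := fun b => hσ.2.1 (hπmem b)
  set πZ : B →* Subgroup.center Γ := π₀.codRestrict (Subgroup.center Γ) hπ₀c with hπZ
  have hπZv : ∀ b : B, ((πZ b : Subgroup.center Γ) : Γ) = π₀ b := fun b => rfl
  -- π₀ ∘ μ = ψ on R
  have hπμ : ∀ r : R, π₀ (μ r) = ψ (r : FreeGroup G) := by
    intro r
    rw [hπ₀v, hμ, MonoidHom.comp_apply]
    have h1 : eB.symm (eB.toMonoidHom (μ₀ r)) = μ₀ r := eB.symm_apply_apply _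
    rw [h1, hμ₀v, hl', hlSv]
    rfl
  have hncop : ((P : Subgroup G).index).Coprime p :=
    ((Nat.Prime.coprime_iff_not_dvd hp.out).mpr P.not_dvd_index).symm
  have hsurj : ∀ z ∈ σ.ker, ∃ a : A, π₀ (κ a) = z := by
    intro z hz
    obtain ⟨k, hk⟩ := hkerp.exists_card_eq
    have hcop : (Nat.card σ.ker).Coprime (P : Subgroup G).index := by
      rw [hk]
      exact Nat.Coprime.pow_left k hncop.symm
    obtain ⟨w, hw⟩ := (powCoprime hcop).surjective ⟨z, hz⟩
    have hwz : (w : Γ) ^ (P : Subgroup G).index = z := by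
      have := congrArg Subtype.val hw
      simpa using this
    have hwc : (w : Γ) ∈ Subgroup.center Γ := hσ.2.1 w.2
    have hwcomm : (w : Γ) ∈ commutator Γ := hσ.2.2 w.2
    have hcomΓ : commutator Γ = (commutator (FreeGroup G)).map ψ := by
      rw [commutator_def, commutator_def, Subgroup.map_commutator, ← MonoidHom.range_eq_map,
        MonoidHom.range_eq_top_of_surjective ψ hψs]
    rw [hcomΓ] at hwcomm
    obtain ⟨x, hxc, hxw⟩ := hwcomm
    have hxR : x ∈ R := by
      rw [hR, MonoidHom.mem_ker, ← hψ', hxw]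
      exact w.2
    set r : R := ⟨x, hxR⟩ with hr
    have hycomm : ((ιR r : σE.ker) : FreeGroup G ⧸ K) ∈ commutator (FreeGroup G ⧸ K) := by
      rw [hιRv]
      have h1 : (commutator (FreeGroup G)).map mk ≤ commutator (FreeGroup G ⧸ K) := by
        rw [commutator_def, commutator_def, Subgroup.map_commutator]
        exact Subgroup.commutator_mono le_top le_top
      exact h1 ⟨x, hxc, rfl⟩
    obtain ⟨a, ha⟩ := (hρ (ιR r)).mpr hycomm
    refine ⟨a, ?_⟩
    have hκa : κ a = ν r := by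
      show νb (ρ a) = ν r
      rw [ha, hνbv]
    have hνr : ν r = ∏ q : FreeGroup G ⧸ F₁, μ (MulAut.conjNormal (Quotient.out q)⁻¹ r) :=
      msyNorm_apply F₁ R μ r
    rw [hκa, ← hπZv, hνr, map_prod]
    have hterm : ∀ q : FreeGroup G ⧸ F₁,
        πZ (μ (MulAut.conjNormal (Quotient.out q)⁻¹ r)) = ⟨(w : Γ), hwc⟩ := by
      intro q
      apply Subtype.ext
      rw [hπZv, hπμ, MulAut.conjNormal_apply]
      show ψ ((Quotient.out q)⁻¹ * x * (Quotient.out q)⁻¹⁻¹) = (w : Γ)
      rw [inv_inv, map_mul, map_mul, hxw, map_inv]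
      have hwc' := Subgroup.mem_center_iff.mp hwc (ψ (Quotient.out q))
      rw [mul_assoc, ← hwc', inv_mul_cancel_left]
    rw [Finset.prod_congr rfl (fun q _ => hterm q), Finset.prod_const, Finset.card_univ, hcardq]
    rw [← hwz]
    rfl
  exact msy_final p κ π₀ σ.ker hcardker hπmem hsurj


end Cfsg.Agent.Lib.Helper21
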