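import Mathlib
import Cfsg.Agent.Lib.Helper21.NarrowF

/-!
# A `p`-group in which some elementary abelian subgroup has a centralizer of rank at most two
-/

set_option autoImplicit false

namespace Cfsg.Agent.Lib.Helper21.Narrow

universe u

variable {P : Type u} [Group P]

theorem hasMaxElem_of_centralizer_rank [Finite P] (p : ℕ) [hp : Fact p.Prime] (hP : IsPGroup p P)
    (E : Subgroup P) (hE : Cfsg.IsElementaryAbelian p E)
    (hX : Cfsg.PRankLE p 2 ↥(Subgroup.centralizer (E : Set P)))
    (hr : ¬ Cfsg.PRankLE p 2 P) : HasMaxElem p P := by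
  classical
  have hpp : p.Prime := hp.out
  have hfin : {B : Subgroup P | Cfsg.IsElementaryAbelian p B ∧ E ≤ B}.Finite := Set.toFinite _
  obtain ⟨E₁, hEmax⟩ := hfin.exists_maximal ⟨E, hE, le_refl _⟩
  obtain ⟨hE₁el, hEE₁⟩ := hEmax.1
  have hmax : ∀ B : Subgroup P, Cfsg.IsElementaryAbelian p B → E₁ ≤ B → B = E₁ := by
    intro B hB hEB
    exact le_antisymm (hEmax.2 ⟨hB, hEE₁.trans hEB⟩ hEB) hEB
  -- elements of order `p` centralizing `E₁` lie in `E₁`
  have hadj : ∀ a : P, a ^ p = 1 → a ∈ Subgroup.centralizer (E₁ : Set P) → a ∈ E₁ := by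
    intro a hap hac
    have h1 := Cfsg.Agent.Lib.Helper5.elemAb_adjoin hE₁el a hac hap
    have h2 : E₁ ≤ Subgroup.closure ((E₁ : Set P) ∪ {a}) :=
      fun e he => Subgroup.subset_closure (Or.inl he)
    rw [← hmax _ h1 h2]
    exact Subgroup.subset_closure (Or.inr rfl)
  -- `E₁` centralizes `E`
  have hE₁C : E₁ ≤ Subgroup.centralizer (E : Set P) := by
    intro e he
    rw [Subgroup.mem_centralizer_iff]
    intro a ha
    have := hE₁el.1
    exact setLike_mul_comm (hEE₁ ha) he
  have hle : Nat.card ↥E₁ ≤ p ^ 2 := by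
    have hE₁c : IsMulCommutative ↥E₁ := hE₁el.1
    have h1 := hX (E₁.subgroupOf (Subgroup.centralizer (E : Set P)))
      (Subgroup.comap_injective_isMulCommutative E₁
        (Subgroup.centralizer (E : Set P)).subtype_injective)
      (by
        intro b hb
        apply Subtype.ext
        have := hE₁el.2 b.1 (Subgroup.mem_subgroupOf.mp hb)
        simpa using this)
    have h2 : Nat.card ↥(E₁.subgroupOf (Subgroup.centralizer (E : Set P))) = Nat.card ↥E₁ :=
      Nat.card_congr (Subgroup.subgroupOfEquivOfLe hE₁C).toEquiv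
    rw [← h2]
    exact h1
  obtain ⟨k, hk⟩ := IsPGroup.iff_card.mp (hP.to_subgroup E₁)
  have hk2 : 2 ≤ k := by
    by_contra hcon
    push Not at hcon
    have hcard : Nat.card ↥E₁ ≤ p := by
      rw [hk]
      calc p ^ k ≤ p ^ 1 := Nat.pow_le_pow_right hpp.pos (by omega)
        _ = p := pow_one p
    apply hr
    -- `E₁` is central
    have hcen : E₁ ≤ Subgroup.center P := by
      by_contra hnc
      have hlt : E₁ ⊓ Subgroup.center P ≠ E₁ := fun h => hnc (h ▸ inf_le_right)
      have hbot : E₁ ⊓ Subgroup.center P = ⊥ := by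
        have hdvd : Nat.card ↥(E₁ ⊓ Subgroup.center P) ∣ Nat.card ↥E₁ :=
          Subgroup.card_dvd_of_le inf_le_left
        rw [hk] at hdvd
        obtain ⟨i, hi, hci⟩ := (Nat.dvd_prime_pow hpp).mp hdvd
        rcases Nat.eq_zero_or_pos i with h0 | hpos
        · rw [h0, pow_zero] at hci
          exact Subgroup.card_eq_one.mp hci
        · exfalso
          apply hlt
          apply Subgroup.eq_of_le_of_card_ge inf_le_left
          rw [hci, hk]
          exact Nat.pow_le_pow_right hpp.pos (by omega)
      -- the centre has no element of order `p`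
      have hnt : Nontrivial P := by
        by_contra hcon2
        rw [not_nontrivial_iff_subsingleton] at hcon2
        apply hnc
        intro e _
        have : e = 1 := Subsingleton.elim _ _
        rw [this]
        exact Subgroup.one_mem _
      have hcnt := hP.center_nontrivial
      obtain ⟨j, hj⟩ := IsPGroup.iff_card.mp (hP.to_subgroup (Subgroup.center P))
      have hj0 : j ≠ 0 := by
        intro h0
        rw [h0, pow_zero] at hj
        have : Subsingleton ↥(Subgroup.center P) := (Nat.card_eq_one_iff_unique.mp hj).1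
        exact not_subsingleton _ this
      have hdvd : p ∣ Nat.card ↥(Subgroup.center P) := by rw [hj]; exact dvd_pow_self p hj0
      obtain ⟨y, hy⟩ := exists_prime_orderOf_dvd_card' p hdvd
      have hyp : (y : P) ^ p = 1 := by
        have := pow_orderOf_eq_one y
        rw [hy] at this
        simpa using congrArg Subtype.val this
      have hyE : (y : P) ∈ E₁ := by
        apply hadj _ hyp
        rw [Subgroup.mem_centralizer_iff]
        intro e _
        exact (Subgroup.mem_center_iff.mp y.2 e)
      have hy1 : (y : P) ∈ E₁ ⊓ Subgroup.center P := ⟨hyE, y.2⟩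
      rw [hbot, Subgroup.mem_bot] at hy1
      have : y = 1 := Subtype.ext hy1
      rw [this, orderOf_one] at hy
      exact hpp.one_lt.ne hy
    intro A hAc hAexp
    have hAE : A ≤ E₁ := by
      intro a ha
      apply hadj a (hAexp a ha)
      rw [Subgroup.mem_centralizer_iff]
      intro e he
      exact (Subgroup.mem_center_iff.mp (hcen he) a).symm
    calc Nat.card ↥A ≤ Nat.card ↥E₁ := Subgroup.card_le_of_le hAE
      _ ≤ p := hcard
      _ = p ^ 1 := (pow_one p).symm
      _ ≤ p ^ 2 := Nat.pow_le_pow_right hpp.pos (by omega)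
  have hk2' : k ≤ 2 := by
    by_contra hcon
    push Not at hcon
    have h1 : p ^ 3 ≤ p ^ k := Nat.pow_le_pow_right hpp.pos hcon
    have h2 : p ^ 2 < p ^ 3 := Nat.pow_lt_pow_right hpp.one_lt (by omega)
    omega
  refine ⟨E₁, hE₁el, ?_, hmax⟩
  rw [hk, le_antisymm hk2' hk2]

end Cfsg.Agent.Lib.Helper21.Narrow
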