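import Mathlib
import Cfsg.Agent.Lib.Helper11.RankTwoTower

/-!
# `G' ≤ F(G)` from the action of `G'` on the `O_q(G)`

A variant of `Cfsg.Agent.Lib.Helper11.RankTwoTower.commutator_le_fitting` (same proof) in which
the rank hypothesis is replaced by its only consequence used there: the elements of `G'` of order
prime to `q` centralize `O_q(G)`.
-/

set_option autoImplicit false

namespace Cfsg.Agent.Lib.Helper21.Narrow

open scoped Pointwise commutatorElement
open Cfsg.Agent.Lib.Helper11.RankTwoTower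

variable {G : Type*} [Group G]

/-- `r`-elements of `G'` lie in `O_r(G)` -/
theorem relem_mem_pCore_of_der [Finite G] [Group.IsSolvable G]
    (hDer : ∀ (q : ℕ) [Fact q.Prime] (c : G), c ∈ commutator G → ∀ m : ℕ, c ^ m = 1 → ¬ q ∣ m →
      c ∈ Subgroup.centralizer (Cfsg.pCore q G : Set G))
    (r : ℕ) [Fact r.Prime] (x : G) (hx : x ∈ commutator G) (k : ℕ) (hxk : x ^ r ^ k = 1) :
    x ∈ Cfsg.pCore r G := by
  have hrp : r.Prime := Fact.out
  obtain ⟨W, hW⟩ : ∃ W : Subgroup G, W = otherCores G ⟨r, hrp⟩ := ⟨_, rfl⟩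
  have hWn : W.Normal := hW ▸ (otherCores_normal_coprime (G := G) ⟨r, hrp⟩).1
  have hWcop : (Nat.card W).Coprime r := by
    rw [hW]; exact (otherCores_normal_coprime (G := G) ⟨r, hrp⟩).2
  have hFeq : Cfsg.fittingSubgroup G = Cfsg.pCore r G ⊔ W := by
    rw [hW]; exact fitting_eq_sup ⟨r, hrp⟩
  have hQn : (Cfsg.pCore r G).Normal := Cfsg.Agent.Lib.Helper1.pCore_normal r
  have hQp : IsPGroup r ↥(Cfsg.pCore r G) := Cfsg.Agent.Lib.Helper1.pCore_isPGroup r
  obtain ⟨a, ha⟩ := IsPGroup.iff_card.mp hQp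
  obtain ⟨M, hM⟩ : ∃ M : Subgroup G, M = commutator G ⊓ Subgroup.centralizer (W : Set G) :=
    ⟨_, rfl⟩
  have hMn : M.Normal := by
    rw [hM]
    have : (Subgroup.centralizer (W : Set G)).Normal := Subgroup.normal_centralizer
    exact Subgroup.normal_inf_normal _ _
  have hMder : M ≤ commutator G := by rw [hM]; exact inf_le_left
  have hMcen : M ≤ Subgroup.centralizer (W : Set G) := by rw [hM]; exact inf_le_right
  have K1 : ∀ y ∈ M, ∀ m : ℕ, y ^ m = 1 → ¬ r ∣ m → y ∈ W := by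
    intro y hy m hym hrm
    have h1 := hDer r y (hMder hy) m hym hrm
    have h2 : y ∈ Subgroup.centralizer (Cfsg.fittingSubgroup G : Set G) := by
      have h3 : Cfsg.fittingSubgroup G ≤ Subgroup.centralizer ({y} : Set G) := by
        rw [hFeq]
        apply sup_le
        · intro u hu
          rw [Subgroup.mem_centralizer_iff]
          intro z hz
          rw [Set.mem_singleton_iff] at hz
          rw [hz]
          exact ((Subgroup.mem_centralizer_iff.mp h1) u hu).symm
        · intro u hu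
          rw [Subgroup.mem_centralizer_iff]
          intro z hz
          rw [Set.mem_singleton_iff] at hz
          rw [hz]
          exact ((Subgroup.mem_centralizer_iff.mp (hMcen hy)) u hu).symm
      rw [Subgroup.mem_centralizer_iff]
      intro f hf
      exact ((Subgroup.mem_centralizer_iff.mp (h3 hf)) y rfl).symm
    have h4 : y ∈ Cfsg.fittingSubgroup G :=
      Cfsg.Agent.Lib.Helper1.centralizer_fittingSubgroup_le h2
    rw [hFeq, sup_comm] at h4
    refine mem_of_mem_sup_coprime W (Cfsg.pCore r G) y h4 m hym ?_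
    rw [ha]
    exact Nat.Coprime.pow_right a ((Nat.Prime.coprime_iff_not_dvd hrp).mpr hrm).symm
  obtain ⟨Z, hZ⟩ : ∃ Z : Subgroup ↥M, Z = W.subgroupOf M := ⟨_, rfl⟩
  have hZc : ∀ z ∈ Z, ∀ e : ↥M, z * e = e * z := by
    intro z hz e
    rw [hZ, Subgroup.mem_subgroupOf] at hz
    have he : (e : G) ∈ Subgroup.centralizer (W : Set G) := hMcen e.2
    apply Subtype.ext
    simp only [Subgroup.coe_mul]
    exact (Subgroup.mem_centralizer_iff.mp he) z hz
  have hZn : Z.Normal := ⟨fun z hz g => by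
    rw [← hZc z hz g, mul_inv_cancel_right]; exact hz⟩
  have hZcardW : Nat.card Z ∣ Nat.card W := by
    have h1 : Nat.card Z = Nat.card ↥(Z.map M.subtype) :=
      (Subgroup.card_map_of_injective M.subtype_injective).symm
    rw [h1]
    apply Subgroup.card_dvd_of_le
    rw [hZ, Subgroup.subgroupOf_map_subtype]; exact inf_le_left
  have hZcop : (Nat.card Z).Coprime r := Nat.Coprime.coprime_dvd_left hZcardW hWcop
  have hQuot : IsPGroup r (↥M ⧸ Z) := by
    intro ebar
    obtain ⟨e, rfl⟩ := QuotientGroup.mk_surjective ebar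
    obtain ⟨j, m, hrm, hjm⟩ := Nat.exists_eq_pow_mul_and_not_dvd (orderOf_pos e).ne' r
      hrp.ne_one
    refine ⟨j, ?_⟩
    rw [← QuotientGroup.mk_pow, QuotientGroup.eq_one_iff, hZ, Subgroup.mem_subgroupOf]
    apply K1 _ (e ^ r ^ j).2 m ?_ hrm
    rw [← Subgroup.coe_pow, ← pow_mul, ← hjm, pow_orderOf_eq_one]; rfl
  obtain ⟨n, hn⟩ := IsPGroup.iff_card.mp hQuot
  have hidx : Z.index = r ^ n := by rw [Subgroup.index_eq_card]; exact hn
  have hcop : (Nat.card Z).Coprime Z.index := by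
    rw [hidx]; exact Nat.Coprime.pow_right n hZcop
  obtain ⟨D, hDchar, hD⟩ := Cfsg.Agent.Lib.Helper5.h5_central_hall_complement Z hZc hcop
  have hDcard : Nat.card D = r ^ n := by
    have h1 := hD.card_mul_card
    have h2 := Z.card_mul_index
    rw [← hidx]
    rw [← h2] at h1
    exact Nat.eq_of_mul_eq_mul_left Nat.card_pos h1
  have hDp : IsPGroup r ↥D := IsPGroup.of_card hDcard
  have hDn : (D.map M.subtype).Normal :=
    Cfsg.Agent.Lib.Helper5.h5_normal_map_of_characteristic M D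
  have hDle : D.map M.subtype ≤ Cfsg.pCore r G :=
    Cfsg.Agent.Lib.Helper1.le_pCore hDn (hDp.map _)
  have hxM : x ∈ M := by
    rw [hM]
    refine ⟨hx, ?_⟩
    have h3 : W ≤ Subgroup.centralizer ({x} : Set G) := by
      rw [hW]
      apply sSup_le
      rintro N ⟨p, hp, rfl⟩
      have : Fact (p : ℕ).Prime := ⟨p.2⟩
      have hpr : ¬ (p : ℕ) ∣ r ^ k := by
        intro h
        have := (Nat.prime_dvd_prime_iff_eq p.2 hrp).mp (p.2.dvd_of_dvd_pow h)
        exact hp (Subtype.ext this)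
      have h1 := hDer (p : ℕ) x hx (r ^ k) hxk hpr
      intro u hu
      rw [Subgroup.mem_centralizer_iff]
      intro z hz
      rw [Set.mem_singleton_iff] at hz
      rw [hz]
      exact ((Subgroup.mem_centralizer_iff.mp h1) u hu).symm
    show x ∈ Subgroup.centralizer (W : Set G)
    rw [Subgroup.mem_centralizer_iff]
    intro w hw
    exact ((Subgroup.mem_centralizer_iff.mp (h3 hw)) x rfl).symm
  have hmul : (Z : Set ↥M) * (D : Set ↥M) = Set.univ :=
    (Subgroup.isComplement'_def.mp hD).mul_eq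
  have hc' : (⟨x, hxM⟩ : ↥M) ∈ (Z : Set ↥M) * (D : Set ↥M) := by rw [hmul]; trivial
  obtain ⟨z, hz, d, hd, hzd⟩ := hc'
  have hzd' : z * d = ⟨x, hxM⟩ := hzd
  have hcomm : Commute z d := hZc z hz d
  have hpow : (z * d) ^ r ^ k = 1 := by
    rw [hzd']; apply Subtype.ext; simpa using hxk
  rw [hcomm.mul_pow] at hpow
  have hzD : z ^ r ^ k ∈ D := by
    have : z ^ r ^ k = (d ^ r ^ k)⁻¹ := eq_inv_of_mul_eq_one_left hpow
    rw [this]; exact D.inv_mem (D.pow_mem hd _)
  have hz1 : z ^ r ^ k = 1 := Subgroup.disjoint_def.mp hD.disjoint (Z.pow_mem hz _) hzD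
  have hz2 : z ^ Nat.card Z = 1 := Cfsg.Agent.Lib.Helper5.h5_pow_card_eq_one_of_mem hz
  have hz3 : z = 1 := by
    have := pow_gcd_eq_one.mpr ⟨hz1, hz2⟩
    rwa [Nat.Coprime.gcd_eq_one (Nat.Coprime.pow_left k hZcop.symm), pow_one] at this
  rw [hz3, one_mul] at hzd'
  apply hDle
  refine ⟨d, hd, ?_⟩
  rw [hzd']
  rfl

/-- `G' ≤ F(G)` -/
theorem commutator_le_fitting_of_der [Finite G] [Group.IsSolvable G]
    (hDer : ∀ (q : ℕ) [Fact q.Prime] (c : G), c ∈ commutator G → ∀ m : ℕ, c ^ m = 1 → ¬ q ∣ m →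
      c ∈ Subgroup.centralizer (Cfsg.pCore q G : Set G)) :
    commutator G ≤ Cfsg.fittingSubgroup G := by
  obtain ⟨N, hN⟩ : ∃ N : Subgroup G, N = commutator G := ⟨_, rfl⟩
  rw [← hN]
  have h1 : N = (⊤ : Subgroup N).map N.subtype := by
    rw [← MonoidHom.range_eq_map, Subgroup.range_subtype]
  rw [h1, ← Cfsg.Agent.Lib.Helper1.iSup_sylow_eq_top, Subgroup.map_iSup]
  apply iSup_le
  intro p
  rw [Subgroup.map_iSup]
  apply iSup_le
  intro P
  have : Fact (p : ℕ).Prime := ⟨p.2⟩
  refine le_trans ?_ (Cfsg.Agent.Lib.Helper1.pCore_le_fittingSubgroup (p : ℕ))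
  rintro _ ⟨s, hs, rfl⟩
  obtain ⟨k, hk⟩ := P.isPGroup' ⟨s, hs⟩
  apply relem_mem_pCore_of_der hDer (p : ℕ) _ (hN ▸ s.2) k
  have := congrArg Subtype.val (congrArg Subtype.val hk)
  simpa using this

end Cfsg.Agent.Lib.Helper21.Narrow
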