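import Mathlib
import Cfsg.Agent.Lib.Helper5.StemB

/-! Project ONM, pieces QINVN + SECTION: kernel of order two; a section over `H = N ∪ N a`. -/

set_option autoImplicit false
set_option linter.unusedVariables false

namespace Cfsg.Agent.Lib.helper17.ONM

open Cfsg.Agent.Lib.Helper5.Stem

/-- the derived subgroup of the preimage of a perfect subgroup `S` maps onto `S` -/
theorem onmsection_dsurj {Γ : Type*} {G : Type*} [Group Γ] [Group G] (σ : Γ →* G)
    (hs : Function.Surjective σ) (S : Subgroup G) (hperf : S ≤ ⁅S, S⁆) :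
    ∀ n ∈ S, ∃ d ∈ ⁅S.comap σ, S.comap σ⁆, σ d = n := by
  intro n hn
  have h1 : (⁅S.comap σ, S.comap σ⁆).map σ = ⁅S, S⁆ := by
    rw [Subgroup.map_commutator, Subgroup.map_comap_eq_self_of_surjective hs]
  have h2 : n ∈ (⁅S.comap σ, S.comap σ⁆).map σ := by
    rw [h1]
    exact hperf hn
  obtain ⟨d, hd, hdn⟩ := h2
  exact ⟨d, hd, hdn⟩

/-- conjugation by an element normalising `M` normalises `⁅M, M⁆` -/
theorem onmsection_conj_comm {Γ : Type*} [Group Γ] (M : Subgroup Γ) (A : Γ)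
    (hA : ∀ m ∈ M, A * m * A⁻¹ ∈ M) : ∀ d ∈ ⁅M, M⁆, A * d * A⁻¹ ∈ ⁅M, M⁆ := by
  intro d hd
  have h1 : (⁅M, M⁆).map (MulAut.conj A).toMonoidHom ≤ ⁅M, M⁆ := by
    rw [Subgroup.map_commutator]
    have h2 : M.map (MulAut.conj A).toMonoidHom ≤ M := by
      rintro _ ⟨y, hy, rfl⟩
      exact hA y hy
    exact Subgroup.commutator_mono h2 h2
  have := h1 ⟨d, hd, rfl⟩
  simpa [MulAut.conj_apply] using this

/-- QINVN -/
theorem onm_qinv_of_mem {Γ : Type*} {G : Type*} [Group Γ] [Group G] (σ : Γ →* G)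
    (hs : Function.Surjective σ) {z : Γ} (hK : Ker2 σ z) (N : Subgroup G) (hperf : N ≤ ⁅N, N⁆)
    (hD : ∀ w ∈ ⁅N.comap σ, N.comap σ⁆, σ w = 1 → w = 1) (t : G) (htN : t ∈ N) (ht : t * t = 1) :
    QInv σ t := by
  obtain ⟨hz1, hz2, hσz, hw, hzc⟩ := hK
  obtain ⟨d, hd, hdt⟩ := onmsection_dsurj σ hs N hperf t htN
  have hdd : d * d = 1 := by
    apply hD _ (Subgroup.mul_mem _ hd hd)
    rw [map_mul, hdt, ht]
  intro x hx
  have h1 : σ (d⁻¹ * x) = 1 := by rw [map_mul, map_inv, hdt, hx, inv_mul_cancel]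
  rcases hw _ h1 with h | h
  · have : x = d := (inv_mul_eq_one.mp h).symm
    rw [this, hdd]
  · have hx' : x = d * z := by rw [← h]; group
    rw [hx']
    calc d * z * (d * z) = d * (z * d) * z := by group
      _ = d * (d * z) * z := by rw [hzc d]
      _ = (d * d) * (z * z) := by group
      _ = 1 := by rw [hz2, hdd, mul_one]

/-- SECTION -/
theorem onm_section {Γ : Type*} {G : Type*} [Group Γ] [Group G] (σ : Γ →* G)
    (hs : Function.Surjective σ) {z : Γ} (hK : Ker2 σ z) (H N : Subgroup G) (hNH : N ≤ H)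
    (hnorm : ∀ h ∈ H, ∀ n ∈ N, h * n * h⁻¹ ∈ N) (hperf : N ≤ ⁅N, N⁆)
    (hD : ∀ w ∈ ⁅N.comap σ, N.comap σ⁆, σ w = 1 → w = 1)
    (a : G) (haH : a ∈ H) (haN : a ∉ N) (ha2 : a * a = 1) (hgen : ∀ h ∈ H, h ∈ N ∨ h * a ∈ N)
    (hq : QInv σ a) :
    ∃ s : H →* Γ, ∀ h : H, σ (s h) = h := by
  classical
  obtain ⟨A, hA⟩ := hs a
  have hAA : A * A = 1 := hq A hA
  have hAinv : A⁻¹ = A := inv_eq_of_mul_eq_one_right hAA
  have hainv : a⁻¹ = a := inv_eq_of_mul_eq_one_right ha2
  obtain ⟨M, hM⟩ : ∃ M : Subgroup Γ, M = N.comap σ := ⟨_, rfl⟩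
  obtain ⟨D, hDdef⟩ : ∃ D : Subgroup Γ, D = ⁅M, M⁆ := ⟨_, rfl⟩
  have hDM : D ≤ M := by rw [hDdef]; exact Subgroup.commutator_le_self M
  have hMσ : ∀ m ∈ M, σ m ∈ N := by
    intro m hm
    rw [hM] at hm
    exact hm
  have hAM : ∀ m ∈ M, A * m * A⁻¹ ∈ M := by
    intro m hm
    rw [hM]
    show σ (A * m * A⁻¹) ∈ N
    rw [map_mul, map_mul, map_inv, hA]
    exact hnorm a haH _ (hMσ m hm)
  have hAD : ∀ d ∈ D, A * d * A ∈ D := by
    intro d hd
    have := onmsection_conj_comm M A hAM d (by rw [← hDdef]; exact hd)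
    rw [hAinv, ← hDdef] at this
    exact this
  have hDinj : ∀ w ∈ D, σ w = 1 → w = 1 := by
    intro w hw
    rw [hDdef, hM] at hw
    exact hD w hw
  have hDsurj : ∀ n ∈ N, ∃ d ∈ D, σ d = n := by
    intro n hn
    obtain ⟨d, hd, hdn⟩ := onmsection_dsurj σ hs N hperf n hn
    exact ⟨d, by rw [hDdef, hM]; exact hd, hdn⟩
  -- the subgroup `E = D ∪ D A`
  let E : Subgroup Γ :=
    { carrier := {e | e ∈ D ∨ e * A ∈ D}
      one_mem' := Or.inl D.one_mem
      mul_mem' := by
        rintro e1 e2 (h1 | h1) (h2 | h2)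
        · exact Or.inl (D.mul_mem h1 h2)
        · right
          have := D.mul_mem h1 h2
          rwa [← mul_assoc] at this
        · right
          have h3 := hAD e2 h2
          have h4 := D.mul_mem h1 h3
          have e : e1 * A * (A * e2 * A) = e1 * e2 * A := by
            calc e1 * A * (A * e2 * A) = e1 * (A * A) * e2 * A := by group
              _ = e1 * e2 * A := by rw [hAA, mul_one]
          rwa [e] at h4
        · left
          have h3 := hAD _ h2
          have h4 := D.mul_mem h1 h3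
          have e : e1 * A * (A * (e2 * A) * A) = e1 * e2 := by
            calc e1 * A * (A * (e2 * A) * A) = e1 * (A * A) * e2 * (A * A) := by group
              _ = e1 * e2 := by rw [hAA, mul_one, mul_one]
          rwa [e] at h4
      inv_mem' := by
        rintro e (h1 | h1)
        · exact Or.inl (D.inv_mem h1)
        · right
          have h3 := hAD _ (D.inv_mem h1)
          have e' : A * (e * A)⁻¹ * A = e⁻¹ * A := by
            calc A * (e * A)⁻¹ * A = (A * A⁻¹) * e⁻¹ * A := by group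
              _ = e⁻¹ * A := by rw [mul_inv_cancel, one_mul]
          rwa [e'] at h3 }
  have hEmem : ∀ e, e ∈ E ↔ (e ∈ D ∨ e * A ∈ D) := fun e => Iff.rfl
  have hEH : ∀ e ∈ E, σ e ∈ H := by
    intro e he
    rcases (hEmem e).1 he with h | h
    · exact hNH (hMσ e (hDM h))
    · have h1 := hNH (hMσ _ (hDM h))
      rw [map_mul, hA] at h1
      have h2 := H.mul_mem h1 haH
      rwa [mul_assoc, ha2, mul_one] at h2
  have hEinj : ∀ e ∈ E, σ e = 1 → e = 1 := by
    intro e he h1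
    rcases (hEmem e).1 he with h | h
    · exact hDinj e h h1
    · exfalso
      have h2 := hMσ _ (hDM h)
      rw [map_mul, h1, one_mul, hA] at h2
      exact haN h2
  have hEsurj : ∀ h ∈ H, ∃ e ∈ E, σ e = h := by
    intro h hh
    rcases hgen h hh with h1 | h1
    · obtain ⟨d, hd, hdh⟩ := hDsurj h h1
      exact ⟨d, Or.inl hd, hdh⟩
    · obtain ⟨d, hd, hdh⟩ := hDsurj _ h1
      refine ⟨d * A, Or.inr ?_, ?_⟩
      · rw [mul_assoc, hAA, mul_one]; exact hd
      · rw [map_mul, hdh, hA, mul_assoc, ha2, mul_one]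
  -- the bijective hom `E → H`
  let φ : E →* H := (σ.comp E.subtype).codRestrict H (fun e => hEH e.1 e.2)
  have hφ : ∀ e : E, ((φ e : H) : G) = σ (e : Γ) := fun e => rfl
  have hbij : Function.Bijective φ := by
    constructor
    · rw [injective_iff_map_eq_one]
      intro e he
      have h1 : σ (e : Γ) = 1 := by
        rw [← hφ, he]; rfl
      exact Subtype.ext (hEinj e.1 e.2 h1)
    · intro h
      obtain ⟨e, he, heh⟩ := hEsurj h.1 h.2
      exact ⟨⟨e, he⟩, Subtype.ext heh⟩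
  let ψ : E ≃* H := MulEquiv.ofBijective φ hbij
  refine ⟨E.subtype.comp ψ.symm.toMonoidHom, fun h => ?_⟩
  have h1 : φ (ψ.symm h) = h := ψ.apply_symm_apply h
  have h2 := hφ (ψ.symm h)
  rw [h1] at h2
  exact h2.symm

end Cfsg.Agent.Lib.helper17.ONM
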