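import Mathlib
import Cfsg.Agent.Lib.Helper16.OB25
import Cfsg.Agent.Lib.Helper16.PlusFam
import Cfsg.Agent.Lib.Helper16.SpinA

set_option autoImplicit false
set_option linter.unusedVariables false
set_option linter.unusedSectionVars false

/-!
# Project OPE (designer helper18), row OMEGAODD, second copy by helper21 under a seat-prefixed name:
isometries of odd order of the standard plus-type space lie in `Ω⁺`
(same statement as `q_omega_odd` of `Helper18/OPE/Skel3.lean.txt`).
-/

namespace Cfsg.Agent.Lib.Helper18.OPE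

open Module Cfsg.Agent.Lib.Helper16

/-- OMEGAODD (exact statement of the row `q_omega_odd`, seat-prefixed name). -/
theorem opeomegaodd_h21 {F : Type*} [Field F] [Fintype F] (d : ℕ) (hd : 3 ≤ d) (r : ℕ) (hr : Odd r)
    (x : GL (Fin d ⊕ Fin d) F) (hx : x ∈ Cfsg.isometryGroup F (Cfsg.quadFormPlus d F))
    (hxr : x ^ r = 1) : x ∈ Cfsg.Geo.omegaGL (Cfsg.quadFormPlus d F) := by
  classical
  set g : ↥(Cfsg.isometryGroup F (Cfsg.quadFormPlus d F)) := ⟨x, hx⟩ with hg
  have hgp : g ^ r = 1 := by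
    apply Subtype.ext
    rw [Subgroup.coe_pow]
    exact hxr
  obtain ⟨t, ht⟩ := hr
  have hzz : g ^ (t + 1) * g ^ (t + 1) = g := by
    rw [← pow_add, show t + 1 + (t + 1) = r + 1 by omega, pow_succ, hgp, one_mul]
  have hne : ∃ v, (qfPlus d F) v ≠ 0 := by
    refine ⟨Sum.elim (fun i => if i = (⟨0, by omega⟩ : Fin d) then 1 else 0)
      (fun i => if i = (⟨0, by omega⟩ : Fin d) then 1 else 0), ?_⟩
    rw [qfPlus_coe]
    unfold Cfsg.quadFormPlus
    simp
  have hn : 5 ≤ Fintype.card (Fin d ⊕ Fin d) := by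
    rw [Fintype.card_sum, Fintype.card_fin]
    omega
  have hmem := OB.sq_mem_omega_all (qfPlus d F) (qfPlus_nondeg d F) hn hne (g ^ (t + 1))
  have hmem' : g ^ (t + 1) * g ^ (t + 1) ∈ Cfsg.Omega F (Cfsg.quadFormPlus d F) := hmem
  rw [hzz] at hmem'
  unfold Cfsg.Geo.omegaGL
  exact Subgroup.mem_map.mpr ⟨g, hmem', rfl⟩

end Cfsg.Agent.Lib.Helper18.OPE
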