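import Mathlib
import Cfsg.Agent.Lib.Helper16.SpinA

set_option autoImplicit false
set_option linter.unusedVariables false
set_option linter.unusedSectionVars false

/-!
# Project OPE (designer helper18), row SCALRED, second copy by helper21 under a seat-prefixed name
(same statement as `scal_red` of `Helper18/OPE/Skel3.lean.txt`).
-/

namespace Cfsg.Agent.Lib.Helper18.OPE

open Module Cfsg.Agent.Lib.Helper16

/-- the vector `e₀ + f₀` has `Q = 1`. -/
theorem opescalredh21_ne {F : Type*} [Field F] (d : ℕ) (hd : 1 ≤ d) :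
    ∃ v : Fin d ⊕ Fin d → F, Cfsg.quadFormPlus d F v = 1 := by
  refine ⟨Sum.elim (fun i => if i = (⟨0, by omega⟩ : Fin d) then 1 else 0)
      (fun i => if i = (⟨0, by omega⟩ : Fin d) then 1 else 0), ?_⟩
  unfold Cfsg.quadFormPlus
  simp

theorem opescalredh21_smul {F : Type*} [Field F] (d : ℕ) (z : F) (v : Fin d ⊕ Fin d → F) :
    Cfsg.quadFormPlus d F (z • v) = z * z * Cfsg.quadFormPlus d F v := by
  unfold Cfsg.quadFormPlus
  rw [Finset.mul_sum]
  apply Finset.sum_congr rfl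
  intro i _
  simp only [Pi.smul_apply, smul_eq_mul]
  ring

/-- SCALRED (exact statement of the row `scal_red`, seat-prefixed name). -/
theorem opescalred_h21 {F : Type*} [Field F] (d : ℕ) (hd : 1 ≤ d) (r : ℕ) (x : GL (Fin d ⊕ Fin d) F)
    (hx : x ∈ Cfsg.isometryGroup F (Cfsg.quadFormPlus d F)) (z : F)
    (hxr : ((x ^ r : GL (Fin d ⊕ Fin d) F) : Matrix (Fin d ⊕ Fin d) (Fin d ⊕ Fin d) F) =
      z • (1 : Matrix (Fin d ⊕ Fin d) (Fin d ⊕ Fin d) F))
    (hns : ∀ z : F, (x : Matrix (Fin d ⊕ Fin d) (Fin d ⊕ Fin d) F) ≠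
      z • (1 : Matrix (Fin d ⊕ Fin d) (Fin d ⊕ Fin d) F)) :
    (z = 1 ∨ z = -1) ∧
      (Odd r → ∃ x' : GL (Fin d ⊕ Fin d) F, x' ∈ Cfsg.isometryGroup F (Cfsg.quadFormPlus d F) ∧
        x' ^ r = 1 ∧ x' ≠ 1 ∧
        ∀ W : Submodule F (Fin d ⊕ Fin d → F),
          W.map (Matrix.toLin' (x' : Matrix (Fin d ⊕ Fin d) (Fin d ⊕ Fin d) F)) ≤ W →
          W.map (Matrix.toLin' (x : Matrix (Fin d ⊕ Fin d) (Fin d ⊕ Fin d) F)) ≤ W) := by
  classical
  have hxrmem : x ^ r ∈ Cfsg.isometryGroup F (Cfsg.quadFormPlus d F) := Subgroup.pow_mem _ hx r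
  have hzz : z * z = 1 := by
    obtain ⟨v, hv⟩ := opescalredh21_ne (F := F) d hd
    have h1 := (mem_iso_iff _ _).mp hxrmem v
    rw [hxr, Matrix.smul_mulVec, Matrix.one_mulVec, opescalredh21_smul, hv, mul_one] at h1
    exact h1
  have hz : z = 1 ∨ z = -1 := by
    have : (z - 1) * (z + 1) = 0 := by ring_nf; rw [sq, hzz]; ring
    rcases mul_eq_zero.mp this with h | h
    · left; exact sub_eq_zero.mp h
    · right; exact eq_neg_of_add_eq_zero_left h
  refine ⟨hz, ?_⟩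
  rintro ⟨t, ht⟩
  have hzpow : z ^ (r + 1) = 1 := by
    rw [show r + 1 = 2 * (t + 1) by omega, pow_mul, sq, hzz, one_pow]
  have hx'mat : ((x ^ (r + 1) : GL (Fin d ⊕ Fin d) F) : Matrix (Fin d ⊕ Fin d) (Fin d ⊕ Fin d) F) =
      z • (x : Matrix (Fin d ⊕ Fin d) (Fin d ⊕ Fin d) F) := by
    rw [pow_succ, Units.val_mul, hxr, Matrix.smul_mul, Matrix.one_mul]
  refine ⟨x ^ (r + 1), Subgroup.pow_mem _ hx _, ?_, ?_, ?_⟩
  · rw [← pow_mul, mul_comm, pow_mul]
    apply Units.ext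
    rw [Units.val_pow_eq_pow_val, hxr, Units.val_one, smul_pow, one_pow, hzpow, one_smul]
  · intro h1
    apply hns z
    have h2 : z • (x : Matrix (Fin d ⊕ Fin d) (Fin d ⊕ Fin d) F) = 1 := by
      rw [← hx'mat, h1, Units.val_one]
    calc (x : Matrix (Fin d ⊕ Fin d) (Fin d ⊕ Fin d) F)
        = (z * z) • (x : Matrix (Fin d ⊕ Fin d) (Fin d ⊕ Fin d) F) := by rw [hzz, one_smul]
      _ = z • (z • (x : Matrix (Fin d ⊕ Fin d) (Fin d ⊕ Fin d) F)) := by rw [mul_smul]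
      _ = z • 1 := by rw [h2]
  · intro W hW w hw
    obtain ⟨u, hu, rfl⟩ := hw
    have h3 : Matrix.toLin' ((x ^ (r + 1) : GL (Fin d ⊕ Fin d) F) :
        Matrix (Fin d ⊕ Fin d) (Fin d ⊕ Fin d) F) u ∈ W := hW ⟨u, hu, rfl⟩
    rw [hx'mat, map_smul, LinearMap.smul_apply] at h3
    have h4 := W.smul_mem z h3
    rw [← mul_smul, hzz, one_smul] at h4
    exact h4

end Cfsg.Agent.Lib.Helper18.OPE
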