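import Mathlib
import Cfsg.Agent.Lib.Helper19.ORE.Defs

/-!
# Project ORE (designer helper19), row D4 (`solP_of_msol`), verbatim from `Helper19/ORE/Skel.lean.txt`.
-/

set_option autoImplicit false

namespace Cfsg.Agent.Lib.Helper19.ORE

open Polynomial Module

universe u v w v₁ v₂ v₃ v₄

section General
variable {F : Type u} [Field F]

/-- the linear automorphism of `V` given by an invertible matrix in the coordinates `e` -/
noncomputable def ored4_equiv {V : Type v} [AddCommGroup V] [Module F V] {k : ℕ} (e : V ≃ₗ[F] (Fin k → F))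
    (A Ai : Matrix (Fin k) (Fin k) F) (h : A * Ai = 1) : V ≃ₗ[F] V :=
  (e.trans (Matrix.toLin'OfInv (M := Ai) (M' := A) (mul_eq_one_comm.mp h) h)).trans e.symm

theorem ored4_equiv_apply {V : Type v} [AddCommGroup V] [Module F V] {k : ℕ} (e : V ≃ₗ[F] (Fin k → F))
    (A Ai : Matrix (Fin k) (Fin k) F) (h : A * Ai = 1) (x : V) :
    ored4_equiv e A Ai h x = e.symm (A.mulVec (e x)) := by
  simp [ored4_equiv, Matrix.toLin'OfInv]

theorem ored4_equiv_symm_apply {V : Type v} [AddCommGroup V] [Module F V] {k : ℕ} (e : V ≃ₗ[F] (Fin k → F))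
    (A Ai : Matrix (Fin k) (Fin k) F) (h : A * Ai = 1) (x : V) :
    (ored4_equiv e A Ai h)⁻¹ x = e.symm (Ai.mulVec (e x)) := by
  have h1 : ored4_equiv e A Ai h (e.symm (Ai.mulVec (e x))) = x := by
    rw [ored4_equiv_apply, LinearEquiv.apply_symm_apply, Matrix.mulVec_mulVec, h, Matrix.one_mulVec,
      LinearEquiv.symm_apply_apply]
  have h2 : (ored4_equiv e A Ai h)⁻¹ (ored4_equiv e A Ai h (e.symm (Ai.mulVec (e x)))) =
      e.symm (Ai.mulVec (e x)) := by
    rw [← LinearEquiv.mul_apply, inv_mul_cancel]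
    rfl
  rw [h1] at h2
  exact h2

theorem ored4_coe {V : Type v} [AddCommGroup V] [Module F V] {k : ℕ} (e : V ≃ₗ[F] (Fin k → F))
    (A Ai : Matrix (Fin k) (Fin k) F) (h : A * Ai = 1) :
    ((ored4_equiv e A Ai h : V ≃ₗ[F] V) : V →ₗ[F] V) =
      e.symm.conjAlgEquiv F (Matrix.toLinAlgEquiv' A) := by
  ext x
  rw [LinearEquiv.coe_coe, ored4_equiv_apply, LinearEquiv.conjAlgEquiv_apply]
  simp [Matrix.toLinAlgEquiv'_apply]

theorem ored4_det {V : Type v} [AddCommGroup V] [Module F V] {k : ℕ} (e : V ≃ₗ[F] (Fin k → F))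
    (A Ai : Matrix (Fin k) (Fin k) F) (h : A * Ai = 1) (D : Fˣ) (hD : A.det = (D : F)) :
    LinearEquiv.det (ored4_equiv e A Ai h) = D := by
  apply Units.ext
  rw [LinearEquiv.coe_det, ored4_coe, LinearEquiv.conjAlgEquiv_apply]
  rw [LinearMap.det_conj (Matrix.toLinAlgEquiv' A : (Fin k → F) →ₗ[F] (Fin k → F)) e.symm]
  have h2 : (Matrix.toLinAlgEquiv' A : (Fin k → F) →ₗ[F] (Fin k → F)) = Matrix.toLin' A := rfl
  rw [h2, LinearMap.det_toLin', hD]

/-- D4 -/
theorem solP_of_msol {V : Type v} [AddCommGroup V] [Module F V] {k : ℕ} {g : V ≃ₗ[F] V}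
    {M : Matrix (Fin k) (Fin k) F} (hg : Rep g M) {D E : Fˣ} {p : F[X]}
    (hs : MSol M (D : F) (E : F) p) : SolP g D E p := by
  obtain ⟨e, he⟩ := hg
  obtain ⟨A, Ai, Y, Yi, hA, hY, hrel, hdA, hdY, hp⟩ := hs
  refine ⟨ored4_equiv e A Ai hA, ored4_equiv e Y Yi hY, ?_, ored4_det e A Ai hA D hdA,
    ored4_det e Y Yi hY E hdY, ?_⟩
  · ext x
    rw [LinearEquiv.mul_apply, LinearEquiv.mul_apply, LinearEquiv.mul_apply, ored4_equiv_symm_apply,
      ored4_equiv_apply, ored4_equiv_apply, ored4_equiv_apply, he]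
    simp only [LinearEquiv.apply_symm_apply, Matrix.mulVec_mulVec]
    rw [hrel, Matrix.mul_assoc]
  · rw [ored4_coe, Polynomial.aeval_algHom_apply, Polynomial.aeval_algHom_apply, hp, map_zero, map_zero]

end General

end Cfsg.Agent.Lib.Helper19.ORE
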