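import Mathlib
import Cfsg.Agent.Lib.Helper19.ORE.Defs
import Cfsg.Agent.Lib.Helper19.ORE.Defs2
import Cfsg.Agent.Lib.Helper19.ORE.X2
import Cfsg.Agent.Lib.helper4.ORED3
import Cfsg.Agent.Lib.Helper21.ORED4

/-!
# Project ORE (designer helper19), row E2 (`two_piece`): the core, on the statements (at `F = ZMod 2`, universe 0) of the
cited rows D2 (`rep_one`, `rep_two`, `rep_smulE`), C4 (`cyc_flex`), C2 (`cyc_piece`), A4 (`split_prod_right`), B2 (`block_lu`);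
cites the landed rows D3 (`rep_prod`), D4 (`solP_of_msol`), X2 (`msol2_T`, `msol2_LB`, `msol2_TB`).
-/

set_option autoImplicit false
set_option linter.unusedVariables false

namespace Cfsg.Agent.Lib.Helper19.ORE

open Polynomial Module

/-- `solP_zero` (own copy; row A2): the polynomial may be weakened to `0`. -/
theorem oree2_solP_zero {F : Type*} [Field F] {V : Type*} [AddCommGroup V] [Module F V] {g : V ≃ₗ[F] V}
    {D E : Fˣ} {p : F[X]} (hg : SolP g D E p) : SolP g D E 0 := by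
  obtain ⟨A, y, h1, h2, h3, -⟩ := hg
  exact ⟨A, y, h1, h2, h3, map_zero _⟩

theorem oree2_unit_eq_one (u : (ZMod 2)ˣ) : u = 1 := by
  revert u
  decide

/-- the `1 × 1` identity matrix is solved. -/
theorem oree2_msol2_L : MSol (mat1 (1 : ZMod 2)) 1 1 0 := by
  refine ⟨1, 1, 1, 1, by simp, by simp, ?_, by simp, by simp, map_zero _⟩
  have : mat1 (1 : ZMod 2) = 1 := by
    ext i j
    fin_cases i; fin_cases j
    simp [mat1]
  rw [this]
  simp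

theorem oree2_not_dvd (d : ℕ) (hd : 2 ≤ d) : ¬ (Fintype.card (ZMod 2) ^ d - 1 ∣ 4) := by
  rw [ZMod.card]
  intro h
  have h4 : 4 ≤ 2 ^ d := by
    calc 4 = 2 ^ 2 := by norm_num
      _ ≤ 2 ^ d := Nat.pow_le_pow_right (by norm_num) hd
  have hle := Nat.le_of_dvd (by norm_num) h
  obtain ⟨j, hj⟩ : 2 ∣ 2 ^ d := dvd_pow_self 2 (by omega)
  have hj2 : j = 2 := by omega
  rw [hj, hj2] at h
  revert h
  decide

/-- E2 core -/
theorem two_piece_core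
    (h_rep_one : ∀ {V : Type} [AddCommGroup V] [Module (ZMod 2) V] (g : V ≃ₗ[ZMod 2] V)
      (h1 : finrank (ZMod 2) V = 1), Rep g (mat1 ((LinearEquiv.det g : (ZMod 2)ˣ) : ZMod 2)))
    (h_rep_two : ∀ {V : Type} [AddCommGroup V] [Module (ZMod 2) V] [FiniteDimensional (ZMod 2) V]
      (g : V ≃ₗ[ZMod 2] V) (hg : IsCyc g) (h2 : finrank (ZMod 2) V = 2),
      ∃ t : ZMod 2, Rep g (comp2 t ((LinearEquiv.det g : (ZMod 2)ˣ) : ZMod 2)))
    (h_rep_smulE : ∀ κ : (ZMod 2)ˣ, Rep (smulE κ) (mat1 (κ : ZMod 2)))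
    (h_cyc_flex : ∀ {V : Type} [AddCommGroup V] [Module (ZMod 2) V] [FiniteDimensional (ZMod 2) V]
      (g : V ≃ₗ[ZMod 2] V) (hg : IsCyc g) (h3 : 3 ≤ finrank (ZMod 2) V)
      (hdet : LinearEquiv.det g = 1), Flex g)
    (h_cyc_piece : ∀ {V : Type} [AddCommGroup V] [Module (ZMod 2) V] [FiniteDimensional (ZMod 2) V]
      (g : V ≃ₗ[ZMod 2] V) (hg : IsCyc g) (d : ℕ) (hd : 1 ≤ d) (hV : finrank (ZMod 2) V = d + 1),
      ∃ (m : (Fin d → ZMod 2) ≃ₗ[ZMod 2] (Fin d → ZMod 2)) (p : (ZMod 2)[X]) (D₀ : (ZMod 2)ˣ),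
        Split g m (smulE (LinearEquiv.det g)) ∧
        (∀ k : ℕ, ¬ (Fintype.card (ZMod 2) ^ d - 1 ∣ k) → IsCoprime p (X ^ k - 1)) ∧
        ∀ E' : (ZMod 2)ˣ, SolP m D₀ E' p)
    (h_split_prod_right : ∀ {V X₁ X₂ V' : Type} [AddCommGroup V] [Module (ZMod 2) V]
      [AddCommGroup X₁] [Module (ZMod 2) X₁] [AddCommGroup X₂] [Module (ZMod 2) X₂]
      [AddCommGroup V'] [Module (ZMod 2) V']
      {g : V ≃ₗ[ZMod 2] V} {g₁ : X₁ ≃ₗ[ZMod 2] X₁} {g₂ : X₂ ≃ₗ[ZMod 2] X₂} (g' : V' ≃ₗ[ZMod 2] V')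
      (h : Split g g₁ g₂), Split (g.prodCongr g') g₁ (g₂.prodCongr g'))
    (h_block_lu : ∀ {V X₁ X₂ : Type} [AddCommGroup V] [Module (ZMod 2) V]
      [AddCommGroup X₁] [Module (ZMod 2) X₁] [AddCommGroup X₂] [Module (ZMod 2) X₂]
      [FiniteDimensional (ZMod 2) V] [FiniteDimensional (ZMod 2) X₁] [FiniteDimensional (ZMod 2) X₂]
      {g : V ≃ₗ[ZMod 2] V} {g₁ : X₁ ≃ₗ[ZMod 2] X₁} {g₂ : X₂ ≃ₗ[ZMod 2] X₂} (h : Split g g₁ g₂)
      {D₁ E₁ D₂ E₂ : (ZMod 2)ˣ} {p₁ p₂ : (ZMod 2)[X]} (h₁ : SolP g₁ D₁ E₁ p₁) (h₂ : SolP g₂ D₂ E₂ p₂)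
      (hp : IsCoprime p₁ p₂), SolP g (D₁ * D₂) (E₁ * E₂) (p₁ * p₂))
    {V : Type} [AddCommGroup V] [Module (ZMod 2) V] [FiniteDimensional (ZMod 2) V]
    [Nontrivial V] (g : V ≃ₗ[ZMod 2] V) (hg : IsCyc g) :
    IsB g ∨ (Good2 g ∧ ∀ (W : Type) [AddCommGroup W] [Module (ZMod 2) W]
      [FiniteDimensional (ZMod 2) W] (b : W ≃ₗ[ZMod 2] W), IsB b → Good2 (g.prodCongr b)) := by
  have hdet : LinearEquiv.det g = 1 := oree2_unit_eq_one _
  have hpos : 0 < finrank (ZMod 2) V := Module.finrank_pos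
  rcases Nat.lt_or_ge (finrank (ZMod 2) V) 2 with h1 | h2
  · -- dimension 1
    have h1' : finrank (ZMod 2) V = 1 := by omega
    have hr := h_rep_one g h1'
    rw [hdet, Units.val_one] at hr
    right
    refine ⟨solP_of_msol (D := 1) (E := 1) hr oree2_msol2_L, ?_⟩
    intro W _ _ _ b hb
    exact oree2_solP_zero (solP_of_msol (D := 1) (E := 1) (rep_prod hr hb) msol2_LB)
  rcases Nat.lt_or_ge (finrank (ZMod 2) V) 3 with h2' | h3
  · -- dimension 2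
    have h2'' : finrank (ZMod 2) V = 2 := by omega
    obtain ⟨t, hr⟩ := h_rep_two g hg h2''
    rw [hdet, Units.val_one] at hr
    have ht : ∀ t : ZMod 2, t = 0 ∨ t = 1 := by decide
    rcases ht t with rfl | rfl
    · left
      exact hr
    · right
      refine ⟨solP_of_msol (D := 1) (E := 1) hr msol2_T, ?_⟩
      intro W _ _ _ b hb
      exact solP_of_msol (D := 1) (E := 1) (rep_prod hr hb) msol2_TB
  · -- dimension ≥ 3
    right
    refine ⟨h_cyc_flex g hg h3 hdet 1 1, ?_⟩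
    intro W _ _ _ b hb
    obtain ⟨d, hd⟩ : ∃ d, finrank (ZMod 2) V = d + 1 := ⟨finrank (ZMod 2) V - 1, by omega⟩
    obtain ⟨m, p, D₀, hsplit, hcop, hsol⟩ := h_cyc_piece g hg d (by omega) hd
    rw [hdet] at hsplit
    have hsplit2 := h_split_prod_right b hsplit
    have hr1 := h_rep_smulE 1
    rw [Units.val_one] at hr1
    have hr : Rep ((smulE (1 : (ZMod 2)ˣ)).prodCongr b) (blk (mat1 (1 : ZMod 2)) (comp2 0 1)) :=
      rep_prod hr1 hb
    have hs2 : SolP ((smulE (1 : (ZMod 2)ˣ)).prodCongr b) 1 1 (X ^ 4 - 1) :=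
      solP_of_msol (D := 1) (E := 1) hr msol2_LB
    have hc : IsCoprime p (X ^ 4 - 1) := hcop 4 (oree2_not_dvd d (by omega))
    have hfin := h_block_lu hsplit2 (hsol 1) hs2 hc
    have hD : D₀ * 1 = 1 := oree2_unit_eq_one _
    rw [hD, mul_one] at hfin
    exact oree2_solP_zero hfin

end Cfsg.Agent.Lib.Helper19.ORE
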