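import Mathlib
import Cfsg.Agent.Lib.Helper19.ORE.Defs
import Cfsg.Agent.Lib.Helper19.ORE.Defs2
import Cfsg.Agent.Lib.Helper21.OREE2core
import Cfsg.Agent.Lib.Helper19.ORED2h19
import Cfsg.Agent.Lib.Helper19.OREC23h19
import Cfsg.Agent.Lib.helper4.OREC4core
import Cfsg.Agent.Lib.Helper13.OREB2
import Cfsg.Agent.Lib.Helper11.OREA4

/-!
# Project ORE (S2444), row E2 `two_piece`, verbatim.

`two_piece_core` (Helper21/OREE2core) applied to the rows D2 (`rep_one`, `rep_two`, `rep_smulE`:
helper19's complete copies `ored2_h19_*`), C2 (`cyc_piece`: helper19's `orec2_h19_cyc_piece`),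
C4 (`cyc_flex`: helper4's `orec4_core` fed with C2, B2 and helper19's `orec3_h19_line_sol`),
A4 (`split_prod_right`) and B2 (`block_lu`).
-/

set_option autoImplicit false

namespace Cfsg.Agent.Lib.Helper19.ORE

open Polynomial Module

section Two

/-- C4 `cyc_flex` over `ZMod 2`, assembled from helper4's core and the complete copies of C2, C3 -/
theorem oree2_cyc_flex {V : Type} [AddCommGroup V] [Module (ZMod 2) V]
    [FiniteDimensional (ZMod 2) V]
    (g : V ≃ₗ[ZMod 2] V) (hg : IsCyc g) (h3 : 3 ≤ finrank (ZMod 2) V)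
    (hdet : LinearEquiv.det g = 1) : Flex g :=
  orec4_core g hg h3 hdet (fun d hd hV => orec2_h19_cyc_piece g hg d hd hV)
    (fun hs => block_lu hs) (fun g2 h1 hd a e => orec3_h19_line_sol g2 h1 hd a e)

/-- E2 -/
theorem two_piece {V : Type} [AddCommGroup V] [Module (ZMod 2) V] [FiniteDimensional (ZMod 2) V]
    [Nontrivial V] (g : V ≃ₗ[ZMod 2] V) (hg : IsCyc g) :
    IsB g ∨ (Good2 g ∧ ∀ (W : Type) [AddCommGroup W] [Module (ZMod 2) W]
      [FiniteDimensional (ZMod 2) W] (b : W ≃ₗ[ZMod 2] W), IsB b → Good2 (g.prodCongr b)) :=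
  two_piece_core (fun g h1 => ored2_h19_rep_one g h1) (fun g hg h2 => ored2_h19_rep_two g hg h2)
    ored2_h19_rep_smulE
    (fun g hg h3 hdet => oree2_cyc_flex g hg h3 hdet)
    (fun g hg d hd hV => orec2_h19_cyc_piece g hg d hd hV)
    (fun g' h => split_prod_right g' h) (fun h => block_lu h) g hg

end Two

end Cfsg.Agent.Lib.Helper19.ORE
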