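import Mathlib
import Cfsg.Agent.Lib.Helper13.OTS.Defs
import Cfsg.Agent.Lib.Helper24.S5972SPLIT
import Cfsg.Agent.Lib.helper17.OTSQOCTX
import Cfsg.Agent.Lib.helper17.OTSTYSUM
import Cfsg.Agent.Lib.Helper21.OTSTYCLASS
import Cfsg.Agent.Lib.Helper21.OTSWITT
import Cfsg.Agent.Lib.Helper21.OTSFIXTY

/-!
# Project OTS, row INVOL (helper21): involutory isometries (`p ≠ 2`): invariant totally singular subspaces.
-/

set_option autoImplicit false
set_option linter.unusedVariables false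

namespace Cfsg.Agent.Lib.Helper13.OTS

open Polynomial Module Cfsg.Agent.Lib.Helper13.S5955 Cfsg.Agent.Lib.helper15.S5972
open Cfsg.Agent.Lib.Helper16.OSemi

theorem otsinvol_fix {F : Type*} [Field F] {V : Type*} [AddCommGroup V] [Module F V]
    (x : Module.End F V) (v : V) (hv : v ∈ fixS x) : x v = v := by
  unfold fixS at hv
  rw [LinearMap.mem_ker, map_sub, aeval_X, map_one, LinearMap.sub_apply, Module.End.one_apply] at hv
  exact sub_eq_zero.mp hv

theorem otsinvol_cyc {F : Type*} [Field F] {V : Type*} [AddCommGroup V] [Module F V]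
    (x : Module.End F V) (v : V) (hv : v ∈ cycS 2 x) : x v = -v := by
  unfold cycS at hv
  rw [LinearMap.mem_ker, cyclotomic_two, map_add, aeval_X, map_one, LinearMap.add_apply,
    Module.End.one_apply] at hv
  exact eq_neg_of_add_eq_zero_left hv

/-- the core: t.s. subspaces of `V₊` and `V₋` add up -/
theorem otsinvol_core {F : Type*} [Field F] [Fintype F]
    {V : Type*} [AddCommGroup V] [Module F V] [FiniteDimensional F V]
    {Q : QuadraticForm F V} {x : Module.End F V}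
    (hOrth : SOrth (qB Q) (fixS x) (cycS 2 x)) (hdisj : fixS x ⊓ cycS 2 x = ⊥)
    (hFnd : SND (qB Q) (fixS x)) (hCnd : SND (qB Q) (cycS 2 x))
    (hfev : Even (finrank F (fixS x))) (hgev : Even (finrank F (cycS 2 x)))
    (sf sc : ℤ) (hsf1 : sf = 1 ∨ sf = -1) (hsc1 : sc = 1 ∨ sc = -1)
    (hsf : QTy Q (fixS x) sf) (hsc : QTy Q (cycS 2 x) sc) (j₁ j₂ : ℕ)
    (h₁ : (2 * j₁ : ℤ) + (1 - sf) ≤ finrank F (fixS x))
    (h₂ : (2 * j₂ : ℤ) + (1 - sc) ≤ finrank F (cycS 2 x)) : QTd Q x (j₁ + j₂) := by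
  obtain ⟨T₁, hT₁le, hT₁ts, hT₁d⟩ := q_witt Q (fixS x) hFnd hfev sf hsf hsf1 j₁ h₁
  obtain ⟨T₂, hT₂le, hT₂ts, hT₂d⟩ := q_witt Q (cycS 2 x) hCnd hgev sc hsc hsc1 j₂ h₂
  refine ⟨T₁ ⊔ T₂, ?_, ?_, ?_⟩
  · intro v hv
    obtain ⟨a, ha, b, hb, rfl⟩ := Submodule.mem_sup.mp hv
    rw [map_add, otsinvol_fix x a (hT₁le ha), otsinvol_cyc x b (hT₂le hb)]
    exact Submodule.add_mem _ (Submodule.mem_sup_left ha)
      (Submodule.mem_sup_right (T₂.neg_mem hb))
  · intro v hv
    obtain ⟨a, ha, b, hb, rfl⟩ := Submodule.mem_sup.mp hv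
    rw [Cfsg.Agent.Lib.helper6.Plus.Q_add', hT₁ts a ha, hT₂ts b hb,
      show QuadraticMap.polar Q a b = 0 from hOrth a (hT₁le ha) b (hT₂le hb)]
    ring
  · have h1 := Submodule.finrank_sup_add_finrank_inf_eq T₁ T₂
    have h2 : T₁ ⊓ T₂ = ⊥ := by
      rw [eq_bot_iff, ← hdisj]
      exact inf_le_inf hT₁le hT₂le
    rw [h2, finrank_bot, add_zero] at h1
    rw [h1, hT₁d, hT₂d]

/-- INVOL [M-L]: involutory isometries (`x = 1` allowed). -/
theorem q_invol {F : Type*} [Field F] [Fintype F] {p : ℕ} [Fact p.Prime] [CharP F p] (hp2 : p ≠ 2)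
    {V : Type*} [AddCommGroup V] [Module F V] [FiniteDimensional F V]
    {Q : QuadraticForm F V} {x : Module.End F V} (h : QCtx 2 Q x) (d : ℕ) (hV : finrank F V = 2 * d)
    (ε : ℤ) (hε : ε = 1 ∨ ε = -1) (hty : QTy Q ⊤ ε) (hev : Even (finrank F (cycS 2 x))) :
    (∀ m, m + 2 ≤ d → QTd Q x m) ∧ (ε = -1 → ∀ m, m + 1 ≤ d → QTd Q x m) ∧
      (ε = 1 → QTy Q (cycS 2 x) 1 → ∀ m, m ≤ d → QTd Q x m) := by
  classical
  have : Fact (Nat.Prime 2) := ⟨Nat.prime_two⟩
  have h' : OCtx 2 (qB Q) x := q_octx h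
  obtain ⟨hOrth, hCompl, hFnd, hCnd⟩ := o_split (p := p) (r := 2) (fun h0 => hp2 h0.symm) h'
  have hdisj : fixS x ⊓ cycS 2 x = ⊥ := hCompl.inf_eq_bot
  have hsum : finrank F (fixS x) + finrank F (cycS 2 x) = 2 * d := by
    rw [Submodule.finrank_add_eq_of_isCompl hCompl, hV]
  have hfev : Even (finrank F (fixS x)) := by
    obtain ⟨k, hk⟩ := hev
    exact ⟨d - k, by omega⟩
  obtain ⟨sc, hsc1, hsc⟩ := otsfixty_type Q (cycS 2 x) hCnd hev
  obtain ⟨sf, hsf1, hsf⟩ := otsfixty_type Q (fixS x) hFnd hfev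
  have hprod : sf * sc = ε := by
    have h1 := q_ty_sum Q (fixS x) (cycS 2 x) hFnd hCnd hOrth hfev hev sf sc hsf hsc
    rw [hCompl.sup_eq_top] at h1
    rcases hsf1 with rfl | rfl <;> rcases hsc1 with rfl | rfl <;> rcases hε with rfl | rfl <;>
      first
        | rfl
        | (norm_num at h1 ⊢; exact (q_ty_uniq Q ⊤ h1 hty).elim)
        | (norm_num at h1 ⊢; exact (q_ty_uniq Q ⊤ hty h1).elim)
  obtain ⟨a, ha⟩ := hfev
  obtain ⟨b, hb⟩ := hev
  have hab : a + b = d := by omega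
  -- splitting `m`
  have key : ∀ (w₁ w₂ : ℕ), (2 * w₁ : ℤ) + (1 - sf) ≤ finrank F (fixS x) →
      (2 * w₂ : ℤ) + (1 - sc) ≤ finrank F (cycS 2 x) → ∀ m, m ≤ w₁ + w₂ → QTd Q x m := by
    intro w₁ w₂ hw₁ hw₂ m hm
    obtain ⟨k, hk1, hk2, hk3⟩ : ∃ k, k ≤ w₁ ∧ k ≤ m ∧ m - k ≤ w₂ :=
      ⟨min m w₁, Nat.min_le_right m w₁, Nat.min_le_left m w₁, by omega⟩
    have hm' : m = k + (m - k) := by omega
    rw [hm']
    apply otsinvol_core hOrth hdisj hFnd hCnd ⟨a, ha⟩ ⟨b, hb⟩ sf sc hsf1 hsc1 hsf hsc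
    · have : (k : ℤ) ≤ w₁ := Int.ofNat_le.mpr hk1
      linarith
    · have : ((m - k : ℕ) : ℤ) ≤ w₂ := Int.ofNat_le.mpr hk3
      linarith
  have hfa : (finrank F (fixS x) : ℤ) = 2 * a := by rw [ha]; push_cast; ring
  have hgb : (finrank F (cycS 2 x) : ℤ) = 2 * b := by rw [hb]; push_cast; ring
  refine ⟨?_, ?_, ?_⟩
  · intro m hm
    -- Witt indices at least `a - 1`, `b - 1`
    rcases Nat.eq_zero_or_pos a with ha0 | ha0
    · rcases Nat.eq_zero_or_pos b with hb0 | hb0
      · omega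
      · -- `a = 0`: `V₊ = ⊥`, `sf = 1`
        have hbot : fixS x = ⊥ := Submodule.finrank_eq_zero.mp (by omega)
        have hsf' : sf = 1 := by rw [hbot] at hsf; exact (q_ty_bot Q sf).mp hsf
        apply key 0 (b - 1) (by rw [hfa, hsf', ha0]; simp) ?_ m (by omega)
        rw [hgb]
        have : ((b - 1 : ℕ) : ℤ) = b - 1 := by rw [Nat.cast_sub hb0]; simp
        rw [this]
        rcases hsc1 with rfl | rfl <;> linarith
    · rcases Nat.eq_zero_or_pos b with hb0 | hb0
      · have hbot : cycS 2 x = ⊥ := Submodule.finrank_eq_zero.mp (by omega)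
        have hsc' : sc = 1 := by rw [hbot] at hsc; exact (q_ty_bot Q sc).mp hsc
        apply key (a - 1) 0 ?_ (by rw [hgb, hsc', hb0]; simp) m (by omega)
        rw [hfa]
        have : ((a - 1 : ℕ) : ℤ) = a - 1 := by rw [Nat.cast_sub ha0]; simp
        rw [this]
        rcases hsf1 with rfl | rfl <;> linarith
      · apply key (a - 1) (b - 1) ?_ ?_ m (by omega)
        · rw [hfa]
          have : ((a - 1 : ℕ) : ℤ) = a - 1 := by rw [Nat.cast_sub ha0]; simp
          rw [this]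
          rcases hsf1 with rfl | rfl <;> linarith
        · rw [hgb]
          have : ((b - 1 : ℕ) : ℤ) = b - 1 := by rw [Nat.cast_sub hb0]; simp
          rw [this]
          rcases hsc1 with rfl | rfl <;> linarith
  · intro hε' m hm
    subst hε'
    -- mixed signs
    rcases hsf1 with rfl | rfl <;> rcases hsc1 with rfl | rfl
    · norm_num at hprod
    · -- sf = 1, sc = -1 : `b ≥ 1`
      have hb0 : 0 < b := by
        rcases Nat.eq_zero_or_pos b with hb0 | hb0
        · exfalso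
          have hbot : cycS 2 x = ⊥ := Submodule.finrank_eq_zero.mp (by omega)
          rw [hbot] at hsc
          have := (q_ty_bot Q (-1)).mp hsc
          norm_num at this
        · exact hb0
      apply key a (b - 1) (by rw [hfa]; simp) ?_ m (by omega)
      rw [hgb]
      have : ((b - 1 : ℕ) : ℤ) = b - 1 := by rw [Nat.cast_sub hb0]; simp
      rw [this]; linarith
    · have ha0 : 0 < a := by
        rcases Nat.eq_zero_or_pos a with ha0 | ha0
        · exfalso
          have hbot : fixS x = ⊥ := Submodule.finrank_eq_zero.mp (by omega)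
          rw [hbot] at hsf
          have := (q_ty_bot Q (-1)).mp hsf
          norm_num at this
        · exact ha0
      apply key (a - 1) b ?_ (by rw [hgb]; simp) m (by omega)
      rw [hfa]
      have : ((a - 1 : ℕ) : ℤ) = a - 1 := by rw [Nat.cast_sub ha0]; simp
      rw [this]; linarith
    · norm_num at hprod
  · intro hε' hc1 m hm
    subst hε'
    have hsc' : sc = 1 := by
      rcases hsc1 with rfl | rfl
      · rfl
      · exact (q_ty_uniq Q _ hc1 hsc).elim
    subst hsc'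
    have hsf' : sf = 1 := by
      rcases hsf1 with rfl | rfl
      · rfl
      · norm_num at hprod
    subst hsf'
    apply key a b (by rw [hfa]; simp) (by rw [hgb]; simp) m (by omega)

end Cfsg.Agent.Lib.Helper13.OTS
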