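import Mathlib

/-!
# Project P2P (S4707), piece PSING, core: if a Sylow `p`-subgroup `P` has order `p` and `C_G(P) = P`
then every `p`-singular element has order `p`.
-/

set_option autoImplicit false

namespace Cfsg.Agent.Lib.Helper24.P2P

universe u

theorem p2ppsing_core {G : Type u} [Group G] [Finite G] {p : ℕ} [Fact p.Prime] (P : Sylow p G)
    (hcard : Nat.card (P : Subgroup G) = p)
    (hcen : Subgroup.centralizer ((P : Subgroup G) : Set G) = (P : Subgroup G))
    (g : G) (hg : p ∣ orderOf g) : orderOf g = p := by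
  have hp : p.Prime := Fact.out
  set y := g ^ (orderOf g / p) with hy
  have hoy : orderOf y = p := orderOf_pow_orderOf_div (orderOf_pos g).ne' hg
  have hZ : IsPGroup p (Subgroup.zpowers y) := by
    apply IsPGroup.of_card (n := 1)
    rw [Nat.card_zpowers, hoy, pow_one]
  obtain ⟨Q, hQ⟩ := hZ.exists_le_sylow
  obtain ⟨x, hx⟩ := MulAction.exists_smul_eq G P Q
  have hQcard : Nat.card (Q : Subgroup G) = p := by
    rw [Sylow.card_eq_multiplicity Q, ← Sylow.card_eq_multiplicity P, hcard]
  have hZQ : Subgroup.zpowers y = (Q : Subgroup G) := by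
    apply Subgroup.eq_of_le_of_card_ge hQ
    rw [hQcard, Nat.card_zpowers, hoy]
  have hgy : ∀ z ∈ (Q : Subgroup G), g * z = z * g := by
    intro z hz
    rw [← hZQ, Subgroup.mem_zpowers_iff] at hz
    obtain ⟨k, rfl⟩ := hz
    have hc : Commute g y := (Commute.refl g).pow_right _
    exact (hc.zpow_right k).eq
  have hmemQ : ∀ a : G, a ∈ (Q : Subgroup G) ↔ x⁻¹ * a * x ∈ (P : Subgroup G) := by
    intro a
    rw [← hx, Sylow.coe_subgroup_smul, Subgroup.mem_pointwise_smul_iff_inv_smul_mem,
      MulAut.smul_def, ← map_inv, MulAut.conj_apply, inv_inv]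
  have hg' : x⁻¹ * g * x ∈ Subgroup.centralizer ((P : Subgroup G) : Set G) := by
    rw [Subgroup.mem_centralizer_iff]
    intro a ha
    have haQ : x * a * x⁻¹ ∈ (Q : Subgroup G) := by
      rw [hmemQ]
      have : x⁻¹ * (x * a * x⁻¹) * x = a := by group
      rw [this]; exact ha
    have h1 := hgy _ haQ
    calc a * (x⁻¹ * g * x) = x⁻¹ * ((x * a * x⁻¹) * g) * x := by group
      _ = x⁻¹ * (g * (x * a * x⁻¹)) * x := by rw [h1]
      _ = x⁻¹ * g * x * a := by group
  rw [hcen] at hg'
  have hgQ : g ∈ (Q : Subgroup G) := (hmemQ g).mpr hg'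
  have hdvd : orderOf g ∣ p := by
    have := Subgroup.orderOf_dvd_natCard (Q : Subgroup G) hgQ
    rwa [hQcard] at this
  exact Nat.dvd_antisymm hdvd hg

end Cfsg.Agent.Lib.Helper24.P2P
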