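import Mathlib
import Cfsg.Agent.Lib.Helper24.P2P.Defs
import Cfsg.Agent.Lib.Helper22.P2PCEN
import Cfsg.Agent.Lib.Helper21.P2PPSINGcore

/-!
# Project P2P (S4707), piece PSING: `p ∣ orderOf g → orderOf g = p`
-/

set_option autoImplicit false
set_option linter.unusedVariables false
set_option linter.unusedSectionVars false
set_option linter.style.haveILetI false
open scoped ComplexConjugate
open Classical

namespace Cfsg.Agent.Lib.Helper24.P2P

open MulAction Cfsg.Agent.Lib.helper6.PermChar Cfsg.Agent.Lib.Lead.W2P Cfsg.Agent.Lib.Helper25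

universe u v

section setting

variable {G : Type u} [Group G] [Fintype G] {Ω : Type v} [Fintype Ω] [DecidableEq Ω] [MulAction G Ω]
  {p : ℕ} [Fact p.Prime] {P : Sylow p G}

theorem psing_order (h : Setting2 G Ω p P) (g : G) (hg : p ∣ orderOf g) : orderOf g = p :=
  p2ppsing_core P h.S.cardP (cen_eq h) g hg

end setting

end Cfsg.Agent.Lib.Helper24.P2P
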