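import Mathlib
import Cfsg.Agent.Lib.Helper24.P2P.Defs
import Cfsg.Agent.Lib.Helper24.FSDefZero
import Cfsg.Agent.Lib.helper6.W2PPISING

/-!
# Project P2P (S4707), piece SING: `χ₁ g = -1` for `p`-singular `g`
-/

set_option autoImplicit false
set_option linter.unusedVariables false
set_option linter.unusedSectionVars false
set_option linter.style.haveILetI false
open scoped ComplexConjugate
open Classical

namespace Cfsg.Agent.Lib.Helper24.P2P

open MulAction Cfsg.Agent.Lib.helper6.PermChar Cfsg.Agent.Lib.Lead.W2P Cfsg.Agent.Lib.Helper25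

universe u v

section setting

variable {G : Type u} [Group G] [Fintype G] {Ω : Type v} [Fintype Ω] [DecidableEq Ω] [MulAction G Ω]
  {p : ℕ} [Fact p.Prime] {P : Sylow p G}

theorem chi_sing (S : Setting G Ω p P) (χ₁ χ₂ : Cfsg.IrrCharacter G)
    (hπ : ∀ g : G, piChar G Ω g = 1 + (χ₁ : G → ℂ) g + (χ₂ : G → ℂ) g)
    (h2 : (χ₂ : G → ℂ) 1 = (p : ℂ)) (g : G) (hg : p ∣ orderOf g) :
    (χ₁ : G → ℂ) g = -1 := by
  have hp : p.Prime := Fact.out
  have h0 : piChar G Ω g = 0 := pi_sing S.fpf g hg
  have hfac : (Nat.card G).factorization p = 1 := by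
    have h1 := Sylow.card_eq_multiplicity P
    rw [S.cardP] at h1
    have h3 : p ^ 1 = p ^ (Nat.card G).factorization p := by rw [pow_one]; exact h1
    exact (Nat.pow_right_injective hp.two_le h3).symm
  have hdeg : Cfsg.charDegree (χ₂ : G → ℂ) = p := by
    unfold Cfsg.charDegree
    rw [h2]
    simp
  have hv : (χ₂ : G → ℂ) g = 0 := by
    apply Cfsg.Agent.Lib.Helper24.fz_vanish χ₂ p hp _ g hg
    rw [hfac, pow_one, hdeg]
  have h3 := hπ g
  rw [h0, hv] at h3
  linear_combination -h3

end setting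

end Cfsg.Agent.Lib.Helper24.P2P
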