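import Mathlib
import Cfsg.Agent.Lib.helper23.P4S.DefsC
import Cfsg.Agent.Lib.helper23.P4CSL5
import Cfsg.Agent.Lib.Helper25.P4COUT1
import Cfsg.Agent.Lib.Helper28.P4COUT2
import Cfsg.Agent.Lib.helper4.P4CFIXV

set_option autoImplicit false

/-!
# Project P4C (designer helper23), row OUT4 (`outer_ss`), verbatim from `helper23/P4S/SkelC.lean.txt`.
Cites OUT1 (`outer_sq`), OUT2 (`outer_even`), OUT3 (`outer_fix`), SL5 (`rho2_ss`), FIXV (`gsum_fix`).
-/

namespace Cfsg.Agent.Lib.helper23.P4S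

open Matrix
open scoped Kronecker

/-- pure group theory: `y` of even order with `(y * y) ^ k = 1 ↔ r ∣ 2 * k` has order `lcm r 2`. -/
theorem p4cout4_order {G : Type*} [Group G] (y : G) (r : ℕ) (hev : Even (orderOf y))
    (h : ∀ k : ℕ, (y * y) ^ k = 1 ↔ r ∣ 2 * k) : orderOf y = Nat.lcm r 2 := by
  have hpow : ∀ k : ℕ, y ^ (2 * k) = 1 ↔ r ∣ 2 * k := by
    intro k
    rw [pow_mul, pow_two]
    exact h k
  apply Nat.dvd_antisymm
  · obtain ⟨k, hk⟩ : 2 ∣ Nat.lcm r 2 := Nat.dvd_lcm_right r 2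
    rw [hk]
    apply orderOf_dvd_of_pow_eq_one
    rw [hpow, ← hk]
    exact Nat.dvd_lcm_left r 2
  · apply Nat.lcm_dvd
    · obtain ⟨k, hk⟩ := hev.two_dvd
      have h1 : y ^ (2 * k) = 1 := by rw [← hk]; exact pow_orderOf_eq_one y
      rw [hk]
      exact (hpow k).mp h1
    · exact hev.two_dvd

/-- `(m : E) ≠ 0` for a divisor `m` of `q - 1` or of `q + 1`, `q = p ^ n`, `n ≥ 1`. -/
theorem p4cout4_cast_ne {E : Type} [Field E] (p : ℕ) [Fact p.Prime] [CharP E p] (n : ℕ) (hn : 1 ≤ n) (m : ℕ)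
    (hm : m ∣ p ^ n - 1 ∨ m ∣ p ^ n + 1) : (m : E) ≠ 0 := by
  have hpp : p.Prime := Fact.out
  have hq : p ∣ p ^ n := dvd_pow_self p (by omega)
  have hq1 : 1 ≤ p ^ n := Nat.one_le_pow _ _ hpp.pos
  intro h0
  rw [CharP.cast_eq_zero_iff E p] at h0
  rcases hm with hm | hm
  · have h1 : p ∣ p ^ n - 1 := h0.trans hm
    have h2 : p ∣ p ^ n - (p ^ n - 1) := Nat.dvd_sub hq h1
    have h3 : p ^ n - (p ^ n - 1) = 1 := by omega
    rw [h3] at h2
    exact hpp.one_lt.ne' (Nat.dvd_one.mp h2)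
  · have h1 : p ∣ p ^ n + 1 := h0.trans hm
    have h2 : p ∣ 1 := (Nat.dvd_add_right hq).mp h1
    exact hpp.one_lt.ne' (Nat.dvd_one.mp h2)

/-- OUT4 (second copy; the verbatim name `outer_ss` is in `helper15/P4COUT4.lean`, landed seconds earlier) -/
theorem outer_ss_h21 {E : Type} [Field E] [Fintype E] (p : ℕ) [Fact p.Prime] [CharP E p] (hp : p ≠ 2) (n : ℕ) (hn : 1 ≤ n)
    (hE : Fintype.card E = p ^ (2 * n)) (A : Matrix.SpecialLinearGroup (Fin 2) E)
    (htr : (A * Matrix.SpecialLinearGroup.map (frq E p n) A).1.trace ^ 2 ≠ 4) :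
    orderOf (rho2 (frq E p n) A * Tgl) = Nat.lcm (orderOf (A * Matrix.SpecialLinearGroup.map (frq E p n) A)) 2 ∧
      (orderOf (A * Matrix.SpecialLinearGroup.map (frq E p n) A) ∣ p ^ n - 1 ∨
        orderOf (A * Matrix.SpecialLinearGroup.map (frq E p n) A) ∣ p ^ n + 1) ∧
      gsum ((rho2 (frq E p n) A * Tgl : GL (Fin 2 × Fin 2) E) : Matrix (Fin 2 × Fin 2) (Fin 2 × Fin 2) E)
        (orderOf (rho2 (frq E p n) A * Tgl)) ≠ 0 := by
  have hpp : p.Prime := Fact.out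
  have hφ : ∀ x : E, frq E p n (frq E p n x) = x := by
    intro x
    rw [frq_apply, frq_apply, ← pow_mul, ← pow_add, ← two_mul, ← hE, FiniteField.pow_card]
  have hodd : Odd (p ^ n) := (hpp.odd_of_ne_two hp).pow
  have hgcd : Nat.gcd 2 (p ^ n - 1) = 2 := by
    apply Nat.gcd_eq_left
    obtain ⟨m, hm⟩ := hodd
    exact ⟨m, by omega⟩
  have h2E : (2 : E) ≠ 0 := by
    have := p4cout4_cast_ne (E := E) p n hn 2 (Or.inl ?_)
    · exact_mod_cast this
    · obtain ⟨m, hm⟩ := hodd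
      exact ⟨m, by omega⟩
  obtain ⟨hsq, htrfix⟩ := outer_sq (frq E p n) hφ A
  obtain ⟨r, hr0, hr2, hrB, -, hpow, -, hfix⟩ := rho2_ss p n hn hE _ htr
  rw [hgcd] at hpow
  have hev := outer_even h2E (frq E p n) A
  have hord : orderOf (rho2 (frq E p n) A * Tgl) = Nat.lcm r 2 := by
    apply p4cout4_order _ r hev
    intro k
    rw [hsq]
    exact hpow k
  have hdiv := hfix htrfix
  rw [hrB]
  refine ⟨hord, hdiv, ?_⟩
  obtain ⟨v, hv, hMv⟩ := outer_fix h2E (frq E p n) A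
  rw [Units.val_mul, rho2_coe, Tgl_coe]
  apply gsum_fix _ v hv hMv
  apply p4cout4_cast_ne p n hn
  rw [hord]
  obtain ⟨m, hm⟩ := hodd
  rcases hdiv with h | h
  · exact Or.inl (Nat.lcm_dvd h ⟨m, by omega⟩)
  · exact Or.inr (Nat.lcm_dvd h ⟨m + 1, by omega⟩)

/-- OUT4, the VERBATIM name (helper15's and helper23's copies were withdrawn/renamed in favour of this file). -/
theorem outer_ss {E : Type} [Field E] [Fintype E] (p : ℕ) [Fact p.Prime] [CharP E p] (hp : p ≠ 2) (n : ℕ) (hn : 1 ≤ n)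
    (hE : Fintype.card E = p ^ (2 * n)) (A : Matrix.SpecialLinearGroup (Fin 2) E)
    (htr : (A * Matrix.SpecialLinearGroup.map (frq E p n) A).1.trace ^ 2 ≠ 4) :
    orderOf (rho2 (frq E p n) A * Tgl) = Nat.lcm (orderOf (A * Matrix.SpecialLinearGroup.map (frq E p n) A)) 2 ∧
      (orderOf (A * Matrix.SpecialLinearGroup.map (frq E p n) A) ∣ p ^ n - 1 ∨
        orderOf (A * Matrix.SpecialLinearGroup.map (frq E p n) A) ∣ p ^ n + 1) ∧
      gsum ((rho2 (frq E p n) A * Tgl : GL (Fin 2 × Fin 2) E) : Matrix (Fin 2 × Fin 2) (Fin 2 × Fin 2) E)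
        (orderOf (rho2 (frq E p n) A * Tgl)) ≠ 0 :=
  outer_ss_h21 p hp n hn hE A htr

end Cfsg.Agent.Lib.helper23.P4S
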