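import Mathlib
import Cfsg.Prelude.Def_Classical
import Cfsg.Agent.Lib.helper23.P4V.Defs

/-!
# P4V row C2B (`lv_qm`, `lv_qp`): the Levi subgroup normalises both unipotent radicals.
-/

set_option autoImplicit false

namespace Cfsg.Agent.Lib.helper23.P4V

open Matrix

universe u

section Field

variable {F : Type u} [Field F]

/-- `qmM s * lvM P = lvM P * qmM (Pᵀ s P)`. -/
theorem p4vc2b_qm_mat (P : M2 F) (hP : P.det ≠ 0) (s : M2 F) :
    qmM s * lvM P = lvM P * qmM (Pᵀ * s * P) := by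
  have hu : IsUnit P.det := isUnit_iff_ne_zero.mpr hP
  have h1 : (P⁻¹)ᵀ * Pᵀ = 1 := by
    rw [← Matrix.transpose_mul, Matrix.mul_nonsing_inv P hu, Matrix.transpose_one]
  rw [qmM, qmM, lvM, Matrix.fromBlocks_multiply, Matrix.fromBlocks_multiply]
  simp only [Matrix.mul_zero, Matrix.zero_mul, Matrix.mul_one, Matrix.one_mul, zero_add, add_zero]
  rw [← Matrix.mul_assoc, ← Matrix.mul_assoc, h1, Matrix.one_mul]

/-- `qpM t * lvM P = lvM P * qpM (P⁻¹ t P⁻ᵀ)`. -/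
theorem p4vc2b_qp_mat (P : M2 F) (hP : P.det ≠ 0) (t : M2 F) :
    qpM t * lvM P = lvM P * qpM (P⁻¹ * t * (P⁻¹)ᵀ) := by
  have hu : IsUnit P.det := isUnit_iff_ne_zero.mpr hP
  rw [qpM, qpM, lvM, Matrix.fromBlocks_multiply, Matrix.fromBlocks_multiply]
  simp only [Matrix.mul_zero, Matrix.zero_mul, Matrix.mul_one, Matrix.one_mul, zero_add, add_zero]
  rw [← Matrix.mul_assoc, ← Matrix.mul_assoc, Matrix.mul_nonsing_inv P hu, Matrix.one_mul]

/-- **C2B** (lower radical). -/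
theorem lv_qm (P : M2 F) (hP : P.det ≠ 0) (s : M2 F) (hs : sᵀ = s) :
    ∃ (s' : M2 F) (hs' : s'ᵀ = s'), (lvS P hP)⁻¹ * qmS s hs * lvS P hP = qmS s' hs' := by
  have hs' : (Pᵀ * s * P)ᵀ = Pᵀ * s * P := by
    rw [Matrix.transpose_mul, Matrix.transpose_mul, Matrix.transpose_transpose, hs, Matrix.mul_assoc]
  refine ⟨Pᵀ * s * P, hs', ?_⟩
  rw [mul_assoc, inv_mul_eq_iff_eq_mul]
  apply Subtype.ext
  exact p4vc2b_qm_mat P hP s

/-- **C2B** (upper radical). -/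
theorem lv_qp (P : M2 F) (hP : P.det ≠ 0) (t : M2 F) (ht : tᵀ = t) :
    ∃ (t' : M2 F) (ht' : t'ᵀ = t'), (lvS P hP)⁻¹ * qpS t ht * lvS P hP = qpS t' ht' := by
  have ht' : (P⁻¹ * t * (P⁻¹)ᵀ)ᵀ = P⁻¹ * t * (P⁻¹)ᵀ := by
    rw [Matrix.transpose_mul, Matrix.transpose_mul, Matrix.transpose_transpose, ht, Matrix.mul_assoc]
  refine ⟨P⁻¹ * t * (P⁻¹)ᵀ, ht', ?_⟩
  rw [mul_assoc, inv_mul_eq_iff_eq_mul]
  apply Subtype.ext
  exact p4vc2b_qp_mat P hP t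

end Field

end Cfsg.Agent.Lib.helper23.P4V
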