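import Mathlib
import Cfsg.Prelude.Def_Characters
import Cfsg.Agent.Lib.helper7.PM2.Defs
import Cfsg.Agent.Lib.helper2.CharNat
import Cfsg.Agent.Lib.Helper25.CharLinear

/-!
# Project PM2 (S4705) : piece CYC (`cyc_inner_nat`, `cyc_sum_nat`)
-/

set_option autoImplicit false
set_option linter.unusedVariables false
set_option linter.unusedSectionVars false

namespace Cfsg.Agent.Lib.helper7.PM2

open scoped ComplexConjugate

universe u

section generic

variable {G : Type u} [Group G] [Fintype G]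

/-- the homomorphism `j ↦ g ^ j` from the cyclic group of order `d` when `g ^ d = 1` -/
def pm2cyc_hom (g : G) (d : ℕ) [NeZero d] (hg : g ^ d = 1) : Multiplicative (ZMod d) →* G where
  toFun j := g ^ (Multiplicative.toAdd j).val
  map_one' := by
    show g ^ (0 : ZMod d).val = 1
    rw [ZMod.val_zero, pow_zero]
  map_mul' a b := by
    show g ^ (Multiplicative.toAdd a + Multiplicative.toAdd b).val =
      g ^ (Multiplicative.toAdd a).val * g ^ (Multiplicative.toAdd b).val
    rw [← pow_add, ZMod.val_add, ← pow_eq_pow_mod _ hg]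

theorem pm2cyc_hom_apply (g : G) (d : ℕ) [NeZero d] (hg : g ^ d = 1) (a : ZMod d) :
    pm2cyc_hom g d hg (Multiplicative.ofAdd a) = g ^ a.val := rfl

/-- reindexing a sum over the cyclic group of order `d` -/
theorem pm2cyc_sum (d : ℕ) [NeZero d] (H : ℕ → ℂ) :
    ∑ k : Multiplicative (ZMod d), H (Multiplicative.toAdd k).val = ∑ j ∈ Finset.range d, H j := by
  rw [← Equiv.sum_comp (Multiplicative.ofAdd : ZMod d ≃ Multiplicative (ZMod d))
    (fun k => H (Multiplicative.toAdd k).val)]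
  apply Finset.sum_bij' (fun (a : ZMod d) _ => a.val) (fun (j : ℕ) _ => (j : ZMod d))
  · intro a _
    rw [Finset.mem_range]
    exact ZMod.val_lt a
  · intro j _
    exact Finset.mem_univ _
  · intro a _
    exact ZMod.natCast_zmod_val a
  · intro j hj
    rw [Finset.mem_range] at hj
    exact ZMod.val_natCast_of_lt hj
  · intro a _
    rfl

/-- CYC : the inner product of two characters along a cyclic subgroup is a natural number -/
theorem cyc_inner_nat {φ ψ : G → ℂ} (hφ : Cfsg.IsCharacter G φ) (hψ : Cfsg.IsCharacter G ψ) (g : G)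
    (d : ℕ) (hd : 0 < d) (hg : g ^ d = 1) :
    ∃ N : ℕ, ∑ j ∈ Finset.range d, φ (g ^ j) * conj (ψ (g ^ j)) = (d : ℂ) * N := by
  have : NeZero d := ⟨hd.ne'⟩
  have h1 := Cfsg.Agent.Lib.helper2.isCharacter_comp_hom hφ (pm2cyc_hom g d hg)
  have h2 := Cfsg.Agent.Lib.helper2.isCharacter_comp_hom hψ (pm2cyc_hom g d hg)
  obtain ⟨N, hN⟩ := Cfsg.Agent.Lib.helper2.classInner_character_nat h1 h2
  refine ⟨N, ?_⟩
  unfold Cfsg.classInner at hN
  have hcard : (Nat.card (Multiplicative (ZMod d)) : ℂ) = (d : ℂ) := by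
    rw [Nat.card_eq_fintype_card, Fintype.card_multiplicative, ZMod.card]
  rw [hcard] at hN
  have hd0 : (d : ℂ) ≠ 0 := by exact_mod_cast hd.ne'
  have h3 := pm2cyc_sum d (fun j => φ (g ^ j) * conj (ψ (g ^ j)))
  rw [← h3]
  rw [inv_mul_eq_iff_eq_mul₀ hd0] at hN
  exact hN

/-- CYC -/
theorem cyc_sum_nat {χ : G → ℂ} (hχ : Cfsg.IsCharacter G χ) (g : G) (d : ℕ) (hd : 0 < d)
    (hg : g ^ d = 1) : ∃ N : ℕ, ∑ j ∈ Finset.range d, χ (g ^ j) = (d : ℂ) * N := by
  have htriv : Cfsg.IsCharacter G (fun _ : G => (1 : ℂ)) :=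
    Cfsg.Agent.Lib.helper2.isCharacter_of_irr (Cfsg.Agent.Lib.Helper25.trivIrr G)
  obtain ⟨N, hN⟩ := cyc_inner_nat hχ htriv g d hd hg
  refine ⟨N, ?_⟩
  rw [← hN]
  apply Finset.sum_congr rfl
  intro j _
  simp

end generic

end Cfsg.Agent.Lib.helper7.PM2
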