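import Mathlib
import Cfsg.Prelude.Def_Characters
import Cfsg.Agent.Lib.helper7.PM2.Defs
import Cfsg.Agent.Lib.Helper18.PM2DECAcore
import Cfsg.Agent.Lib.Helper9.PM2SI2
import Cfsg.Agent.Lib.Helper20.PM2POW
import Cfsg.Agent.Lib.Helper21.PM2CRT
import Cfsg.Agent.Lib.helper23.PM2BAS3

/-!
# Project PM2 (S4705) : piece DECA, backup wrapper (renamed: the official `mult_alt` is in Helper18.PM2DECA)
-/

set_option autoImplicit false
set_option linter.unusedVariables false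
set_option linter.unusedSectionVars false

namespace Cfsg.Agent.Lib.helper7.PM2

open scoped ComplexConjugate

universe u

section setting

variable {G : Type u} [Group G] [Fintype G] {p : ℕ} {ζ : G → ℂ} {x : G} {ω : ℂ}

/-- DECA : the multiplicities of the `ζ^[k]` in the exterior square -/
theorem pm2deca_h21_mult_alt (S : Setting p ζ x ω) (κ : ℕ) (hκ : Nat.Coprime κ (Nat.card G / p))
    (hκ2 : κ ≡ 2 [MOD Nat.card (Subgroup.center G)]) :
    ∃ A : ℕ, ∀ k : ℕ, Nat.Coprime k (Nat.card G) → k ≡ κ [MOD Nat.card G / p] →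
      Cfsg.classInner (altSq ζ) (pw ζ k) =
        (A : ℂ) + (if k ≡ 2 [MOD p] ∨ k + 2 ≡ 0 [MOD p] then 0 else 1) := by
  have hdvd := card_dvd S
  have hpn : p ∣ Nat.card G := by
    obtain ⟨c, hc⟩ := hdvd
    exact ⟨2 * Nat.card (Subgroup.center G) * c, by rw [hc]; ring⟩
  have hp2 : ¬ p ^ 2 ∣ Nat.card G := S.sylow
  have h2 : ¬ p ∣ 2 := by
    intro h
    have := Nat.le_of_dvd (by norm_num) h
    have := S.hp5
    omega
  obtain ⟨k₀, hk₀, hk₀p, hk₀κ⟩ := exists_fam (Nat.card G) p κ Nat.card_pos S.hp hpn hp2 hκ 2 h2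
  exact pm2deca_core S κ hκ hκ2 (fun k hk hk2 => sing_alt_pw S k hk hk2)
    (fun k hk => pw_irr S.irr k hk) ⟨k₀, hk₀, hk₀p, hk₀κ⟩ hdvd

end setting

end Cfsg.Agent.Lib.helper7.PM2
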