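import Mathlib
import Cfsg.Prelude.Def_Characters
import Cfsg.Agent.Lib.helper7.PM2.Defs
import Cfsg.Agent.Lib.Helper21.PM2QFcore
import Cfsg.Agent.Lib.Helper24.PM2CNT
import Cfsg.Agent.Lib.helper14.PM2QC
import Cfsg.Agent.Lib.helper4.PM2QS
import Cfsg.Agent.Lib.helper4.PM2QP

/-!
# Project PM2 (S4705) : piece QF (`thmA`), verbatim wrapper of `pm2qf_core`
-/

set_option autoImplicit false
set_option linter.unusedVariables false
set_option linter.unusedSectionVars false

namespace Cfsg.Agent.Lib.helper7.PM2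

open scoped ComplexConjugate

universe u

section setting

variable {G : Type u} [Group G] [Fintype G] {p : ℕ} {ζ : G → ℂ} {x : G} {ω : ℂ}

/-- QF : Theorem A -/
theorem thmA (S : Setting p ζ x ω) :
    ∃ (a : ℕ) (F : Type) (_ : Field F) (_ : Fintype F), p = 2 ^ a + 1 ∧ Fintype.card F = 2 ^ a ∧
      Nonempty (G ⧸ Subgroup.center G ≃* Matrix.SpecialLinearGroup (Fin 2) F) :=
  pm2qf_core p S.hp S.hp5 (card_eq S) (quot_center S) (fun Q => quot_sylow S Q) (quot_perfect S)

end setting

end Cfsg.Agent.Lib.helper7.PM2
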