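import Mathlib
import Cfsg.Prelude.Def_Characters
import Cfsg.Agent.Lib.helper7.PM2.Defs
import Cfsg.Agent.S0138

/-!
# Project PM2 (S4705) : piece SCAL (`norm_pow_of_norm_eq`)
-/

set_option autoImplicit false
set_option linter.unusedVariables false
set_option linter.unusedSectionVars false

namespace Cfsg.Agent.Lib.helper7.PM2

open scoped ComplexConjugate

universe u

section generic

variable {G : Type u} [Group G] [Fintype G]

/-- SCAL : an element whose character value has full norm acts as a scalar, and so do its powers -/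
theorem norm_pow_of_norm_eq {ψ : G → ℂ} (hψ : Cfsg.IsCharacter G ψ) (g : G) (h : ‖ψ g‖ = ‖ψ 1‖)
    (k : ℕ) : ‖ψ (g ^ k)‖ = ‖ψ 1‖ := by
  obtain ⟨n, ρ, rfl⟩ := hψ
  rw [Representation.char_one, Complex.norm_natCast] at h ⊢
  obtain ⟨ω, hω⟩ := (Cfsg.Agent.S0138.result ρ g).mp h
  apply (Cfsg.Agent.S0138.result ρ (g ^ k)).mpr
  refine ⟨ω ^ k, ?_⟩
  rw [map_pow, hω]
  induction k with
  | zero =>
    rw [pow_zero, pow_zero, one_smul]
    rfl
  | succ k ih =>
    rw [pow_succ, ih, pow_succ]
    ext v
    simp [Module.End.mul_apply, smul_smul, mul_comm]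

end generic

end Cfsg.Agent.Lib.helper7.PM2
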