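import Mathlib
import Cfsg.Agent.Lib.helper2.PT.Defs
import Cfsg.Agent.S0954

/-!
# PT-Case0 (project S4642): all `p`-regular elements lie in `K₀`
-/

set_option autoImplicit false

namespace Cfsg.Agent.Lib.Helper21.PT

universe u

open Cfsg Cfsg.Agent.Lib.helper2.PT

/-- If all `p`-regular elements of a finite group lie in the normal subgroup `K`, then `K` has
`p`-power index. -/
theorem index_pow_of_pregular_mem {H : Type u} [Group H] [Finite H] (p : ℕ) [Fact p.Prime]
    (K : Subgroup H) [K.Normal] (hreg : ∀ c : H, ¬ p ∣ orderOf c → c ∈ K) :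
    ∃ k : ℕ, K.index = p ^ k := by
  have hp := (Fact.out : p.Prime)
  have hpg : IsPGroup p (H ⧸ K) := by
    intro x
    obtain ⟨h, rfl⟩ := QuotientGroup.mk_surjective x
    have hpos : 0 < orderOf h := orderOf_pos h
    obtain ⟨a, m, hm, hfac⟩ := Nat.exists_eq_pow_mul_and_not_dvd hpos.ne' p hp.ne_one
    refine ⟨a, ?_⟩
    have hord : orderOf (h ^ p ^ a) = m := by
      rw [orderOf_pow' h (pow_ne_zero a hp.ne_zero), hfac, Nat.gcd_eq_right (Dvd.intro _ rfl)]
      exact Nat.mul_div_cancel_left m (pow_pos hp.pos a)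
    have hmem : h ^ p ^ a ∈ K := hreg _ (by rw [hord]; exact hm)
    rw [← QuotientGroup.mk_pow]
    exact (QuotientGroup.eq_one_iff _).mpr hmem
  obtain ⟨k, hk⟩ := IsPGroup.iff_card.mp hpg
  exact ⟨k, by rw [Subgroup.index_eq_card]; exact hk⟩

theorem case0 : Case0Prop.{u} := by
  intro p _ M hM H _ _ K₀ _ _ hcop hreg θ₀ χ ψ hχ hψ
  have hp := (Fact.out : p.Prime)
  have hN : ¬ p ∣ Nat.card K₀ := fun h => by
    have := Nat.Coprime.eq_one_of_dvd hcop.symm h
    exact hp.ne_one this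
  have hidx := index_pow_of_pregular_mem p K₀ hreg
  exact (Cfsg.Agent.S0954.result p M hM K₀ hN hidx χ ψ).mpr ⟨θ₀, hχ, hψ⟩

end Cfsg.Agent.Lib.Helper21.PT
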