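import Mathlib
import Cfsg.Agent.Lib.Helper21.SAPTietze

/-!
# Padding a finite presentation with dummy generators (helper21; generic, Mathlib only)

`G ≅ ⟨Fin m | R⟩` and `m ≤ k` give `G ≅ ⟨Fin k | R'⟩` with `|R'| ≤ |R| + (k - m)`: the deficiency
`rels - gens` does not grow.  (For S2294 - S2296 and their kin: "a presentation with `k` generators and at most
`r` relations" follows from one with fewer generators and the same deficiency.)
-/

set_option autoImplicit false

namespace Cfsg.Agent.Lib.Helper21.PresPad

open PresentedGroup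

universe w

/-- padding: the old generator `i < m` stays, the new ones go to `1` -/
theorem pad_gens {m k : ℕ} (hmk : m ≤ k) (R : Finset (FreeGroup (Fin m))) {G : Type w} [Group G]
    (e : PresentedGroup (↑R : Set (FreeGroup (Fin m))) ≃* G) :
    ∃ rels : Finset (FreeGroup (Fin k)), rels.card ≤ R.card + (k - m) ∧
      ∃ e' : PresentedGroup (↑rels : Set (FreeGroup (Fin k))) ≃* G,
        ∀ i : Fin m, e' (PresentedGroup.of (Fin.castLE hmk i)) = e (PresentedGroup.of i) := by
  classical
  let d : Fin k → G := fun i => if h : (i : ℕ) < m then e (PresentedGroup.of ⟨i, h⟩) else 1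
  have hd : Subgroup.closure (Set.range d) = ⊤ := by
    rw [eq_top_iff]
    intro g _
    have hg : e.symm g ∈ Subgroup.closure (Set.range (PresentedGroup.of (rels := (↑R : Set (FreeGroup (Fin m)))))) := by
      rw [PresentedGroup.closure_range_of]; trivial
    have h2 : Subgroup.closure (Set.range (PresentedGroup.of (rels := (↑R : Set (FreeGroup (Fin m)))))) ≤
        (Subgroup.closure (Set.range d)).comap e.toMonoidHom := by
      rw [Subgroup.closure_le]
      rintro _ ⟨i, rfl⟩
      simp only [Subgroup.coe_comap, Set.mem_preimage, SetLike.mem_coe]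
      apply Subgroup.subset_closure
      refine ⟨Fin.castLE hmk i, ?_⟩
      simp only [d, Fin.val_castLE, Fin.is_lt, dif_pos, Fin.eta]
      rfl
    have := h2 hg
    simpa using this
  -- the kept generators
  let T : Finset (Fin k) := Finset.univ.filter (fun i => (i : ℕ) < m)
  have hT : T.card = m := by
    have : T = Finset.univ.map (Fin.castLEEmb hmk) := by
      ext i
      simp only [T, Finset.mem_filter, Finset.mem_univ, true_and, Finset.mem_map, Fin.castLEEmb_apply]
      constructor
      · intro h
        exact ⟨⟨i, h⟩, by ext; rfl⟩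
      · rintro ⟨j, rfl⟩
        exact j.isLt
    rw [this, Finset.card_map, Finset.card_univ, Fintype.card_fin]
  rcases Nat.eq_zero_or_pos m with hm0 | hmpos
  · -- no old generators at all
    subst hm0
    obtain ⟨rels, hc, e', he'⟩ := Cfsg.Agent.Lib.Helper21.SAPT.change_gens R e d hd
    exact ⟨rels, by simpa using hc, e', fun i => i.elim0⟩
  · let j : Fin k → Fin m := fun i => if h : (i : ℕ) < m then ⟨i, h⟩ else ⟨0, hmpos⟩
    have hj : ∀ i ∈ T, d i = e (PresentedGroup.of (j i)) := by
      intro i hi
      have hi' : (i : ℕ) < m := by simpa [T] using hi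
      simp only [d, j, dif_pos hi']
    have hinj : Set.InjOn j (↑T : Set (Fin k)) := by
      intro a ha b hb hab
      have ha' : (a : ℕ) < m := by simpa [T] using ha
      have hb' : (b : ℕ) < m := by simpa [T] using hb
      simp only [j, dif_pos ha', dif_pos hb'] at hab
      ext
      exact Fin.mk.inj_iff.mp hab
    obtain ⟨rels, hc, e', he'⟩ :=
      Cfsg.Agent.Lib.Helper21.SAPT.change_gens_keep R e d hd T j hj hinj
    refine ⟨rels, by rw [hT] at hc; exact hc, e', fun i => ?_⟩
    rw [he']
    simp only [d, Fin.val_castLE, Fin.is_lt, dif_pos, Fin.eta]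

/-- padding, counting form -/
theorem pad_le {m k r r' : ℕ} (hmk : m ≤ k) (hr : r + (k - m) ≤ r') {G : Type w} [Group G]
    (h : ∃ rels : Finset (FreeGroup (Fin m)), rels.card ≤ r ∧
      Nonempty (PresentedGroup (↑rels : Set (FreeGroup (Fin m))) ≃* G)) :
    ∃ rels : Finset (FreeGroup (Fin k)), rels.card ≤ r' ∧
      Nonempty (PresentedGroup (↑rels : Set (FreeGroup (Fin k))) ≃* G) := by
  obtain ⟨R, hR, ⟨e⟩⟩ := h
  obtain ⟨rels, hc, e', -⟩ := pad_gens hmk R e
  exact ⟨rels, by omega, ⟨e'⟩⟩

end Cfsg.Agent.Lib.Helper21.PresPad
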