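import Mathlib
import Cfsg.Agent.Lib.helper7.REE.Defs
import Cfsg.Agent.Lib.Helper1.REEG6
import Cfsg.Agent.Lib.Helper1.REEG1
import Cfsg.Agent.Lib.Helper29.REEG5F
import Cfsg.Agent.Lib.Helper13.REEG4J
import Cfsg.Agent.Lib.Helper21.REEG8Jcore

/-!
# Row G8J (→ S2359) `centralizers`, VERBATIM: the one-term wrapper of the core in `Cfsg.Agent.Lib.Helper21.REEG8Jcore`.
-/

set_option autoImplicit false

namespace Cfsg.Agent.Lib.helper7.REE

open Matrix Cfsg.Agent.Lib.helper8

universe u v

namespace ReeAx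

variable {G : Type u} [Group G] [Finite G] {K : Type v} [Field K] [Fintype K] {m : ℕ}

theorem centralizers (R : ReeAx G K m) (H : Subgroup G) (hH : IsCyclic H) :
    (Nat.card H = (qq m - 1) / 2 →
      IsCyclic ↥(Subgroup.centralizer (H : Set G)) ∧
        Nat.card ↥(Subgroup.centralizer (H : Set G)) = qq m - 1 ∧
        ∀ A : Subgroup G, A ≤ H → A ≠ ⊥ →
          Subgroup.centralizer (A : Set G) = Subgroup.centralizer (H : Set G)) ∧
    (Nat.card H = (qq m + 1) / 4 →
      IsMulCommutative ↥(Subgroup.centralizer (H : Set G)) ∧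
        Nat.card ↥(Subgroup.centralizer (H : Set G)) = qq m + 1 ∧
        (∀ x ∈ Subgroup.centralizer (H : Set G), orderOf x ≠ 4) ∧
        ∀ A : Subgroup G, A ≤ H → A ≠ ⊥ →
          Subgroup.centralizer (A : Set G) = Subgroup.centralizer (H : Set G)) :=
  R.centralizers_core R.conj_H_E R.cent_H_elt R.cent_A1_elt R.E_basic H hH

end ReeAx

end Cfsg.Agent.Lib.helper7.REE
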