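import Mathlib
import Cfsg.Agent.Lib.helper7.REE.Defs
import Cfsg.Agent.Lib.Helper29.REEARA
import Cfsg.Agent.Lib.Helper29.REEARB

/-!
# Project RSS (designer helper6), row AR (`rss_arith`), verbatim from `helper6/RSS/Skel.lean.txt`.
-/

set_option autoImplicit false

namespace Cfsg.Agent.Lib.helper7.REE

open Matrix Cfsg.Agent.Lib.helper8

universe u v

/-- a prime power dividing a product of two coprime numbers divides one of them -/
theorem rssar_pp_dvd_mul (p k x y : ℕ) (hp : p.Prime) (hxy : x.Coprime y) (h : p ^ k ∣ x * y) :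
    p ^ k ∣ x ∨ p ^ k ∣ y := by
  by_cases hpx : p ∣ x
  · left
    have hpy : ¬ p ∣ y := fun hpy => hp.one_lt.ne' (Nat.eq_one_of_dvd_coprimes hxy hpx hpy)
    have : (p ^ k).Coprime y := Nat.Coprime.pow_left k ((Nat.Prime.coprime_iff_not_dvd hp).mpr hpy)
    exact this.dvd_of_dvd_mul_right h
  · right
    have : (p ^ k).Coprime x := Nat.Coprime.pow_left k ((Nat.Prime.coprime_iff_not_dvd hp).mpr hpx)
    exact this.dvd_of_dvd_mul_left h

/-- AR -/
theorem rss_arith (m : ℕ) (p k : ℕ) (hp : p.Prime) (hp2 : p ≠ 2) (hp3 : p ≠ 3) (hd : p ^ k ∣ gg m) :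
    p ^ k ∣ (qq m - 1) / 2 ∨ p ^ k ∣ (qq m + 1) / 4 ∨ p ^ k ∣ qq m - rr m + 1 ∨ p ^ k ∣ qq m + rr m + 1 := by
  obtain ⟨-, -, -, -, -, hnn, -, hgg, -, h2a, -, h4b, -⟩ := ar_basic m
  obtain ⟨-, -, hn1, hn2, hcd, -, -, hb1, -, -, -, -, -, -⟩ := ar_coprime m
  set a := (qq m - 1) / 2 with ha
  set b := (qq m + 1) / 4 with hb
  set c := qq m + rr m + 1 with hc
  set d := qq m - rr m + 1 with hd'
  -- coprimalities
  have hca : (c * d).Coprime a := by
    rw [← hnn]
    exact Nat.Coprime.coprime_dvd_right ⟨2, by rw [← h2a]; ring⟩ hn1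
  have hcb : (c * d).Coprime b := by
    rw [← hnn]
    exact Nat.Coprime.coprime_dvd_right ⟨4, by rw [← h4b]; ring⟩ hn2
  have hba : b.Coprime a := Nat.Coprime.coprime_dvd_right ⟨2, by rw [← h2a]; ring⟩ hb1
  -- `p ^ k` is prime to `q ^ 3 * 8`
  have hp3' : (p ^ k).Coprime (qq m ^ 3) := by
    apply Nat.Coprime.pow_left
    apply Nat.Coprime.pow_right
    unfold qq
    apply Nat.Coprime.pow_right
    exact (Nat.coprime_primes hp Nat.prime_three).mpr hp3
  have hp8 : (p ^ k).Coprime 8 := by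
    apply Nat.Coprime.pow_left
    have : (8 : ℕ) = 2 ^ 3 := by norm_num
    rw [this]
    apply Nat.Coprime.pow_right
    exact (Nat.coprime_primes hp Nat.prime_two).mpr hp2
  have hgg' : gg m = (qq m ^ 3 * 8) * (a * (b * (c * d))) := by
    rw [hgg, hnn, ← h2a, ← h4b]
    ring
  rw [hgg'] at hd
  have h1 : p ^ k ∣ a * (b * (c * d)) := (Nat.Coprime.mul_right hp3' hp8).dvd_of_dvd_mul_left hd
  rcases rssar_pp_dvd_mul p k a (b * (c * d)) hp (Nat.Coprime.mul_right hba.symm hca.symm) h1 with h | h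
  · exact Or.inl h
  rcases rssar_pp_dvd_mul p k b (c * d) hp hcb.symm h with h | h
  · exact Or.inr (Or.inl h)
  rcases rssar_pp_dvd_mul p k c d hp hcd h with h | h
  · exact Or.inr (Or.inr (Or.inr h))
  · exact Or.inr (Or.inr (Or.inl h))

end Cfsg.Agent.Lib.helper7.REE
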