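import Mathlib
import Cfsg.Agent.Lib.helper7.REE.Defs
import Cfsg.Agent.Lib.Helper21.RSSAR

/-!
# Project RSS (designer helper6), row TP (`rss_p`): the core, on the statements of the cited REE rows
G8B (`sylow_cyclic`), G8C (`hall_subgroups`), G8I (`cyclic_conj`); cites the landed row AR (`rss_arith`).
-/

set_option autoImplicit false
set_option linter.unusedVariables false

namespace Cfsg.Agent.Lib.helper7.REE

open Matrix Cfsg.Agent.Lib.helper8

universe u v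

/-- the subgroup of order `d` of a cyclic subgroup `A` (`d ∣ |A|`, `A` finite) -/
theorem rsstp_sub {G : Type*} [Group G] [Finite G] (A : Subgroup G) (hA : IsCyclic A) (d : ℕ) (hd : d ∣ Nat.card A) :
    ∃ A₀ : Subgroup G, A₀ ≤ A ∧ IsCyclic A₀ ∧ Nat.card A₀ = d := by
  obtain ⟨gen, hgen⟩ := hA.exists_generator
  have hord : orderOf (gen : G) = Nat.card A := by
    rw [Subgroup.orderOf_coe, orderOf_eq_card_of_forall_mem_zpowers hgen]
  have hpos : 0 < Nat.card A := Nat.card_pos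
  obtain ⟨e, he⟩ := hd
  have hd0 : d ≠ 0 := by
    rintro rfl
    omega
  have he0 : e ≠ 0 := by
    rintro rfl
    omega
  refine ⟨Subgroup.zpowers ((gen : G) ^ e), ?_, inferInstance, ?_⟩
  · rw [Subgroup.zpowers_le]
    exact A.pow_mem gen.2 e
  · rw [Nat.card_zpowers, orderOf_pow_of_dvd he0 (by rw [hord, he]; exact dvd_mul_left e d), hord, he,
      Nat.mul_div_cancel _ (Nat.pos_of_ne_zero he0)]

namespace ReeAx

variable {G : Type u} [Group G] [Finite G] {K : Type v} [Field K] [Fintype K] {m : ℕ}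

/-- TP core -/
theorem rss_p_core (R : ReeAx G K m)
    (h_sylow_cyclic : ∀ {p : ℕ} [Fact p.Prime] (hp : 3 < p) (P : Sylow p G),
          IsCyclic (P : Subgroup G))
    (h_hall_subgroups : ∀ kn ∈ ({((qq m - 1) / 2, 2 * (qq m - 1)), ((qq m + 1) / 4, 6 * (qq m + 1)),
            (qq m - rr m + 1, 6 * (qq m - rr m + 1)),
            (qq m + rr m + 1, 6 * (qq m + rr m + 1))} : Set (ℕ × ℕ)),
          ∃ A : Subgroup G, IsCyclic A ∧ Nat.card A = kn.1 ∧
            Nat.card (Subgroup.normalizer (A : Set G)) = kn.2 ∧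
            ∀ A₀ : Subgroup G, A₀ ≤ A → A₀ ≠ ⊥ →
              Subgroup.normalizer (A₀ : Set G) = Subgroup.normalizer (A : Set G))
    (h_cyclic_conj : ∀ (d : ℕ)
        (hd : d ∣ (qq m - 1) / 2 ∨ d ∣ (qq m + 1) / 4 ∨ d ∣ qq m - rr m + 1 ∨ d ∣ qq m + rr m + 1)
        (A B : Subgroup G) (hA : IsCyclic A) (hB : IsCyclic B)
        (hAd : Nat.card A = d) (hBd : Nat.card B = d),
          ∃ g : G, B = A.map (MulAut.conj g).toMonoidHom)
    (p : ℕ) (hp : p.Prime) (hp2 : p ≠ 2) (hp3 : p ≠ 3) (S Q : Subgroup G)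
    (hQ : Q ≠ ⊥) (hQp : IsPGroup p Q) (hn : ∀ s ∈ S, ∀ x ∈ Q, s * x * s⁻¹ ∈ Q) :
    ∃ A : Subgroup G, S ≤ Subgroup.normalizer (A : Set G) ∧ IsCyclic A ∧
      (Nat.card A = (qq m - 1) / 2 ∨ Nat.card A = (qq m + 1) / 4 ∨
        Nat.card A = qq m - rr m + 1 ∨ Nat.card A = qq m + rr m + 1) := by
  have : Fact p.Prime := ⟨hp⟩
  have hp5 : 3 < p := by
    have := hp.two_le
    omega
  -- `Q` is cyclic
  obtain ⟨P, hQP⟩ := hQp.exists_le_sylow
  have hPc : IsCyclic (P : Subgroup G) := h_sylow_cyclic hp5 P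
  have hQc : IsCyclic Q := Subgroup.isCyclic_of_le hQP
  -- its order
  obtain ⟨k, hk⟩ := hQp.exists_card_eq
  have hdvd : p ^ k ∣ gg m := by
    rw [← hk, ← R.card]
    exact Subgroup.card_subgroup_dvd_card Q
  have hQ1 : Nat.card Q ≠ 1 := fun h => hQ (Subgroup.card_eq_one.mp h)
  -- `S ≤ N(Q)`
  have hSN : S ≤ Subgroup.normalizer (Q : Set G) := by
    intro s hs
    rw [Subgroup.mem_normalizer_iff]
    intro x
    constructor
    · exact hn s hs x
    · intro hx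
      have := hn s⁻¹ (S.inv_mem hs) _ hx
      have e : s⁻¹ * (s * x * s⁻¹) * s⁻¹⁻¹ = x := by group
      rwa [e] at this
  -- the generic step
  have key : ∀ kn ∈ ({((qq m - 1) / 2, 2 * (qq m - 1)), ((qq m + 1) / 4, 6 * (qq m + 1)),
        (qq m - rr m + 1, 6 * (qq m - rr m + 1)),
        (qq m + rr m + 1, 6 * (qq m + rr m + 1))} : Set (ℕ × ℕ)), p ^ k ∣ kn.1 →
      ∃ A : Subgroup G, S ≤ Subgroup.normalizer (A : Set G) ∧ IsCyclic A ∧ Nat.card A = kn.1 := by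
    intro kn hkn hdk
    obtain ⟨A, hAc, hAcard, -, hAN⟩ := h_hall_subgroups kn hkn
    obtain ⟨A₀, hA₀A, hA₀c, hA₀card⟩ := rsstp_sub A hAc (p ^ k) (by rw [hAcard]; exact hdk)
    have hA₀1 : A₀ ≠ ⊥ := by
      intro h
      apply hQ1
      rw [hk, ← hA₀card]
      exact Subgroup.card_eq_one.mpr h
    have hd4 : p ^ k ∣ (qq m - 1) / 2 ∨ p ^ k ∣ (qq m + 1) / 4 ∨ p ^ k ∣ qq m - rr m + 1 ∨
        p ^ k ∣ qq m + rr m + 1 := by
      simp only [Set.mem_insert_iff, Set.mem_singleton_iff] at hkn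
      rcases hkn with rfl | rfl | rfl | rfl
      · exact Or.inl hdk
      · exact Or.inr (Or.inl hdk)
      · exact Or.inr (Or.inr (Or.inl hdk))
      · exact Or.inr (Or.inr (Or.inr hdk))
    obtain ⟨g, hg⟩ := h_cyclic_conj (p ^ k) hd4 A₀ Q hA₀c hQc hA₀card hk
    refine ⟨A.map (MulAut.conj g).toMonoidHom, ?_, ?_, ?_⟩
    · rw [← Subgroup.map_equiv_normalizer_eq, ← hAN A₀ hA₀A hA₀1, Subgroup.map_equiv_normalizer_eq, ← hg]
      exact hSN
    · exact isCyclic_of_surjective ((MulAut.conj g).toMonoidHom.subgroupMap A)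
        ((MulAut.conj g).toMonoidHom.subgroupMap_surjective A)
    · rw [Subgroup.card_map_of_injective (MulAut.conj g).injective, hAcard]
  rcases rss_arith m p k hp hp2 hp3 hdvd with h | h | h | h
  · obtain ⟨A, h1, h2, h3⟩ := key ((qq m - 1) / 2, 2 * (qq m - 1)) (by simp) h
    exact ⟨A, h1, h2, Or.inl h3⟩
  · obtain ⟨A, h1, h2, h3⟩ := key ((qq m + 1) / 4, 6 * (qq m + 1)) (by simp) h
    exact ⟨A, h1, h2, Or.inr (Or.inl h3)⟩
  · obtain ⟨A, h1, h2, h3⟩ := key (qq m - rr m + 1, 6 * (qq m - rr m + 1)) (by simp) h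
    exact ⟨A, h1, h2, Or.inr (Or.inr (Or.inl h3))⟩
  · obtain ⟨A, h1, h2, h3⟩ := key (qq m + rr m + 1, 6 * (qq m + rr m + 1)) (by simp) h
    exact ⟨A, h1, h2, Or.inr (Or.inr (Or.inr h3))⟩

end ReeAx

end Cfsg.Agent.Lib.helper7.REE
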