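import Mathlib
import Cfsg.Agent.Lib.helper7.REE.Defs
import Cfsg.Agent.Lib.Helper1.REEG8
import Cfsg.Agent.Lib.Helper29.REEG8C
import Cfsg.Agent.Lib.Helper21.RSSTPcore

/-!
# Row RSS TP `rss_p`, VERBATIM: the one-term wrapper of the core in `Cfsg.Agent.Lib.Helper21.RSSTPcore`.
-/

set_option autoImplicit false

namespace Cfsg.Agent.Lib.helper7.REE

open Matrix Cfsg.Agent.Lib.helper8

universe u v

namespace ReeAx

variable {G : Type u} [Group G] [Finite G] {K : Type v} [Field K] [Fintype K] {m : ℕ}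

theorem rss_p (R : ReeAx G K m) (p : ℕ) (hp : p.Prime) (hp2 : p ≠ 2) (hp3 : p ≠ 3) (S Q : Subgroup G)
    (hQ : Q ≠ ⊥) (hQp : IsPGroup p Q) (hn : ∀ s ∈ S, ∀ x ∈ Q, s * x * s⁻¹ ∈ Q) :
    ∃ A : Subgroup G, S ≤ Subgroup.normalizer (A : Set G) ∧ IsCyclic A ∧
      (Nat.card A = (qq m - 1) / 2 ∨ Nat.card A = (qq m + 1) / 4 ∨
        Nat.card A = qq m - rr m + 1 ∨ Nat.card A = qq m + rr m + 1) :=
  R.rss_p_core R.sylow_cyclic R.hall_subgroups R.cyclic_conj p hp hp2 hp3 S Q hQ hQp hn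

end ReeAx

end Cfsg.Agent.Lib.helper7.REE
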