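import Mathlib
import Cfsg.Prelude.Def_CaseTheorems
import Cfsg.Agent.Lib.Helper1.Class2
import Cfsg.Agent.Lib.Helper1.Critical
import Cfsg.Agent.Lib.Helper1.Nilp
import Cfsg.Agent.Lib.Helper24.NormalRank
import Cfsg.Agent.Lib.Helper24.OmegaAut
import Cfsg.Agent.Lib.Helper9.AutRank2
import Cfsg.Agent.Lib.Helper11.RankTwoExp

/-!
# Chief factors inside `p`-groups of rank at most two (`p` odd), part A: basic tools
-/

set_option autoImplicit false

namespace Cfsg.Agent.Lib.Helper21.Rk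

open scoped commutatorElement

section basics

variable {P : Type*} [Group P]

/-- invariance of a subgroup under a set of automorphisms -/
def Inv (𝒜 : Set (MulAut P)) (L : Subgroup P) : Prop := ∀ α ∈ 𝒜, ∀ x ∈ L, α x ∈ L

theorem inv_of_all {𝒜 : Set (MulAut P)} {L : Subgroup P}
    (h : ∀ α : MulAut P, ∀ x ∈ L, α x ∈ L) : Inv 𝒜 L := fun α _ x hx => h α x hx

theorem inv_sup {𝒜 : Set (MulAut P)} {L M : Subgroup P} (hL : Inv 𝒜 L) (hM : Inv 𝒜 M) :
    Inv 𝒜 (L ⊔ M) := by
  intro α hα x hx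
  have h : (L ⊔ M).map α.toMonoidHom ≤ L ⊔ M := by
    rw [Subgroup.map_sup]
    apply sup_le_sup
    · rintro _ ⟨y, hy, rfl⟩
      exact hL α hα y hy
    · rintro _ ⟨y, hy, rfl⟩
      exact hM α hα y hy
  exact h ⟨x, hx, rfl⟩

theorem inv_normal {𝒜 : Set (MulAut P)} (hinn : ∀ g : P, MulAut.conj g ∈ 𝒜) {L : Subgroup P}
    (hL : Inv 𝒜 L) : L.Normal := by
  constructor
  intro x hx g
  have := hL _ (hinn g) x hx
  rwa [MulAut.conj_apply] at this

theorem mul_pow_prime {p : ℕ} (hp : p.Prime) (hp2 : p ≠ 2) {x y : P}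
    (hc : ⁅y, x⁆ ∈ Subgroup.center P) (hcp : ⁅y, x⁆ ^ p = 1) : (x * y) ^ p = x ^ p * y ^ p := by
  rw [Cfsg.Agent.Lib.Helper1.mul_pow_of_central hc]
  have h1 : ⁅y, x⁆ ^ (p.choose 2) = 1 := by
    obtain ⟨k, hk⟩ := hp.odd_of_ne_two hp2
    have h2 : p.choose 2 = p * k := by
      rw [Nat.choose_two_right, hk]
      have : (2 * k + 1) * (2 * k + 1 - 1) = 2 * ((2 * k + 1) * k) := by
        rw [Nat.add_sub_cancel]; ring
      rw [this, Nat.mul_div_cancel_left _ (by norm_num : 0 < 2)]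
    rw [h2, pow_mul, hcp, one_pow]
  rw [h1, one_mul]

theorem commElem_mul_left (a b d : P) : ⁅a * b, d⁆ = a * ⁅b, d⁆ * a⁻¹ * ⁅a, d⁆ := by
  simp only [commutatorElement_def]; group

/-- the index of the centraliser of an element all of whose commutators lie in a central subgroup -/
theorem index_centralizer_singleton_le [Finite P] (Z : Subgroup P) (hZ : Z ≤ Subgroup.center P)
    (d : P) (hd : ∀ g : P, ⁅g, d⁆ ∈ Z) :
    (Subgroup.centralizer ({d} : Set P)).index ≤ Nat.card Z := by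
  let f : P →* Z := MonoidHom.mk' (fun g => ⟨⁅g, d⁆, hd g⟩) (by
    intro a b
    apply Subtype.ext
    change ⁅a * b, d⁆ = ⁅a, d⁆ * ⁅b, d⁆
    have h2 : a * ⁅b, d⁆ = ⁅b, d⁆ * a := (Subgroup.mem_center_iff.mp (hZ (hd b))) a
    have h3 : ⁅b, d⁆ * ⁅a, d⁆ = ⁅a, d⁆ * ⁅b, d⁆ :=
      ((Subgroup.mem_center_iff.mp (hZ (hd b))) _).symm
    rw [commElem_mul_left, h2, mul_assoc (⁅b, d⁆), mul_inv_cancel, mul_one, h3])
  have hker : f.ker = Subgroup.centralizer ({d} : Set P) := by
    ext g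
    rw [MonoidHom.mem_ker, Subgroup.mem_centralizer_singleton_iff]
    constructor
    · intro h
      have h1 : ⁅g, d⁆ = 1 := congrArg Subtype.val h
      exact commutatorElement_eq_one_iff_mul_comm.mp h1
    · intro h
      apply Subtype.ext
      exact commutatorElement_eq_one_iff_mul_comm.mpr h
  rw [← hker, Subgroup.index_ker]
  exact Subgroup.card_le_card_group _

/-- order of a preimage subgroup in a quotient -/
theorem card_comap_mk [Finite P] (Z : Subgroup P) [Z.Normal] (A : Subgroup (P ⧸ Z)) :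
    Nat.card (A.comap (QuotientGroup.mk' Z)) = Nat.card Z * Nat.card A := by
  have hZA : Z ≤ A.comap (QuotientGroup.mk' Z) := by
    intro z hz
    rw [Subgroup.mem_comap]
    have : QuotientGroup.mk' Z z = 1 := (QuotientGroup.eq_one_iff z).mpr hz
    rw [this]; exact one_mem _
  have h1 := Subgroup.relIndex_mul_relIndex ⊥ Z (A.comap (QuotientGroup.mk' Z)) bot_le hZA
  rw [Subgroup.relIndex_bot_left, Subgroup.relIndex_bot_left] at h1
  rw [← h1]
  congr 1
  have h2 := Subgroup.relIndex_comap (⊥ : Subgroup (P ⧸ Z)) (QuotientGroup.mk' Z)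
    (A.comap (QuotientGroup.mk' Z))
  rw [Subgroup.relIndex_bot_left,
    Subgroup.map_comap_eq_self_of_surjective (QuotientGroup.mk'_surjective Z)] at h2
  rw [← h2]
  congr 1
  ext x
  rw [Subgroup.mem_comap, Subgroup.mem_bot, QuotientGroup.mk'_apply, QuotientGroup.eq_one_iff]

theorem card_map_mk [Finite P] (Z : Subgroup P) [Z.Normal] (E : Subgroup P) (hZE : Z ≤ E) :
    Nat.card E = Nat.card Z * Nat.card (E.map (QuotientGroup.mk' Z)) := by
  rw [← card_comap_mk Z (E.map (QuotientGroup.mk' Z))]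
  congr 2
  rw [Subgroup.comap_map_eq, QuotientGroup.ker_mk', sup_eq_left.mpr hZE]

/-- a normal subgroup of prime order of a nilpotent group is central -/
theorem le_center_of_card_prime [Group.IsNilpotent P] [Finite P] {p : ℕ} (hp : p.Prime)
    (N : Subgroup P) [N.Normal] (hN : Nat.card N = p) : N ≤ Subgroup.center P := by
  have hN1 : N ≠ ⊥ := by
    intro h
    rw [h, Subgroup.card_bot] at hN
    exact hp.one_lt.ne hN
  have h1 := Cfsg.Agent.Lib.Helper1.normal_inf_center_ne_bot N hN1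
  have h2 : Nat.card ↥(N ⊓ Subgroup.center P) ∣ p := by
    rw [← hN]; exact Subgroup.card_dvd_of_le inf_le_left
  rcases (Nat.dvd_prime hp).mp h2 with h3 | h3
  · exact absurd (Subgroup.card_eq_one.mp h3) h1
  · have : N ⊓ Subgroup.center P = N :=
      Subgroup.eq_of_le_of_card_ge inf_le_left (by rw [h3, hN])
    rw [← this]; exact inf_le_right

theorem omegaCenter_le_center (p : ℕ) : Cfsg.Agent.Lib.Helper1.omegaCenter p P ≤ Subgroup.center P :=
  fun _ hz => hz.1

theorem omegaCenter_normal (p : ℕ) : (Cfsg.Agent.Lib.Helper1.omegaCenter p P).Normal := by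
  constructor
  intro z hz g
  have h1 : g * z = z * g := (Subgroup.mem_center_iff.mp hz.1) g
  have : g * z * g⁻¹ = z := by rw [h1, mul_inv_cancel_right]
  rw [this]; exact hz

theorem aut_mem_omegaCenter (p : ℕ) (α : MulAut P) {z : P}
    (hz : z ∈ Cfsg.Agent.Lib.Helper1.omegaCenter p P) :
    α z ∈ Cfsg.Agent.Lib.Helper1.omegaCenter p P := by
  refine ⟨Cfsg.Agent.Lib.Helper11.RankTwoExp.center_invariant α z hz.1, ?_⟩
  rw [← map_pow, hz.2, map_one]

end basics

end Cfsg.Agent.Lib.Helper21.Rk
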