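import Mathlib
import Cfsg.Agent.Lib.Helper21.RkA

/-!
# Chief factors inside `p`-groups of rank at most two (`p` odd), part B: the three cases
-/

set_option autoImplicit false

namespace Cfsg.Agent.Lib.Helper21.Rk

open scoped commutatorElement
open Cfsg.Agent.Lib.Helper1 (omegaCenter)

universe u

variable {P : Type u} [Group P]

/-- if all elements of order `p` lie in the central elementary abelian subgroup `Z` of order at
most `p ^ 2`, then `P / Z` has rank at most two -/
theorem prank_quotient_omega [Finite P] {p : ℕ} [hp : Fact p.Prime] (hp2 : p ≠ 2)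
    (Z : Subgroup P) [Z.Normal] (hZc : Z ≤ Subgroup.center P) (hZe : ∀ z ∈ Z, z ^ p = 1)
    (hΩ : ∀ x : P, x ^ p = 1 → x ∈ Z) (hZcard : Nat.card Z ≤ p ^ 2) :
    Cfsg.PRankLE p 2 (P ⧸ Z) := by
  intro A hAc hAe
  have hpp : p.Prime := hp.out
  obtain ⟨B, hB⟩ : ∃ B : Subgroup P, B = A.comap (QuotientGroup.mk' Z) := ⟨_, rfl⟩
  have hmemB : ∀ x : P, x ∈ B ↔ (QuotientGroup.mk' Z x) ∈ A := by
    intro x; rw [hB, Subgroup.mem_comap]
  have hZB : Z ≤ B := by
    intro z hz
    rw [hmemB]
    have : QuotientGroup.mk' Z z = 1 := (QuotientGroup.eq_one_iff z).mpr hz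
    rw [this]; exact one_mem _
  have hpow : ∀ a ∈ B, a ^ p ∈ Z := by
    intro a ha
    rw [← QuotientGroup.eq_one_iff, QuotientGroup.mk_pow]
    exact hAe _ ((hmemB a).mp ha)
  have hcomm : ∀ a ∈ B, ∀ b ∈ B, ⁅b, a⁆ ∈ Z := by
    intro a ha b hb
    rw [← QuotientGroup.eq_one_iff]
    have h1 : ((⁅b, a⁆ : P) : P ⧸ Z) = ⁅(QuotientGroup.mk' Z b), (QuotientGroup.mk' Z a)⁆ := by
      rw [← map_commutatorElement]; rfl
    rw [h1, commutatorElement_eq_one_iff_mul_comm]
    have := hAc.1.1 ⟨_, (hmemB b).mp hb⟩ ⟨_, (hmemB a).mp ha⟩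
    exact congrArg Subtype.val this
  let φ : B →* Z := MonoidHom.mk' (fun a => ⟨(a : P) ^ p, hpow a a.2⟩) (by
    intro a b
    apply Subtype.ext
    change ((a : P) * (b : P)) ^ p = (a : P) ^ p * (b : P) ^ p
    exact mul_pow_prime hpp hp2 (hZc (hcomm a a.2 b b.2)) (hZe _ (hcomm a a.2 b b.2)))
  have hker : φ.ker ≤ Z.subgroupOf B := by
    intro a ha
    rw [MonoidHom.mem_ker] at ha
    rw [Subgroup.mem_subgroupOf]
    apply hΩ
    exact congrArg Subtype.val ha
  have h1 : Nat.card B = Nat.card φ.ker * Nat.card φ.range := by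
    rw [← Subgroup.index_ker, Subgroup.card_mul_index]
  have h2 : Nat.card φ.ker ≤ Nat.card Z := by
    calc Nat.card φ.ker ≤ Nat.card (Z.subgroupOf B) := Subgroup.card_le_of_le hker
      _ = Nat.card Z := Nat.card_congr (Subgroup.subgroupOfEquivOfLe hZB).toEquiv
  have h3 : Nat.card φ.range ≤ Nat.card Z := Subgroup.card_le_card_group _
  have h4 : Nat.card B = Nat.card Z * Nat.card A := by
    rw [hB]; exact card_comap_mk Z A
  have hZpos : 0 < Nat.card Z := Nat.card_pos
  have h5 : Nat.card Z * Nat.card A ≤ Nat.card Z * Nat.card Z := by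
    rw [← h4, h1]; exact Nat.mul_le_mul h2 h3
  exact (Nat.le_of_mul_le_mul_left h5 hZpos).trans hZcard

/-- **Case B**: a normal subgroup `D` of exponent `p` with `[D, P] ≤ Z`, `Z` central of order `p`:
its centraliser has index at most `p ^ 2`. -/
theorem caseB [Finite P] {p : ℕ} [hp : Fact p.Prime] (hP : IsPGroup p P)
    (hr : Cfsg.PRankLE p 2 P) (Z : Subgroup P) (hZc : Z ≤ Subgroup.center P)
    (hZcard : Nat.card Z = p) (D : Subgroup P) (hZD : Z ≤ D) (hDe : ∀ d ∈ D, d ^ p = 1)
    (hDc : ∀ d ∈ D, ∀ g : P, ⁅g, d⁆ ∈ Z) :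
    (Subgroup.centralizer (D : Set P)).index ≤ p ^ 2 := by
  have hpp : p.Prime := hp.out
  -- `|D| ≤ p ^ 3`
  have hcard3 : Nat.card D ≤ p ^ 3 := by
    have hcl : commutator ↥D ≤ Subgroup.center ↥D := by
      rw [commutator_def, Subgroup.commutator_le]
      intro a _ b _
      rw [Subgroup.mem_center_iff]
      intro g
      apply Subtype.ext
      have h1 : ⁅a.1, b.1⁆ ∈ Subgroup.center P := hZc (hDc b.1 b.2 a.1)
      exact Subgroup.mem_center_iff.1 h1 g.1
    have hrk : ∀ A : Subgroup ↥D, IsMulCommutative A → Nat.card A ≤ p ^ 2 := by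
      intro A hA
      apply Cfsg.Agent.Lib.Helper9.ar_rank_subgroup hr D A hA
      intro a _
      apply Subtype.ext
      exact hDe a.1 a.2
    by_cases hab : ∀ x : ↥D, x ∈ Subgroup.center ↥D
    · have hDcomm : IsMulCommutative ↥D := by
        refine ⟨⟨fun a b => ?_⟩⟩
        exact ((Subgroup.mem_center_iff.mp (hab a)) b).symm
      have := hr D hDcomm hDe
      exact this.trans (Nat.pow_le_pow_right hpp.pos (by norm_num))
    · push Not at hab
      obtain ⟨x, hx⟩ := hab
      exact (Cfsg.Agent.Lib.Helper11.RankTwoExp.nonabelian_structure p (hP.to_subgroup D) hcl hrk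
        x hx).2
  -- orders of subgroups
  have hcardpow : ∀ M : Subgroup P, ∃ a : ℕ, Nat.card M = p ^ a := fun M =>
    IsPGroup.iff_card.mp (hP.to_subgroup M)
  have hlt : ∀ A B : Subgroup P, A < B → ∀ a : ℕ, p ^ a ≤ Nat.card A → p ^ (a + 1) ≤ Nat.card B := by
    intro A B hAB a ha
    obtain ⟨i, hi⟩ := hcardpow A
    obtain ⟨j, hj⟩ := hcardpow B
    have h1 : Nat.card A < Nat.card B := by
      rcases lt_or_eq_of_le (Subgroup.card_le_of_le hAB.le) with h | h
      · exact h
      · exact absurd (Subgroup.eq_of_le_of_card_ge hAB.le h.ge) hAB.ne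
    rw [hi] at ha
    rw [hi, hj] at h1
    rw [hj]
    have h2 : a ≤ i := (Nat.pow_le_pow_iff_right hpp.one_lt).mp ha
    have h3 : i < j := (Nat.pow_lt_pow_iff_right hpp.one_lt).mp h1
    exact Nat.pow_le_pow_right hpp.pos (by omega)
  by_cases hDZ : D ≤ Subgroup.center P
  · have : Subgroup.centralizer (D : Set P) = ⊤ := by
      rw [eq_top_iff]
      intro x _
      rw [Subgroup.mem_centralizer_iff]
      intro d hd
      exact ((Subgroup.mem_center_iff.mp (hDZ hd)) x).symm
    rw [this, Subgroup.index_top]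
    exact Nat.one_le_pow _ _ hpp.pos
  · obtain ⟨d₁, hd₁D, hd₁Z⟩ := SetLike.not_le_iff_exists.mp hDZ
    have hZM1 : Z < Z ⊔ Subgroup.zpowers d₁ := by
      refine lt_of_le_of_ne le_sup_left ?_
      intro h
      apply hd₁Z
      apply hZc
      rw [h]
      exact (le_sup_right : Subgroup.zpowers d₁ ≤ _) (Subgroup.mem_zpowers d₁)
    have hM1D : Z ⊔ Subgroup.zpowers d₁ ≤ D :=
      sup_le hZD (by rw [Subgroup.zpowers_le]; exact hd₁D)
    have hM1card : p ^ 2 ≤ Nat.card ↥(Z ⊔ Subgroup.zpowers d₁) :=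
      hlt _ _ hZM1 1 (by rw [pow_one, hZcard])
    obtain ⟨d₂, hd₂D, hD⟩ : ∃ d₂ ∈ D, D ≤ Z ⊔ Subgroup.zpowers d₁ ⊔ Subgroup.zpowers d₂ := by
      by_cases hDM : D ≤ Z ⊔ Subgroup.zpowers d₁
      · exact ⟨d₁, hd₁D, hDM.trans le_sup_left⟩
      · obtain ⟨d₂, hd₂D, hd₂M⟩ := SetLike.not_le_iff_exists.mp hDM
        refine ⟨d₂, hd₂D, ?_⟩
        have hM12 : Z ⊔ Subgroup.zpowers d₁ < Z ⊔ Subgroup.zpowers d₁ ⊔ Subgroup.zpowers d₂ := by
          refine lt_of_le_of_ne le_sup_left ?_
          intro h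
          apply hd₂M
          rw [h]
          exact (le_sup_right : Subgroup.zpowers d₂ ≤ _) (Subgroup.mem_zpowers d₂)
        have hM2D : Z ⊔ Subgroup.zpowers d₁ ⊔ Subgroup.zpowers d₂ ≤ D :=
          sup_le hM1D (by rw [Subgroup.zpowers_le]; exact hd₂D)
        have hM2card := hlt _ _ hM12 2 hM1card
        have : Z ⊔ Subgroup.zpowers d₁ ⊔ Subgroup.zpowers d₂ = D :=
          Subgroup.eq_of_le_of_card_ge hM2D (hcard3.trans hM2card)
        rw [this]
    have hle : Subgroup.centralizer ({d₁} : Set P) ⊓ Subgroup.centralizer ({d₂} : Set P) ≤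
        Subgroup.centralizer (D : Set P) := by
      intro x hx
      obtain ⟨hx1, hx2⟩ := Subgroup.mem_inf.mp hx
      rw [Subgroup.mem_centralizer_singleton_iff] at hx1 hx2
      have hMx : Z ⊔ Subgroup.zpowers d₁ ⊔ Subgroup.zpowers d₂ ≤
          Subgroup.centralizer ({x} : Set P) := by
        refine sup_le (sup_le ?_ ?_) ?_
        · intro z hz
          rw [Subgroup.mem_centralizer_singleton_iff]
          exact ((Subgroup.mem_center_iff.mp (hZc hz)) x).symm
        · rw [Subgroup.zpowers_le, Subgroup.mem_centralizer_singleton_iff]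
          exact hx1.symm
        · rw [Subgroup.zpowers_le, Subgroup.mem_centralizer_singleton_iff]
          exact hx2.symm
      rw [Subgroup.mem_centralizer_iff]
      intro d hd
      have := hMx (hD hd)
      rw [Subgroup.mem_centralizer_singleton_iff] at this
      exact this
    have h1 := index_centralizer_singleton_le Z hZc d₁ (hDc d₁ hd₁D)
    have h2 := index_centralizer_singleton_le Z hZc d₂ (hDc d₂ hd₂D)
    rw [hZcard] at h1 h2
    have hne : (Subgroup.centralizer ({d₁} : Set P) ⊓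
        Subgroup.centralizer ({d₂} : Set P)).index ≠ 0 := Subgroup.index_ne_zero_of_finite
    calc (Subgroup.centralizer (D : Set P)).index
        ≤ (Subgroup.centralizer ({d₁} : Set P) ⊓ Subgroup.centralizer ({d₂} : Set P)).index :=
          Nat.le_of_dvd (Nat.pos_of_ne_zero hne) (Subgroup.index_dvd_of_le hle)
      _ ≤ (Subgroup.centralizer ({d₁} : Set P)).index *
          (Subgroup.centralizer ({d₂} : Set P)).index := Subgroup.index_inf_le
      _ ≤ p * p := Nat.mul_le_mul h1 h2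
      _ = p ^ 2 := by ring

end Cfsg.Agent.Lib.Helper21.Rk
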