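import Mathlib
import Cfsg.Agent.Lib.Helper21.RkB

/-!
# Chief factors inside `p`-groups of rank at most two (`p` odd), part C: the induction
-/

set_option autoImplicit false

namespace Cfsg.Agent.Lib.Helper21.Rk

open scoped commutatorElement
open Cfsg.Agent.Lib.Helper1 (omegaCenter)

universe u

variable {P : Type u} [Group P]

theorem exists_mul_of_mem_sup_normal {H N : Subgroup P} [N.Normal] {g : P} (hg : g ∈ H ⊔ N) :
    ∃ h ∈ H, ∃ n ∈ N, g = h * n := by
  have hg' : g ∈ ((H ⊔ N : Subgroup P) : Set P) := hg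
  rw [Subgroup.mul_normal H N] at hg'
  obtain ⟨h, hh, n, hn, rfl⟩ := hg'
  exact ⟨h, hh, n, hn, rfl⟩

/-- the subgroup `Ω₁` of the preimage of `Ω₁(Z(P / Z))`, `Z = Ω₁(Z(P))` -/
theorem exists_dGrp {p : ℕ} [hp : Fact p.Prime] (hp2 : p ≠ 2) :
    ∃ D : Subgroup P, ∀ y : P, y ∈ D ↔ ((∀ g : P, ⁅y, g⁆ ∈ omegaCenter p P) ∧ y ^ p = 1) := by
  haveI : (omegaCenter p P).Normal := omegaCenter_normal p
  obtain ⟨Y, hY⟩ : ∃ Y : Subgroup P, ∀ x : P, x ∈ Y ↔
      ((∀ g : P, ⁅x, g⁆ ∈ omegaCenter p P) ∧ x ^ p ∈ omegaCenter p P) :=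
    ⟨_, Cfsg.Agent.Lib.Helper1.mem_comap_omegaCenter p (omegaCenter p P)⟩
  refine ⟨{ carrier := {y | y ∈ Y ∧ y ^ p = 1}
            one_mem' := ⟨one_mem _, one_pow _⟩
            mul_mem' := ?_
            inv_mem' := ?_ }, ?_⟩
  · rintro a b ⟨ha, hap⟩ ⟨hb, hbp⟩
    refine ⟨mul_mem ha hb, ?_⟩
    have hba : ⁅b, a⁆ ∈ omegaCenter p P := ((hY b).mp hb).1 a
    rw [mul_pow_prime hp.out hp2 hba.1 hba.2, hap, hbp, one_mul]
  · rintro a ⟨ha, hap⟩
    exact ⟨inv_mem ha, by rw [inv_pow, hap, inv_one]⟩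
  · intro y
    change (y ∈ Y ∧ y ^ p = 1) ↔ _
    rw [hY]
    constructor
    · rintro ⟨⟨h1, -⟩, h2⟩
      exact ⟨h1, h2⟩
    · rintro ⟨h1, h2⟩
      exact ⟨⟨h1, by rw [h2]; exact one_mem _⟩, h2⟩

/-- **Case A, small centre**: if `|Ω₁(Z(P))| = p` and every element `y` of order dividing `p` with
`[y, P] ≤ Z` is central, then every element of order dividing `p` lies in `Z`. -/
theorem omega_le_of_small [Finite P] {p : ℕ} [hp : Fact p.Prime] (hp2 : p ≠ 2) (hP : IsPGroup p P)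
    (hZcard : Nat.card (omegaCenter p P) = p)
    (hD : ∀ y : P, (∀ g : P, ⁅y, g⁆ ∈ omegaCenter p P) → y ^ p = 1 → y ∈ Subgroup.center P) :
    ∀ x : P, x ^ p = 1 → x ∈ omegaCenter p P := by
  intro x hx
  have hpp : p.Prime := hp.out
  by_cases hcyc : IsCyclic P
  · refine ⟨?_, hx⟩
    rw [Subgroup.mem_center_iff]
    intro g
    letI := IsCyclic.commGroup (α := P)
    exact mul_comm g x
  · exfalso
    obtain ⟨E, hEn, ⟨hEc, hEe⟩, hEcard⟩ := Cfsg.Agent.Lib.Helper24.nr_main hp2 hP hcyc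
    haveI := hEn
    haveI : Group.IsNilpotent P := hP.isNilpotent
    haveI hZn : (omegaCenter p P).Normal := omegaCenter_normal p
    have hE1 : E ≠ ⊥ := by
      intro h
      rw [h, Subgroup.card_bot] at hEcard
      have : 1 < p ^ 2 := Nat.one_lt_pow (by norm_num) hpp.one_lt
      omega
    have h1 := Cfsg.Agent.Lib.Helper1.normal_inf_center_ne_bot E hE1
    obtain ⟨z₀, hz₀1⟩ := (Subgroup.ne_bot_iff_exists_ne_one).mp h1
    obtain ⟨hz₀E, hz₀c⟩ := Subgroup.mem_inf.mp z₀.2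
    have hz₀Z : (z₀ : P) ∈ omegaCenter p P := ⟨hz₀c, hEe _ hz₀E⟩
    -- `Z ≤ E`
    have hZE : omegaCenter p P ≤ E := by
      intro z hz
      have hne : (⟨(z₀ : P), hz₀Z⟩ : omegaCenter p P) ≠ 1 := by
        intro h
        apply hz₀1
        apply Subtype.ext
        have h' : (z₀ : P) = 1 := congrArg Subtype.val h
        rw [h']; rfl
      have htop := zpowers_eq_top_of_prime_card hZcard hne
      have hmem : (⟨z, hz⟩ : omegaCenter p P) ∈ Subgroup.zpowers (⟨(z₀ : P), hz₀Z⟩ : omegaCenter p P) := by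
        rw [htop]; exact Subgroup.mem_top _
      obtain ⟨k, hk⟩ := Subgroup.mem_zpowers_iff.mp hmem
      have hk' : (z₀ : P) ^ k = z := by
        have := congrArg Subtype.val hk
        simpa using this
      rw [← hk']
      exact Subgroup.zpow_mem _ hz₀E k
    -- the image of `E` in the quotient has order `p`
    have hcardE' : Nat.card (E.map (QuotientGroup.mk' (omegaCenter p P))) = p := by
      have := card_map_mk (omegaCenter p P) E hZE
      rw [hEcard, hZcard, pow_two] at this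
      exact (Nat.eq_of_mul_eq_mul_left hpp.pos this).symm
    haveI : (E.map (QuotientGroup.mk' (omegaCenter p P))).Normal :=
      Subgroup.Normal.map hEn _ (QuotientGroup.mk'_surjective _)
    haveI : Group.IsNilpotent (P ⧸ omegaCenter p P) := (hP.to_quotient _).isNilpotent
    have hcent := le_center_of_card_prime hpp (E.map (QuotientGroup.mk' (omegaCenter p P))) hcardE'
    -- `E ≤ Z`
    have hEZ : E ≤ omegaCenter p P := by
      intro e he
      refine ⟨hD e ?_ (hEe e he), hEe e he⟩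
      intro g
      rw [← QuotientGroup.eq_one_iff]
      have h1 : ((⁅e, g⁆ : P) : P ⧸ omegaCenter p P) =
          ⁅(QuotientGroup.mk' (omegaCenter p P) e), (QuotientGroup.mk' (omegaCenter p P) g)⁆ := by
        rw [← map_commutatorElement]; rfl
      rw [h1, commutatorElement_eq_one_iff_mul_comm]
      have h2 : QuotientGroup.mk' (omegaCenter p P) e ∈ Subgroup.center (P ⧸ omegaCenter p P) :=
        hcent ⟨e, he, rfl⟩
      exact ((Subgroup.mem_center_iff.mp h2) _).symm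
    have := Subgroup.card_le_of_le hEZ
    rw [hEcard, hZcard] at this
    have : p < p ^ 2 := by
      calc p = p ^ 1 := (pow_one p).symm
        _ < p ^ 2 := Nat.pow_lt_pow_right hpp.one_lt (by norm_num)
    omega

/-- passing to an invariant subgroup `L` with `L K = P` -/
theorem sub_step [Finite P] (𝒜 : Set (MulAut P)) (hinn : ∀ g : P, MulAut.conj g ∈ 𝒜)
    (K : Subgroup P) (hK : Inv 𝒜 K)
    (hmax : ∀ L : Subgroup P, Inv 𝒜 L → K ≤ L → L = K ∨ L = ⊤)
    (L : Subgroup P) (hL : Inv 𝒜 L) (hsup : L ⊔ K = ⊤) (hLK : ¬ L ≤ K) :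
    ∃ 𝒜L : Set (MulAut ↥L), (∀ g : ↥L, MulAut.conj g ∈ 𝒜L) ∧ Inv 𝒜L (K.subgroupOf L) ∧
      K.subgroupOf L ≠ ⊤ ∧
      (∀ M : Subgroup ↥L, Inv 𝒜L M → K.subgroupOf L ≤ M → M = K.subgroupOf L ∨ M = ⊤) ∧
      (K.subgroupOf L).index = K.index := by
  haveI hKn : K.Normal := inv_normal hinn hK
  refine ⟨{β | ∃ α ∈ 𝒜, ∀ l : ↥L, ((β l : ↥L) : P) = α l}, ?_, ?_, ?_, ?_, ?_⟩
  · intro g
    refine ⟨MulAut.conj (g : P), hinn _, fun l => ?_⟩
    simp [MulAut.conj_apply]
  · rintro β ⟨α, hα, hβ⟩ x hx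
    rw [Subgroup.mem_subgroupOf] at hx ⊢
    rw [hβ]; exact hK α hα _ hx
  · intro h
    exact hLK (Subgroup.subgroupOf_eq_top.mp h)
  · intro M hM hKM
    have hM' : Inv 𝒜 (M.map L.subtype) := by
      rintro α hα _ ⟨m, hm, rfl⟩
      obtain ⟨b, hb, -⟩ := Cfsg.Agent.Lib.Helper24.oa_restrict α L (fun k hk => hL α hα k hk)
      have hbA : b ∈ {β : MulAut ↥L | ∃ α ∈ 𝒜, ∀ l : ↥L, ((β l : ↥L) : P) = α l} := ⟨α, hα, hb⟩
      exact ⟨b m, hM b hbA m hm, hb m⟩
    have hM'L : M.map L.subtype ≤ L := by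
      rintro _ ⟨m, -, rfl⟩
      exact m.2
    rcases hmax _ (inv_sup hM' hK) le_sup_right with h | h
    · left
      apply le_antisymm _ hKM
      intro m hm
      rw [Subgroup.mem_subgroupOf]
      have : (m : P) ∈ M.map L.subtype ⊔ K :=
        (le_sup_left : M.map L.subtype ≤ _) ⟨m, hm, rfl⟩
      rw [h] at this; exact this
    · right
      rw [eq_top_iff]
      intro l _
      have hl : (l : P) ∈ M.map L.subtype ⊔ K := by rw [h]; exact Subgroup.mem_top _
      obtain ⟨m', hm', k, hk, hmk⟩ := exists_mul_of_mem_sup_normal hl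
      obtain ⟨m, hm, rfl⟩ := hm'
      have hkL : k ∈ L := by
        have : k = (m : P)⁻¹ * (l : P) := by rw [hmk]; simp
        rw [this]
        exact L.mul_mem (L.inv_mem m.2) l.2
      have hkM : (⟨k, hkL⟩ : ↥L) ∈ M := hKM (Subgroup.mem_subgroupOf.mpr hk)
      have : l = m * ⟨k, hkL⟩ := Subtype.ext hmk
      rw [this]
      exact M.mul_mem hm hkM
  · change K.relIndex L = K.index
    rw [← Subgroup.relIndex_sup_left L K, sup_comm, hsup, Subgroup.relIndex_top_right]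

/-- passing to the quotient by a characteristic subgroup `Z ≤ K` -/
theorem quot_step [Finite P] (𝒜 : Set (MulAut P)) (hinn : ∀ g : P, MulAut.conj g ∈ 𝒜)
    (K : Subgroup P) (hK : Inv 𝒜 K) (hKtop : K ≠ ⊤)
    (hmax : ∀ L : Subgroup P, Inv 𝒜 L → K ≤ L → L = K ∨ L = ⊤)
    (Z : Subgroup P) [Z.Normal] (hZinv : ∀ α : MulAut P, ∀ z ∈ Z, α z ∈ Z) (hZK : Z ≤ K) :
    ∃ 𝒜Q : Set (MulAut (P ⧸ Z)), (∀ g : P ⧸ Z, MulAut.conj g ∈ 𝒜Q) ∧
      Inv 𝒜Q (K.map (QuotientGroup.mk' Z)) ∧ K.map (QuotientGroup.mk' Z) ≠ ⊤ ∧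
      (∀ M : Subgroup (P ⧸ Z), Inv 𝒜Q M → K.map (QuotientGroup.mk' Z) ≤ M →
        M = K.map (QuotientGroup.mk' Z) ∨ M = ⊤) ∧
      (K.map (QuotientGroup.mk' Z)).index = K.index := by
  have hsurj := QuotientGroup.mk'_surjective Z
  refine ⟨{β | ∃ α ∈ 𝒜, ∀ x : P, β (QuotientGroup.mk' Z x) = QuotientGroup.mk' Z (α x)},
    ?_, ?_, ?_, ?_, ?_⟩
  · intro g
    obtain ⟨g₀, rfl⟩ := hsurj g
    refine ⟨MulAut.conj g₀, hinn _, fun x => ?_⟩
    simp [MulAut.conj_apply]
  · rintro β ⟨α, hα, hβ⟩ _ ⟨k, hk, rfl⟩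
    rw [hβ]
    exact ⟨α k, hK α hα k hk, rfl⟩
  · intro h
    apply hKtop
    rw [eq_top_iff]
    intro x _
    have hx : QuotientGroup.mk' Z x ∈ K.map (QuotientGroup.mk' Z) := by
      rw [h]; exact Subgroup.mem_top _
    obtain ⟨k, hk, hkx⟩ := hx
    have h1 : k⁻¹ * x ∈ Z := by
      rw [← QuotientGroup.eq]; exact hkx
    have : x = k * (k⁻¹ * x) := by group
    rw [this]
    exact K.mul_mem hk (hZK h1)
  · intro M hM hKM
    have hZmap : ∀ α : P ≃* P, Z.map (α : P →* P) = Z := by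
      intro α
      apply le_antisymm
      · rintro _ ⟨z, hz, rfl⟩
        exact hZinv α z hz
      · intro z hz
        refine ⟨α.symm z, hZinv α.symm z hz, ?_⟩
        simp
    have hL : Inv 𝒜 (M.comap (QuotientGroup.mk' Z)) := by
      intro α hα x hx
      rw [Subgroup.mem_comap] at hx ⊢
      have hβ : QuotientGroup.congr Z Z α (hZmap α) ∈
          {β : MulAut (P ⧸ Z) | ∃ α ∈ 𝒜, ∀ x : P,
            β (QuotientGroup.mk' Z x) = QuotientGroup.mk' Z (α x)} :=
        ⟨α, hα, fun x => QuotientGroup.congr_mk _ _ _ _ _⟩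
      have := hM _ hβ _ hx
      rwa [QuotientGroup.mk'_apply, QuotientGroup.congr_mk] at this
    have hKL : K ≤ M.comap (QuotientGroup.mk' Z) := by
      intro k hk
      rw [Subgroup.mem_comap]
      exact hKM ⟨k, hk, rfl⟩
    have hMeq : M = (M.comap (QuotientGroup.mk' Z)).map (QuotientGroup.mk' Z) :=
      (Subgroup.map_comap_eq_self_of_surjective hsurj M).symm
    rcases hmax _ hL hKL with h | h
    · left
      rw [hMeq, h]
    · right
      rw [hMeq, h]
      exact Subgroup.map_top_of_surjective _ hsurj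
  · exact Subgroup.index_map_eq (H := K) (f := QuotientGroup.mk' Z) hsurj
      (by rw [QuotientGroup.ker_mk']; exact hZK)

end Cfsg.Agent.Lib.Helper21.Rk
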