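import Mathlib
import Cfsg.Agent.Lib.Helper21.RkC

/-!
# Chief factors inside `p`-groups of rank at most two (`p` odd), part D: the main induction
-/

set_option autoImplicit false

namespace Cfsg.Agent.Lib.Helper21.Rk

open scoped commutatorElement
open Cfsg.Agent.Lib.Helper1 (omegaCenter)

universe u

/-- a central subgroup of exponent `p` together with one more element of order `p` -/
theorem sup_zpowers_elemAb {P : Type u} [Group P] {p : ℕ} (Z : Subgroup P) [Z.Normal]
    (hZc : Z ≤ Subgroup.center P) (hZe : ∀ z ∈ Z, z ^ p = 1) (x : P) (hx : x ^ p = 1) :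
    IsMulCommutative ↥(Subgroup.zpowers x ⊔ Z) ∧ ∀ a ∈ Subgroup.zpowers x ⊔ Z, a ^ p = 1 := by
  have hdec : ∀ a ∈ Subgroup.zpowers x ⊔ Z, ∃ k : ℤ, ∃ z ∈ Z, a = x ^ k * z := by
    intro a ha
    obtain ⟨h, hh, z, hz, rfl⟩ := exists_mul_of_mem_sup_normal ha
    obtain ⟨k, rfl⟩ := Subgroup.mem_zpowers_iff.mp hh
    exact ⟨k, z, hz, rfl⟩
  constructor
  · refine ⟨⟨?_⟩⟩
    rintro ⟨a, ha⟩ ⟨b, hb⟩
    apply Subtype.ext
    obtain ⟨i, z₁, hz₁, rfl⟩ := hdec a ha
    obtain ⟨j, z₂, hz₂, rfl⟩ := hdec b hb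
    change x ^ i * z₁ * (x ^ j * z₂) = x ^ j * z₂ * (x ^ i * z₁)
    have c1 : ∀ g : P, g * z₁ = z₁ * g := Subgroup.mem_center_iff.mp (hZc hz₁)
    have c2 : ∀ g : P, g * z₂ = z₂ * g := Subgroup.mem_center_iff.mp (hZc hz₂)
    have hxx : x ^ i * x ^ j = x ^ j * x ^ i := by
      rw [← zpow_add, ← zpow_add, add_comm]
    calc x ^ i * z₁ * (x ^ j * z₂) = x ^ i * (z₁ * x ^ j) * z₂ := by group
      _ = x ^ i * (x ^ j * z₁) * z₂ := by rw [c1]
      _ = (x ^ i * x ^ j) * (z₁ * z₂) := by group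
      _ = (x ^ j * x ^ i) * (z₂ * z₁) := by rw [hxx, c2 z₁]
      _ = x ^ j * (x ^ i * z₂) * z₁ := by group
      _ = x ^ j * (z₂ * x ^ i) * z₁ := by rw [c2]
      _ = x ^ j * z₂ * (x ^ i * z₁) := by group
  · intro a ha
    obtain ⟨i, z, hz, rfl⟩ := hdec a ha
    have hc : Commute (x ^ i) z := (Subgroup.mem_center_iff.mp (hZc hz)) (x ^ i)
    rw [hc.mul_pow, hZe z hz, mul_one, ← zpow_natCast, ← zpow_mul, mul_comm, zpow_mul,
      zpow_natCast, hx, one_zpow]

theorem chief_index_le {p : ℕ} [hp : Fact p.Prime] (hp2 : p ≠ 2) :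
    ∀ (n : ℕ) (P : Type u) [Group P] [Finite P], Nat.card P = n → IsPGroup p P →
      Cfsg.PRankLE p 2 P → ∀ 𝒜 : Set (MulAut P), (∀ g : P, MulAut.conj g ∈ 𝒜) →
      ∀ K : Subgroup P, Inv 𝒜 K → K ≠ ⊤ →
      (∀ L : Subgroup P, Inv 𝒜 L → K ≤ L → L = K ∨ L = ⊤) → K.index ≤ p ^ 2 := by
  intro n
  induction n using Nat.strong_induction_on with
  | _ n ih =>
  intro P _ _ hn hP hr 𝒜 hinn K hK hKtop hmax
  by_contra hcon
  push Not at hcon
  have hpp : p.Prime := hp.out
  haveI hKn : K.Normal := inv_normal hinn hK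
  -- Step 2: proper invariant subgroups lie in `K`
  have hS2 : ∀ L : Subgroup P, Inv 𝒜 L → L ≠ ⊤ → L ≤ K := by
    intro L hL hLtop
    by_contra hLK
    have hsup : L ⊔ K = ⊤ := by
      rcases hmax (L ⊔ K) (inv_sup hL hK) le_sup_right with h | h
      · exact absurd (h ▸ le_sup_left : L ≤ K) hLK
      · exact h
    obtain ⟨𝒜L, h1, h2, h3, h4, h5⟩ := sub_step 𝒜 hinn K hK hmax L hL hsup hLK
    have hcardL : Nat.card L < n := by
      rw [← hn]
      rcases lt_or_eq_of_le (Subgroup.card_le_card_group L) with h | h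
      · exact h
      · exact absurd ((Subgroup.card_eq_iff_eq_top L).mp h) hLtop
    have := ih _ hcardL ↥L rfl (hP.to_subgroup L)
      (Cfsg.Agent.Lib.Helper9.ar_rank_subgroup hr L) 𝒜L h1 _ h2 h3 h4
    rw [h5] at this
    omega
  -- the subgroup `Z = Ω₁(Z(P))`
  obtain ⟨Z, hZdef⟩ : ∃ Z : Subgroup P, Z = omegaCenter p P := ⟨_, rfl⟩
  haveI hZn : Z.Normal := hZdef ▸ omegaCenter_normal p
  have hZc : Z ≤ Subgroup.center P := hZdef ▸ omegaCenter_le_center p
  have hZe : ∀ z ∈ Z, z ^ p = 1 := by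
    subst hZdef; exact fun z hz => hz.2
  have hZinv : ∀ α : MulAut P, ∀ z ∈ Z, α z ∈ Z := by
    subst hZdef; exact fun α z hz => aut_mem_omegaCenter p α hz
  have hZcomm : IsMulCommutative ↥Z := by
    refine ⟨⟨fun a b => ?_⟩⟩
    apply Subtype.ext
    exact ((Subgroup.mem_center_iff.mp (hZc a.2)) b.1).symm
  have hZcard2 : Nat.card Z ≤ p ^ 2 := hr Z hZcomm hZe
  have hZ1 : Z ≠ ⊥ := by
    haveI : Nontrivial P := by
      by_contra h
      rw [not_nontrivial_iff_subsingleton] at h
      exact hKtop (Subsingleton.elim _ _)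
    have hnt : Nontrivial ↥(Subgroup.center P) := hP.center_nontrivial
    obtain ⟨k, hk0, hk⟩ := (hP.to_subgroup (Subgroup.center P)).nontrivial_iff_card.mp hnt
    have hdvd : p ∣ Nat.card ↥(Subgroup.center P) := by
      rw [hk]; exact dvd_pow_self p (by omega)
    obtain ⟨x, hx⟩ := exists_prime_orderOf_dvd_card' p hdvd
    intro hbot
    have hxZ : (x : P) ∈ Z := by
      rw [hZdef]
      refine ⟨x.2, ?_⟩
      have := pow_orderOf_eq_one x
      rw [hx] at this
      have := congrArg Subtype.val this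
      simpa using this
    rw [hbot, Subgroup.mem_bot] at hxZ
    have hx1 : x = 1 := Subtype.ext hxZ
    rw [hx1, orderOf_one] at hx
    exact hpp.one_lt.ne hx
  have hZtop : Z ≠ ⊤ := by
    intro h
    have h1 : Nat.card P ≤ p ^ 2 := by
      rw [← Subgroup.card_top (G := P), ← h]; exact hZcard2
    have h2 : K.index ≤ Nat.card P := Nat.le_of_dvd Nat.card_pos (Subgroup.index_dvd_card K)
    omega
  have hZK : Z ≤ K := hS2 Z (inv_of_all hZinv) hZtop
  -- all elements of order `p` lie in `Z`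
  have hΩ : ∀ x : P, x ^ p = 1 → x ∈ Z := by
    obtain ⟨a, ha⟩ := IsPGroup.iff_card.mp (hP.to_subgroup Z)
    have ha2 : a ≤ 2 := by
      rw [ha] at hZcard2
      exact (Nat.pow_le_pow_iff_right hpp.one_lt).mp hZcard2
    have ha0 : a ≠ 0 := by
      intro h0
      rw [h0, pow_zero] at ha
      exact hZ1 (Subgroup.card_eq_one.mp ha)
    rcases (by omega : a = 1 ∨ a = 2) with rfl | rfl
    · -- `|Z| = p`
      rw [pow_one] at ha
      obtain ⟨D, hD⟩ := exists_dGrp (P := P) hp2
      by_cases hDZ : D ≤ Subgroup.center P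
      · -- Case A
        subst hZdef
        exact omega_le_of_small hp2 hP ha (fun y hy1 hy2 => hDZ ((hD y).mpr ⟨hy1, hy2⟩))
      · -- Case B
        exfalso
        have hZD : Z ≤ D := by
          intro z hz
          rw [hD]
          refine ⟨fun g => ?_, hZe z hz⟩
          have : ⁅z, g⁆ = 1 :=
            commutatorElement_eq_one_iff_mul_comm.mpr
              ((Subgroup.mem_center_iff.mp (hZc hz) g).symm)
          rw [this]; exact one_mem _
        have hDe : ∀ d ∈ D, d ^ p = 1 := fun d hd => ((hD d).mp hd).2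
        have hDc : ∀ d ∈ D, ∀ g : P, ⁅g, d⁆ ∈ Z := by
          intro d hd g
          rw [← commutatorElement_inv, hZdef]
          exact inv_mem (((hD d).mp hd).1 g)
        have hB := caseB hP hr Z hZc ha D hZD hDe hDc
        have hDinv : ∀ α : MulAut P, ∀ d ∈ D, α d ∈ D := by
          intro α d hd
          rw [hD] at hd ⊢
          refine ⟨fun g => ?_, by rw [← map_pow, hd.2, map_one]⟩
          have h1 : ⁅α d, g⁆ = α ⁅d, α⁻¹ g⁆ := by
            rw [map_commutatorElement]; simp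
          rw [h1]
          exact aut_mem_omegaCenter p α (hd.1 _)
        have hCinv : Inv 𝒜 (Subgroup.centralizer (D : Set P)) := by
          apply inv_of_all
          intro α x hx
          rw [Subgroup.mem_centralizer_iff] at hx ⊢
          intro d hd
          have h1 := hx (α⁻¹ d) (hDinv α⁻¹ d hd)
          have h2 := congrArg α h1
          simpa using h2
        have hCtop : Subgroup.centralizer (D : Set P) ≠ ⊤ := by
          intro h
          apply hDZ
          intro d hd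
          rw [Subgroup.mem_center_iff]
          intro g
          have : g ∈ Subgroup.centralizer (D : Set P) := h ▸ Subgroup.mem_top g
          exact (Subgroup.mem_centralizer_iff.mp this d hd).symm
        have hCK := hS2 _ hCinv hCtop
        have hne : (Subgroup.centralizer (D : Set P)).index ≠ 0 := Subgroup.index_ne_zero_of_finite
        have : K.index ≤ (Subgroup.centralizer (D : Set P)).index :=
          Nat.le_of_dvd (Nat.pos_of_ne_zero hne) (Subgroup.index_dvd_of_le hCK)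
        omega
    · -- `|Z| = p ^ 2`
      intro x hx
      obtain ⟨hAc, hAe⟩ := sup_zpowers_elemAb Z hZc hZe x hx
      have hAcard := hr _ hAc hAe
      have hZA : Z ≤ Subgroup.zpowers x ⊔ Z := le_sup_right
      have : Z = Subgroup.zpowers x ⊔ Z :=
        Subgroup.eq_of_le_of_card_ge hZA (by rw [ha]; exact hAcard)
      rw [this]
      exact (le_sup_left : Subgroup.zpowers x ≤ _) (Subgroup.mem_zpowers x)
  -- pass to the quotient
  have hrQ := prank_quotient_omega hp2 Z hZc hZe hΩ hZcard2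
  obtain ⟨𝒜Q, h1, h2, h3, h4, h5⟩ := quot_step 𝒜 hinn K hK hKtop hmax Z hZinv hZK
  have hcardQ : Nat.card (P ⧸ Z) < n := by
    rw [← hn, ← Subgroup.card_mul_index Z]
    change Z.index < _
    have h1 : 1 < Nat.card Z := by
      rcases Nat.lt_or_ge 1 (Nat.card Z) with h | h
      · exact h
      · exfalso
        have hpos : 0 < Nat.card Z := Nat.card_pos
        exact hZ1 (Subgroup.card_eq_one.mp (by omega))
    have h2 : 0 < Z.index := Nat.pos_of_ne_zero Subgroup.index_ne_zero_of_finite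
    nlinarith
  have := ih _ hcardQ (P ⧸ Z) rfl (hP.to_quotient Z) hrQ 𝒜Q h1 _ h2 h3 h4
  rw [h5] at this
  omega

/-- **Chief factors of `p`-groups of rank at most two.** `P` a `p`-group (`p` odd) of rank at most
two, `𝒜` a set of automorphisms containing the inner ones, `K` a maximal proper `𝒜`-invariant
subgroup: then `|P : K| ≤ p ^ 2`. -/
theorem chief_index_le' {p : ℕ} [Fact p.Prime] (hp2 : p ≠ 2) {P : Type u} [Group P] [Finite P]
    (hP : IsPGroup p P) (hr : Cfsg.PRankLE p 2 P) (𝒜 : Set (MulAut P))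
    (hinn : ∀ g : P, MulAut.conj g ∈ 𝒜) (K : Subgroup P) (hK : Inv 𝒜 K) (hKtop : K ≠ ⊤)
    (hmax : ∀ L : Subgroup P, Inv 𝒜 L → K ≤ L → L = K ∨ L = ⊤) : K.index ≤ p ^ 2 :=
  chief_index_le hp2 _ P rfl hP hr 𝒜 hinn K hK hKtop hmax

end Cfsg.Agent.Lib.Helper21.Rk
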