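import Mathlib
import Cfsg.Agent.Lib.Helper21.RkD

/-!
# Chief factors of a finite group: position relative to a normal subgroup
-/

set_option autoImplicit false

namespace Cfsg.Agent.Lib.Helper21.Rk

open scoped commutatorElement

variable {G : Type*} [Group G]

/-- `H / K` is a chief factor of `G` -/
structure IsChief (H K : Subgroup G) : Prop where
  hH : H.Normal
  hK : K.Normal
  lt : K < H
  max : ∀ L : Subgroup G, L.Normal → K ≤ L → L ≤ H → L = K ∨ L = H

theorem IsChief.dichotomy {H K : Subgroup G} (h : IsChief H K) (N : Subgroup G) [hN : N.Normal] :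
    H ⊓ N ≤ K ∨ K ⊔ (H ⊓ N) = H := by
  haveI := h.hH
  haveI := h.hK
  have hn : (K ⊔ (H ⊓ N)).Normal := inferInstance
  rcases h.max _ hn le_sup_left (sup_le h.lt.le inf_le_left) with h1 | h1
  · left
    rw [← h1]; exact le_sup_right
  · right; exact h1

theorem IsChief.inside {H K : Subgroup G} (h : IsChief H K) (N : Subgroup G) [hN : N.Normal]
    (hsup : K ⊔ (H ⊓ N) = H) :
    IsChief (H ⊓ N) (K ⊓ N) ∧ (K ⊓ N).relIndex (H ⊓ N) = K.relIndex H := by
  haveI := h.hH
  haveI := h.hK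
  refine ⟨⟨inferInstance, inferInstance, ?_, ?_⟩, ?_⟩
  · refine lt_of_le_of_ne (inf_le_inf_right N h.lt.le) ?_
    intro heq
    have h1 : H ⊓ N ≤ K := by rw [← heq]; exact inf_le_left
    have h2 : K ⊔ (H ⊓ N) = K := sup_eq_left.mpr h1
    rw [h2] at hsup
    exact h.lt.ne hsup
  · intro L hL hKL hLH
    haveI := hL
    have hn : (L ⊔ K).Normal := inferInstance
    rcases h.max _ hn le_sup_right (sup_le (hLH.trans inf_le_left) h.lt.le) with h1 | h1
    · left
      apply le_antisymm _ hKL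
      apply le_inf
      · rw [← h1]; exact le_sup_left
      · exact hLH.trans inf_le_right
    · right
      apply le_antisymm hLH
      intro x hx
      obtain ⟨hxH, hxN⟩ := Subgroup.mem_inf.mp hx
      rw [← h1] at hxH
      obtain ⟨l, hl, k, hk, rfl⟩ := exists_mul_of_mem_sup_normal hxH
      have hkN : k ∈ N := by
        have : k = l⁻¹ * (l * k) := by group
        rw [this]
        exact N.mul_mem (N.inv_mem ((hLH hl).2)) hxN
      exact L.mul_mem hl (hKL (Subgroup.mem_inf.mpr ⟨hk, hkN⟩))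
  · have h1 : K ⊓ N = K ⊓ (H ⊓ N) := by
      rw [← inf_assoc, inf_eq_left.mpr h.lt.le]
    rw [h1, Subgroup.inf_relIndex_right, ← Subgroup.relIndex_sup_left (H ⊓ N) K, hsup]

theorem IsChief.above {H K : Subgroup G} (h : IsChief H K) (N : Subgroup G) [hN : N.Normal]
    (hle : H ⊓ N ≤ K) : K.relIndex H ∣ N.index := by
  haveI := h.hH
  haveI := h.hK
  have hn : (K ⊔ N).Normal := inferInstance
  have h1 : (K ⊔ N) ⊓ H = K := by
    apply le_antisymm
    · intro x hx
      obtain ⟨hx1, hxH⟩ := Subgroup.mem_inf.mp hx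
      obtain ⟨k, hk, n, hn', rfl⟩ := exists_mul_of_mem_sup_normal hx1
      have hnH : n ∈ H := by
        have : n = k⁻¹ * (k * n) := by group
        rw [this]
        exact H.mul_mem (H.inv_mem (h.lt.le hk)) hxH
      exact K.mul_mem hk (hle (Subgroup.mem_inf.mpr ⟨hnH, hn'⟩))
    · exact le_inf le_sup_left h.lt.le
  have h2 : K.relIndex H = (K ⊔ N).relIndex H := by
    rw [← Subgroup.inf_relIndex_right (K ⊔ N) H, h1]
  rw [h2]
  exact (Subgroup.relIndex_dvd_index_of_normal (K ⊔ N) H).trans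
    (Subgroup.index_dvd_of_le le_sup_right)

/-- the centraliser in `G` of the section `A / B` -/
def cent (A B : Subgroup G) [hB : B.Normal] : Subgroup G where
  carrier := {g | ∀ a ∈ A, ⁅g, a⁆ ∈ B}
  one_mem' := by
    intro a _
    rw [commutatorElement_one_left]; exact one_mem _
  mul_mem' := by
    intro g h hg hh a ha
    rw [commElem_mul_left]
    exact B.mul_mem (hB.conj_mem _ (hh a ha) g) (hg a ha)
  inv_mem' := by
    intro g hg a ha
    have h1 : ⁅g⁻¹, a⁆ = g⁻¹ * (⁅g, a⁆)⁻¹ * g⁻¹⁻¹ := by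
      simp only [commutatorElement_def]; group
    rw [h1]
    exact hB.conj_mem _ (B.inv_mem (hg a ha)) g⁻¹

theorem mem_cent {A B : Subgroup G} [B.Normal] {g : G} : g ∈ cent A B ↔ ∀ a ∈ A, ⁅g, a⁆ ∈ B :=
  Iff.rfl

theorem cent_normal (A B : Subgroup G) [hA : A.Normal] [hB : B.Normal] : (cent A B).Normal := by
  constructor
  intro g hg x a ha
  have h1 : ⁅x * g * x⁻¹, a⁆ = x * ⁅g, x⁻¹ * a * x⁻¹⁻¹⁆ * x⁻¹ := by
    simp only [commutatorElement_def]; group
  rw [h1]
  exact hB.conj_mem _ (hg _ (hA.conj_mem a ha x⁻¹)) x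

theorem cent_eq_comap (A B : Subgroup G) [B.Normal] :
    cent A B = (Subgroup.centralizer ((A.map (QuotientGroup.mk' B) : Subgroup (G ⧸ B)) :
      Set (G ⧸ B))).comap (QuotientGroup.mk' B) := by
  ext g
  rw [mem_cent, Subgroup.mem_comap, Subgroup.mem_centralizer_iff]
  constructor
  · rintro h _ ⟨a, ha, rfl⟩
    have h1 := (QuotientGroup.eq_one_iff _).mpr (h a ha)
    have h2 : ((⁅g, a⁆ : G) : G ⧸ B) =
        ⁅(QuotientGroup.mk' B g), (QuotientGroup.mk' B a)⁆ := by
      rw [← map_commutatorElement]; rfl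
    rw [h2, commutatorElement_eq_one_iff_mul_comm] at h1
    exact h1.symm
  · intro h a ha
    rw [← QuotientGroup.eq_one_iff]
    have h2 : ((⁅g, a⁆ : G) : G ⧸ B) =
        ⁅(QuotientGroup.mk' B g), (QuotientGroup.mk' B a)⁆ := by
      rw [← map_commutatorElement]; rfl
    rw [h2, commutatorElement_eq_one_iff_mul_comm]
    exact (h _ ⟨a, ha, rfl⟩).symm

end Cfsg.Agent.Lib.Helper21.Rk
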