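import Mathlib
import Cfsg.Agent.Lib.Helper21.RkE

/-!
# Centralisers of small chief factors
-/

set_option autoImplicit false

namespace Cfsg.Agent.Lib.Helper21.Rk

open scoped commutatorElement

universe u

section pgroup

variable {R : Type u} [Group R]

theorem pow_succ_le_card_of_lt [Finite R] {p : ℕ} [hp : Fact p.Prime] (hR : IsPGroup p R)
    {A B : Subgroup R} (hAB : A < B) (a : ℕ) (ha : p ^ a ≤ Nat.card A) :
    p ^ (a + 1) ≤ Nat.card B := by
  have hpp : p.Prime := hp.out
  obtain ⟨i, hi⟩ := IsPGroup.iff_card.mp (hR.to_subgroup A)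
  obtain ⟨j, hj⟩ := IsPGroup.iff_card.mp (hR.to_subgroup B)
  have h1 : Nat.card A < Nat.card B := by
    rcases lt_or_eq_of_le (Subgroup.card_le_of_le hAB.le) with h | h
    · exact h
    · exact absurd (Subgroup.eq_of_le_of_card_ge hAB.le h.ge) hAB.ne
  rw [hi] at ha
  rw [hi, hj] at h1
  rw [hj]
  have h2 : a ≤ i := (Nat.pow_le_pow_iff_right hpp.one_lt).mp ha
  have h3 : i < j := (Nat.pow_lt_pow_iff_right hpp.one_lt).mp h1
  exact Nat.pow_le_pow_right hpp.pos (by omega)

/-- a normal subgroup of order at most `p ^ 2` of a `p`-group has a centraliser of index at most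
`p` -/
theorem index_centralizer_normal_le [Finite R] {p : ℕ} [hp : Fact p.Prime] (hR : IsPGroup p R)
    (D : Subgroup R) [hD : D.Normal] (hcard : Nat.card D ≤ p ^ 2) :
    (Subgroup.centralizer (D : Set R)).index ≤ p := by
  have hpp : p.Prime := hp.out
  by_cases hDZ : D ≤ Subgroup.center R
  · have : Subgroup.centralizer (D : Set R) = ⊤ := by
      rw [eq_top_iff]
      intro x _
      rw [Subgroup.mem_centralizer_iff]
      intro d hd
      exact ((Subgroup.mem_center_iff.mp (hDZ hd)) x).symm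
    rw [this, Subgroup.index_top]
    exact hpp.one_lt.le
  · obtain ⟨w, hwD, hwZ⟩ := SetLike.not_le_iff_exists.mp hDZ
    haveI : Group.IsNilpotent R := hR.isNilpotent
    obtain ⟨B₀, hB₀⟩ : ∃ B₀ : Subgroup R, B₀ = D ⊓ Subgroup.center R := ⟨_, rfl⟩
    have hD1 : D ≠ ⊥ := by
      intro h; apply hDZ; rw [h]; exact bot_le
    have hB1 : B₀ ≠ ⊥ := hB₀ ▸ Cfsg.Agent.Lib.Helper1.normal_inf_center_ne_bot D hD1
    have hBD : B₀ < D := by
      rw [hB₀]
      exact lt_of_le_of_ne inf_le_left (fun h => hDZ (h ▸ inf_le_right))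
    have hBc : B₀ ≤ Subgroup.center R := hB₀ ▸ inf_le_right
    haveI hBn : B₀.Normal := by rw [hB₀]; infer_instance
    have hBcard1 : p ^ 1 ≤ Nat.card B₀ := by
      obtain ⟨b, hb⟩ := IsPGroup.iff_card.mp (hR.to_subgroup B₀)
      rw [hb]
      apply Nat.pow_le_pow_right hpp.pos
      rcases Nat.eq_zero_or_pos b with h0 | h0
      · rw [h0, pow_zero] at hb
        exact absurd (Subgroup.card_eq_one.mp hb) hB1
      · exact h0
    have hDcard : Nat.card D = p ^ 2 :=
      le_antisymm hcard (pow_succ_le_card_of_lt hR hBD 1 hBcard1)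
    have hBcard : Nat.card B₀ = p := by
      obtain ⟨b, hb⟩ := IsPGroup.iff_card.mp (hR.to_subgroup B₀)
      have h1 : Nat.card B₀ < Nat.card D := by
        rcases lt_or_eq_of_le (Subgroup.card_le_of_le hBD.le) with h | h
        · exact h
        · exact absurd (Subgroup.eq_of_le_of_card_ge hBD.le h.ge) hBD.ne
      rw [hb, hDcard] at h1
      have h2 : b < 2 := (Nat.pow_lt_pow_iff_right hpp.one_lt).mp h1
      rw [hb] at hBcard1
      have h3 : 1 ≤ b := (Nat.pow_le_pow_iff_right hpp.one_lt).mp hBcard1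
      have : b = 1 := by omega
      rw [hb, this, pow_one]
    have hcard' : Nat.card (D.map (QuotientGroup.mk' B₀)) = p := by
      have := card_map_mk B₀ D hBD.le
      rw [hDcard, hBcard, pow_two] at this
      exact (Nat.eq_of_mul_eq_mul_left hpp.pos this).symm
    haveI : (D.map (QuotientGroup.mk' B₀)).Normal :=
      Subgroup.Normal.map hD _ (QuotientGroup.mk'_surjective _)
    haveI : Group.IsNilpotent (R ⧸ B₀) := (hR.to_quotient B₀).isNilpotent
    have hcent := le_center_of_card_prime hpp (D.map (QuotientGroup.mk' B₀)) hcard'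
    have hcomm : ∀ d ∈ D, ∀ g : R, ⁅g, d⁆ ∈ B₀ := by
      intro d hd g
      rw [← QuotientGroup.eq_one_iff]
      have h1 : ((⁅g, d⁆ : R) : R ⧸ B₀) =
          ⁅(QuotientGroup.mk' B₀ g), (QuotientGroup.mk' B₀ d)⁆ := by
        rw [← map_commutatorElement]; rfl
      rw [h1, commutatorElement_eq_one_iff_mul_comm]
      have h2 : QuotientGroup.mk' B₀ d ∈ Subgroup.center (R ⧸ B₀) := hcent ⟨d, hd, rfl⟩
      exact ((Subgroup.mem_center_iff.mp h2) _)
    have h1 := index_centralizer_singleton_le B₀ hBc w (hcomm w hwD)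
    rw [hBcard] at h1
    have hsup : D ≤ B₀ ⊔ Subgroup.zpowers w := by
      have hlt : B₀ < B₀ ⊔ Subgroup.zpowers w := by
        refine lt_of_le_of_ne le_sup_left ?_
        intro h
        apply hwZ
        apply hBc
        rw [h]
        exact (le_sup_right : Subgroup.zpowers w ≤ _) (Subgroup.mem_zpowers w)
      have hle : B₀ ⊔ Subgroup.zpowers w ≤ D :=
        sup_le hBD.le (by rw [Subgroup.zpowers_le]; exact hwD)
      have hc := pow_succ_le_card_of_lt hR hlt 1 hBcard1
      have : B₀ ⊔ Subgroup.zpowers w = D :=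
        Subgroup.eq_of_le_of_card_ge hle (by rw [hDcard]; exact hc)
      rw [this]
    have hle : Subgroup.centralizer ({w} : Set R) ≤ Subgroup.centralizer (D : Set R) := by
      intro x hx
      rw [Subgroup.mem_centralizer_singleton_iff] at hx
      have hMx : B₀ ⊔ Subgroup.zpowers w ≤ Subgroup.centralizer ({x} : Set R) := by
        refine sup_le ?_ ?_
        · intro z hz
          rw [Subgroup.mem_centralizer_singleton_iff]
          exact ((Subgroup.mem_center_iff.mp (hBc hz)) x).symm
        · rw [Subgroup.zpowers_le, Subgroup.mem_centralizer_singleton_iff]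
          exact hx.symm
      rw [Subgroup.mem_centralizer_iff]
      intro d hd
      have := hMx (hsup hd)
      rw [Subgroup.mem_centralizer_singleton_iff] at this
      exact this
    have hne : (Subgroup.centralizer ({w} : Set R)).index ≠ 0 := Subgroup.index_ne_zero_of_finite
    exact (Nat.le_of_dvd (Nat.pos_of_ne_zero hne) (Subgroup.index_dvd_of_le hle)).trans h1

/-- the centraliser of a section of order at most `p ^ 2` of a `p`-group has index at most `p` -/
theorem index_cent_le [Finite R] {p : ℕ} [hp : Fact p.Prime] (hR : IsPGroup p R)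
    (A B : Subgroup R) [hA : A.Normal] [hB : B.Normal] (hBA : B ≤ A)
    (hrel : B.relIndex A ≤ p ^ 2) : (cent A B).index ≤ p := by
  rw [cent_eq_comap, Subgroup.index_comap_of_surjective _ (QuotientGroup.mk'_surjective B)]
  haveI : (A.map (QuotientGroup.mk' B)).Normal :=
    Subgroup.Normal.map hA _ (QuotientGroup.mk'_surjective _)
  apply index_centralizer_normal_le (hR.to_quotient B)
  have h1 := card_map_mk B A hBA
  have h2 := Subgroup.relIndex_mul_relIndex ⊥ B A bot_le hBA
  rw [Subgroup.relIndex_bot_left, Subgroup.relIndex_bot_left] at h2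
  have hpos : 0 < Nat.card B := Nat.card_pos
  have : Nat.card (A.map (QuotientGroup.mk' B)) = B.relIndex A := by
    apply Nat.eq_of_mul_eq_mul_left hpos
    rw [← h1, h2]
  rw [this]; exact hrel

end pgroup

section chief

variable {G : Type u} [Group G]

/-- a chief factor inside a normal `p`-subgroup of rank at most two has order at most `p ^ 2` -/
theorem IsChief.relIndex_le [Finite G] {p : ℕ} [hp : Fact p.Prime] (hp2 : p ≠ 2)
    {A B : Subgroup G} (h : IsChief A B) (hA : IsPGroup p ↥A) (hr : Cfsg.PRankLE p 2 ↥A) :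
    B.relIndex A ≤ p ^ 2 := by
  haveI := h.hH
  haveI := h.hK
  obtain ⟨𝒜, h𝒜⟩ : ∃ 𝒜 : Set (MulAut ↥A), 𝒜 = Set.range (fun g : G => MulAut.conjNormal g) :=
    ⟨_, rfl⟩
  have hconj : ∀ (g : G) (a : ↥A), ((MulAut.conjNormal g a : ↥A) : G) = g * a * g⁻¹ :=
    fun g a => MulAut.conjNormal_apply g a
  have hinn : ∀ a : ↥A, MulAut.conj a ∈ 𝒜 := by
    intro a
    rw [h𝒜]
    refine ⟨(a : G), ?_⟩
    ext x
    rw [hconj]
    simp [MulAut.conj_apply]
  have hK : Inv 𝒜 (B.subgroupOf A) := by
    rw [h𝒜]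
    rintro _ ⟨g, rfl⟩ x hx
    rw [Subgroup.mem_subgroupOf] at hx ⊢
    rw [hconj]; exact h.hK.conj_mem _ hx g
  have hKtop : B.subgroupOf A ≠ ⊤ := fun hh =>
    absurd (Subgroup.subgroupOf_eq_top.mp hh) (not_le_of_gt h.lt)
  have hmax : ∀ M : Subgroup ↥A, Inv 𝒜 M → B.subgroupOf A ≤ M → M = B.subgroupOf A ∨ M = ⊤ := by
    intro M hM hBM
    have hMn : (M.map A.subtype).Normal := by
      constructor
      rintro _ ⟨m, hm, rfl⟩ g
      refine ⟨MulAut.conjNormal g m, hM _ (h𝒜 ▸ ⟨g, rfl⟩) m hm, ?_⟩
      exact hconj g m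
    have hle : M.map A.subtype ≤ A := by
      rintro _ ⟨m, -, rfl⟩; exact m.2
    have hBle : B ≤ M.map A.subtype := by
      intro b hb
      exact ⟨⟨b, h.lt.le hb⟩, hBM (Subgroup.mem_subgroupOf.mpr hb), rfl⟩
    rcases h.max _ hMn hBle hle with h1 | h1
    · left
      apply le_antisymm _ hBM
      intro m hm
      rw [Subgroup.mem_subgroupOf, ← h1]
      exact ⟨m, hm, rfl⟩
    · right
      rw [eq_top_iff]
      intro a _
      have : (a : G) ∈ M.map A.subtype := by rw [h1]; exact a.2
      obtain ⟨m, hm, hma⟩ := this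
      have : m = a := Subtype.ext hma
      rwa [← this]
  exact chief_index_le' hp2 hA hr 𝒜 hinn _ hK hKtop hmax

/-- the index of the centraliser of a chief factor inside a normal `p`-subgroup of rank at most
two is not divisible by `p ^ 2` -/
theorem IsChief.not_sq_dvd_index_cent [Finite G] {p : ℕ} [hp : Fact p.Prime] (hp2 : p ≠ 2)
    {A B : Subgroup G} (h : IsChief A B) (P : Subgroup G) (hP : IsPGroup p P) (hAP : A ≤ P)
    (hr : Cfsg.PRankLE p 2 G) : ¬ p ^ 2 ∣ (@cent G _ A B h.hK).index := by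
  have hpp : p.Prime := hp.out
  haveI := h.hH
  haveI := h.hK
  obtain ⟨S, hPS⟩ := hP.exists_le_sylow
  have hAS : A ≤ S := hAP.trans hPS
  have hAp : IsPGroup p ↥A := hP.to_le hAP
  have hrA : Cfsg.PRankLE p 2 ↥A := Cfsg.Agent.Lib.Helper9.ar_rank_subgroup hr A
  have hBA := h.relIndex_le hp2 hAp hrA
  haveI hCn : (cent A B).Normal := cent_normal A B
  have hrel : (cent A B).relIndex S ≤ p := by
    have heq : (cent A B).subgroupOf S = cent (A.subgroupOf S) (B.subgroupOf S) := by
      ext s
      rw [Subgroup.mem_subgroupOf, mem_cent, mem_cent]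
      constructor
      · intro hs a' ha'
        rw [Subgroup.mem_subgroupOf] at ha' ⊢
        exact hs _ ha'
      · intro hs a ha
        have := hs ⟨a, hAS ha⟩ (Subgroup.mem_subgroupOf.mpr ha)
        rw [Subgroup.mem_subgroupOf] at this
        exact this
    change ((cent A B).subgroupOf S).index ≤ p
    rw [heq]
    apply index_cent_le S.isPGroup'
    · intro x hx
      rw [Subgroup.mem_subgroupOf] at hx ⊢
      exact h.lt.le hx
    · rw [Subgroup.relIndex_subgroupOf hAS]; exact hBA
  intro hdvd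
  have hmul := Subgroup.relIndex_mul_index (le_sup_left : cent A B ≤ cent A B ⊔ S)
  rw [Subgroup.relIndex_sup_left S (cent A B)] at hmul
  have hcop : ¬ p ∣ (cent A B ⊔ (S : Subgroup G)).index := by
    intro h1
    exact S.not_dvd_index (h1.trans (Subgroup.index_dvd_of_le le_sup_right))
  rw [← hmul] at hdvd
  have hcop' : Nat.Coprime (p ^ 2) (cent A B ⊔ (S : Subgroup G)).index :=
    Nat.Coprime.pow_left 2 ((Nat.Prime.coprime_iff_not_dvd hpp).mpr hcop)
  have h2 : p ^ 2 ∣ (cent A B).relIndex S := hcop'.dvd_of_dvd_mul_right hdvd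
  have hpos : 0 < (cent A B).relIndex S := by
    apply Nat.pos_of_ne_zero
    change ((cent A B).subgroupOf S).index ≠ 0
    exact Subgroup.index_ne_zero_of_finite
  have h3 := Nat.le_of_dvd hpos h2
  have h4 : p < p ^ 2 := by
    calc p = p ^ 1 := (pow_one p).symm
      _ < p ^ 2 := Nat.pow_lt_pow_right hpp.one_lt (by norm_num)
  omega

end chief

end Cfsg.Agent.Lib.Helper21.Rk
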