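import Mathlib
import Cfsg.Agent.Lib.Helper21.RkF
import Cfsg.Agent.Lib.Helper1.Cores

/-!
# Chief factors of groups with `O_{p'}(G) = 1`, `C_G(O_p(G)) ≤ O_p(G)` and `p`-rank at most two
-/

set_option autoImplicit false

namespace Cfsg.Agent.Lib.Helper21.Rk

open scoped commutatorElement

universe u

variable {G : Type u} [Group G]

/-- a `p'`-element centralising every chief factor inside the normal `p`-subgroup `P`
centralises `P` -/
theorem mem_centralizer_of_cent [Finite G] {p : ℕ} [hp : Fact p.Prime] (P : Subgroup G)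
    [hPn : P.Normal] (hP : IsPGroup p P) (g : G) (hg : (orderOf g).Coprime p)
    (hcent : ∀ A B : Subgroup G, ∀ h : IsChief A B, A ≤ P → g ∈ @cent G _ A B h.hK) :
    g ∈ Subgroup.centralizer (P : Set G) := by
  have hfin : {B : Subgroup G | B.Normal ∧ B ≤ P ∧ g ∈ Subgroup.centralizer (B : Set G)}.Finite :=
    Set.toFinite _
  have hne : {B : Subgroup G | B.Normal ∧ B ≤ P ∧
      g ∈ Subgroup.centralizer (B : Set G)}.Nonempty := by
    refine ⟨⊥, inferInstance, bot_le, ?_⟩
    rw [Subgroup.mem_centralizer_iff]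
    intro h hh
    rw [Subgroup.mem_bot.mp hh]; simp
  obtain ⟨B₀, hB₀⟩ := hfin.exists_maximal hne
  obtain ⟨⟨hB₀n, hB₀P, hB₀g⟩, hB₀max⟩ := hB₀
  by_cases hBP : B₀ = P
  · rw [← hBP]; exact hB₀g
  exfalso
  have hlt : B₀ < P := lt_of_le_of_ne hB₀P hBP
  have hfin2 : {A : Subgroup G | A.Normal ∧ B₀ < A ∧ A ≤ P}.Finite := Set.toFinite _
  have hne2 : {A : Subgroup G | A.Normal ∧ B₀ < A ∧ A ≤ P}.Nonempty := ⟨P, hPn, hlt, le_rfl⟩
  obtain ⟨A₀, hA₀⟩ := hfin2.exists_minimal hne2
  obtain ⟨⟨hA₀n, hBA, hA₀P⟩, hA₀min⟩ := hA₀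
  have hchief : IsChief A₀ B₀ := by
    refine ⟨hA₀n, hB₀n, hBA, ?_⟩
    intro L hL hBL hLA
    by_cases h : L = B₀
    · left; exact h
    · right
      have hBL' : B₀ < L := lt_of_le_of_ne hBL (Ne.symm h)
      exact le_antisymm hLA (hA₀min ⟨hL, hBL', hLA.trans hA₀P⟩ hLA)
  have hgc := hcent A₀ B₀ hchief hA₀P
  haveI := hB₀n
  rw [mem_cent] at hgc
  have hgA : g ∈ Subgroup.centralizer (A₀ : Set G) := by
    rw [Subgroup.mem_centralizer_iff]
    intro a ha
    obtain ⟨b, hb⟩ : ∃ b : G, b = ⁅g, a⁆ := ⟨_, rfl⟩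
    have hbB : b ∈ B₀ := hb ▸ hgc a ha
    have hgb : b * g = g * b := (Subgroup.mem_centralizer_iff.mp hB₀g) b hbB
    have hconj : g * a * g⁻¹ = b * a := by
      rw [hb, commutatorElement_def]; group
    have hpow : ∀ k : ℕ, g ^ k * a * (g ^ k)⁻¹ = b ^ k * a := by
      intro k
      induction k with
      | zero => simp
      | succ k ih =>
        have hgbk : g * b ^ k = b ^ k * g := by
          have : Commute b g := hgb
          exact (this.pow_left k).eq.symm
        calc g ^ (k + 1) * a * (g ^ (k + 1))⁻¹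
            = g * (g ^ k * a * (g ^ k)⁻¹) * g⁻¹ := by rw [pow_succ']; group
          _ = g * (b ^ k * a) * g⁻¹ := by rw [ih]
          _ = (g * b ^ k) * a * g⁻¹ := by group
          _ = b ^ k * (g * a * g⁻¹) := by rw [hgbk]; group
          _ = b ^ k * (b * a) := by rw [hconj]
          _ = b ^ (k + 1) * a := by rw [pow_succ]; group
    have h1 := hpow (orderOf g)
    rw [pow_orderOf_eq_one, one_mul, inv_one, mul_one] at h1
    have hbk : b ^ orderOf g = 1 := by
      have : b ^ orderOf g * a = 1 * a := by rw [one_mul]; exact h1.symm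
      exact mul_right_cancel this
    have hbp : ∃ j : ℕ, b ^ p ^ j = 1 := by
      obtain ⟨j, hj⟩ := hP ⟨b, hB₀P hbB⟩
      refine ⟨j, ?_⟩
      have := congrArg Subtype.val hj
      simpa using this
    obtain ⟨j, hj⟩ := hbp
    have hd1 : orderOf b ∣ orderOf g := orderOf_dvd_of_pow_eq_one hbk
    have hd2 : orderOf b ∣ p ^ j := orderOf_dvd_of_pow_eq_one hj
    have hob : orderOf b = 1 :=
      Nat.eq_one_of_dvd_coprimes (Nat.Coprime.pow_right j hg) hd1 hd2
    have hb1 : b = 1 := orderOf_eq_one_iff.mp hob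
    rw [hb1, one_mul] at hconj
    calc a * g = (g * a * g⁻¹) * g := by rw [hconj]
      _ = g * a := by group
  have := hB₀max ⟨hA₀n, hA₀P, hgA⟩ hBA.le
  exact absurd this (not_le_of_gt hBA)

/-- a normal subgroup not contained in `O_p(G)` moves some chief factor inside `O_p(G)` -/
theorem exists_chief_not_le_cent [Finite G] {p : ℕ} [hp : Fact p.Prime]
    (hC : Subgroup.centralizer (Cfsg.pCore p G : Set G) ≤ Cfsg.pCore p G)
    (U : Subgroup G) [hU : U.Normal] (hUP : ¬ U ≤ Cfsg.pCore p G) :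
    ∃ A B : Subgroup G, ∃ h : IsChief A B, A ≤ Cfsg.pCore p G ∧ ¬ U ≤ @cent G _ A B h.hK := by
  have hpp : p.Prime := hp.out
  by_contra hcon
  push Not at hcon
  apply hUP
  have hPp : IsPGroup p (Cfsg.pCore p G) := Cfsg.Agent.Lib.Helper1.pCore_isPGroup p
  have hone : ∀ v ∈ U, (orderOf v).Coprime p → v = 1 := by
    intro v hv hcop
    have h1 := mem_centralizer_of_cent (Cfsg.pCore p G) hPp v hcop
      (fun A B h hA => hcon A B h hA hv)
    have h2 := hC h1
    obtain ⟨j, hj⟩ := hPp ⟨v, h2⟩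
    have hj' : v ^ p ^ j = 1 := by
      have := congrArg Subtype.val hj
      simpa using this
    have hd : orderOf v ∣ p ^ j := orderOf_dvd_of_pow_eq_one hj'
    have : orderOf v = 1 :=
      Nat.eq_one_of_dvd_coprimes (Nat.Coprime.pow_right j hcop) dvd_rfl hd
    exact orderOf_eq_one_iff.mp this
  have hUp : IsPGroup p U := by
    intro u
    have hn : orderOf (u : G) ≠ 0 := (orderOf_pos (u : G)).ne'
    obtain ⟨a, m, hm, hnm⟩ := Nat.exists_eq_pow_mul_and_not_dvd hn p hpp.ne_one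
    refine ⟨a, ?_⟩
    apply Subtype.ext
    rw [Subgroup.coe_pow, Subgroup.coe_one]
    apply hone _ (U.pow_mem u.2 _)
    have h1 : orderOf ((u : G) ^ p ^ a) = m := by
      rw [orderOf_pow_of_dvd (pow_ne_zero a hpp.ne_zero) (hnm ▸ dvd_mul_right _ _), hnm,
        Nat.mul_div_cancel_left _ (pow_pos hpp.pos a)]
    rw [h1]
    exact ((Nat.Prime.coprime_iff_not_dvd hpp).mpr hm).symm
  exact Cfsg.Agent.Lib.Helper1.le_pCore hU hUp

/-- chief factors above `O_p(G)` have order not divisible by `p ^ 2` -/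
theorem not_sq_dvd_of_above [Finite G] {p : ℕ} [hp : Fact p.Prime] (hp2 : p ≠ 2)
    (hr : Cfsg.PRankLE p 2 G)
    (hC : Subgroup.centralizer (Cfsg.pCore p G : Set G) ≤ Cfsg.pCore p G) :
    ∀ n : ℕ, ∀ U : Subgroup G, U.Normal → Nat.card U = n → ∀ H K : Subgroup G, IsChief H K →
      H ≤ U → H ⊓ Cfsg.pCore p G ≤ K → ¬ p ^ 2 ∣ K.relIndex H := by
  intro n
  induction n using Nat.strong_induction_on with
  | _ n ih =>
  intro U hUn hUcard H K h hHU hle
  haveI := hUn
  have hPp : IsPGroup p (Cfsg.pCore p G) := Cfsg.Agent.Lib.Helper1.pCore_isPGroup p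
  by_cases hUP : U ≤ Cfsg.pCore p G
  · exfalso
    have : H ≤ K := (le_inf le_rfl (hHU.trans hUP)).trans hle
    exact absurd this (not_le_of_gt h.lt)
  · obtain ⟨A, B, hAB, hAP, hUC⟩ := exists_chief_not_le_cent hC U hUP
    haveI := hAB.hH
    haveI := hAB.hK
    haveI hCn : (cent A B).Normal := cent_normal A B
    rcases h.dichotomy (cent A B) with hle' | hsup
    · intro hdvd
      exact hAB.not_sq_dvd_index_cent hp2 (Cfsg.pCore p G) hPp hAP hr
        (hdvd.trans (h.above (cent A B) hle'))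
    · obtain ⟨h', hrel⟩ := h.inside (cent A B) hsup
      rw [← hrel]
      have hlt : U ⊓ cent A B < U := lt_of_le_of_ne inf_le_left (fun heq => hUC (heq ▸ inf_le_right))
      have hcard : Nat.card ↥(U ⊓ cent A B) < n := by
        rw [← hUcard]
        rcases lt_or_eq_of_le (Subgroup.card_le_of_le hlt.le) with h1 | h1
        · exact h1
        · exact absurd (Subgroup.eq_of_le_of_card_ge hlt.le h1.ge) hlt.ne
      apply ih _ hcard (U ⊓ cent A B) inferInstance rfl _ _ h' (inf_le_inf_right _ hHU)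
      intro x hx
      obtain ⟨hx1, hxP⟩ := Subgroup.mem_inf.mp hx
      obtain ⟨hxH, hxC⟩ := Subgroup.mem_inf.mp hx1
      exact Subgroup.mem_inf.mpr ⟨hle (Subgroup.mem_inf.mpr ⟨hxH, hxP⟩), hxC⟩

/-- **Chief factors in groups of `p`-rank at most two** with `C_G(O_p(G)) ≤ O_p(G)`: the order
of a chief factor is not divisible by `p ^ 3`. -/
theorem IsChief.not_cube_dvd [Finite G] {p : ℕ} [hp : Fact p.Prime] (hp2 : p ≠ 2)
    (hr : Cfsg.PRankLE p 2 G)
    (hC : Subgroup.centralizer (Cfsg.pCore p G : Set G) ≤ Cfsg.pCore p G)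
    {H K : Subgroup G} (h : IsChief H K) : ¬ p ^ 3 ∣ K.relIndex H := by
  have hpp : p.Prime := hp.out
  have hPp : IsPGroup p (Cfsg.pCore p G) := Cfsg.Agent.Lib.Helper1.pCore_isPGroup p
  rcases h.dichotomy (Cfsg.pCore p G) with hle | hsup
  · intro hdvd
    apply not_sq_dvd_of_above hp2 hr hC _ ⊤ inferInstance rfl H K h le_top hle
    exact (pow_dvd_pow p (by norm_num : 2 ≤ 3)).trans hdvd
  · obtain ⟨h', hrel⟩ := h.inside (Cfsg.pCore p G) hsup
    rw [← hrel]
    have hAp : IsPGroup p ↥(H ⊓ Cfsg.pCore p G) := hPp.to_le inf_le_right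
    have hrA := Cfsg.Agent.Lib.Helper9.ar_rank_subgroup hr (H ⊓ Cfsg.pCore p G)
    have hle := h'.relIndex_le hp2 hAp hrA
    intro hdvd
    have hpos : 0 < (K ⊓ Cfsg.pCore p G).relIndex (H ⊓ Cfsg.pCore p G) := by
      apply Nat.pos_of_ne_zero
      change ((K ⊓ Cfsg.pCore p G).subgroupOf (H ⊓ Cfsg.pCore p G)).index ≠ 0
      exact Subgroup.index_ne_zero_of_finite
    have h3 := Nat.le_of_dvd hpos hdvd
    have h4 : p ^ 2 < p ^ 3 := Nat.pow_lt_pow_right hpp.one_lt (by norm_num)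
    omega

end Cfsg.Agent.Lib.Helper21.Rk
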