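import Mathlib
import Cfsg.Agent.Lib.helper8.SylowBasic
import Cfsg.Agent.Lib.helper8.SimpleEmbed
import Cfsg.Agent.S4216

set_option autoImplicit false

/-! Project S496 (helper3), piece 756: no simple group of order `756 = 2² · 3³ · 7`
(Sylow 3-subgroups are self-normalising, no two of them meet in a subgroup of order 9, and Grün's
first theorem produces such a pair). -/

namespace Cfsg.Agent.Lib.helper3.S496

open Subgroup Cfsg.Agent.Lib.helper8
open scoped commutatorElement


theorem n756_comm_le_center (Q : Type*) [Group Q] [Finite Q] (hQ : Nat.card Q = 27) :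
    commutator Q ≤ center Q := by
  have hp : IsPGroup 3 Q := IsPGroup.of_card (n := 3) (by rw [hQ]; norm_num)
  haveI : Nontrivial Q := by
    rw [← Finite.one_lt_card_iff_nontrivial, hQ]
    norm_num
  have hZ : Nontrivial (center Q) := hp.center_nontrivial
  have hZ1 : 1 < Nat.card (center Q) := Finite.one_lt_card_iff_nontrivial.2 hZ
  have hZd : Nat.card (center Q) ∣ 27 := hQ ▸ Subgroup.card_subgroup_dvd_card (center Q)
  have hquot : Nat.card (Q ⧸ center Q) * Nat.card (center Q) = 27 := by
    rw [← hQ, mul_comm]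
    exact (Subgroup.card_eq_card_quotient_mul_card_subgroup (center Q)).symm ▸ (mul_comm _ _)
  have hcomm : ∀ a b : Q ⧸ center Q, a * b = b * a := by
    have hmem : Nat.card (center Q) ∈ Nat.divisors 27 := Nat.mem_divisors.2 ⟨hZd, by norm_num⟩
    have hdiv : Nat.divisors 27 = {1, 3, 9, 27} := by decide
    rw [hdiv] at hmem
    simp only [Finset.mem_insert, Finset.mem_singleton] at hmem
    rcases hmem with h | h | h | h
    · omega
    · rw [h] at hquot
      have h9 : Nat.card (Q ⧸ center Q) = 3 ^ 2 := by omega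
      have := IsPGroup.isMulCommutative_of_card_eq_prime_sq (p := 3) h9
      exact fun a b => this.is_comm.comm a b
    · rw [h] at hquot
      have h3 : Nat.card (Q ⧸ center Q) = 3 := by omega
      haveI : Fact (Nat.Prime 3) := ⟨Nat.prime_three⟩
      have hc : IsCyclic (Q ⧸ center Q) := isCyclic_of_prime_card h3
      exact fun a b => hc.isMulCommutative.is_comm.comm a b
    · rw [h] at hquot
      have h1 : Nat.card (Q ⧸ center Q) = 1 := by omega
      have hs : Subsingleton (Q ⧸ center Q) := (Nat.card_eq_one_iff_unique.1 h1).1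
      exact fun a b => Subsingleton.elim _ _
  letI : CommGroup (Q ⧸ center Q) := { (inferInstance : Group (Q ⧸ center Q)) with mul_comm := hcomm }
  have := Abelianization.commutator_subset_ker (QuotientGroup.mk' (center Q))
  rwa [QuotientGroup.ker_mk'] at this

section N756

variable {G : Type*} [Group G] [Finite G] [IsSimpleGroup G]

theorem n756_not_comm (hG : Nat.card G = 756) : ¬ IsMulCommutative G := by
  apply h8_not_comm_of_card
  rw [hG]
  norm_num

/-- the number of Sylow 3-subgroups is 28 -/
theorem n756_n3 (hG : Nat.card G = 756) : Nat.card (Sylow 3 G) = 28 := by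
  have hnc := n756_not_comm hG
  have hG' : Nat.card G = 3 ^ 3 * 28 := by rw [hG]; norm_num
  have hmem := h8_nsylow_mem 3 3 28 hG' (by norm_num)
  have hne1 := h8_simple_nsylow_ne_one 3 3 28 hG' (by norm_num) (by norm_num) (by norm_num)
  obtain ⟨P⟩ : Nonempty (Sylow 3 G) := inferInstance
  have hN := h8_card_normalizer_sylow 3 P
  have hidx := h8_nsylow_eq_index_normalizer 3 P
  have hNtop : normalizer ((P : Subgroup G) : Set G) ≠ ⊤ := by
    intro h
    rw [h, Subgroup.index_top] at hidx
    exact hne1 hidx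
  have hfac := h8_simple_two_mul_card_dvd_factorial hnc _ hNtop
  rw [← hidx, hG] at hfac
  have hdiv : (Nat.divisors 28).filter (fun d => d % 3 = 1) = {1, 4, 7, 28} := by decide
  rw [hdiv] at hmem
  simp only [Finset.mem_insert, Finset.mem_singleton] at hmem
  rcases hmem with h | h | h | h
  · exact absurd h hne1
  · rw [h] at hfac
    exfalso
    revert hfac
    decide
  · rw [h] at hfac
    exfalso
    revert hfac
    decide
  · exact h

theorem n756_card_sylow (hG : Nat.card G = 756) (P : Sylow 3 G) :
    Nat.card (P : Subgroup G) = 27 := by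
  have hG' : Nat.card G = 3 ^ 3 * 28 := by rw [hG]; norm_num
  have := h8_sylow_card 3 3 28 hG' (by norm_num) P
  rw [this]
  norm_num

/-- Sylow 3-subgroups are self-normalising -/
theorem n756_normalizer (hG : Nat.card G = 756) (P : Sylow 3 G) :
    normalizer ((P : Subgroup G) : Set G) = (P : Subgroup G) := by
  have hN := h8_card_normalizer_sylow 3 P
  rw [n756_n3 hG, hG] at hN
  have hN27 : Nat.card (normalizer ((P : Subgroup G) : Set G)) = 27 := by omega
  symm
  apply Subgroup.eq_of_le_of_card_ge le_normalizer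
  rw [hN27, n756_card_sylow hG P]

theorem n756_card_subgroupOf {H K : Subgroup G} (h : H ≤ K) :
    Nat.card (H.subgroupOf K) = Nat.card H :=
  Nat.card_congr (Subgroup.subgroupOfEquivOfLe h).toEquiv

theorem n756_index_mul_card {H K : Subgroup G} (h : H ≤ K) :
    (H.subgroupOf K).index * Nat.card H = Nat.card K := by
  have := (H.subgroupOf K).card_mul_index
  rw [n756_card_subgroupOf h] at this
  rw [mul_comm]
  exact this

/-- two distinct Sylow 3-subgroups do not meet in a subgroup of order 9 -/
theorem n756_meet_ne_nine (hG : Nat.card G = 756) (P R : Sylow 3 G) (hPR : P ≠ R) :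
    Nat.card ((P : Subgroup G) ⊓ (R : Subgroup G) : Subgroup G) ≠ 9 := by
  intro hD
  have hnc := n756_not_comm hG
  set D : Subgroup G := (P : Subgroup G) ⊓ (R : Subgroup G) with hDdef
  have hP27 := n756_card_sylow hG P
  have hR27 := n756_card_sylow hG R
  -- `D` is normal in `P` and in `R`
  have key : ∀ Q : Sylow 3 G, D ≤ (Q : Subgroup G) → (Q : Subgroup G) ≤ normalizer (D : Set G) := by
    intro Q hDQ
    rw [← Subgroup.normal_subgroupOf_iff_le_normalizer hDQ]
    apply Subgroup.normal_of_index_eq_minFac_card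
    have h1 := n756_index_mul_card hDQ
    rw [hD, n756_card_sylow hG Q] at h1
    have h2 : (D.subgroupOf (Q : Subgroup G)).index = 3 := by omega
    rw [h2, n756_card_sylow hG Q]
    norm_num
  have hPM := key P inf_le_left
  have hRM := key R inf_le_right
  set M : Subgroup G := normalizer (D : Set G) with hMdef
  have hMtop : M ≠ ⊤ := by
    intro h
    have hn : D.Normal := Subgroup.normalizer_eq_top_iff.1 h
    rcases hn.eq_bot_or_eq_top with h' | h'
    · rw [h', Subgroup.card_bot] at hD
      norm_num at hD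
    · rw [h', Subgroup.card_top, hG] at hD
      norm_num at hD
  have hfac := h8_simple_two_mul_card_dvd_factorial hnc M hMtop
  have hci := M.card_mul_index
  have h27 : 27 ∣ Nat.card M := hP27 ▸ Subgroup.card_dvd_of_le hPM
  rw [hG] at hci hfac
  obtain ⟨j, hj⟩ := h27
  have hidx : M.index ∣ 28 := by
    have : 27 * (j * M.index) = 27 * 28 := by rw [← mul_assoc, ← hj, hci]
    exact Dvd.intro_left j (Nat.eq_of_mul_eq_mul_left (by norm_num) this)
  have hmem : M.index ∈ Nat.divisors 28 := Nat.mem_divisors.2 ⟨hidx, by norm_num⟩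
  have hdiv : Nat.divisors 28 = {1, 2, 4, 7, 14, 28} := by decide
  rw [hdiv] at hmem
  simp only [Finset.mem_insert, Finset.mem_singleton] at hmem
  rcases hmem with h | h | h | h | h | h
  · exact hMtop (Subgroup.index_eq_one.1 h)
  · rw [h] at hfac; revert hfac; decide
  · rw [h] at hfac; revert hfac; decide
  · rw [h] at hfac; revert hfac; decide
  · -- `|M| = 54`: `P` has index 2 in `M`, so `M ≤ N(P) = P`
    rw [h] at hci
    have hM54 : Nat.card M = 54 := by omega
    have h1 := n756_index_mul_card hPM
    rw [hP27, hM54] at h1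
    have h2 : ((P : Subgroup G).subgroupOf M).index = 2 := by omega
    have hn : ((P : Subgroup G).subgroupOf M).Normal := Subgroup.normal_of_index_eq_two h2
    rw [Subgroup.normal_subgroupOf_iff_le_normalizer hPM, n756_normalizer hG P] at hn
    have := Subgroup.card_dvd_of_le hn
    rw [hM54, hP27] at this
    revert this
    decide
  · -- `|M| = 27`: `P = M = R`
    rw [h] at hci
    have hM27 : Nat.card M = 27 := by omega
    have e1 : (P : Subgroup G) = M := Subgroup.eq_of_le_of_card_ge hPM (by rw [hM27, hP27])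
    have e2 : (R : Subgroup G) = M := Subgroup.eq_of_le_of_card_ge hRM (by rw [hM27, hR27])
    exact hPR (Sylow.ext (e1.trans e2.symm))

omit [IsSimpleGroup G] in
/-- in a subgroup of order 27 commutators are central -/
theorem n756_comm_central (H : Subgroup G) (hH : Nat.card H = 27) :
    ⁅H, H⁆ ≤ centralizer (H : Set G) := by
  rw [Subgroup.commutator_le]
  intro a ha b hb
  rw [Subgroup.mem_centralizer_iff]
  intro c hc
  have h1 := n756_comm_le_center (↥H) hH
  have hmem : ⁅(⟨a, ha⟩ : H), ⟨b, hb⟩⁆ ∈ commutator H :=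
    Subgroup.commutator_mem_commutator (Subgroup.mem_top _) (Subgroup.mem_top _)
  have h2 := h1 hmem
  rw [Subgroup.mem_center_iff] at h2
  have h3 := h2 ⟨c, hc⟩
  exact congrArg Subtype.val h3

omit [IsSimpleGroup G] in
/-- a subgroup of order 27 has a non-trivial centre -/
theorem n756_center_ne_bot (H : Subgroup G) (hH : Nat.card H = 27) :
    H ⊓ centralizer (H : Set G) ≠ ⊥ := by
  have hp : IsPGroup 3 H := IsPGroup.of_card (n := 3) (by rw [hH]; norm_num)
  haveI : Nontrivial H := by
    rw [← Finite.one_lt_card_iff_nontrivial, hH]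
    norm_num
  have hZ : Nontrivial (center H) := hp.center_nontrivial
  obtain ⟨w, hw⟩ := exists_ne (1 : center H)
  intro hbot
  apply hw
  have hmem : ((w : H) : G) ∈ H ⊓ centralizer (H : Set G) := by
    rw [Subgroup.mem_inf]
    refine ⟨(w : H).2, ?_⟩
    rw [Subgroup.mem_centralizer_iff]
    intro c hc
    have := Subgroup.mem_center_iff.1 w.2 ⟨c, hc⟩
    exact congrArg Subtype.val this
  rw [hbot, Subgroup.mem_bot] at hmem
  apply Subtype.ext
  apply Subtype.ext
  exact hmem

/-- an element of `P` lying in a conjugate of `P'` is central in `P` -/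
theorem n756_fusion (hG : Nat.card G = 756) (P : Sylow 3 G) (z : G) :
    (P : Subgroup G) ⊓ (⁅(P : Subgroup G), (P : Subgroup G)⁆).map (MulAut.conj z).toMonoidHom ≤
      (P : Subgroup G) ⊓ centralizer ((P : Subgroup G) : Set G) := by
  intro y hy
  rw [Subgroup.mem_inf] at hy
  obtain ⟨hyP, hyR⟩ := hy
  rw [Subgroup.mem_inf]
  refine ⟨hyP, ?_⟩
  by_contra hcon
  rw [Subgroup.mem_centralizer_iff] at hcon
  push Not at hcon
  obtain ⟨c, hcP, hcy⟩ := hcon
  have hP27 := n756_card_sylow hG P
  -- the conjugate `R` of `P`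
  set R : Subgroup G := (P : Subgroup G).map (MulAut.conj z).toMonoidHom with hRdef
  have hR27 : Nat.card R = 27 := by
    rw [← hP27]
    exact Nat.card_congr ((P : Subgroup G).equivMapOfInjective _ (MulAut.conj z).injective).toEquiv.symm
  rw [Subgroup.map_commutator] at hyR
  have hyZR := n756_comm_central R hR27 hyR
  -- `C = C(y)` contains `R`
  set C : Subgroup G := centralizer ({y} : Set G) with hCdef
  have hRC : R ≤ C := by
    intro r hr
    rw [hCdef, Subgroup.mem_centralizer_iff]
    intro w hw
    rw [Set.mem_singleton_iff] at hw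
    subst hw
    exact ((Subgroup.mem_centralizer_iff.1 hyZR) r hr).symm
  have hyC : y ∈ C := by
    rw [hCdef, Subgroup.mem_centralizer_iff]
    intro w hw
    rw [Set.mem_singleton_iff] at hw
    rw [hw]
  have hcC : c ∉ C := by
    intro h
    rw [hCdef, Subgroup.mem_centralizer_iff] at h
    exact hcy (h y rfl).symm
  -- `A = C_P(y)` has order 9
  set A : Subgroup G := (P : Subgroup G) ⊓ C with hAdef
  set Z : Subgroup G := (P : Subgroup G) ⊓ centralizer ((P : Subgroup G) : Set G) with hZdef
  have hZA : Z ≤ A := by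
    intro w hw
    have hw' := Subgroup.mem_inf.1 hw
    rw [hAdef, Subgroup.mem_inf]
    refine ⟨hw'.1, ?_⟩
    rw [hCdef, Subgroup.mem_centralizer_iff]
    intro v hv
    rw [Set.mem_singleton_iff] at hv
    subst hv
    exact ((Subgroup.mem_centralizer_iff.1 hw'.2) v hyP)
  have hyA : y ∈ A := Subgroup.mem_inf.2 ⟨hyP, hyC⟩
  have hyZ : y ∉ Z := by
    intro h
    exact hcy ((Subgroup.mem_centralizer_iff.1 (Subgroup.mem_inf.1 h).2) c hcP)
  have hZne : Z ≠ ⊥ := n756_center_ne_bot (P : Subgroup G) hP27
  have hA9 : Nat.card A = 9 := by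
    have hAd : Nat.card A ∣ 27 := hP27 ▸ Subgroup.card_dvd_of_le (inf_le_left : A ≤ (P : Subgroup G))
    have hZd : Nat.card Z ∣ Nat.card A := Subgroup.card_dvd_of_le hZA
    have hZ1 : Nat.card Z ≠ 1 := by
      intro h
      exact hZne (Subgroup.card_eq_one.1 h)
    have hZneA : Nat.card Z ≠ Nat.card A := by
      intro h
      have := Subgroup.eq_of_le_of_card_ge hZA (le_of_eq h.symm)
      exact hyZ (this ▸ hyA)
    have hA27 : Nat.card A ≠ 27 := by
      intro h
      have : A = (P : Subgroup G) := Subgroup.eq_of_le_of_card_ge inf_le_left (by rw [h, hP27])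
      exact hcC ((Subgroup.mem_inf.1 (this ▸ hcP : c ∈ A)).2)
    have hmem : Nat.card A ∈ Nat.divisors 27 := Nat.mem_divisors.2 ⟨hAd, by norm_num⟩
    have hdiv : Nat.divisors 27 = {1, 3, 9, 27} := by decide
    rw [hdiv] at hmem
    simp only [Finset.mem_insert, Finset.mem_singleton] at hmem
    rcases hmem with h | h | h | h
    · rw [h] at hZd
      exact absurd (Nat.dvd_one.1 hZd) hZ1
    · rw [h] at hZd hZneA
      rcases (Nat.dvd_prime Nat.prime_three).1 hZd with h' | h'
      · exact absurd h' hZ1
      · exact absurd h' hZneA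
    · exact h
    · exact absurd h hA27
  -- a Sylow 3-subgroup of `C` containing `A`
  have h27C : 27 ∣ Nat.card C := hR27 ▸ Subgroup.card_dvd_of_le hRC
  have hCG : Nat.card C ∣ 756 := hG ▸ Subgroup.card_subgroup_dvd_card C
  have hfacC : (Nat.card C).factorization 3 = 3 := by
    obtain ⟨j, hj⟩ := h27C
    have hj28 : j ∣ 28 := by
      obtain ⟨k, hk⟩ := hCG
      rw [hj] at hk
      have : 27 * (j * k) = 27 * 28 := by rw [← mul_assoc, ← hk]
      exact ⟨k, (Nat.eq_of_mul_eq_mul_left (by norm_num) this).symm⟩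
    have h3j : ¬ 3 ∣ j := by
      intro h
      have := dvd_trans h hj28
      revert this
      decide
    exact h8_factorization_of_eq 3 3 j _ Nat.prime_three (by rw [hj]; norm_num) h3j
  have hAC : A ≤ C := inf_le_right
  have hpA : IsPGroup 3 (A.subgroupOf C) := by
    apply IsPGroup.of_card (n := 2)
    rw [n756_card_subgroupOf hAC, hA9]
    norm_num
  obtain ⟨Q, hQ⟩ := hpA.exists_le_sylow
  have hQcard : Nat.card (Q : Subgroup C) = 27 := by
    rw [Q.card_eq_multiplicity, hfacC]
    norm_num
  set R2 : Subgroup G := (Q : Subgroup C).map C.subtype with hR2def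
  have hR2card : Nat.card R2 = 27 := by
    rw [← hQcard]
    exact Nat.card_congr ((Q : Subgroup C).equivMapOfInjective _ C.subtype_injective).toEquiv.symm
  have hR2C : R2 ≤ C := by
    rw [hR2def]
    exact Subgroup.map_subtype_le _
  have hAR2 : A ≤ R2 := by
    intro a ha
    rw [hR2def, Subgroup.mem_map]
    refine ⟨⟨a, hAC ha⟩, ?_, rfl⟩
    apply hQ
    rw [Subgroup.mem_subgroupOf]
    exact ha
  have hfacG : (Nat.card G).factorization 3 = 3 :=
    h8_factorization_of_eq 3 3 28 _ Nat.prime_three (by rw [hG]; norm_num) (by norm_num)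
  have hcardS : Nat.card R2 = 3 ^ (Nat.card G).factorization 3 := by
    rw [hR2card, hfacG]
    norm_num
  let S2 : Sylow 3 G := Sylow.ofCard R2 hcardS
  have hS2 : (S2 : Subgroup G) = R2 := rfl
  have hPS2 : P ≠ S2 := by
    intro h
    have : (P : Subgroup G) = R2 := by rw [h, hS2]
    exact hcC (hR2C (this ▸ hcP))
  apply n756_meet_ne_nine hG P S2 hPS2
  rw [hS2]
  have hle : A ≤ (P : Subgroup G) ⊓ R2 := le_inf inf_le_left hAR2
  have hd1 : 9 ∣ Nat.card ((P : Subgroup G) ⊓ R2 : Subgroup G) := hA9 ▸ Subgroup.card_dvd_of_le hle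
  have hd2 : Nat.card ((P : Subgroup G) ⊓ R2 : Subgroup G) ∣ 27 :=
    hP27 ▸ Subgroup.card_dvd_of_le (inf_le_left : (P : Subgroup G) ⊓ R2 ≤ (P : Subgroup G))
  have hne : Nat.card ((P : Subgroup G) ⊓ R2 : Subgroup G) ≠ 27 := by
    intro h
    have e1 : (P : Subgroup G) ⊓ R2 = (P : Subgroup G) :=
      Subgroup.eq_of_le_of_card_ge inf_le_left (by rw [h, hP27])
    have e2 : (P : Subgroup G) ≤ R2 := by
      rw [← e1]
      exact inf_le_right
    have e3 : (P : Subgroup G) = R2 := Subgroup.eq_of_le_of_card_ge e2 (by rw [hR2card, hP27])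
    exact hPS2 (Sylow.ext e3)
  have hmem : Nat.card ((P : Subgroup G) ⊓ R2 : Subgroup G) ∈ Nat.divisors 27 :=
    Nat.mem_divisors.2 ⟨hd2, by norm_num⟩
  have hdiv : Nat.divisors 27 = {1, 3, 9, 27} := by decide
  rw [hdiv] at hmem
  simp only [Finset.mem_insert, Finset.mem_singleton] at hmem
  rcases hmem with h | h | h | h
  · rw [h] at hd1; exfalso; revert hd1; decide
  · rw [h] at hd1; exfalso; revert hd1; decide
  · exact h
  · exact absurd h hne

theorem no_simple_756 {G : Type*} [Group G] [Finite G] [IsSimpleGroup G]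
    (hG : Nat.card G = 756) : False := by
  have hnc := n756_not_comm hG
  obtain ⟨P⟩ : Nonempty (Sylow 3 G) := inferInstance
  have hP27 := n756_card_sylow hG P
  have hperf : commutator G = ⊤ := by
    rcases (inferInstance : (commutator G).Normal).eq_bot_or_eq_top with h | h
    · exfalso
      apply hnc
      rw [commutator_eq_bot_iff_center_eq_top] at h
      exact ⟨⟨fun a b => (Subgroup.mem_center_iff.1 (h ▸ Subgroup.mem_top b : b ∈ center G) a)⟩⟩
    · exact h
  have hgrun := Cfsg.Agent.S4216.result P
  rw [hperf, inf_top_eq, n756_normalizer hG P] at hgrun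
  set Z : Subgroup G := (P : Subgroup G) ⊓ centralizer ((P : Subgroup G) : Set G) with hZdef
  have h1 : (P : Subgroup G) ⊓ ⁅(P : Subgroup G), (P : Subgroup G)⁆ ≤ Z :=
    le_inf inf_le_left (le_trans inf_le_right (n756_comm_central (P : Subgroup G) hP27))
  have h2 : (⨆ z : G, (P : Subgroup G) ⊓
      (⁅(P : Subgroup G), (P : Subgroup G)⁆).map (MulAut.conj z).toMonoidHom) ≤ Z :=
    iSup_le (fun z => n756_fusion hG P z)
  have hPZ : (P : Subgroup G) ≤ Z := by
    rw [hgrun]
    exact sup_le h1 h2
  -- so `P` is abelian and `P' = 1`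
  have hcomm : ⁅(P : Subgroup G), (P : Subgroup G)⁆ = ⊥ := by
    rw [Subgroup.commutator_eq_bot_iff_le_centralizer]
    exact le_trans hPZ inf_le_right
  rw [hcomm] at hgrun
  simp only [Subgroup.map_bot, inf_bot_eq, iSup_bot, sup_bot_eq] at hgrun
  rw [hgrun, Subgroup.card_bot] at hP27
  norm_num at hP27

end N756

end Cfsg.Agent.Lib.helper3.S496
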