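import Mathlib
import Cfsg.Agent.Lib.helper3.S5953.Defs
import Cfsg.Agent.Lib.Lead.HermCount
import Cfsg.Agent.Lib.helper6.HermIsoCount
import Cfsg.Prelude.Def_LieClassical

/-!
# S5953 row C1 (helper21): `ti_count`, the number of totally isotropic `m`-spaces of the standard hermitian space
-/

set_option autoImplicit false

namespace Cfsg.Agent.Lib.helper3.S5953

open Polynomial Module

/-- the span of an isotropic frame, as a point of `HTIm` -/
noncomputable def s5953c1_spanMap {F : Type*} [Field F] [Fintype F] (σ : F →+* F) {q : ℕ} (hσ : ∀ x, σ x = x ^ q)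
    (n m : ℕ) (f : ↥(Cfsg.Agent.Lib.helper6.HF.IsoFr n F q m)) : HTIm n m F q :=
  ⟨Submodule.span F (Set.range f.1), by
    rw [finrank_span_eq_card f.2.1, Fintype.card_fin],
    fun u hu v hv => Cfsg.Agent.Lib.helper6.HF.iso_span σ hσ f.1 f.2.2 u hu v hv⟩

/-- the fibre of the span map over `W` is the set of frames (bases) of `W` -/
noncomputable def s5953c1_fibreEquiv {F : Type*} [Field F] [Fintype F] (σ : F →+* F) {q : ℕ} (hσ : ∀ x, σ x = x ^ q)
    (n m : ℕ) (W : HTIm n m F q) :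
    {f : ↥(Cfsg.Agent.Lib.helper6.HF.IsoFr n F q m) // s5953c1_spanMap σ hσ n m f = W} ≃
      ↥({f : Fin m → (Fin n → F) |
        LinearIndependent F f ∧ Submodule.span F (Set.range f) = W.1}) where
  toFun f := ⟨f.1.1, f.1.2.1, congrArg Subtype.val f.2⟩
  invFun f := ⟨⟨f.1, f.2.1, fun i j => W.2.2 _ ((le_of_eq f.2.2) (Submodule.subset_span ⟨i, rfl⟩))
      _ ((le_of_eq f.2.2) (Submodule.subset_span ⟨j, rfl⟩))⟩, Subtype.ext f.2.2⟩
  left_inv _ := rfl
  right_inv _ := rfl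

/-- the number of isotropic frames is `#Ω_m` times the number of bases of an `m`-space -/
theorem s5953c1_card_IsoFr {F : Type*} [Field F] [Fintype F] {q : ℕ} (hF : Fintype.card F = q ^ 2)
    (n m : ℕ) :
    (Cfsg.Agent.Lib.helper6.HF.IsoFr n F q m).ncard =
      Nat.card (HTIm n m F q) * ∏ i : Fin m, (Fintype.card F ^ m - Fintype.card F ^ (i : ℕ)) := by
  classical
  obtain ⟨σ, hσ⟩ := Cfsg.Agent.Lib.Lead.exists_frob hF
  have hfin : Finite (HTIm n m F q) := inferInstance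
  let _ : Fintype (HTIm n m F q) := Fintype.ofFinite _
  rw [← Nat.card_coe_set_eq,
    Nat.card_congr (Equiv.sigmaFiberEquiv (s5953c1_spanMap (F := F) σ hσ n m)).symm, Nat.card_sigma]
  have : ∀ W : HTIm n m F q,
      Nat.card {f : ↥(Cfsg.Agent.Lib.helper6.HF.IsoFr n F q m) // s5953c1_spanMap σ hσ n m f = W} =
        ∏ i : Fin m, (Fintype.card F ^ m - Fintype.card F ^ (i : ℕ)) := by
    intro W
    rw [Nat.card_congr (s5953c1_fibreEquiv σ hσ n m W), Nat.card_coe_set_eq,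
      Cfsg.Agent.Lib.helper6.HF.card_frames W.1 W.2.1]
  simp only [this]
  rw [Finset.sum_const, smul_eq_mul, Finset.card_univ, ← Nat.card_eq_fintype_card]

/-- C1 [L] TICOUNT: `#Ω_m · |GL_m(q²)| = #IsoFr(m)`. -/
theorem ti_count {F : Type*} [Field F] [Fintype F] {q : ℕ} (hF : Fintype.card F = q ^ 2)
    (n m : ℕ) (hm : 2 * m ≤ n) :
    Nat.card (HTIm n m F q) * ∏ j ∈ Finset.range m, ((q ^ 2) ^ m - (q ^ 2) ^ j) =
      ∏ j ∈ Finset.range m,
        (q ^ (2 * j) * (Cfsg.Agent.Lib.Lead.hermAB q (n - 2 * j)).1 - q ^ (2 * j)) := by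
  classical
  rw [← Cfsg.Agent.Lib.helper6.HF.card_IsoFr hF m hm, s5953c1_card_IsoFr hF n m, hF,
    Fin.prod_univ_eq_prod_range (fun j => (q ^ 2) ^ m - (q ^ 2) ^ j) m]

end Cfsg.Agent.Lib.helper3.S5953
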