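import Mathlib
import Cfsg.Agent.Lib.Helper21.S5953C1

/-!
# S5953 row C2 (helper21): `ti_count_dvd`, the prime divisors of the number of totally isotropic `m`-spaces
-/

set_option autoImplicit false
set_option linter.unusedVariables false

namespace Cfsg.Agent.Lib.helper3.S5953

open Polynomial Module

/-- `A_d ≥ 1` -/
theorem s5953c2_A_pos (q : ℕ) (d : ℕ) : 1 ≤ (Cfsg.Agent.Lib.Lead.hermAB q d).1 := by
  induction d with
  | zero => simp [Cfsg.Agent.Lib.Lead.hermAB]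
  | succ d ih =>
    simp only [Cfsg.Agent.Lib.Lead.hermAB]
    omega

/-- `A_d - 1 = (q^d - (-1)^d)(q^(d-1) + (-1)^d)` -/
theorem s5953c2_A_sub_one (q : ℕ) (hq : 2 ≤ q) (d : ℕ) (hd : 1 ≤ d) :
    (((Cfsg.Agent.Lib.Lead.hermAB q d).1 : ℤ) - 1) =
      ((q : ℤ) ^ d - (-1) ^ d) * ((q : ℤ) ^ (d - 1) + (-1) ^ d) := by
  obtain ⟨H1, -⟩ := Cfsg.Agent.Lib.Lead.hermAB_closed q hq d
  have hq0 : (q : ℤ) ≠ 0 := by
    have : (0 : ℤ) < (q : ℤ) := by exact_mod_cast (by omega : 0 < q)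
    exact this.ne'
  apply mul_left_cancel₀ hq0
  obtain ⟨e, rfl⟩ : ∃ e, d = e + 1 := ⟨d - 1, by omega⟩
  simp only [Nat.add_sub_cancel]
  have hs : ((-1 : ℤ) ^ (e + 1)) ^ 2 = 1 := by
    rw [← pow_mul, mul_comm, pow_mul]; simp
  rw [mul_sub, H1]
  linear_combination (q : ℤ) * hs

/-- the cancelled count: `#Ω_m · ∏ (q^(2(m-j)) - 1) = ∏ (A_(n-2j) - 1)` -/
theorem s5953c2_cancel {F : Type*} [Field F] [Fintype F] {q : ℕ} (hF : Fintype.card F = q ^ 2)
    (n m : ℕ) (hm : 2 * m ≤ n) :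
    Nat.card (HTIm n m F q) * ∏ j ∈ Finset.range m, (q ^ (2 * (m - j)) - 1) =
      ∏ j ∈ Finset.range m, ((Cfsg.Agent.Lib.Lead.hermAB q (n - 2 * j)).1 - 1) := by
  have hq : 0 < q := by
    rcases Nat.eq_zero_or_pos q with h | h
    · subst h
      have := Fintype.card_pos (α := F)
      rw [hF] at this
      simp at this
    · exact h
  have h1 := ti_count hF n m hm
  have e1 : ∏ j ∈ Finset.range m, ((q ^ 2) ^ m - (q ^ 2) ^ j) =
      (∏ j ∈ Finset.range m, q ^ (2 * j)) * ∏ j ∈ Finset.range m, (q ^ (2 * (m - j)) - 1) := by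
    rw [← Finset.prod_mul_distrib]
    refine Finset.prod_congr rfl fun j hj => ?_
    have hj' : j < m := Finset.mem_range.mp hj
    rw [Nat.mul_sub_one, ← pow_add, ← pow_mul, ← pow_mul]
    congr 2
    omega
  have e2 : ∏ j ∈ Finset.range m,
        (q ^ (2 * j) * (Cfsg.Agent.Lib.Lead.hermAB q (n - 2 * j)).1 - q ^ (2 * j)) =
      (∏ j ∈ Finset.range m, q ^ (2 * j)) *
        ∏ j ∈ Finset.range m, ((Cfsg.Agent.Lib.Lead.hermAB q (n - 2 * j)).1 - 1) := by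
    rw [← Finset.prod_mul_distrib]
    refine Finset.prod_congr rfl fun j _ => ?_
    rw [Nat.mul_sub_one]
  rw [e1, e2] at h1
  have hP : 0 < ∏ j ∈ Finset.range m, q ^ (2 * j) :=
    Finset.prod_pos fun j _ => pow_pos hq _
  apply Nat.eq_of_mul_eq_mul_left hP
  rw [← h1]
  ring

/-- C2 [M] TIDVD: a prime divisor `r` of `#Ω_m` is not `p` and divides `q^a - (-1)^a` for some
`n - 2m < a ≤ n`. -/
theorem ti_count_dvd {F : Type*} [Field F] [Fintype F] {p : ℕ} [Fact p.Prime] [CharP F p] {q : ℕ}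
    (hF : Fintype.card F = q ^ 2) (n m : ℕ) (hm1 : 1 ≤ m) (hm : 2 * m ≤ n) (r : ℕ) [Fact r.Prime]
    (hr : r ∣ Nat.card (HTIm n m F q)) :
    r ≠ p ∧ ∃ a : ℕ, n < a + 2 * m ∧ a ≤ n ∧ 1 ≤ a ∧ (-(q : ZMod r)) ^ a = 1 := by
  have hrp : r.Prime := Fact.out
  have hq2 : 2 ≤ q := by
    have := Fintype.one_lt_card (α := F)
    rw [hF] at this
    by_contra h
    have : q ≤ 1 := by omega
    interval_cases q <;> simp at *
  -- `p ∣ q`
  have hpq : p ∣ q := by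
    have h0 : ((Fintype.card F : ℕ) : F) = 0 := Nat.cast_card_eq_zero F
    rw [hF, Nat.cast_pow] at h0
    have h1 : ((q : ℕ) : F) = 0 := pow_eq_zero_iff (by norm_num) |>.mp h0
    exact (CharP.cast_eq_zero_iff F p q).mp h1
  have hc := s5953c2_cancel hF n m hm
  have hdvd : r ∣ ∏ j ∈ Finset.range m, ((Cfsg.Agent.Lib.Lead.hermAB q (n - 2 * j)).1 - 1) := by
    rw [← hc]
    exact Dvd.dvd.mul_right hr _
  obtain ⟨j, hj, hrj⟩ := (Prime.dvd_finsetProd_iff hrp.prime _).mp hdvd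
  have hj' : j < m := Finset.mem_range.mp hj
  set d := n - 2 * j with hd
  have hd2 : 2 ≤ d := by omega
  -- in `ℤ`
  have hA := s5953c2_A_sub_one q hq2 d (by omega)
  have hApos := s5953c2_A_pos q d
  have hcast : (((Cfsg.Agent.Lib.Lead.hermAB q d).1 - 1 : ℕ) : ℤ) =
      ((q : ℤ) ^ d - (-1) ^ d) * ((q : ℤ) ^ (d - 1) + (-1) ^ d) := by
    rw [Nat.cast_sub hApos, Nat.cast_one, hA]
  -- in `ZMod r`
  have hz : (((q : ZMod r)) ^ d - (-1) ^ d) * ((q : ZMod r) ^ (d - 1) + (-1) ^ d) = 0 := by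
    have h0 : (((Cfsg.Agent.Lib.Lead.hermAB q d).1 - 1 : ℕ) : ZMod r) = 0 :=
      (ZMod.natCast_eq_zero_iff _ _).mpr hrj
    have h1 : ((((Cfsg.Agent.Lib.Lead.hermAB q d).1 - 1 : ℕ) : ℤ) : ZMod r) = 0 := by
      rw [Int.cast_natCast]; exact h0
    rw [hcast] at h1
    push_cast at h1
    exact h1
  have key : ∃ a : ℕ, n < a + 2 * m ∧ a ≤ n ∧ 1 ≤ a ∧ (-(q : ZMod r)) ^ a = 1 := by
    rcases mul_eq_zero.mp hz with h | h
    · refine ⟨d, by omega, by omega, by omega, ?_⟩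
      have h' : (q : ZMod r) ^ d = (-1) ^ d := sub_eq_zero.mp h
      rw [neg_pow, h', ← mul_pow]
      simp
    · refine ⟨d - 1, by omega, by omega, by omega, ?_⟩
      have h' : (q : ZMod r) ^ (d - 1) = -(-1) ^ d := eq_neg_of_add_eq_zero_left h
      have hdd : d = (d - 1) + 1 := by omega
      rw [neg_pow, h']
      rw [hdd, Nat.add_sub_cancel, pow_succ]
      have : ((-1 : ZMod r) ^ (d - 1)) * ((-1 : ZMod r) ^ (d - 1)) = 1 := by
        rw [← mul_pow]; simp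
      linear_combination this
  refine ⟨?_, key⟩
  -- `r ≠ p`
  rintro rfl
  have hq0 : (q : ZMod r) = 0 := (ZMod.natCast_eq_zero_iff _ _).mpr hpq
  rw [hq0, zero_pow (by omega : d ≠ 0), zero_pow (by omega : d - 1 ≠ 0)] at hz
  have hu : IsUnit ((-1 : ZMod r) ^ d) := (isUnit_one.neg).pow d
  have : (0 - (-1 : ZMod r) ^ d) * (0 + (-1) ^ d) = -(((-1 : ZMod r) ^ d) * ((-1 : ZMod r) ^ d)) := by ring
  rw [this, neg_eq_zero] at hz
  exact (hu.mul hu).ne_zero hz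

end Cfsg.Agent.Lib.helper3.S5953
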