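import Mathlib
import Cfsg.Agent.Lib.helper3.S5953.Defs
import Cfsg.Agent.Lib.Helper20.S5953T1
import Cfsg.Agent.Lib.Lead.Unitary

/-!
# S5953 row NS7 (helper21), core: a non-split isometry has t.i. invariant subspaces of every dimension
`m` divisible by `r` with `2 m ≤ n`.  The rows T11 (`genline`), T6 (`peel_ti`), NS2 (`ns_dvd`) enter as hypotheses.
-/

set_option autoImplicit false
set_option linter.unusedVariables false

namespace Cfsg.Agent.Lib.helper3.S5953

open Polynomial Module

/-- right additivity of the form (`|F| = q²`) -/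
theorem s5953ns7_add_right {F : Type*} [Field F] [Fintype F] {q : ℕ} (hF : Fintype.card F = q ^ 2)
    {ι : Type*} [Fintype ι] (u v v' : ι → F) :
    hermI ι F q u (v + v') = hermI ι F q u v + hermI ι F q u v' := by
  obtain ⟨σ, hσ⟩ := Cfsg.Agent.Lib.Lead.exists_frob hF
  simp only [hermI, Pi.add_apply]
  rw [← Finset.sum_add_distrib]
  refine Finset.sum_congr rfl fun i _ => ?_
  rw [← hσ, ← hσ, ← hσ, map_add]
  ring

/-- the form vanishes on the sum of two orthogonal t.i. subspaces -/
theorem s5953ns7_ti_sup {F : Type*} [Field F] [Fintype F] {q : ℕ} (hF : Fintype.card F = q ^ 2)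
    {ι : Type*} [Fintype ι] (U W : Submodule F (ι → F)) (hU : HTI q U) (hW : HTI q W)
    (hUW : ∀ u ∈ U, ∀ w ∈ W, hermI ι F q u w = 0) : HTI q (U ⊔ W) := by
  intro a ha b hb
  obtain ⟨u, hu, w, hw, rfl⟩ := Submodule.mem_sup.mp ha
  obtain ⟨u', hu', w', hw', rfl⟩ := Submodule.mem_sup.mp hb
  have h1 : hermI ι F q w u' = 0 := by
    rw [hermI_conj hF u' w, hUW u' hu' w hw, zero_pow]
    rintro rfl
    have := Fintype.card_pos (α := F)
    rw [hF] at this
    simp at this
  rw [s5953ns7_add_right hF, hermI_add_left, hermI_add_left, hU u hu u' hu', hUW u hu w' hw', h1,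
    hW w hw w' hw']
  simp

/-- the cyclic submodule of `v` for `x ^ r = z • 1` -/
noncomputable def s5953ns7_cyc {F : Type*} [Field F] {V : Type*} [AddCommGroup V] [Module F V]
    (r : ℕ) (x : Module.End F V) (v : V) : Submodule F V :=
  Submodule.span F (Set.range fun a : Fin r => (x ^ (a : ℕ)) v)

theorem s5953ns7_cyc_inv {F : Type*} [Field F] {V : Type*} [AddCommGroup V] [Module F V]
    (r : ℕ) (hr : 0 < r) (z : F) (x : Module.End F V) (hx : x ^ r = z • 1) (v : V) :
    HInv x (s5953ns7_cyc r x v) := by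
  intro w hw
  induction hw using Submodule.span_induction with
  | mem w hw =>
    obtain ⟨a, rfl⟩ := hw
    by_cases ha : (a : ℕ) + 1 < r
    · have : x ((x ^ (a : ℕ)) v) = (x ^ ((⟨(a : ℕ) + 1, ha⟩ : Fin r) : ℕ)) v := by
        show x ((x ^ (a : ℕ)) v) = (x ^ ((a : ℕ) + 1)) v
        rw [pow_succ']; rfl
      rw [this]
      exact Submodule.subset_span ⟨_, rfl⟩
    · have har : (a : ℕ) + 1 = r := by have := a.2; omega
      have : x ((x ^ (a : ℕ)) v) = z • (x ^ ((⟨0, hr⟩ : Fin r) : ℕ)) v := by
        show x ((x ^ (a : ℕ)) v) = z • (x ^ 0) v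
        rw [pow_zero, Module.End.one_apply]
        have h1 : x ((x ^ (a : ℕ)) v) = (x ^ ((a : ℕ) + 1)) v := by rw [pow_succ']; rfl
        rw [h1, har, hx]
        simp
      rw [this]
      exact Submodule.smul_mem _ _ (Submodule.subset_span ⟨_, rfl⟩)
  | zero => rw [map_zero]; exact Submodule.zero_mem _
  | add a b _ _ ha hb => rw [map_add]; exact Submodule.add_mem _ ha hb
  | smul c a _ ha => rw [map_smul]; exact Submodule.smul_mem _ c ha

theorem s5953ns7_cyc_mem {F : Type*} [Field F] {V : Type*} [AddCommGroup V] [Module F V]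
    (r : ℕ) (hr : 0 < r) (x : Module.End F V) (v : V) : v ∈ s5953ns7_cyc r x v := by
  have : v = (x ^ ((⟨0, hr⟩ : Fin r) : ℕ)) v := by
    show v = (x ^ 0) v
    rw [pow_zero, Module.End.one_apply]
  rw [this]
  exact Submodule.subset_span ⟨⟨0, hr⟩, by simp⟩

theorem s5953ns7_cyc_finrank_le {F : Type*} [Field F] {V : Type*} [AddCommGroup V] [Module F V]
    (r : ℕ) (x : Module.End F V) (v : V) : finrank F (s5953ns7_cyc r x v) ≤ r := by
  have := finrank_range_le_card (R := F) (fun a : Fin r => (x ^ (a : ℕ)) v)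
  rwa [Fintype.card_fin] at this

theorem s5953ns7_cyc_ti {F : Type*} [Field F] [Fintype F] {q : ℕ} (hF : Fintype.card F = q ^ 2)
    {ι : Type*} [Fintype ι] (r : ℕ) (x : Module.End F (ι → F)) (v : ι → F)
    (hv : ∀ a b : ℕ, hermI ι F q ((x ^ a) v) ((x ^ b) v) = 0) : HTI q (s5953ns7_cyc r x v) := by
  have hq : q ≠ 0 := by
    rintro rfl
    have := Fintype.card_pos (α := F)
    rw [hF] at this
    simp at this
  -- step 1
  have s1 : ∀ u ∈ s5953ns7_cyc r x v, ∀ b : ℕ, hermI ι F q u ((x ^ b) v) = 0 := by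
    intro u hu b
    induction hu using Submodule.span_induction with
    | mem w hw => obtain ⟨a, rfl⟩ := hw; exact hv _ _
    | zero => exact hermI_zero_left q _
    | add a c _ _ ha hc => rw [hermI_add_left, ha, hc, add_zero]
    | smul c a _ ha => rw [hermI_smul_left, ha, mul_zero]
  -- step 2
  have s2 : ∀ b : ℕ, ∀ u ∈ s5953ns7_cyc r x v, hermI ι F q ((x ^ b) v) u = 0 := by
    intro b u hu
    rw [hermI_conj hF u _, s1 u hu b, zero_pow hq]
  intro w hw u hu
  induction hw using Submodule.span_induction with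
  | mem w hw => obtain ⟨a, rfl⟩ := hw; exact s2 _ u hu
  | zero => exact hermI_zero_left q _
  | add a c _ _ ha hc => rw [hermI_add_left, ha, hc, add_zero]
  | smul c a _ ha => rw [hermI_smul_left, ha, mul_zero]

/-- NS7 core -/
theorem s5953ns7_core {F : Type*} [Field F] [Fintype F] {q n : ℕ}
    (hF : Fintype.card F = q ^ 2) (r : ℕ) [Fact r.Prime] (hr2 : r ≠ 2) {z : F}
    (hz : ∀ a : F, a ^ r ≠ z) {x : Module.End F (Fin n → F)} (h : HCtx q r z x)
    (hGEN : ∀ M : Submodule F (Fin n → F), HInv x M → ∀ f : F[X], Irreducible f →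
      Odd f.natDegree → (∀ u ∈ M, aeval x f u = 0) → 2 * f.natDegree ≤ finrank F M →
      ∃ v ∈ M, v ≠ 0 ∧ ∀ a b : ℕ, hermI (Fin n) F q ((x ^ a) v) ((x ^ b) v) = 0)
    (hPEEL : ∀ N U : Submodule F (Fin n → F), HInv x N → HND q N → U ≤ N → HInv x U → HTI q U →
      ∃ N' : Submodule F (Fin n → F), N' ≤ N ∧ HInv x N' ∧ HND q N' ∧ HOrth q U N' ∧ Disjoint U N' ∧
        finrank F N' + 2 * finrank F U = finrank F N)
    (hDVD : ∀ W : Submodule F (Fin n → F), HInv x W → r ∣ finrank F W)
    (m : ℕ) (hrm : r ∣ m) (hmn : 2 * m ≤ n) : HTId q x m := by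
  have hrp : r.Prime := Fact.out
  have hr0 : 0 < r := hrp.pos
  have hq : q ≠ 0 := by
    rintro rfl
    have := Fintype.card_pos (α := F)
    rw [hF] at this
    simp at this
  -- the irreducible polynomial
  have hirr : Irreducible (X ^ r - C z : F[X]) := X_pow_sub_C_irreducible_of_prime hrp hz
  have hdeg : (X ^ r - C z : F[X]).natDegree = r := natDegree_X_pow_sub_C
  have hodd : Odd (X ^ r - C z : F[X]).natDegree := by
    rw [hdeg]; exact hrp.odd_of_ne_two hr2
  have hkill : ∀ u : Fin n → F, aeval x (X ^ r - C z : F[X]) u = 0 := by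
    intro u
    rw [map_sub, map_pow, aeval_X, aeval_C, h.pow]
    simp [Algebra.algebraMap_eq_smul_one]
  -- the induction
  have key : ∀ k : ℕ, ∀ N : Submodule F (Fin n → F), HInv x N → HND q N → 2 * (k * r) ≤ finrank F N →
      ∃ W : Submodule F (Fin n → F), W ≤ N ∧ HInv x W ∧ HTI q W ∧ finrank F W = k * r := by
    intro k
    induction k with
    | zero =>
      intro N _ _ _
      refine ⟨⊥, bot_le, Cfsg.Agent.Lib.Helper24.el_inv_bot x, ?_, by simp⟩
      intro u hu v _
      rw [(Submodule.mem_bot F).mp hu]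
      exact hermI_zero_left q v
    | succ k ih =>
      intro N hN hNnd hdim
      have hdim2 : 2 * (X ^ r - C z : F[X]).natDegree ≤ finrank F N := by
        rw [hdeg]; nlinarith
      obtain ⟨v, hvN, hv0, hv⟩ := hGEN N hN _ hirr hodd (fun u _ => hkill u) hdim2
      set U := s5953ns7_cyc r x v with hU
      have hUinv : HInv x U := s5953ns7_cyc_inv r hr0 z x h.pow v
      have hUti : HTI q U := s5953ns7_cyc_ti hF r x v hv
      have hvU : v ∈ U := s5953ns7_cyc_mem r hr0 x v
      have hUN : U ≤ N := by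
        apply Submodule.span_le.mpr
        rintro _ ⟨a, rfl⟩
        exact Cfsg.Agent.Lib.Helper24.el_pow_mem hN _ hvN
      have hUdim : finrank F U = r := by
        have h1 : finrank F U ≤ r := s5953ns7_cyc_finrank_le (F := F) r x v
        have h2 := hDVD U hUinv
        have h3 : 0 < finrank F U := by
          apply Nat.pos_of_ne_zero
          intro h0
          have : U = ⊥ := Submodule.finrank_eq_zero.mp h0
          rw [this] at hvU
          exact hv0 ((Submodule.mem_bot F).mp hvU)
        obtain ⟨t, ht⟩ := h2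
        have : t = 1 := by
          rcases Nat.lt_or_ge t 1 with h4 | h4
          · have : t = 0 := by omega
            subst this; omega
          · rcases Nat.lt_or_ge 1 t with h5 | h5
            · have : r * 2 ≤ r * t := Nat.mul_le_mul_left r h5
              omega
            · omega
        rw [ht, this, mul_one]
      obtain ⟨N', hN'N, hN'inv, hN'nd, horth, hdisj, hdimN'⟩ := hPEEL N U hN hNnd hUN hUinv hUti
      have hdim' : 2 * (k * r) ≤ finrank F N' := by
        rw [hUdim] at hdimN'
        have : 2 * ((k + 1) * r) = 2 * (k * r) + 2 * r := by ring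
        omega
      obtain ⟨W', hW'N', hW'inv, hW'ti, hW'dim⟩ := ih N' hN'inv hN'nd hdim'
      refine ⟨U ⊔ W', sup_le hUN (hW'N'.trans hN'N), ?_, ?_, ?_⟩
      · intro a ha
        obtain ⟨u, hu, w, hw, rfl⟩ := Submodule.mem_sup.mp ha
        rw [map_add]
        exact Submodule.add_mem _ (Submodule.mem_sup_left (hUinv u hu))
          (Submodule.mem_sup_right (hW'inv w hw))
      · exact s5953ns7_ti_sup hF U W' hUti hW'ti (fun u hu w hw => horth u hu w (hW'N' hw))
      · have hd : Disjoint U W' := hdisj.mono_right hW'N'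
        have h1 := Submodule.finrank_sup_add_finrank_inf_eq U W'
        rw [hd.eq_bot, finrank_bot, add_zero] at h1
        rw [h1, hUdim, hW'dim]
        ring
  obtain ⟨k, rfl⟩ := hrm
  have hTinv : HInv x (⊤ : Submodule F (Fin n → F)) := fun _ _ => Submodule.mem_top
  have hTnd : HND q (⊤ : Submodule F (Fin n → F)) := by
    intro u _ hu
    exact hermI_nd hq u (fun v => hu v Submodule.mem_top)
  have hTdim : 2 * (k * r) ≤ finrank F (⊤ : Submodule F (Fin n → F)) := by
    rw [finrank_top, Module.finrank_fintype_fun_eq_card, Fintype.card_fin]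
    rw [mul_comm k r]; exact hmn
  obtain ⟨W, _, hWinv, hWti, hWdim⟩ := key k ⊤ hTinv hTnd hTdim
  exact ⟨W, hWinv, hWti, by rw [hWdim, mul_comm]⟩

end Cfsg.Agent.Lib.helper3.S5953
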