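import Mathlib
import Cfsg.Agent.Lib.Helper21.S5953NS7core
import Cfsg.Agent.Lib.helper3.S5953T11
import Cfsg.Agent.Lib.Helper27.S5953T6
import Cfsg.Agent.Lib.Helper24.S5953NS23

/-!
# S5953 row NS7 (helper21): `ns_suff` (verbatim), from the core + T11 `genline`, T6 `peel_ti`, NS2 `ns_dvd`.
-/

set_option autoImplicit false
set_option linter.unusedVariables false

namespace Cfsg.Agent.Lib.helper3.S5953

open Polynomial Module

/-- NS7 [L] NSSUFF: a non-split isometry has t.i. invariant subspaces of every dimension `m`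
divisible by `r` with `2 m ≤ n`. -/
theorem ns_suff {F : Type*} [Field F] [Fintype F] {p : ℕ} [Fact p.Prime] [CharP F p] {q n : ℕ}
    (hF : Fintype.card F = q ^ 2) (r : ℕ) [Fact r.Prime] (hrp : r ≠ p) (hr2 : r ≠ 2) {z : F}
    (hz : ∀ a : F, a ^ r ≠ z) {x : Module.End F (Fin n → F)} (h : HCtx q r z x) (m : ℕ)
    (hrm : r ∣ m) (hmn : 2 * m ≤ n) : HTId q x m := by
  have hr : r.Prime := Fact.out
  have hp : p.Prime := Fact.out
  have hrF : (r : F) ≠ 0 := by
    intro h0
    have := (CharP.cast_eq_zero_iff F p r).mp h0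
    exact hrp ((Nat.prime_dvd_prime_iff_eq hp hr).mp this).symm
  exact s5953ns7_core hF r hr2 hz h
    (fun M hM f hirr ht hkill hdim => genline hF hr.pos h M hM f hirr ht hkill hdim)
    (fun N U hN hNnd hUN hU hUti => peel_ti hF hrF h N U hN hNnd hUN hU hUti)
    (fun W hW => ns_dvd r z hz x h.pow W hW) m hrm hmn

end Cfsg.Agent.Lib.helper3.S5953
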