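import Mathlib
import Cfsg.Prelude.Def_Sporadic_a

set_option autoImplicit false

/-! Project S77 (statement S0429), piece ASM2: an isomorphism of set systems gives an isomorphism
of the block graphs. -/

namespace Cfsg.Agent.Lib.Helper21.S77

open Finset Cfsg

universe u v

theorem blockGraph_iso {α : Type u} {β : Type v} [DecidableEq β] {B : Set (Finset α)}
    {B' : Set (Finset β)} (h : SetSystemIso B B') : Nonempty (blockGraph B ≃g blockGraph B') := by
  classical
  obtain ⟨e, he⟩ := h
  have hinj : Function.Injective (fun b : Finset α => b.image e) :=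
    Finset.image_injective e.injective
  have hmem : ∀ b : Finset α, b ∈ B → b.image e ∈ B' := fun b hb => he ▸ ⟨b, hb, rfl⟩
  have hsurj : ∀ c : Finset β, c ∈ B' → ∃ b ∈ B, b.image e = c := by
    intro c hc
    rw [← he] at hc
    obtain ⟨b, hb, rfl⟩ := hc
    exact ⟨b, hb, rfl⟩
  let f : B → B' := fun b => ⟨(b : Finset α).image e, hmem b b.2⟩
  have fbij : Function.Bijective f := by
    constructor
    · intro b c hbc
      have : (b : Finset α).image e = (c : Finset α).image e := congrArg Subtype.val hbc
      exact Subtype.ext (hinj this)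
    · intro c
      obtain ⟨b, hb, hbc⟩ := hsurj c c.2
      exact ⟨⟨b, hb⟩, Subtype.ext hbc⟩
  refine ⟨⟨Equiv.ofBijective f fbij, ?_⟩⟩
  intro b c
  simp only [blockGraph, SimpleGraph.fromRel_adj, Equiv.ofBijective_apply, ne_eq]
  have h1 : f b = f c ↔ b = c := fbij.1.eq_iff
  have h2 : ∀ x y : Finset α, Disjoint (x.image e) (y.image e) ↔ Disjoint x y := by
    intro x y
    exact Finset.disjoint_image e.injective
  rw [h1]
  show _ ∧ (Disjoint ((b : Finset α).image e) ((c : Finset α).image e) ∨
    Disjoint ((c : Finset α).image e) ((b : Finset α).image e)) ↔ _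
  rw [h2, h2]

end Cfsg.Agent.Lib.Helper21.S77
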