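import Mathlib
import Cfsg.Agent.Lib.Helper20.O5040CY

/-!
# Project S983 (S0983), row N5940 (helper21, SECOND COPY: helper25's `Helper25/S983ROW5940.lean` landed first and carries the
verbatim name `no_simple_5940`; this file states the same theorem as `s983n5940_no_simple_5940` to avoid a clash):
no simple group of order `5940 = 2^2 3^3 5 11`.

`p = 11`: `5940 = 11 q w (1 + 11 n)`, `q ∣ 10`, `q ≠ 1` (Burnside transfer): `n_11 = 12` (`q = 5`, `w = 9`) dies by the fixed
points of an element of order 3 of `C_G(P)` on `Syl_11`; so `n_11 = 45`, `q = 2`, `|C_G(P)| = 66`.  Principal 11-block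
(`pb_values3`, `e = 2`): `X = {1, χ}`, five exceptional characters of degree `z`; degrees divide `|G : C_G(P)| = 90`:
`(χ(1), z) = (10, 9)`, `χ = -1` on the 11-singular elements.  `y` the involution of `C_G(P)`:
`10 + χ(y) - 20 = 22 m`, `|χ(y)| ≤ 10`: `χ(y) = 10 = χ(1)`, impossible (`χ` faithful).
(Same route as helper20's `o5040c70_false`.)
-/

set_option autoImplicit false
set_option linter.unusedVariables false
set_option linter.unusedSectionVars false
set_option linter.style.haveILetI false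

namespace Cfsg.Agent.Lib.helper3.S983

open Classical
open scoped ComplexConjugate
open Cfsg.Agent.Lib.helper7.BR Cfsg.Agent.Lib.Helper25 Cfsg.Agent.Lib.Helper29
open Cfsg.Agent.Lib.Helper13.BT Cfsg.Agent.Lib.helper2 Cfsg.Agent.Lib.Helper10.O4320
open Cfsg.Agent.Lib.Helper11.O5040E

universe u

section
variable {G : Type u} [Group G] [Fintype G]

instance s983n5940_fact11 : Fact (Nat.Prime 11) := ⟨by norm_num⟩

/-- a simple group of order 5940 is perfect, its Sylow 11-subgroups have order 11 and are not normal. -/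
theorem s983n5940_setup [IsSimpleGroup G] (hG : Nat.card G = 5940) :
    commutator G = ⊤ ∧
      ∀ P : Sylow 11 G, Nat.card ↥(P : Subgroup G) = 11 ∧ ¬ (P : Subgroup G).Normal := by
  have hcne : Subgroup.center G ≠ ⊤ := by
    intro h
    haveI : Fact (Nat.Prime 2) := ⟨Nat.prime_two⟩
    obtain ⟨x, hx⟩ := exists_prime_orderOf_dvd_card' (G := G) 2 (by rw [hG]; norm_num)
    have hxn : (Subgroup.zpowers x).Normal := by
      refine ⟨fun n _ g => ?_⟩
      have hc : n ∈ Subgroup.center G := by rw [h]; exact Subgroup.mem_top n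
      rw [Subgroup.mem_center_iff] at hc
      rw [hc g, mul_inv_cancel_right]
      assumption
    have hcard : Nat.card ↥(Subgroup.zpowers x) = 2 := by rw [Nat.card_zpowers, hx]
    rcases hxn.eq_bot_or_eq_top with h1 | h1
    · rw [h1, Subgroup.card_bot] at hcard
      omega
    · rw [h1, Subgroup.card_top, hG] at hcard
      omega
  refine ⟨?_, ?_⟩
  · have hn : (commutator G).Normal := by
      rw [commutator_def]
      exact Subgroup.commutator_normal ⊤ ⊤
    rcases hn.eq_bot_or_eq_top with h | h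
    · exfalso
      rw [commutator_eq_bot_iff_center_eq_top] at h
      exact hcne h
    · exact h
  · intro P
    have hcard : Nat.card ↥(P : Subgroup G) = 11 := by
      obtain ⟨k, hk⟩ := IsPGroup.iff_card.mp P.isPGroup'
      have hdvd : Nat.card ↥(P : Subgroup G) ∣ 5940 := by
        rw [← hG]
        exact Subgroup.card_subgroup_dvd_card _
      have h5 : 11 ∣ Nat.card ↥(P : Subgroup G) := P.dvd_card_of_dvd_card (by rw [hG]; norm_num)
      rcases Nat.lt_or_ge k 2 with hk2 | hk2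
      · interval_cases k
        · rw [hk] at h5
          norm_num at h5
        · rw [hk]
          norm_num
      · exfalso
        have h25 : 11 ^ 2 ∣ 5940 := (pow_dvd_pow 11 hk2).trans (hk ▸ hdvd)
        norm_num at h25
    refine ⟨hcard, fun hN => ?_⟩
    rcases hN.eq_bot_or_eq_top with h1 | h1
    · rw [h1, Subgroup.card_bot] at hcard
      omega
    · rw [h1, Subgroup.card_top, hG] at hcard
      omega

/-- `n_11 = 12` is impossible when `3 ∣ |C_G(P)|`. -/
theorem s983n5940_n12 [IsSimpleGroup G] (P : Sylow 11 G) (hPn : ¬ (P : Subgroup G).Normal)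
    (hidx : (nrm P).index = 12) (h3 : 3 ∣ Nat.card ↥(cen P)) : False := by
  have hcardS : Nat.card (Sylow 11 G) = 12 := by
    rw [Sylow.card_eq_index_normalizer P]
    exact hidx
  haveI : Fact (Nat.Prime 3) := ⟨by norm_num⟩
  obtain ⟨k, hk⟩ := exists_prime_orderOf_dvd_card' 3 h3
  have hkG : orderOf (k : G) = 3 := by
    rw [Subgroup.orderOf_coe]
    exact hk
  set K : Subgroup G := Subgroup.zpowers (k : G) with hKdef
  have hK3 : IsPGroup 3 K := IsPGroup.of_card (n := 1) (by rw [Nat.card_zpowers, hkG, pow_one])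
  have hKle : K ≤ cen P := by
    rw [hKdef, Subgroup.zpowers_le]
    exact k.2
  have hKne : K ≠ ⊥ := by
    intro h
    have : Nat.card ↥K = 3 := by rw [Nat.card_zpowers, hkG]
    rw [h, Subgroup.card_bot] at this
    omega
  have h1 := hK3.card_modEq_card_fixedPoints (Sylow 11 G)
  have h2 := o5040e_fix_mod P K hKle
  have h3 := o5040e_fix_lt P hPn K hKne
  rw [hcardS] at h1 h3
  unfold Nat.ModEq at h1 h2
  omega

/-- the arithmetic of the order formula `5940 = 11 q w (1 + 11 n)` -/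
theorem s983n5940_num (q w n : ℕ) (hq : q = 2 ∨ q = 5 ∨ q = 10) (hw : 1 ≤ w) (hn : 1 ≤ n)
    (h : 5940 = 11 * q * w * (1 + n * 11)) :
    (n = 1 ∧ 3 ∣ w) ∨ (n = 4 ∧ q = 2 ∧ w = 6) := by
  rcases hq with rfl | rfl | rfl
  · have hn' : n ≤ 24 := by nlinarith
    interval_cases n <;> omega
  · have hn' : n ≤ 24 := by nlinarith
    interval_cases n <;> omega
  · have hn' : n ≤ 24 := by nlinarith
    interval_cases n <;> omega

/-- the Sylow 11-configuration of a simple group of order 5940. -/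
theorem s983n5940_cases [IsSimpleGroup G] (hG : Nat.card G = 5940) (hperf : commutator G = ⊤)
    (P : Sylow 11 G) (hP : Nat.card ↥(P : Subgroup G) = 11) (hPn : ¬ (P : Subgroup G).Normal) :
    (nrm P).index = 45 ∧ (cen P).relIndex (nrm P) = 2 ∧ Nat.card ↥(cen P) = 66 := by
  obtain ⟨q, w, n, hqdvd, hq1, hw1, hn1, hqrel, hC, hN, hNidx, hCidx, hGcard⟩ :=
    order_formula P hP hPn
  have hne1 : q ≠ 1 := by
    have := relIndex_ne_one hperf P hP
    rwa [hqrel] at this
  have hq10 : q ≤ 10 := Nat.le_of_dvd (by norm_num) hqdvd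
  have hq : q = 2 ∨ q = 5 ∨ q = 10 := by
    interval_cases q
    · exact absurd rfl hne1
    · exact Or.inl rfl
    · norm_num at hqdvd
    · norm_num at hqdvd
    · exact Or.inr (Or.inl rfl)
    · norm_num at hqdvd
    · norm_num at hqdvd
    · norm_num at hqdvd
    · norm_num at hqdvd
    · exact Or.inr (Or.inr rfl)
  rw [hG] at hGcard
  rcases s983n5940_num q w n hq hw1 hn1 hGcard with ⟨rfl, h3⟩ | ⟨rfl, rfl, rfl⟩
  · exfalso
    refine s983n5940_n12 P hPn (by rw [hNidx]) ?_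
    rw [hC]
    exact Dvd.dvd.mul_left h3 11
  · exact ⟨by rw [hNidx], hqrel, by rw [hC]⟩

/-- arithmetic of the principal block for `e = 2`, degrees dividing 90 -/
theorem s983n5940_arith (D z : ℕ) (a ε : ℤ) (ha : a = 1 ∨ a = -1) (hε : ε = 1 ∨ ε = -1) (hD2 : 2 ≤ D)
    (hz1 : 1 ≤ z) (hDdvd : D ∣ 90) (hzdvd : z ∣ 90) (hDc : (11 : ℤ) ∣ (D : ℤ) - a)
    (hzc : (11 : ℤ) ∣ (z : ℤ) - ε * 2) (hrel : 1 + a * (D : ℤ) = ε * (z : ℤ)) : D = 10 ∧ a = -1 := by
  have hD90 : D ≤ 90 := Nat.le_of_dvd (by norm_num) hDdvd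
  have hz90 : z ≤ 90 := Nat.le_of_dvd (by norm_num) hzdvd
  rcases ha with rfl | rfl <;> rcases hε with rfl | rfl
  · have hz : z = D + 1 := by omega
    subst hz
    exfalso
    interval_cases D <;> omega
  · exfalso; omega
  · exfalso; omega
  · have hz : z + 1 = D := by omega
    subst hz
    interval_cases z <;> omega

/-- an involution in `C_G(P)` when `|C_G(P)|` is even -/
theorem s983n5940_invol (P : Sylow 11 G) (hC : 2 ∣ Nat.card ↥(cen P)) :
    ∃ y : G, orderOf y = 2 ∧ y ∈ cen P := by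
  haveI : Fact (Nat.Prime 2) := ⟨Nat.prime_two⟩
  obtain ⟨y, hy⟩ := exists_prime_orderOf_dvd_card' (G := ↥(cen P)) 2 hC
  exact ⟨(y : G), by rw [Subgroup.orderOf_coe]; exact hy, y.2⟩

/-- the value at an involution `y ∈ C_G(P)` of a non-principal irreducible character constant on the 11-singular
elements -/
theorem s983n5940_yval [IsSimpleGroup G] (P : Sylow 11 G)
    (hP : Nat.card ↥(P : Subgroup G) = 11) (y : G) (hy : orderOf y = 2) (hyc : y ∈ cen P)
    (χ : Cfsg.IrrCharacter G) (hχ : χ ≠ trivIrr G) (a : ℤ)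
    (hval : ∀ g : G, 11 ∣ orderOf g → (χ : G → ℂ) g = (a : ℂ)) :
    ∃ (k : ℤ) (m : ℕ), (χ : G → ℂ) y = (k : ℂ) ∧ (leoDeg χ : ℤ) + k + 20 * a = 22 * (m : ℤ) ∧
      k ≤ (leoDeg χ : ℤ) ∧ -(leoDeg χ : ℤ) ≤ k ∧ k ≠ (leoDeg χ : ℤ) := by
  have hchar := isCharacter_of_irr χ
  have hy2 : y ^ 2 = 1 := by rw [← hy]; exact pow_orderOf_eq_one y
  have hd := leoDeg_spec χ
  obtain ⟨k, hk, -⟩ := char_involution_int (χ : G → ℂ) hchar y hy2 (leoDeg χ) hd
  obtain ⟨m, hm⟩ := sum_two_p (p := 11) (by norm_num) P hP y hy hyc (χ : G → ℂ) hchar a hval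
  refine ⟨k, m, hk, ?_, ?_, ?_, ?_⟩
  · rw [hd, hk] at hm
    have : (((leoDeg χ : ℤ) + k + 20 * a : ℤ) : ℂ) = ((22 * (m : ℤ) : ℤ) : ℂ) := by
      push_cast
      rw [← sub_eq_zero] at hm ⊢
      rw [← hm]
      ring
    exact_mod_cast this
  · have h1 := irr_norm_le χ y
    rw [hd, hk] at h1
    rw [Complex.norm_intCast, Complex.norm_natCast] at h1
    have h2 : |k| ≤ (leoDeg χ : ℤ) := by
      have : ((|k| : ℤ) : ℝ) ≤ ((leoDeg χ : ℤ) : ℝ) := by push_cast; exact h1
      exact_mod_cast this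
    exact (abs_le.mp h2).2
  · have h1 := irr_norm_le χ y
    rw [hd, hk] at h1
    rw [Complex.norm_intCast, Complex.norm_natCast] at h1
    have h2 : |k| ≤ (leoDeg χ : ℤ) := by
      have : ((|k| : ℤ) : ℝ) ≤ ((leoDeg χ : ℤ) : ℝ) := by push_cast; exact h1
      exact_mod_cast this
    exact (abs_le.mp h2).1
  · intro hkd
    have h1 : (χ : G → ℂ) y = (χ : G → ℂ) 1 := by
      rw [hk, hd, hkd]; simp
    have := faithful_of_simple χ hχ y h1
    rw [this, orderOf_one] at hy
    omega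

/-- no simple group of order 5940 (`Fintype` version). -/
theorem s983n5940_false [IsSimpleGroup G] (hG : Nat.card G = 5940) : False := by
  obtain ⟨hperf, hSyl⟩ := s983n5940_setup hG
  obtain ⟨P⟩ : Nonempty (Sylow 11 G) := inferInstance
  obtain ⟨hP, hPn⟩ := hSyl P
  obtain ⟨hidx, hq, hC⟩ := s983n5940_cases hG hperf P hP hPn
  obtain ⟨X, Y, a, ε, hB⟩ := pb_values3 P hP 2 hq (by norm_num) (by norm_num)
  obtain ⟨hd1, ha1, hge, hcong, hdvd⟩ := X_degrees hperf hP hB
  obtain ⟨z, hz1, hzY, hzc, hrel⟩ := Y_degrees hP hB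
  have hci : (cen P).index = 90 := by
    have h1 := Subgroup.card_mul_index (cen P)
    rw [hC, hG] at h1
    omega
  have hX1 : (X.erase (trivIrr G)).card = 1 := by
    rw [Finset.card_erase_of_mem hB.triv_mem, hB.cardX]
  obtain ⟨χ, hχ⟩ := Finset.card_eq_one.mp hX1
  have hχmem : χ ∈ X.erase (trivIrr G) := by rw [hχ]; exact Finset.mem_singleton_self χ
  have hχX : χ ∈ X := Finset.mem_of_mem_erase hχmem
  have hχne : χ ≠ trivIrr G := Finset.ne_of_mem_erase hχmem
  have hsum : ∑ ξ ∈ X, a ξ * (leoDeg ξ : ℤ) = 1 + a χ * (leoDeg χ : ℤ) := by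
    rw [← Finset.add_sum_erase X _ hB.triv_mem, hχ, Finset.sum_singleton, ha1, hd1]
    norm_num
  rw [hsum] at hrel
  obtain ⟨x₀, hx₀, hx₀1⟩ := btxdeg_exists P hP
  have hx11 : 11 ∣ orderOf x₀ := by rw [btxdeg_orderOf P hP x₀ hx₀ hx₀1]
  have hDdvd : leoDeg χ ∣ 90 := by
    rw [← hci]
    exact deg_dvd_of_pm_one P hP χ (a χ) (hB.a_pm χ hχX) x₀ hx₀ hx₀1 (hB.valX χ hχX x₀ hx11) _
      (leoDeg_spec χ)
  have hzdvd : z ∣ 90 := by
    rw [← hci]
    exact exc_deg_dvd P hP Y z (fun η hη => by rw [leoDeg_spec η, hzY η hη]) ε hB.eps_pm x₀ hx₀ hx₀1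
      (hB.sumY x₀ hx11)
  obtain ⟨hD10, haχ⟩ := s983n5940_arith (leoDeg χ) z (a χ) ε (hB.a_pm χ hχX) hB.eps_pm
    (hge χ hχX hχne) hz1 hDdvd hzdvd (hcong χ hχX) (by exact_mod_cast hzc) hrel
  obtain ⟨y, hy, hyc⟩ := s983n5940_invol P (by rw [hC]; norm_num)
  obtain ⟨k, m, hk, hkm, hle, hge', hne⟩ := s983n5940_yval P hP y hy hyc χ hχne (a χ)
    (fun g hg => hB.valX χ hχX g hg)
  rw [hD10, haχ] at hkm
  rw [hD10] at hle hge' hne
  push_cast at hkm hle hge' hne
  omega

end

/-- N5940 [L]  `5940 = 2^2 3^3 5 11` (Klein four).  `n_11 = 45` (`|N| = 132`; 12 dies), index 11 impossible (S0679).  See PLAN.md. -/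
theorem s983n5940_no_simple_5940 {G : Type*} [Group G] [Finite G] [IsSimpleGroup G] (hG : Nat.card G = 5940) : False := by
  haveI : Fintype G := Fintype.ofFinite G
  exact s983n5940_false hG

end Cfsg.Agent.Lib.helper3.S983
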