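import Mathlib
import Cfsg.Prelude.Def_AxialAlgebras
import Cfsg.Agent.Lib.Helper24.SAK.Defs

set_option autoImplicit false

namespace Cfsg.Agent.Lib.Helper24.SAK

open Cfsg.Axial

variable {V : Type*} [AddCommGroup V] [Module ℝ V]

theorem sakb8_sg_form {mul : V →ₗ[ℝ] V →ₗ[ℝ] V} {B : LinearMap.BilinForm ℝ V}
    (hassoc : ∀ u v w : V, B u (mul v w) = B (mul u v) w) (x y z : V) :
    B x (sg mul y z) = B (mul x y) z - (1 / 32 : ℝ) * (B x y + B x z) := by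
  unfold sg
  rw [map_sub, map_smul, map_add, hassoc x y z, smul_eq_mul]

theorem sakb8_core {mul : V →ₗ[ℝ] V →ₗ[ℝ] V} {B : LinearMap.BilinForm ℝ V} {μ₀ μ₁ : V ≃ₗ[ℝ] V}
    {am2 am1 a0 a1 a2 a3 s1 s2e s2o : V} {l m n k p q r : ℝ}
    (h : Dih mul B μ₀ μ₁ am2 am1 a0 a1 a2 a3 s1 s2e s2o l m n k p q r)
    (hAct : μ₀ a0 = a0 ∧ μ₀ a1 = am1 ∧ μ₀ am1 = a1 ∧ μ₀ a2 = am2 ∧ μ₀ am2 = a2 ∧
      μ₁ a1 = a1 ∧ μ₁ a0 = a2 ∧ μ₁ a2 = a0 ∧ μ₁ am1 = a3 ∧ μ₁ a3 = am1)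
    (hFix : μ₀ s1 = s1 ∧ μ₁ s1 = s1 ∧ μ₀ s2e = s2e ∧ μ₁ s2e = s2e ∧ μ₀ s2o = s2o ∧ μ₁ s2o = s2o)
    (hAA : B am2 am2 = (1 : ℝ) ∧ B am2 am1 = l ∧ B am2 a0 = m ∧ B am2 a1 = k ∧ B am2 a2 = p ∧
      B am2 a3 = r ∧ B am1 am1 = (1 : ℝ) ∧ B am1 a0 = l ∧ B am1 a1 = n ∧ B am1 a2 = k ∧
      B am1 a3 = q ∧ B a0 a0 = (1 : ℝ) ∧ B a0 a1 = l ∧ B a0 a2 = m ∧ B a0 a3 = k ∧
      B a1 a1 = (1 : ℝ) ∧ B a1 a2 = l ∧ B a1 a3 = n ∧ B a2 a2 = (1 : ℝ) ∧ B a2 a3 = l ∧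
      B a3 a3 = (1 : ℝ))
    (hP0 : mul a0 a0 = a0) (hP1 : mul a1 a1 = a1) (hP2 : mul a2 a2 = a2)
    (hPm1 : mul am1 am1 = am1) :
    B am2 s1 = ((31 / 32 : ℝ) * l + (-1 / 32 : ℝ)) ∧
      B am1 s1 = ((31 / 32 : ℝ) * l + (-1 / 32 : ℝ)) ∧
      B a0 s1 = ((31 / 32 : ℝ) * l + (-1 / 32 : ℝ)) ∧
      B a1 s1 = ((31 / 32 : ℝ) * l + (-1 / 32 : ℝ)) ∧
      B a2 s1 = ((31 / 32 : ℝ) * l + (-1 / 32 : ℝ)) ∧
      B a3 s1 = ((31 / 32 : ℝ) * l + (-1 / 32 : ℝ)) ∧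
      B am2 s2e = ((31 / 32 : ℝ) * m + (-1 / 32 : ℝ)) ∧
      B am1 s2e = ((15 / 16 : ℝ) * l + (1 / 32 : ℝ) * m + (-1 / 32 : ℝ)) ∧
      B a0 s2e = ((31 / 32 : ℝ) * m + (-1 / 32 : ℝ)) ∧
      B a1 s2e = ((15 / 16 : ℝ) * l + (1 / 32 : ℝ) * m + (-1 / 32 : ℝ)) ∧
      B a2 s2e = ((31 / 32 : ℝ) * m + (-1 / 32 : ℝ)) ∧
      B a3 s2e = ((15 / 16 : ℝ) * l + (1 / 32 : ℝ) * m + (-1 / 32 : ℝ)) ∧
      B am2 s2o = ((15 / 16 : ℝ) * l + (1 / 32 : ℝ) * n + (-1 / 32 : ℝ)) ∧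
      B am1 s2o = ((31 / 32 : ℝ) * n + (-1 / 32 : ℝ)) ∧
      B a0 s2o = ((15 / 16 : ℝ) * l + (1 / 32 : ℝ) * n + (-1 / 32 : ℝ)) ∧
      B a1 s2o = ((31 / 32 : ℝ) * n + (-1 / 32 : ℝ)) ∧
      B a2 s2o = ((15 / 16 : ℝ) * l + (1 / 32 : ℝ) * n + (-1 / 32 : ℝ)) ∧
      B a3 s2o = ((31 / 32 : ℝ) * n + (-1 / 32 : ℝ)) := by
  obtain ⟨⟨hV, hp0, hp1, -, -⟩, -, -, -, -, hs1, hs2e, hs2o, -, -, -, -, -, -, -⟩ := h
  obtain ⟨hcomm, hsym, -, hassoc, -⟩ := hV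
  have hi0 : ∀ u v : V, B (μ₀ u) (μ₀ v) = B u v := hp0.2.1
  have hi1 : ∀ u v : V, B (μ₁ u) (μ₁ v) = B u v := hp1.2.1
  obtain ⟨-, h0a1, -, h0a2, -, -, h1a0, -, h1am1, -⟩ := hAct
  obtain ⟨hf01, hf11, hf0e, hf1e, hf0o, hf1o⟩ := hFix
  obtain ⟨-, -, -, -, -, -, gm1m1, gm10, gm11, -, -, g00, g01, g02, -, g11, g12, -, g22, -, -⟩ :=
    hAA
  have g10 : B a1 a0 = l := by rw [hsym]; exact g01
  have g20 : B a2 a0 = m := by rw [hsym]; exact g02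
  have g21 : B a2 a1 = l := by rw [hsym]; exact g12
  have g0m1 : B a0 am1 = l := by rw [hsym]; exact gm10
  have g1m1 : B a1 am1 = n := by rw [hsym]; exact gm11
  have hc10 : mul a1 a0 = mul a0 a1 := hcomm a1 a0
  have hc20 : mul a2 a0 = mul a0 a2 := hcomm a2 a0
  have hcm11 : mul am1 a1 = mul a1 am1 := hcomm am1 a1
  have hm01 : mul a0 a1 = s1 + (1 / 32 : ℝ) • (a0 + a1) := by
    rw [hs1]
    unfold sg
    module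
  -- s1
  have e03 : B a0 s1 = (31 / 32 : ℝ) * l + (-1 / 32 : ℝ) := by
    rw [hs1, sakb8_sg_form hassoc, hP0, g00, g01]
    ring
  have e04 : B a1 s1 = (31 / 32 : ℝ) * l + (-1 / 32 : ℝ) := by
    rw [hs1, sakb8_sg_form hassoc, hc10, ← hassoc a0 a1 a1, hP1, g10, g11, g01]
    ring
  have e02 : B am1 s1 = (31 / 32 : ℝ) * l + (-1 / 32 : ℝ) := by
    have := hi0 a1 s1
    rw [h0a1, hf01] at this
    rw [this, e04]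
  have e05 : B a2 s1 = (31 / 32 : ℝ) * l + (-1 / 32 : ℝ) := by
    have := hi1 a0 s1
    rw [h1a0, hf11] at this
    rw [this, e03]
  have e01 : B am2 s1 = (31 / 32 : ℝ) * l + (-1 / 32 : ℝ) := by
    have := hi0 a2 s1
    rw [h0a2, hf01] at this
    rw [this, e05]
  have e06 : B a3 s1 = (31 / 32 : ℝ) * l + (-1 / 32 : ℝ) := by
    have := hi1 am1 s1
    rw [h1am1, hf11] at this
    rw [this, e02]
  -- s2e
  have e09 : B a0 s2e = (31 / 32 : ℝ) * m + (-1 / 32 : ℝ) := by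
    rw [hs2e, sakb8_sg_form hassoc, hP0, g00, g02]
    ring
  have e11 : B a2 s2e = (31 / 32 : ℝ) * m + (-1 / 32 : ℝ) := by
    rw [hs2e, sakb8_sg_form hassoc, hc20, ← hassoc a0 a2 a2, hP2, g20, g22, g02]
    ring
  have e07 : B am2 s2e = (31 / 32 : ℝ) * m + (-1 / 32 : ℝ) := by
    have := hi0 a2 s2e
    rw [h0a2, hf0e] at this
    rw [this, e11]
  have e10 : B a1 s2e = (15 / 16 : ℝ) * l + (1 / 32 : ℝ) * m + (-1 / 32 : ℝ) := by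
    have hs1a2 : B s1 a2 = (31 / 32 : ℝ) * l + (-1 / 32 : ℝ) := by rw [hsym]; exact e05
    rw [hs2e, sakb8_sg_form hassoc, hc10, hm01, map_add, map_smul, map_add]
    simp only [LinearMap.add_apply, LinearMap.smul_apply, smul_eq_mul]
    rw [hs1a2, g02, g12, g10]
    ring
  have e08 : B am1 s2e = (15 / 16 : ℝ) * l + (1 / 32 : ℝ) * m + (-1 / 32 : ℝ) := by
    have := hi0 a1 s2e
    rw [h0a1, hf0e] at this
    rw [this, e10]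
  have e12 : B a3 s2e = (15 / 16 : ℝ) * l + (1 / 32 : ℝ) * m + (-1 / 32 : ℝ) := by
    have := hi1 am1 s2e
    rw [h1am1, hf1e] at this
    rw [this, e08]
  -- s2o
  have e16 : B a1 s2o = (31 / 32 : ℝ) * n + (-1 / 32 : ℝ) := by
    rw [hs2o, sakb8_sg_form hassoc, hP1, g11, g1m1]
    ring
  have e14 : B am1 s2o = (31 / 32 : ℝ) * n + (-1 / 32 : ℝ) := by
    rw [hs2o, sakb8_sg_form hassoc, hcm11, ← hassoc a1 am1 am1, hPm1, gm11, gm1m1, g1m1]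
    ring
  have e18 : B a3 s2o = (31 / 32 : ℝ) * n + (-1 / 32 : ℝ) := by
    have := hi1 am1 s2o
    rw [h1am1, hf1o] at this
    rw [this, e14]
  have e15 : B a0 s2o = (15 / 16 : ℝ) * l + (1 / 32 : ℝ) * n + (-1 / 32 : ℝ) := by
    have hs1am1 : B s1 am1 = (31 / 32 : ℝ) * l + (-1 / 32 : ℝ) := by rw [hsym]; exact e02
    rw [hs2o, sakb8_sg_form hassoc, hm01, map_add, map_smul, map_add]
    simp only [LinearMap.add_apply, LinearMap.smul_apply, smul_eq_mul]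
    rw [hs1am1, g0m1, g1m1, g01]
    ring
  have e17 : B a2 s2o = (15 / 16 : ℝ) * l + (1 / 32 : ℝ) * n + (-1 / 32 : ℝ) := by
    have := hi1 a0 s2o
    rw [h1a0, hf1o] at this
    rw [this, e15]
  have e13 : B am2 s2o = (15 / 16 : ℝ) * l + (1 / 32 : ℝ) * n + (-1 / 32 : ℝ) := by
    have := hi0 a2 s2o
    rw [h0a2, hf0o] at this
    rw [this, e17]
  exact ⟨e01, e02, e03, e04, e05, e06, e07, e08, e09, e10, e11, e12, e13, e14, e15, e16, e17, e18⟩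

end Cfsg.Agent.Lib.Helper24.SAK
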