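import Mathlib
import Cfsg.Prelude.Def_AxialAlgebras
import Cfsg.Agent.Lib.Helper24.SAK.Defs
import Cfsg.Agent.Lib.Helper12.SAKB3
import Cfsg.Agent.Lib.Helper24.SAKB4
import Cfsg.Agent.Lib.Helper24.SAKB5
import Cfsg.Agent.Lib.Helper24.SAKB6
import Cfsg.Agent.Lib.Helper21.SAKB8core

/-!
# Project SAK (helper24), row B8 (`gramAS`), VERBATIM: the core on the landed rows B3 B4 B5 B6.
-/

set_option autoImplicit false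

namespace Cfsg.Agent.Lib.Helper24.SAK

open Cfsg.Axial

variable {V : Type*} [AddCommGroup V] [Module ℝ V]

theorem gramAS {mul : V →ₗ[ℝ] V →ₗ[ℝ] V} {B : LinearMap.BilinForm ℝ V} {μ₀ μ₁ : V ≃ₗ[ℝ] V}
    {am2 am1 a0 a1 a2 a3 s1 s2e s2o : V} {l m n k p q r : ℝ}
    (h : Dih mul B μ₀ μ₁ am2 am1 a0 a1 a2 a3 s1 s2e s2o l m n k p q r) :
    B am2 s1 = ((31 / 32 : ℝ) * l + (-1 / 32 : ℝ)) ∧
      B am1 s1 = ((31 / 32 : ℝ) * l + (-1 / 32 : ℝ)) ∧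
      B a0 s1 = ((31 / 32 : ℝ) * l + (-1 / 32 : ℝ)) ∧
      B a1 s1 = ((31 / 32 : ℝ) * l + (-1 / 32 : ℝ)) ∧
      B a2 s1 = ((31 / 32 : ℝ) * l + (-1 / 32 : ℝ)) ∧
      B a3 s1 = ((31 / 32 : ℝ) * l + (-1 / 32 : ℝ)) ∧
      B am2 s2e = ((31 / 32 : ℝ) * m + (-1 / 32 : ℝ)) ∧
      B am1 s2e = ((15 / 16 : ℝ) * l + (1 / 32 : ℝ) * m + (-1 / 32 : ℝ)) ∧
      B a0 s2e = ((31 / 32 : ℝ) * m + (-1 / 32 : ℝ)) ∧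
      B a1 s2e = ((15 / 16 : ℝ) * l + (1 / 32 : ℝ) * m + (-1 / 32 : ℝ)) ∧
      B a2 s2e = ((31 / 32 : ℝ) * m + (-1 / 32 : ℝ)) ∧
      B a3 s2e = ((15 / 16 : ℝ) * l + (1 / 32 : ℝ) * m + (-1 / 32 : ℝ)) ∧
      B am2 s2o = ((15 / 16 : ℝ) * l + (1 / 32 : ℝ) * n + (-1 / 32 : ℝ)) ∧
      B am1 s2o = ((31 / 32 : ℝ) * n + (-1 / 32 : ℝ)) ∧
      B a0 s2o = ((15 / 16 : ℝ) * l + (1 / 32 : ℝ) * n + (-1 / 32 : ℝ)) ∧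
      B a1 s2o = ((31 / 32 : ℝ) * n + (-1 / 32 : ℝ)) ∧
      B a2 s2o = ((15 / 16 : ℝ) * l + (1 / 32 : ℝ) * n + (-1 / 32 : ℝ)) ∧
      B a3 s2o = ((31 / 32 : ℝ) * n + (-1 / 32 : ℝ)) :=
  sakb8_core h (dih_act h) (dih_sfix h) (gramAA h) (prodAA h).2.2.1 (prodAA h).2.2.2.1
    (prodAA h).2.2.2.2.1 (prodAA h).2.1

end Cfsg.Agent.Lib.Helper24.SAK
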