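import Cfsg.Agent.Lib.helper7.SAP.Defs
import Cfsg.Agent.Lib.Helper29.SAPBASE1

/-!
# Project SAP (helper7, S2284 + S2297), row BASE4 (`base_a_mem`), VERBATIM.
-/

set_option autoImplicit false

namespace Cfsg.Agent.Lib.helper7.SAP

open Equiv

universe u

section base
variable {p : ℕ} {G : Type u} [Group G]

/-- the generator `r` of the units of `ZMod p`, `p ≥ 3`, is not `1` -/
theorem sapbase4_r_ne_one [Fact p.Prime] (hp : 3 ≤ p) (r : (ZMod p)ˣ)
    (hr : ∀ u : (ZMod p)ˣ, u ∈ Subgroup.zpowers r) : r ≠ 1 := by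
  intro h1
  subst h1
  have hm1 : (-1 : (ZMod p)ˣ) = 1 := by
    have := hr (-1)
    rw [Subgroup.zpowers_one_eq_bot, Subgroup.mem_bot] at this
    exact this
  have h2 : ((-1 : (ZMod p)ˣ) : ZMod p) = 1 := by rw [hm1]; rfl
  rw [Units.val_neg, Units.val_one] at h2
  -- `-1 = 1` in `ZMod p` forces `p ∣ 2`
  have h3 : ((2 : ℕ) : ZMod p) = 0 := by
    have : (1 : ZMod p) + 1 = 0 := by nth_rewrite 1 [← h2]; ring
    push_cast
    rw [← this]; ring
  rw [ZMod.natCast_eq_zero_iff] at h3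
  have := Nat.le_of_dvd (by norm_num) h3
  omega

/-- BASE4 [M] -/
theorem base_a_mem [Fact p.Prime] (hp : 3 ≤ p) (D : BaseHyp p G) :
    D.a ∈ Subgroup.closure (Set.range (zo D.a D.z : ZMod p → G)) := by
  have : NeZero p := ⟨(Fact.out : p.Prime).ne_zero⟩
  set N := Subgroup.closure (Set.range (zo D.a D.z : ZMod p → G)) with hN
  -- `a` normalizes `N`
  have hnorm : ∀ g ∈ N, D.a * g * D.a⁻¹ ∈ N := by
    intro g hg
    induction hg using Subgroup.closure_induction with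
    | mem x hx =>
      obtain ⟨y, rfl⟩ := hx
      rw [zo_conj_a D.a D.z D.ha y]
      exact Subgroup.subset_closure ⟨y + 1, rfl⟩
    | one => simp
    | mul x y _ _ hx hy =>
      have : D.a * (x * y) * D.a⁻¹ = (D.a * x * D.a⁻¹) * (D.a * y * D.a⁻¹) := by group
      rw [this]; exact N.mul_mem hx hy
    | inv x _ hx =>
      have : D.a * x⁻¹ * D.a⁻¹ = (D.a * x * D.a⁻¹)⁻¹ := by group
      rw [this]; exact N.inv_mem hx
  -- `a ^ rv * a⁻¹ ∈ N`
  set rv := (D.r : ZMod p).val with hrv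
  have h1 : D.a ^ rv * D.a⁻¹ ∈ N := by
    have : D.a ^ rv * D.a⁻¹ = D.β * (D.a * D.β⁻¹ * D.a⁻¹) := by
      rw [← D.hβa]; group
    rw [this]
    exact N.mul_mem D.hβ (hnorm _ (N.inv_mem D.hβ))
  -- `1 < rv < p`
  have hrne : D.r ≠ 1 := sapbase4_r_ne_one hp D.r D.hr
  have hrv_lt : rv < p := ZMod.val_lt _
  have hrv0 : rv ≠ 0 := by
    intro h0
    rw [hrv, ZMod.val_eq_zero] at h0
    exact D.r.ne_zero h0
  have hrv1 : rv ≠ 1 := by
    intro h1'
    apply hrne
    apply Units.ext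
    rw [Units.val_one, ← ZMod.natCast_zmod_val (D.r : ZMod p), ← hrv, h1', Nat.cast_one]
  have hpos : 1 ≤ rv - 1 := by omega
  have h2 : D.a ^ (rv - 1) ∈ N := by
    have : D.a ^ (rv - 1) = D.a ^ rv * D.a⁻¹ := by
      have : rv = (rv - 1) + 1 := by omega
      nth_rewrite 2 [this]
      rw [pow_succ, mul_assoc, mul_inv_cancel, mul_one]
    rw [this]; exact h1
  -- coprimality
  have hcop : Nat.Coprime (rv - 1) p := by
    apply Nat.Coprime.symm
    rw [(Fact.out : p.Prime).coprime_iff_not_dvd]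
    intro hd
    have := Nat.le_of_dvd (by omega) hd
    omega
  -- Bezout
  have hb : ((rv - 1 : ℕ) : ℤ) * Nat.gcdA (rv - 1) p + (p : ℤ) * Nat.gcdB (rv - 1) p = 1 := by
    have := Nat.gcd_eq_gcd_ab (rv - 1) p
    rw [hcop] at this
    rw [← this]; rfl
  have : D.a = (D.a ^ (rv - 1)) ^ (Nat.gcdA (rv - 1) p) * (D.a ^ p) ^ (Nat.gcdB (rv - 1) p) := by
    rw [← zpow_natCast, ← zpow_natCast, ← zpow_mul, ← zpow_mul, ← zpow_add, hb, zpow_one]
  rw [this, D.ha, one_zpow, mul_one]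
  exact N.zpow_mem h2 _

end base

end Cfsg.Agent.Lib.helper7.SAP
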