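import Mathlib
import Cfsg.Agent.Lib.Helper18.SDM.Defs3
import Cfsg.Agent.Lib.Helper21.SDMST1core2
import Cfsg.Agent.Lib.Helper25.SDML1
import Cfsg.Agent.Lib.helper17.SDML2
import Cfsg.Agent.Lib.Helper25.SDMC1
import Cfsg.Agent.Lib.Helper25.SDMC2
import Cfsg.Agent.Lib.helper15.SDME6
import Cfsg.Agent.Lib.helper2.SDMU2
import Cfsg.Agent.Lib.Helper22.SDMU3

/-!
# Project SDM, row ST1 (helper21): `qbn_steinberg`, verbatim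
(= `sdmst1_core` + rows L1 L2 C1 C2 E6 U2 U3).
-/

set_option autoImplicit false
set_option linter.unusedSectionVars false
set_option linter.unusedVariables false

namespace Cfsg.Agent.Lib.Helper18.QBN

open Cfsg.Agent.Lib.helper14.UBN QuadraticMap
open Cfsg.Agent.Lib.helper3 Cfsg.Agent.Lib.helper14

universe u v

variable {F : Type u} [Field F] {W : Type v} [AddCommGroup W] [Module F W] {n : ℕ}

/-- [ROW ST1] `θ = Σ_J (-1)^|J| 1_{P_J}^G`; `st_irr_abstract`, `st_value` with `H = TQ` (C1, C2), `θ(b) = |Fix_b(B/T)|`;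
`B = UQ ⋊ TQ` (E6, U3) gives `θ 1 = |UQ|` and `Fix_u(B/T) = ∅` for `1 ≠ u ∈ UQ`; last clause by `fpc_of_conj_mem` -/
theorem qbn_steinberg (hn : Even n) (Q₀ : QuadraticForm F W) (hQ₀ : ∀ w : W, Q₀ w = 0 → w = 0)
    (hW : ∃ w : W, w ≠ 0)
    (P : Cfsg.BNPair (GQ n Q₀)) (hB : P.B = BQ n Q₀) (hN : P.N = NQ n Q₀) (hS : P.S = SQ hn Q₀)
    [Finite (GQ n Q₀)] (p : ℕ) [Fact p.Prime] [CharP F p] :
    ∃ θ : GQ n Q₀ → ℂ, Cfsg.IsIrrCharacter (GQ n Q₀) θ ∧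
      θ 1 = (Nat.card ↥(UQ hn Q₀) : ℂ) ∧ (∀ u ∈ UQ hn Q₀, u ≠ 1 → θ u = 0) ∧
      ∀ z : GQ n Q₀, (∀ g : GQ n Q₀, g⁻¹ * z * g ∈ BQ n Q₀) → θ z = θ 1 :=
  sdmst1_core hn Q₀ P hB hN hS
    (sigmaQ_mem hn Q₀) (sigmaQ_surj hn Q₀) (nLongQ_mem_NQ hn Q₀)
    (nLongQ_h1 hn Q₀ hQ₀ hW P hB hN hS) (nLongQ_h1' hn Q₀ hQ₀ hW P hB hN hS)
    (nLongQ_h2 hn Q₀ hQ₀ hW P hB hN hS)
    (fun h hh => nLongQ_conj_torus hn Q₀ h hh)
    (fun β hβ hc => mem_torus_of_nLongQ_conj hn Q₀ β hβ hc)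
    (fun b hb => BQ_eq_Sg_mul_T hn Q₀ b hb)
    (UQ_le_BQ hn Q₀) (fun g hg => UQ_isUniQ hn Q₀ g hg)
    (fun g hg hg1 => eq_one_of_isUniQ_of_mem_TQ hn g hg hg1)
    (fun b u hb hu => UQ_conj_mem hn Q₀ b u hb hu)

end Cfsg.Agent.Lib.Helper18.QBN
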