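import Mathlib
import Cfsg.Agent.Lib.Helper18.SDM.Defs3
import Cfsg.Agent.Lib.Helper16.Char2K

/-!
# Project SDM, row X2 (helper21): core of `reflG_not_mem_commutator`.
Characteristic 2: a reflection is not in the commutator subgroup of `OQ Q'`.  Hypothesis `hX1` = the conclusion of row X1
(`xfer_iso`) for `⇑Q`, `Q'`, `E`.  The Dickson invariant `Helper16.C2.dickson` pulled back along `Φ⁻¹` is a homomorphism to
the abelian group `ℤˣ` with value `-1` on `reflG Q' y = Φ (CDG.refl Q (E⁻¹ y))`.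
-/

set_option autoImplicit false
set_option linter.unusedSectionVars false
set_option linter.unusedVariables false

namespace Cfsg.Agent.Lib.Helper18.QBN

open Cfsg.Agent.Lib.helper14.UBN QuadraticMap

universe u v

variable {F : Type u} [Field F]

/-- a linear isometry preserves the polar form -/
theorem sdmx2h21_polar {ι : Type} {V : Type v} [AddCommGroup V] [Module F V]
    (Q : QuadraticForm F (ι → F)) (Q' : QuadraticForm F V) (E : (ι → F) ≃ₗ[F] V)
    (hE : ∀ x, Q' (E x) = Q x) (x z : ι → F) : polar Q' (E x) (E z) = polar Q x z := by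
  unfold polar
  rw [← map_add, hE, hE, hE]

/-- the image of a matrix reflection under the transfer isomorphism is the reflection along `E u` -/
theorem sdmx2h21_refl {ι : Type} [Fintype ι] [DecidableEq ι]
    {V : Type v} [AddCommGroup V] [Module F V]
    (Q : QuadraticForm F (ι → F)) (Q' : QuadraticForm F V) (E : (ι → F) ≃ₗ[F] V)
    (hE : ∀ x, Q' (E x) = Q x)
    (Φ : ↥(Cfsg.isometryGroup F ⇑Q) ≃* ↥(OQ Q'))
    (hΦ : ∀ (g : ↥(Cfsg.isometryGroup F ⇑Q)) (x : ι → F),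
      ((Φ g : ↥(OQ Q')) : V ≃ₗ[F] V) (E x) =
        E (Matrix.mulVec ((g : Matrix.GeneralLinearGroup ι F) : Matrix ι ι F) x))
    (u : ι → F) (hu : Q u ≠ 0) (hu' : Q' (E u) ≠ 0) :
    Φ (Cfsg.Agent.Lib.Helper16.CDG.refl Q u hu) = reflG Q' (E u) hu' := by
  apply Subtype.ext
  apply LinearEquiv.ext
  intro w
  obtain ⟨x, rfl⟩ := E.surjective w
  rw [hΦ, Cfsg.Agent.Lib.Helper16.CDG.refl_coe, Cfsg.Agent.Lib.helper6.reflectionMatrix_mulVec,
    reflG_apply, sdmx2h21_polar Q Q' E hE, hE, map_sub, map_smul, polar_comm]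

/-- X2 core -/
theorem sdmx2h21_core {ι : Type} [Fintype ι] [DecidableEq ι] [CharP F 2]
    {V : Type v} [AddCommGroup V] [Module F V]
    (Q : QuadraticForm F (ι → F)) (hQ : (QuadraticMap.polarBilin Q).Nondegenerate)
    (Q' : QuadraticForm F V) (E : (ι → F) ≃ₗ[F] V) (hE : ∀ x, Q' (E x) = Q x)
    (hX1 : ∃ Φ : ↥(Cfsg.isometryGroup F ⇑Q) ≃* ↥(OQ Q'),
      ∀ (g : ↥(Cfsg.isometryGroup F ⇑Q)) (x : ι → F),
        ((Φ g : ↥(OQ Q')) : V ≃ₗ[F] V) (E x) =
          E (Matrix.mulVec ((g : Matrix.GeneralLinearGroup ι F) : Matrix ι ι F) x))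
    (y : V) (hy : Q' y ≠ 0) :
    reflG Q' y hy ∉ commutator ↥(OQ Q') := by
  obtain ⟨Φ, hΦ⟩ := hX1
  intro hmem
  let D : ↥(OQ Q') →* ℤˣ :=
    (Cfsg.Agent.Lib.Helper16.C2.dickson Q hQ).comp Φ.symm.toMonoidHom
  have hker : commutator ↥(OQ Q') ≤ D.ker := Abelianization.commutator_subset_ker D
  have h1 : D (reflG Q' y hy) = 1 := hker hmem
  have hyE : E (E.symm y) = y := E.apply_symm_apply y
  have hu : Q (E.symm y) ≠ 0 := by
    rw [← hE, hyE]
    exact hy
  have hu' : Q' (E (E.symm y)) ≠ 0 := by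
    rw [hyE]
    exact hy
  have h2 : Φ (Cfsg.Agent.Lib.Helper16.CDG.refl Q (E.symm y) hu) = reflG Q' y hy := by
    rw [sdmx2h21_refl Q Q' E hE Φ hΦ (E.symm y) hu hu']
    congr 1
  have h3 : D (reflG Q' y hy) = -1 := by
    show Cfsg.Agent.Lib.Helper16.C2.dickson Q hQ (Φ.symm (reflG Q' y hy)) = -1
    rw [← h2, MulEquiv.symm_apply_apply]
    exact Cfsg.Agent.Lib.Helper16.C2.dickson_refl Q hQ (E.symm y) hu
  rw [h3] at h1
  exact absurd h1 (by decide)

end Cfsg.Agent.Lib.Helper18.QBN
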