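import Mathlib
import Cfsg.Agent.Lib.Helper18.SDM.Defs3
import Cfsg.Agent.Lib.Helper16.Char2K
import Cfsg.Agent.Lib.Helper21.SDMX2core
import Cfsg.Agent.Lib.helper15.SDMX1

/-!
# Project SDM, row X2 (helper21): spare copy `sdmx2h21_reflG_not_mem_commutator` of `reflG_not_mem_commutator` (the verbatim row is helper23.SDMX2) (= `sdmx2h21_core` + row X1 `xfer_iso`).
-/

set_option autoImplicit false
set_option linter.unusedSectionVars false
set_option linter.unusedVariables false

namespace Cfsg.Agent.Lib.Helper18.QBN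

open Cfsg.Agent.Lib.helper14.UBN QuadraticMap

universe u v

variable {F : Type u} [Field F] {W : Type v} [AddCommGroup W] [Module F W] {n : ℕ}

/-- [ROW X2] characteristic 2: a reflection is not in the commutator subgroup (X1; `Φ (CDG.refl Q (E⁻¹ y)) = reflG Q' y`;
`Helper16.C2.dickson Q hQ : isometryGroup →* ℤˣ` with `C2.dickson_refl = -1`; a hom to an abelian group kills commutators) -/
theorem sdmx2h21_reflG_not_mem_commutator {ι : Type} [Fintype ι] [DecidableEq ι] [CharP F 2]
    {V : Type v} [AddCommGroup V] [Module F V]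
    (Q : QuadraticForm F (ι → F)) (hQ : (QuadraticMap.polarBilin Q).Nondegenerate)
    (Q' : QuadraticForm F V) (E : (ι → F) ≃ₗ[F] V) (hE : ∀ x, Q' (E x) = Q x) (y : V) (hy : Q' y ≠ 0) :
    reflG Q' y hy ∉ commutator ↥(OQ Q') :=
  sdmx2h21_core Q hQ Q' E hE (xfer_iso (⇑Q) Q' E hE) y hy

end Cfsg.Agent.Lib.Helper18.QBN
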