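import Mathlib

/-!
# A formal centraliser lemma for the gluing layer of S2292 / S2296 (helper21; Mathlib only)

Situation (project SPM, gluing `S_m` with `L = Sp_4` on the indices `{1, 2}`): `B` = generators of the long root `SL_2` at
the index `2`, `u = x_a(1)`, `p = ν((1 2))` (which lies in `L = ⟨B, u⟩`), `s = ν((2 3))`, `d = ν(d')` with `d'` fixing `2` and
`d' (1 2) d'⁻¹ = (2 3)` (e.g. the cycle `(1 3 4 … m)`).  If `d` centralises `B`, `B^p` commutes with `B` (inside `L`) and `u`
commutes with `B^s` (relator G5), then `ν((1 3)) = s p s⁻¹` centralises `B`.  So the relators "`Stab(2) = ⟨(1 3), d'⟩`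
centralises `B`" cost `|B|` words instead of `2 |B|`.
-/

set_option autoImplicit false

namespace Cfsg.Agent.Lib.Helper21.SPMCentr

variable {G : Type*} [Group G]

theorem commute_conj {x y : G} (h : Commute x y) (g : G) : Commute (g * x * g⁻¹) (g * y * g⁻¹) := by
  unfold Commute SemiconjBy at *
  calc g * x * g⁻¹ * (g * y * g⁻¹) = g * (x * y) * g⁻¹ := by group
    _ = g * (y * x) * g⁻¹ := by rw [h]
    _ = g * y * g⁻¹ * (g * x * g⁻¹) := by group

/-- the centraliser lemma -/
theorem conj_centralizes (B : Set G) (u p s d : G)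
    (hp : p ∈ Subgroup.closure (B ∪ {u}))
    (h2 : ∀ b ∈ B, ∀ b' ∈ B, Commute (p * b * p⁻¹) b')
    (h3 : ∀ b ∈ B, d * b * d⁻¹ = b)
    (h4 : d * p * d⁻¹ = s)
    (h5 : ∀ b ∈ B, Commute u (s * b * s⁻¹))
    (h6 : s * s = 1) :
    ∀ b ∈ B, Commute (s * p * s⁻¹) b := by
  -- the subgroup of the elements whose `s`-conjugate centralises `B`
  have hle : Subgroup.closure (B ∪ {u}) ≤
      (Subgroup.centralizer B).comap (MulAut.conj s).toMonoidHom := by
    rw [Subgroup.closure_le]
    rintro x (hx | hx)
    · -- `x ∈ B`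
      simp only [Subgroup.coe_comap, Set.mem_preimage, SetLike.mem_coe, MulEquiv.coe_toMonoidHom,
        MulAut.conj_apply, Subgroup.mem_centralizer_iff]
      intro b' hb'
      have h := commute_conj (h2 x hx b' hb') d
      have e1 : d * (p * x * p⁻¹) * d⁻¹ = s * x * s⁻¹ := by
        have : d * (p * x * p⁻¹) * d⁻¹ = (d * p * d⁻¹) * (d * x * d⁻¹) * (d * p * d⁻¹)⁻¹ := by group
        rw [this, h4, h3 x hx]
      rw [e1, h3 b' hb'] at h
      exact h.symm.eq
    · -- `x = u`
      rw [Set.mem_singleton_iff] at hx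
      subst hx
      simp only [Subgroup.coe_comap, Set.mem_preimage, SetLike.mem_coe, MulEquiv.coe_toMonoidHom,
        MulAut.conj_apply, Subgroup.mem_centralizer_iff]
      intro b' hb'
      have h := commute_conj (h5 b' hb') s
      have e1 : s * (s * b' * s⁻¹) * s⁻¹ = b' := by
        have : s * (s * b' * s⁻¹) * s⁻¹ = (s * s) * b' * (s * s)⁻¹ := by group
        rw [this, h6]; group
      rw [e1] at h
      exact h.symm.eq
  intro b hb
  have := hle hp
  simp only [Subgroup.mem_comap, MulEquiv.coe_toMonoidHom, MulAut.conj_apply,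
    Subgroup.mem_centralizer_iff] at this
  exact (this b hb).symm

end Cfsg.Agent.Lib.Helper21.SPMCentr
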