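import Mathlib
import Cfsg.Prelude.Def_GeometricClasses
import Cfsg.Agent.Lib.Helper27.ASC.Defs
import Cfsg.Agent.Lib.helper6.Symp
import Cfsg.Agent.S5646
import Cfsg.Agent.Lib.Helper28.DecGen

/-!
# Project SPX, phase 2, piece P2-TS3 : over the field with three elements the stabiliser in `Sp_4` of a pair of complementary
totally isotropic planes preserves a decomposition into two non-degenerate planes.
-/

set_option autoImplicit false
set_option linter.unusedVariables false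
set_option linter.unusedSectionVars false
set_option linter.unusedSimpArgs false

namespace Cfsg.Agent.Lib.helper6.SPX

open Cfsg Cfsg.Geo Cfsg.Agent.Lib.Helper27.ASC Cfsg.Agent.Lib.helper6
open scoped MatrixGroups Matrix Kronecker

variable {F : Type*} [Field F]

/-- a symplectic basis `e1, e2, f1, f2` of `F^4` (Gram data only) -/
structure SpxTs3Basis (e1 e2 f1 f2 : Fin 2 ⊕ Fin 2 → F) : Prop where
  e12 : sympForm 2 F e1 e2 = 0
  f12 : sympForm 2 F f1 f2 = 0
  e1f1 : sympForm 2 F e1 f1 = 1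
  e1f2 : sympForm 2 F e1 f2 = 0
  e2f1 : sympForm 2 F e2 f1 = 0
  e2f2 : sympForm 2 F e2 f2 = 1

namespace SpxTs3Basis

variable {e1 e2 f1 f2 : Fin 2 ⊕ Fin 2 → F} (h : SpxTs3Basis e1 e2 f1 f2)
include h

theorem e21 : sympForm 2 F e2 e1 = 0 := by rw [sympForm_swap, h.e12, neg_zero]
theorem f21 : sympForm 2 F f2 f1 = 0 := by rw [sympForm_swap, h.f12, neg_zero]
theorem f1e1 : sympForm 2 F f1 e1 = -1 := by rw [sympForm_swap, h.e1f1]
theorem f2e1 : sympForm 2 F f2 e1 = 0 := by rw [sympForm_swap, h.e1f2, neg_zero]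
theorem f1e2 : sympForm 2 F f1 e2 = 0 := by rw [sympForm_swap, h.e2f1, neg_zero]
theorem f2e2 : sympForm 2 F f2 e2 = -1 := by rw [sympForm_swap, h.e2f2]

/-- the value of the form on two vectors given in coordinates -/
theorem form_coord (x1 x2 y1 y2 x1' x2' y1' y2' : F) :
    sympForm 2 F (x1 • e1 + x2 • e2 + y1 • f1 + y2 • f2) (x1' • e1 + x2' • e2 + y1' • f1 + y2' • f2) =
      x1 * y1' + x2 * y2' - y1 * x1' - y2 * x2' := by
  simp only [sympForm_add_left, sympForm_add_right, sympForm_smul_left, sympForm_smul_right, sympForm_self,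
    h.e12, h.f12, h.e1f1, h.e1f2, h.e2f1, h.e2f2, h.e21, h.f21, h.f1e1, h.f2e1, h.f1e2, h.f2e2]
  ring

/-- the form on `W × W'` -/
theorem form_ef (x1 x2 y1 y2 : F) :
    sympForm 2 F (x1 • e1 + x2 • e2) (y1 • f1 + y2 • f2) = x1 * y1 + x2 * y2 := by
  simp only [sympForm_add_left, sympForm_add_right, sympForm_smul_left, sympForm_smul_right, sympForm_self,
    h.e12, h.f12, h.e1f1, h.e1f2, h.e2f1, h.e2f2, h.e21, h.f21, h.f1e1, h.f2e1, h.f1e2, h.f2e2]
  ring

/-- the form on `W' × W` -/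
theorem form_fe (x1 x2 y1 y2 : F) :
    sympForm 2 F (y1 • f1 + y2 • f2) (x1 • e1 + x2 • e2) = -(x1 * y1 + x2 * y2) := by
  rw [sympForm_swap, h.form_ef]

/-- the planes `P ε = ⟨e1 + ε f2, e2 - ε f1⟩`: the form between two of them -/
theorem form_P (ε ε' s t s' t' : F) :
    sympForm 2 F (s • (e1 + ε • f2) + t • (e2 - ε • f1)) (s' • (e1 + ε' • f2) + t' • (e2 - ε' • f1)) =
      (ε + ε') * (t * s' - s * t') := by
  simp only [sympForm_add_left, sympForm_add_right, sympForm_smul_left, sympForm_smul_right, sympForm_self,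
    sympForm_sub_left, sympForm_sub_right,
    h.e12, h.f12, h.e1f1, h.e1f2, h.e2f1, h.e2f2, h.e21, h.f21, h.f1e1, h.f2e1, h.f1e2, h.f2e2]
  ring

/-- the stabiliser, identity case -/
theorem stab_id (h3 : ∀ x : F, x ≠ 0 → x = 1 ∨ x = -1)
    (A : Matrix (Fin 2 ⊕ Fin 2) (Fin 2 ⊕ Fin 2) F)
    (hA : ∀ u v, sympForm 2 F (A *ᵥ u) (A *ᵥ v) = sympForm 2 F u v)
    (a c b d a' c' b' d' : F)
    (he1 : A *ᵥ e1 = a • e1 + c • e2) (he2 : A *ᵥ e2 = b • e1 + d • e2)
    (hf1 : A *ᵥ f1 = a' • f1 + c' • f2) (hf2 : A *ᵥ f2 = b' • f1 + d' • f2) :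
    ∃ Δ : F, (Δ = 1 ∨ Δ = -1) ∧ ∀ ε : F,
      A *ᵥ (e1 + ε • f2) = a • (e1 + (ε * Δ) • f2) + c • (e2 - (ε * Δ) • f1) ∧
      A *ᵥ (e2 - ε • f1) = b • (e1 + (ε * Δ) • f2) + d • (e2 - (ε * Δ) • f1) := by
  have E11 : a * a' + c * c' = 1 := by
    have := hA e1 f1
    rwa [he1, hf1, h.form_ef, h.e1f1] at this
  have E12 : a * b' + c * d' = 0 := by
    have := hA e1 f2
    rwa [he1, hf2, h.form_ef, h.e1f2] at this
  have E21 : b * a' + d * c' = 0 := by
    have := hA e2 f1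
    rwa [he2, hf1, h.form_ef, h.e2f1] at this
  have E22 : b * b' + d * d' = 1 := by
    have := hA e2 f2
    rwa [he2, hf2, h.form_ef, h.e2f2] at this
  have hΔ : (a * d - b * c) * (a' * d' - b' * c') = 1 := by
    linear_combination (b * b' + d * d') * E11 + E22 - (b * a' + d * c') * E12
  have hΔ0 : a * d - b * c ≠ 0 := by
    intro h0
    rw [h0, zero_mul] at hΔ
    exact zero_ne_one hΔ
  have hΔ2 : (a * d - b * c) * (a * d - b * c) = 1 := by
    rcases h3 _ hΔ0 with h1 | h1 <;> rw [h1] <;> ring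
  have hb' : b' = -(c * (a * d - b * c)) := by
    have : (a * d - b * c) * b' = -c := by linear_combination d * E12 - c * E22
    linear_combination (-b') * hΔ2 + (a * d - b * c) * this
  have hd' : d' = a * (a * d - b * c) := by
    have : (a * d - b * c) * d' = a := by linear_combination (-b) * E12 + a * E22
    linear_combination (-d') * hΔ2 + (a * d - b * c) * this
  have ha' : a' = d * (a * d - b * c) := by
    have : (a * d - b * c) * a' = d := by linear_combination d * E11 - c * E21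
    linear_combination (-a') * hΔ2 + (a * d - b * c) * this
  have hc' : c' = -(b * (a * d - b * c)) := by
    have : (a * d - b * c) * c' = -b := by linear_combination (-b) * E11 + a * E21
    linear_combination (-c') * hΔ2 + (a * d - b * c) * this
  refine ⟨a * d - b * c, h3 _ hΔ0, fun ε => ⟨?_, ?_⟩⟩
  · rw [Matrix.mulVec_add, Matrix.mulVec_smul, he1, hf2, hb', hd']
    module
  · rw [Matrix.mulVec_sub, Matrix.mulVec_smul, he2, hf1, ha', hc']
    module

/-- the stabiliser, swap case -/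
theorem stab_swap (h3 : ∀ x : F, x ≠ 0 → x = 1 ∨ x = -1)
    (A : Matrix (Fin 2 ⊕ Fin 2) (Fin 2 ⊕ Fin 2) F)
    (hA : ∀ u v, sympForm 2 F (A *ᵥ u) (A *ᵥ v) = sympForm 2 F u v)
    (a c b d a' c' b' d' : F)
    (he1 : A *ᵥ e1 = a • f1 + c • f2) (he2 : A *ᵥ e2 = b • f1 + d • f2)
    (hf1 : A *ᵥ f1 = a' • e1 + c' • e2) (hf2 : A *ᵥ f2 = b' • e1 + d' • e2) :
    ∃ Δ : F, (Δ = 1 ∨ Δ = -1) ∧ ∀ ε : F, ε * ε = 1 →
      A *ᵥ (e1 + ε • f2) = (ε * b') • (e1 + (ε * Δ) • f2) + (ε * d') • (e2 - (ε * Δ) • f1) ∧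
      A *ᵥ (e2 - ε • f1) = (-(ε * a')) • (e1 + (ε * Δ) • f2) + (-(ε * c')) • (e2 - (ε * Δ) • f1) := by
  have E11 : -(a' * a + c' * c) = 1 := by
    have := hA e1 f1
    rwa [he1, hf1, h.form_fe, h.e1f1] at this
  have E12 : -(b' * a + d' * c) = 0 := by
    have := hA e1 f2
    rwa [he1, hf2, h.form_fe, h.e1f2] at this
  have E21 : -(a' * b + c' * d) = 0 := by
    have := hA e2 f1
    rwa [he2, hf1, h.form_fe, h.e2f1] at this
  have E22 : -(b' * b + d' * d) = 1 := by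
    have := hA e2 f2
    rwa [he2, hf2, h.form_fe, h.e2f2] at this
  have hΔ : (a * d - b * c) * (a' * d' - b' * c') = 1 := by
    linear_combination (-(b * b' + d * d')) * E11 + E22 + (b * a' + d * c') * E12
  have hΔ0 : a * d - b * c ≠ 0 := by
    intro h0
    rw [h0, zero_mul] at hΔ
    exact zero_ne_one hΔ
  have hΔ2 : (a * d - b * c) * (a * d - b * c) = 1 := by
    rcases h3 _ hΔ0 with h1 | h1 <;> rw [h1] <;> ring
  have hb' : c = b' * (a * d - b * c) := by
    linear_combination (-c) * E22 + d * E12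
  have hd' : a = -(d' * (a * d - b * c)) := by
    linear_combination (-a) * E22 + b * E12
  have ha' : d = -(a' * (a * d - b * c)) := by
    linear_combination (-d) * E11 + c * E21
  have hc' : b = c' * (a * d - b * c) := by
    linear_combination (-b) * E11 + a * E21
  refine ⟨a * d - b * c, h3 _ hΔ0, fun ε hε => ⟨?_, ?_⟩⟩
  · have k1 : ε * b' * (ε * (a * d - b * c)) = c := by
      linear_combination (b' * (a * d - b * c)) * hε - hb'
    have k2 : ε * d' * (ε * (a * d - b * c)) = -a := by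
      linear_combination (d' * (a * d - b * c)) * hε + hd'
    rw [Matrix.mulVec_add, Matrix.mulVec_smul, he1, hf2]
    simp only [smul_add, smul_sub, smul_smul]
    rw [k1, k2]
    module
  · have k3 : -(ε * a') * (ε * (a * d - b * c)) = d := by
      linear_combination (-(a' * (a * d - b * c))) * hε - ha'
    have k4 : -(ε * c') * (ε * (a * d - b * c)) = -b := by
      linear_combination (-(c' * (a * d - b * c))) * hε + hc'
    rw [Matrix.mulVec_sub, Matrix.mulVec_smul, he2, hf1]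
    simp only [smul_add, smul_sub, smul_smul]
    rw [k3, k4]
    module

end SpxTs3Basis

/-- in the field with three elements every non-zero element is `±1` -/
theorem spxts3_card3 [Fintype F] (hq : Fintype.card F = 3) : ∀ x : F, x ≠ 0 → x = 1 ∨ x = -1 := by
  intro x hx
  have h1 := FiniteField.pow_card_sub_one_eq_one x hx
  rw [hq] at h1
  have h2 : (x - 1) * (x + 1) = 0 := by
    have : x ^ 2 = 1 := h1
    linear_combination this
  rcases mul_eq_zero.1 h2 with h | h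
  · exact Or.inl (sub_eq_zero.1 h)
  · exact Or.inr (eq_neg_of_add_eq_zero_left h)

/-- in the field with three elements `2 ≠ 0` -/
theorem spxts3_two_ne [Fintype F] (hq : Fintype.card F = 3) : (2 : F) ≠ 0 := by
  intro h2
  have h3 : ((Fintype.card F : ℕ) : F) = 0 := FiniteField.cast_card_eq_zero F
  rw [hq] at h3
  have : (1 : F) = 0 := by
    have h3' : (3 : F) = 0 := by exact_mod_cast h3
    linear_combination h3' - h2
  exact one_ne_zero this

theorem spxts3_range_pair {M : Type*} (x y : M) : Set.range ![x, y] = {x, y} := by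
  ext z
  simp [eq_comm, or_comm]

/-- a symplectic basis adapted to a pair of complementary totally isotropic planes -/
theorem spxts3_exists_basis (D : Fin 2 → Submodule F (Fin 2 ⊕ Fin 2 → F)) (hD : IsMDecomposition 2 D)
    (hts : ∀ i, IsTotallySingularFor (sympForm 2 F) (D i)) :
    ∃ e1 e2 f1 f2 : Fin 2 ⊕ Fin 2 → F, SpxTs3Basis e1 e2 f1 f2 ∧ e1 ∈ D 0 ∧ e2 ∈ D 0 ∧ f1 ∈ D 1 ∧ f2 ∈ D 1 ∧
      (∀ w ∈ D 0, w = sympForm 2 F w f1 • e1 + sympForm 2 F w f2 • e2) ∧
      (∀ w ∈ D 1, w = sympForm 2 F e1 w • f1 + sympForm 2 F e2 w • f2) ∧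
      (∀ v : Fin 2 ⊕ Fin 2 → F, ∃ w ∈ D 0, ∃ w' ∈ D 1, v = w + w') := by
  classical
  have hsup : D 0 ⊔ D 1 = ⊤ := by
    rw [← hD.iSup_eq_top]
    apply le_antisymm
    · exact sup_le (le_iSup D 0) (le_iSup D 1)
    · apply iSup_le
      intro i
      fin_cases i
      · exact le_sup_left
      · exact le_sup_right
  have hdec : ∀ v : Fin 2 ⊕ Fin 2 → F, ∃ w ∈ D 0, ∃ w' ∈ D 1, v = w + w' := by
    intro v
    have hv : v ∈ D 0 ⊔ D 1 := by rw [hsup]; exact Submodule.mem_top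
    obtain ⟨w, hw, w', hw', h⟩ := Submodule.mem_sup.1 hv
    exact ⟨w, hw, w', hw', h.symm⟩
  let b : Module.Basis (Fin 2) F (D 0) := Module.finBasisOfFinrankEq F (D 0) (hD.finrank_eq 0)
  have hbW : ∀ w ∈ D 0, ∃ c0 c1 : F, w = c0 • (b 0 : Fin 2 ⊕ Fin 2 → F) + c1 • (b 1 : Fin 2 ⊕ Fin 2 → F) := by
    intro w hw
    have h := b.sum_repr ⟨w, hw⟩
    rw [Fin.sum_univ_two] at h
    refine ⟨b.repr ⟨w, hw⟩ 0, b.repr ⟨w, hw⟩ 1, ?_⟩
    have h' := congrArg (Subtype.val) h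
    simpa using h'.symm
  -- the pairing `W' → F^2`
  let Φ : D 1 →ₗ[F] (Fin 2 → F) :=
    { toFun := fun w' i => sympForm 2 F (b i : Fin 2 ⊕ Fin 2 → F) (w' : Fin 2 ⊕ Fin 2 → F)
      map_add' := by
        intro x y
        funext i
        simp [sympForm_add_right]
      map_smul' := by
        intro c x
        funext i
        simp [sympForm_smul_right] }
  have hΦ : ∀ (w' : D 1) i, Φ w' i = sympForm 2 F (b i : Fin 2 ⊕ Fin 2 → F) (w' : Fin 2 ⊕ Fin 2 → F) :=
    fun _ _ => rfl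
  have hinj : Function.Injective Φ := by
    rw [← LinearMap.ker_eq_bot, Submodule.eq_bot_iff]
    intro w' hw'
    rw [LinearMap.mem_ker] at hw'
    have h0 : sympForm 2 F (b 0 : Fin 2 ⊕ Fin 2 → F) (w' : Fin 2 ⊕ Fin 2 → F) = 0 := by
      rw [← hΦ, hw']; rfl
    have h1 : sympForm 2 F (b 1 : Fin 2 ⊕ Fin 2 → F) (w' : Fin 2 ⊕ Fin 2 → F) = 0 := by
      rw [← hΦ, hw']; rfl
    by_contra hne
    have hne' : (w' : Fin 2 ⊕ Fin 2 → F) ≠ 0 := fun h => hne (Subtype.ext h)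
    obtain ⟨x, hx⟩ := sympForm_nondeg 2 _ hne'
    apply hx
    obtain ⟨w, hw, w'', hw'', rfl⟩ := hdec x
    obtain ⟨c0, c1, rfl⟩ := hbW w hw
    rw [sympForm_swap, sympForm_add_left, sympForm_add_left, sympForm_smul_left, sympForm_smul_left, h0, h1,
      hts 1 w'' hw'' w' w'.2]
    simp
  have hsurj : Function.Surjective Φ := by
    have hfr : Module.finrank F (D 1) = Module.finrank F (Fin 2 → F) := by
      rw [hD.finrank_eq 1, Module.finrank_fin_fun]
    exact (LinearMap.injective_iff_surjective_of_finrank_eq_finrank hfr).1 hinj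
  obtain ⟨f1, hf1⟩ := hsurj (Pi.single 0 1)
  obtain ⟨f2, hf2⟩ := hsurj (Pi.single 1 1)
  have g01 : sympForm 2 F (b 0 : Fin 2 ⊕ Fin 2 → F) (f1 : Fin 2 ⊕ Fin 2 → F) = 1 := by
    rw [← hΦ, hf1]; simp
  have g11 : sympForm 2 F (b 1 : Fin 2 ⊕ Fin 2 → F) (f1 : Fin 2 ⊕ Fin 2 → F) = 0 := by
    rw [← hΦ, hf1]; simp
  have g02 : sympForm 2 F (b 0 : Fin 2 ⊕ Fin 2 → F) (f2 : Fin 2 ⊕ Fin 2 → F) = 0 := by
    rw [← hΦ, hf2]; simp
  have g12 : sympForm 2 F (b 1 : Fin 2 ⊕ Fin 2 → F) (f2 : Fin 2 ⊕ Fin 2 → F) = 1 := by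
    rw [← hΦ, hf2]; simp
  have hB : SpxTs3Basis (b 0 : Fin 2 ⊕ Fin 2 → F) (b 1 : Fin 2 ⊕ Fin 2 → F) (f1 : Fin 2 ⊕ Fin 2 → F)
      (f2 : Fin 2 ⊕ Fin 2 → F) :=
    ⟨hts 0 _ (b 0).2 _ (b 1).2, hts 1 _ f1.2 _ f2.2, g01, g02, g11, g12⟩
  refine ⟨(b 0 : Fin 2 ⊕ Fin 2 → F), (b 1 : Fin 2 ⊕ Fin 2 → F), (f1 : Fin 2 ⊕ Fin 2 → F),
    (f2 : Fin 2 ⊕ Fin 2 → F), hB, (b 0).2, (b 1).2, f1.2, f2.2, ?_, ?_, hdec⟩
  · intro w hw
    obtain ⟨c0, c1, rfl⟩ := hbW w hw
    have := hB.form_ef c0 c1 1 0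
    have h2 := hB.form_ef c0 c1 0 1
    simp only [one_smul, zero_smul, add_zero, zero_add, mul_one, mul_zero] at this h2
    rw [this, h2]
  · intro w hw
    have hu : sympForm 2 F (b 0 : Fin 2 ⊕ Fin 2 → F) w • (f1 : Fin 2 ⊕ Fin 2 → F) +
        sympForm 2 F (b 1 : Fin 2 ⊕ Fin 2 → F) w • (f2 : Fin 2 ⊕ Fin 2 → F) ∈ D 1 :=
      (D 1).add_mem ((D 1).smul_mem _ f1.2) ((D 1).smul_mem _ f2.2)
    have : (⟨w, hw⟩ : D 1) = ⟨_, hu⟩ := by
      apply hinj
      funext i
      rw [hΦ, hΦ]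
      show sympForm 2 F (b i : Fin 2 ⊕ Fin 2 → F) w = sympForm 2 F (b i : Fin 2 ⊕ Fin 2 → F)
        (sympForm 2 F (b 0 : Fin 2 ⊕ Fin 2 → F) w • (f1 : Fin 2 ⊕ Fin 2 → F) +
        sympForm 2 F (b 1 : Fin 2 ⊕ Fin 2 → F) w • (f2 : Fin 2 ⊕ Fin 2 → F))
      rw [sympForm_add_right, sympForm_smul_right, sympForm_smul_right]
      fin_cases i
      · simp only [Fin.zero_eta, g01, g02]; ring
      · simp only [Fin.mk_one, g11, g12]; ring
    exact congrArg Subtype.val this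

/-- the plane `P ε = ⟨e1 + ε f2, e2 - ε f1⟩` -/
def spxts3P (e1 e2 f1 f2 : Fin 2 ⊕ Fin 2 → F) (ε : F) : Submodule F (Fin 2 ⊕ Fin 2 → F) :=
  Submodule.span F {e1 + ε • f2, e2 - ε • f1}

theorem spxts3_mem_P {e1 e2 f1 f2 : Fin 2 ⊕ Fin 2 → F} {ε : F} {z : Fin 2 ⊕ Fin 2 → F} :
    z ∈ spxts3P e1 e2 f1 f2 ε ↔ ∃ s t : F, s • (e1 + ε • f2) + t • (e2 - ε • f1) = z :=
  Submodule.mem_span_pair

section planes

variable {e1 e2 f1 f2 : Fin 2 ⊕ Fin 2 → F} (h : SpxTs3Basis e1 e2 f1 f2)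
include h

theorem spxts3_P_finrank (h2 : (2 : F) ≠ 0) {ε : F} (hε : ε ≠ 0) :
    Module.finrank F (spxts3P e1 e2 f1 f2 ε) = 2 := by
  have hli : LinearIndependent F ![e1 + ε • f2, e2 - ε • f1] := by
    rw [LinearIndependent.pair_iff]
    intro s t hst
    have k1 := h.form_P ε ε s t 0 1
    have k2 := h.form_P ε ε s t 1 0
    rw [hst, sympForm_zero_left] at k1 k2
    have h2ε : ε + ε ≠ 0 := by
      intro h0
      have : (2 : F) * ε = 0 := by linear_combination h0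
      rcases mul_eq_zero.1 this with h' | h'
      · exact h2 h'
      · exact hε h'
    constructor
    · have : (ε + ε) * s = 0 := by linear_combination k1
      exact (mul_eq_zero.1 this).resolve_left h2ε
    · have : (ε + ε) * t = 0 := by linear_combination -k2
      exact (mul_eq_zero.1 this).resolve_left h2ε
  have := finrank_span_eq_card hli
  rw [spxts3_range_pair, Fintype.card_fin] at this
  exact this

theorem spxts3_P_nondeg (h2 : (2 : F) ≠ 0) {ε : F} (hε : ε ≠ 0) :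
    IsNondegenerateOn (sympForm 2 F) (spxts3P e1 e2 f1 f2 ε) := by
  have h2ε : ε + ε ≠ 0 := by
    intro h0
    have : (2 : F) * ε = 0 := by linear_combination h0
    rcases mul_eq_zero.1 this with h' | h'
    · exact h2 h'
    · exact hε h'
  have hp1 : e1 + ε • f2 ∈ spxts3P e1 e2 f1 f2 ε := Submodule.subset_span (by simp)
  have hp2 : e2 - ε • f1 ∈ spxts3P e1 e2 f1 f2 ε := Submodule.subset_span (by simp)
  intro w hw hw0
  obtain ⟨s, t, rfl⟩ := spxts3_mem_P.1 hw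
  by_cases hs : s = 0
  · have ht : t ≠ 0 := by
      rintro rfl
      apply hw0
      rw [hs]
      simp
    refine ⟨⟨e1 + ε • f2, hp1, ?_⟩, ⟨e1 + ε • f2, hp1, ?_⟩⟩
    · have k := h.form_P ε ε 1 0 s t
      rw [one_smul, zero_smul, add_zero] at k
      rw [k]
      have : (ε + ε) * (0 * s - 1 * t) = -((ε + ε) * t) := by ring
      rw [this]
      exact neg_ne_zero.2 (mul_ne_zero h2ε ht)
    · have k := h.form_P ε ε s t 1 0
      rw [one_smul, zero_smul, add_zero] at k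
      rw [k]
      have : (ε + ε) * (t * 1 - s * 0) = (ε + ε) * t := by ring
      rw [this]
      exact mul_ne_zero h2ε ht
  · refine ⟨⟨e2 - ε • f1, hp2, ?_⟩, ⟨e2 - ε • f1, hp2, ?_⟩⟩
    · have k := h.form_P ε ε 0 1 s t
      rw [one_smul, zero_smul, zero_add] at k
      rw [k]
      have : (ε + ε) * (1 * s - 0 * t) = (ε + ε) * s := by ring
      rw [this]
      exact mul_ne_zero h2ε hs
    · have k := h.form_P ε ε s t 0 1
      rw [one_smul, zero_smul, zero_add] at k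
      rw [k]
      have : (ε + ε) * (t * 0 - s * 1) = -((ε + ε) * s) := by ring
      rw [this]
      exact neg_ne_zero.2 (mul_ne_zero h2ε hs)

theorem spxts3_P_orth {ε ε' : F} (hε : ε + ε' = 0) :
    AreOrthogonalFor (sympForm 2 F) (spxts3P e1 e2 f1 f2 ε) (spxts3P e1 e2 f1 f2 ε') := by
  intro u hu v hv
  obtain ⟨s, t, rfl⟩ := spxts3_mem_P.1 hu
  obtain ⟨s', t', rfl⟩ := spxts3_mem_P.1 hv
  rw [h.form_P, hε, zero_mul]

end planes

/-- P2-TS3 : over the field with three elements the stabiliser in `Sp_4` of a pair of complementary totally isotropic planes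
preserves a decomposition into two non-degenerate planes. -/
theorem tspair_q3_dec [Fintype F] (hq : Fintype.card F = 3) (D : Fin 2 → Submodule F (Fin 2 ⊕ Fin 2 → F))
    (hD : IsMDecomposition 2 D) (hts : ∀ i, IsTotallySingularFor (sympForm 2 F) (D i)) :
    ∃ D' : Fin 2 → Submodule F (Fin 2 ⊕ Fin 2 → F), IsNondegenerateMDecomposition (sympForm 2 F) 2 D' ∧
      decompositionStabilizer D ⊓ spGL 2 F ≤ decompositionStabilizer D' := by
  classical
  have h3 := spxts3_card3 hq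
  have h2 := spxts3_two_ne hq
  obtain ⟨e1, e2, f1, f2, hB, he1, he2, hf1, hf2, hW, hW', hdec⟩ := spxts3_exists_basis D hD hts
  have hfr : ∀ i, Module.finrank F ((![spxts3P e1 e2 f1 f2 1, spxts3P e1 e2 f1 f2 (-1)] :
      Fin 2 → Submodule F (Fin 2 ⊕ Fin 2 → F)) i) = 2 := by
    intro i
    fin_cases i
    · exact spxts3_P_finrank hB h2 one_ne_zero
    · exact spxts3_P_finrank hB h2 (neg_ne_zero.2 one_ne_zero)
  refine ⟨![spxts3P e1 e2 f1 f2 1, spxts3P e1 e2 f1 f2 (-1)], ⟨⟨le_refl 2, by norm_num, hfr, ?_, ?_⟩, ?_, ?_⟩, ?_⟩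
  · -- independent
    rw [iSupIndep_pair (i := (0 : Fin 2)) (j := 1) (by decide) (by intro k; fin_cases k <;> simp)]
    show Disjoint (spxts3P e1 e2 f1 f2 1) (spxts3P e1 e2 f1 f2 (-1))
    rw [Submodule.disjoint_def]
    intro x hx hx'
    by_contra hne
    obtain ⟨⟨y, hy, hyx⟩, -⟩ := spxts3_P_nondeg hB h2 one_ne_zero x hx hne
    exact hyx (spxts3_P_orth hB (by ring) y hy x hx')
  · -- spanning
    rw [eq_top_iff]
    intro v _
    have hle0 : spxts3P e1 e2 f1 f2 1 ≤ ⨆ i, (![spxts3P e1 e2 f1 f2 1, spxts3P e1 e2 f1 f2 (-1)] :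
        Fin 2 → Submodule F (Fin 2 ⊕ Fin 2 → F)) i :=
      le_iSup (fun i => (![spxts3P e1 e2 f1 f2 1, spxts3P e1 e2 f1 f2 (-1)] :
        Fin 2 → Submodule F (Fin 2 ⊕ Fin 2 → F)) i) 0
    have hle1 : spxts3P e1 e2 f1 f2 (-1) ≤ ⨆ i, (![spxts3P e1 e2 f1 f2 1, spxts3P e1 e2 f1 f2 (-1)] :
        Fin 2 → Submodule F (Fin 2 ⊕ Fin 2 → F)) i :=
      le_iSup (fun i => (![spxts3P e1 e2 f1 f2 1, spxts3P e1 e2 f1 f2 (-1)] :
        Fin 2 → Submodule F (Fin 2 ⊕ Fin 2 → F)) i) 1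
    have p1 : e1 + (1 : F) • f2 ∈ spxts3P e1 e2 f1 f2 1 := Submodule.subset_span (by simp)
    have p2 : e2 - (1 : F) • f1 ∈ spxts3P e1 e2 f1 f2 1 := Submodule.subset_span (by simp)
    have m1 : e1 + (-1 : F) • f2 ∈ spxts3P e1 e2 f1 f2 (-1) := Submodule.subset_span (by simp)
    have m2 : e2 - (-1 : F) • f1 ∈ spxts3P e1 e2 f1 f2 (-1) := Submodule.subset_span (by simp)
    have hhalf : (2 : F)⁻¹ + (2 : F)⁻¹ = 1 := by
      field_simp
      norm_num
    set S := ⨆ i, (![spxts3P e1 e2 f1 f2 1, spxts3P e1 e2 f1 f2 (-1)] :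
        Fin 2 → Submodule F (Fin 2 ⊕ Fin 2 → F)) i with hS
    have q1 : e1 ∈ S := by
      have : e1 = (2 : F)⁻¹ • (e1 + (1 : F) • f2) + (2 : F)⁻¹ • (e1 + (-1 : F) • f2) := by
        linear_combination (norm := module) (-hhalf) • e1
      rw [this]
      exact S.add_mem (S.smul_mem _ (hle0 p1)) (S.smul_mem _ (hle1 m1))
    have q2 : f2 ∈ S := by
      have : f2 = (2 : F)⁻¹ • (e1 + (1 : F) • f2) - (2 : F)⁻¹ • (e1 + (-1 : F) • f2) := by
        linear_combination (norm := module) (-hhalf) • f2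
      rw [this]
      exact S.sub_mem (S.smul_mem _ (hle0 p1)) (S.smul_mem _ (hle1 m1))
    have q3 : e2 ∈ S := by
      have : e2 = (2 : F)⁻¹ • (e2 - (1 : F) • f1) + (2 : F)⁻¹ • (e2 - (-1 : F) • f1) := by
        linear_combination (norm := module) (-hhalf) • e2
      rw [this]
      exact S.add_mem (S.smul_mem _ (hle0 p2)) (S.smul_mem _ (hle1 m2))
    have q4 : f1 ∈ S := by
      have : f1 = (2 : F)⁻¹ • (e2 - (-1 : F) • f1) - (2 : F)⁻¹ • (e2 - (1 : F) • f1) := by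
        linear_combination (norm := module) (-hhalf) • f1
      rw [this]
      exact S.sub_mem (S.smul_mem _ (hle1 m2)) (S.smul_mem _ (hle0 p2))
    obtain ⟨w, hw, w', hw', rfl⟩ := hdec v
    rw [hW w hw, hW' w' hw']
    exact S.add_mem (S.add_mem (S.smul_mem _ q1) (S.smul_mem _ q3)) (S.add_mem (S.smul_mem _ q4) (S.smul_mem _ q2))
  · -- non-degenerate
    intro i
    fin_cases i
    · exact spxts3_P_nondeg hB h2 one_ne_zero
    · exact spxts3_P_nondeg hB h2 (neg_ne_zero.2 one_ne_zero)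
  · -- orthogonal
    intro i j hij
    fin_cases i <;> fin_cases j
    · exact absurd rfl hij
    · exact spxts3_P_orth hB (by ring)
    · exact spxts3_P_orth hB (by ring)
    · exact absurd rfl hij
  · -- the stabiliser
    rintro g ⟨⟨σ, hσ⟩, hgS⟩
    have hA := (Cfsg.Agent.S5646.mem_spGL_iff g).1 hgS
    have hmap : ∀ i, ∀ x ∈ D i, (g : Matrix (Fin 2 ⊕ Fin 2) (Fin 2 ⊕ Fin 2) F) *ᵥ x ∈ D (σ i) := by
      intro i x hx
      rw [← hσ i]
      exact ⟨x, hx, by rw [Matrix.toLin'_apply]⟩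
    have hfin : ∀ k : Fin 2, k = 0 ∨ k = 1 := by decide
    have key : ∃ Δ : F, (Δ = 1 ∨ Δ = -1) ∧ ∀ ε : F, ε * ε = 1 → ∀ x ∈ spxts3P e1 e2 f1 f2 ε,
        (g : Matrix (Fin 2 ⊕ Fin 2) (Fin 2 ⊕ Fin 2) F) *ᵥ x ∈ spxts3P e1 e2 f1 f2 (ε * Δ) := by
      rcases hfin (σ 0) with h0 | h0
      · have h1 : σ 1 = 1 := by
          rcases hfin (σ 1) with h1 | h1
          · exact absurd (σ.injective (h1.trans h0.symm)) (by decide)
          · exact h1
        have i1 := hW _ (by have := hmap 0 e1 he1; rwa [h0] at this)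
        have i2 := hW _ (by have := hmap 0 e2 he2; rwa [h0] at this)
        have i3 := hW' _ (by have := hmap 1 f1 hf1; rwa [h1] at this)
        have i4 := hW' _ (by have := hmap 1 f2 hf2; rwa [h1] at this)
        obtain ⟨Δ, hΔ, hall⟩ := hB.stab_id h3 _ hA _ _ _ _ _ _ _ _ i1 i2 i3 i4
        refine ⟨Δ, hΔ, fun ε _ x hx => ?_⟩
        obtain ⟨s, t, rfl⟩ := spxts3_mem_P.1 hx
        rw [Matrix.mulVec_add, Matrix.mulVec_smul, Matrix.mulVec_smul, (hall ε).1, (hall ε).2]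
        exact Submodule.add_mem _ (Submodule.smul_mem _ _ (spxts3_mem_P.2 ⟨_, _, rfl⟩))
          (Submodule.smul_mem _ _ (spxts3_mem_P.2 ⟨_, _, rfl⟩))
      · have h1 : σ 1 = 0 := by
          rcases hfin (σ 1) with h1 | h1
          · exact h1
          · exact absurd (σ.injective (h1.trans h0.symm)) (by decide)
        have i1 := hW' _ (by have := hmap 0 e1 he1; rwa [h0] at this)
        have i2 := hW' _ (by have := hmap 0 e2 he2; rwa [h0] at this)
        have i3 := hW _ (by have := hmap 1 f1 hf1; rwa [h1] at this)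
        have i4 := hW _ (by have := hmap 1 f2 hf2; rwa [h1] at this)
        obtain ⟨Δ, hΔ, hall⟩ := hB.stab_swap h3 _ hA _ _ _ _ _ _ _ _ i1 i2 i3 i4
        refine ⟨Δ, hΔ, fun ε hε x hx => ?_⟩
        obtain ⟨s, t, rfl⟩ := spxts3_mem_P.1 hx
        rw [Matrix.mulVec_add, Matrix.mulVec_smul, Matrix.mulVec_smul, (hall ε hε).1, (hall ε hε).2]
        exact Submodule.add_mem _ (Submodule.smul_mem _ _ (spxts3_mem_P.2 ⟨_, _, rfl⟩))
          (Submodule.smul_mem _ _ (spxts3_mem_P.2 ⟨_, _, rfl⟩))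
    obtain ⟨Δ, hΔ, hall⟩ := key
    rcases hΔ with rfl | rfl
    · refine Cfsg.Agent.Lib.Helper28.DecGen.stab_of_maps _ hfr g 1 ?_
      intro i x hx
      fin_cases i
      · have := hall 1 (by ring) x hx
        rwa [mul_one] at this
      · have := hall (-1) (by ring) x hx
        rwa [mul_one] at this
    · refine Cfsg.Agent.Lib.Helper28.DecGen.stab_of_maps _ hfr g (Equiv.swap 0 1) ?_
      intro i x hx
      fin_cases i
      · have := hall 1 (by ring) x hx
        rw [one_mul] at this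
        exact this
      · have := hall (-1) (by ring) x hx
        rw [neg_mul_neg, one_mul] at this
        exact this

end Cfsg.Agent.Lib.helper6.SPX
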