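import Mathlib

set_option autoImplicit false

namespace Cfsg.Agent.Lib.helper6.SPX

/-- the extraspecial group `2_-^(1+4) = Q_8 ∘ D_8` as a twisted product `F_2^4 × F_2` -/
structure SpxU3G where
  v1 : ZMod 2
  v2 : ZMod 2
  v3 : ZMod 2
  v4 : ZMod 2
  e : ZMod 2
  deriving DecidableEq, Fintype

namespace SpxU3G

/-- the cocycle -/
def beta (x y : SpxU3G) : ZMod 2 :=
  x.v1 * y.v1 + x.v2 * y.v1 + x.v2 * y.v2 + x.v3 * y.v3 + x.v4 * y.v3

instance : Mul SpxU3G := ⟨fun x y => ⟨x.v1 + y.v1, x.v2 + y.v2, x.v3 + y.v3, x.v4 + y.v4, x.e + y.e + beta x y⟩⟩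
instance : One SpxU3G := ⟨⟨0, 0, 0, 0, 0⟩⟩
instance : Inv SpxU3G := ⟨fun x => ⟨x.v1, x.v2, x.v3, x.v4, x.e + beta x x⟩⟩

theorem mul_def (x y : SpxU3G) :
    x * y = ⟨x.v1 + y.v1, x.v2 + y.v2, x.v3 + y.v3, x.v4 + y.v4, x.e + y.e + beta x y⟩ := rfl
theorem one_def : (1 : SpxU3G) = ⟨0, 0, 0, 0, 0⟩ := rfl
theorem inv_def (x : SpxU3G) : x⁻¹ = ⟨x.v1, x.v2, x.v3, x.v4, x.e + beta x x⟩ := rfl

theorem forall_iff (P : SpxU3G → Prop) : (∀ x, P x) ↔ ∀ a b c d e : ZMod 2, P ⟨a, b, c, d, e⟩ :=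
  ⟨fun h a b c d e => h _, fun h x => by cases x; exact h _ _ _ _ _⟩

instance : Group SpxU3G where
  mul_assoc := by
    rintro ⟨a1, a2, a3, a4, a5⟩ ⟨b1, b2, b3, b4, b5⟩ ⟨c1, c2, c3, c4, c5⟩
    simp only [mul_def, beta, mk.injEq]
    refine ⟨by ring, by ring, by ring, by ring, by ring⟩
  one_mul := by
    rintro ⟨a1, a2, a3, a4, a5⟩
    simp [mul_def, one_def, beta]
  mul_one := by
    rintro ⟨a1, a2, a3, a4, a5⟩
    simp [mul_def, one_def, beta]
  inv_mul_cancel := by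
    rw [forall_iff]
    decide +kernel

/-- the central involution -/
def z : SpxU3G := ⟨0, 0, 0, 0, 1⟩

/-- all the elements -/
def elems : List SpxU3G :=
  [0, 1].flatMap fun a => [0, 1].flatMap fun b => [0, 1].flatMap fun c => [0, 1].flatMap fun d =>
    [0, 1].map fun e => (⟨a, b, c, d, e⟩ : SpxU3G)

theorem mem_elems (x : SpxU3G) : x ∈ elems := by
  revert x
  rw [forall_iff]
  decide +kernel

theorem forall_of_check {P : SpxU3G → Prop} [DecidablePred P]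
    (h : elems.all (fun x => decide (P x)) = true) : ∀ x, P x := by
  intro x
  have := List.all_eq_true.1 h x (mem_elems x)
  exact of_decide_eq_true this

theorem card_eq : Fintype.card SpxU3G = 32 := by decide +kernel

theorem z_mul_z : z * z = 1 := by decide +kernel

theorem z_ne_one : z ≠ 1 := by decide +kernel

/-- the generators -/
def xA : SpxU3G := ⟨1, 0, 0, 0, 0⟩
/-- the generators -/
def xB : SpxU3G := ⟨0, 1, 0, 0, 0⟩
/-- the generators -/
def xI : SpxU3G := ⟨0, 0, 1, 0, 0⟩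
/-- the generators -/
def xT : SpxU3G := ⟨0, 0, 0, 1, 0⟩

/-- every element is a word in the generators -/
theorem word : ∀ x : SpxU3G, x = (xA * xA) ^ x.e.val * xA ^ x.v1.val * xB ^ x.v2.val * xI ^ x.v3.val * xT ^ x.v4.val :=
  forall_of_check (by decide +kernel)

end SpxU3G

end Cfsg.Agent.Lib.helper6.SPX
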