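import Cfsg.Agent.Lib.Helper21.SPXU3MOD

/-!
# Project SPX, phase 2, piece P2-U3 (helper21) : the explicit `2_-^(1+4)` in `Sp_4(3)` acts absolutely irreducibly
-/

set_option autoImplicit false
set_option linter.unusedVariables false
set_option linter.unusedSectionVars false
set_option linter.unusedSimpArgs false

namespace Cfsg.Agent.Lib.helper6.SPX

open Cfsg Cfsg.Geo Cfsg.Agent.Lib.Helper27.ASC Cfsg.Agent.Lib.helper6
open scoped MatrixGroups Matrix

variable {F : Type*} [Field F]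

/-- a vector of `F^4` -/
def spxu3Vec (a b c d : F) : Fin 2 ⊕ Fin 2 → F := Sum.elim ![a, b] ![c, d]

theorem spxu3Vec_eta (w : Fin 2 ⊕ Fin 2 → F) :
    w = spxu3Vec (w (Sum.inl 0)) (w (Sum.inl 1)) (w (Sum.inr 0)) (w (Sum.inr 1)) := by
  ext i
  rcases i with i | i <;> fin_cases i <;> rfl

theorem spxu3Vec_add (a b c d a' b' c' d' : F) :
    spxu3Vec a b c d + spxu3Vec a' b' c' d' = spxu3Vec (a + a') (b + b') (c + c') (d + d') := by
  ext i
  rcases i with i | i <;> fin_cases i <;> rfl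

theorem spxu3Vec_smul (k a b c d : F) :
    k • spxu3Vec a b c d = spxu3Vec (k * a) (k * b) (k * c) (k * d) := by
  ext i
  rcases i with i | i <;> fin_cases i <;> rfl

theorem spxu3Mat_mulVec (X : SpxN4) (a b c d : F) :
    spxu3Mat F X *ᵥ spxu3Vec a b c d =
      spxu3Vec (X.a11 * a + X.a12 * b + X.a13 * c + X.a14 * d) (X.a21 * a + X.a22 * b + X.a23 * c + X.a24 * d)
        (X.a31 * a + X.a32 * b + X.a33 * c + X.a34 * d) (X.a41 * a + X.a42 * b + X.a43 * c + X.a44 * d) := by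
  ext i
  rcases i with i | i <;> fin_cases i <;>
    simp [spxu3Mat, spxu3Vec, Matrix.mulVec, dotProduct, Fintype.sum_sum_type, Fin.sum_univ_two] <;> ring

section irr

variable [Fintype F]

theorem spxu3_sq_add_sq (hq : Fintype.card F = 3) (x y : F) (h : x * x + y * y = 0) : x = 0 ∧ y = 0 := by
  have h2 := spxu3_two_ne hq
  have h1 : (1 : F) ≠ 0 := one_ne_zero
  rcases spxu3_cases hq x with rfl | rfl | rfl <;> rcases spxu3_cases hq y with rfl | rfl | rfl <;>
    first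
    | exact ⟨rfl, rfl⟩
    | (exfalso; ring_nf at h; first | exact h1 h | exact h2 h)

theorem spxu3_gen_mem (hq : Fintype.card F = 3) (x : SpxU3G) :
    spxu3Mat F (SpxN4.rho x) ∈ matrixSet (spxu3R hq) :=
  ⟨spxu3RhoHom hq x, ⟨x, rfl⟩, spxu3RhoHom_coe hq x⟩

theorem spxu3R_irr (hq : Fintype.card F = 3) : ActsIrreducibly (matrixSet (spxu3R hq)) := by
  have h3 := spxu3_three hq
  have h2 : (2 : F) = -1 := by linear_combination h3
  have h2ne := spxu3_two_ne hq
  intro W hW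
  have hmv : ∀ (x : SpxU3G) (w : Fin 2 ⊕ Fin 2 → F), w ∈ W → spxu3Mat F (SpxN4.rho x) *ᵥ w ∈ W := by
    intro x w hw
    apply hW _ (spxu3_gen_mem hq x)
    exact ⟨w, hw, by simp [Matrix.toLin'_apply]⟩
  have hA : ∀ a b c d : F, spxu3Vec a b c d ∈ W → spxu3Vec c d (-a) (-b) ∈ W := by
    intro a b c d hw
    have := hmv SpxU3G.xA _ hw
    rw [SpxN4.rho_xA, spxu3Mat_mulVec] at this
    simpa [SpxN4.gA, h2] using this
  have hI : ∀ a b c d : F, spxu3Vec a b c d ∈ W → spxu3Vec (-b) a (-d) c ∈ W := by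
    intro a b c d hw
    have := hmv SpxU3G.xI _ hw
    rw [SpxN4.rho_xI, spxu3Mat_mulVec] at this
    simpa [SpxN4.gI, h2] using this
  have hT : ∀ a b c d : F, spxu3Vec a b c d ∈ W → spxu3Vec a (-b) c (-d) ∈ W := by
    intro a b c d hw
    have := hmv SpxU3G.xT _ hw
    rw [SpxN4.rho_xT, spxu3Mat_mulVec] at this
    simpa [SpxN4.gT, h2] using this
  by_cases hbot : W = ⊥
  · exact Or.inl hbot
  right
  obtain ⟨w, hwW, hw0⟩ := (Submodule.ne_bot_iff W).1 hbot
  rw [spxu3Vec_eta w] at hwW hw0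
  set a := w (Sum.inl 0)
  set b := w (Sum.inl 1)
  set c := w (Sum.inr 0)
  set d := w (Sum.inr 1)
  -- the two halves
  have hu : spxu3Vec a 0 c 0 ∈ W := by
    have := W.smul_mem (2⁻¹ : F) (W.add_mem hwW (hT _ _ _ _ hwW))
    rw [spxu3Vec_add, spxu3Vec_smul] at this
    convert this using 2 <;> field_simp <;> ring
  have hu' : spxu3Vec 0 b 0 d ∈ W := by
    have := W.smul_mem (2⁻¹ : F) (W.sub_mem hwW (hT _ _ _ _ hwW))
    rw [sub_eq_add_neg, ← neg_one_smul F (spxu3Vec a (-b) c (-d)), spxu3Vec_smul, spxu3Vec_add, spxu3Vec_smul] at this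
    convert this using 2 <;> field_simp <;> ring
  -- a non-zero vector of the first shape
  have hxy : ∃ x y : F, spxu3Vec x 0 y 0 ∈ W ∧ ¬ (x = 0 ∧ y = 0) := by
    by_cases hac : a = 0 ∧ c = 0
    · refine ⟨-b, -d, ?_, ?_⟩
      · have := hI _ _ _ _ hu'
        simpa using this
      · rintro ⟨hb, hd⟩
        apply hw0
        rw [hac.1, hac.2, neg_eq_zero.1 hb, neg_eq_zero.1 hd]
        ext i
        rcases i with i | i <;> fin_cases i <;> rfl
    · exact ⟨a, c, hu, hac⟩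
  obtain ⟨x, y, hxyW, hxy0⟩ := hxy
  have hn : x * x + y * y ≠ 0 := fun h => hxy0 (spxu3_sq_add_sq hq x y h)
  have hn' : x ^ 2 + y ^ 2 ≠ 0 := by rwa [pow_two, pow_two]
  have he1 : spxu3Vec 1 0 0 0 ∈ W := by
    have h1 := hA _ _ _ _ hxyW
    have := W.smul_mem ((x * x + y * y)⁻¹ : F) (W.add_mem (W.smul_mem x hxyW) (W.smul_mem y h1))
    rw [spxu3Vec_smul, spxu3Vec_smul, spxu3Vec_add, spxu3Vec_smul] at this
    convert this using 2 <;> field_simp <;> ring
  have he3 : spxu3Vec 0 0 1 0 ∈ W := by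
    have := W.smul_mem (-1 : F) (hA _ _ _ _ he1)
    rw [spxu3Vec_smul] at this
    simpa using this
  have he2 : spxu3Vec 0 1 0 0 ∈ W := by
    have := hI _ _ _ _ he1
    simpa using this
  have he4 : spxu3Vec 0 0 0 1 ∈ W := by
    have := hI _ _ _ _ he3
    simpa using this
  rw [eq_top_iff]
  intro v _
  rw [spxu3Vec_eta v]
  have := W.add_mem (W.add_mem (W.add_mem (W.smul_mem (v (Sum.inl 0)) he1) (W.smul_mem (v (Sum.inl 1)) he2))
    (W.smul_mem (v (Sum.inr 0)) he3)) (W.smul_mem (v (Sum.inr 1)) he4)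
  simp only [spxu3Vec_smul, spxu3Vec_add] at this
  simpa using this

end irr

section comm

variable [Fintype F]

theorem spxu3R_comm (hq : Fintype.card F = 3) (M : Matrix (Fin 2 ⊕ Fin 2) (Fin 2 ⊕ Fin 2) F)
    (hM : ∀ s ∈ matrixSet (spxu3R hq), M * s = s * M) : ∃ c : F, M = c • (1 : Matrix (Fin 2 ⊕ Fin 2) (Fin 2 ⊕ Fin 2) F) := by
  have h3 := spxu3_three hq
  have h2 : (2 : F) = -1 := by linear_combination h3
  have h2ne := spxu3_two_ne hq
  have hz : ∀ x : F, -x = x → x = 0 := by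
    intro x hx
    have : (2 : F) * x = 0 := by linear_combination -hx
    rcases mul_eq_zero.1 this with h | h
    · exact absurd h h2ne
    · exact h
  have hA := hM _ (spxu3_gen_mem hq SpxU3G.xA)
  have hB := hM _ (spxu3_gen_mem hq SpxU3G.xB)
  have hI := hM _ (spxu3_gen_mem hq SpxU3G.xI)
  have hT := hM _ (spxu3_gen_mem hq SpxU3G.xT)
  rw [SpxN4.rho_xA] at hA
  rw [SpxN4.rho_xB] at hB
  rw [SpxN4.rho_xI] at hI
  rw [SpxN4.rho_xT] at hT
  have t12 : M (Sum.inl 0) (Sum.inl 1) * (-1) = (1) * M (Sum.inl 0) (Sum.inl 1) := by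
    have := congrFun (congrFun hT (Sum.inl 0)) (Sum.inl 1)
    simpa [Matrix.mul_apply, Fintype.sum_sum_type, Fin.sum_univ_two, spxu3Mat, SpxN4.gT, h2] using this
  have t14 : M (Sum.inl 0) (Sum.inr 1) * (-1) = (1) * M (Sum.inl 0) (Sum.inr 1) := by
    have := congrFun (congrFun hT (Sum.inl 0)) (Sum.inr 1)
    simpa [Matrix.mul_apply, Fintype.sum_sum_type, Fin.sum_univ_two, spxu3Mat, SpxN4.gT, h2] using this
  have t21 : M (Sum.inl 1) (Sum.inl 0) * (1) = (-1) * M (Sum.inl 1) (Sum.inl 0) := by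
    have := congrFun (congrFun hT (Sum.inl 1)) (Sum.inl 0)
    simpa [Matrix.mul_apply, Fintype.sum_sum_type, Fin.sum_univ_two, spxu3Mat, SpxN4.gT, h2] using this
  have t23 : M (Sum.inl 1) (Sum.inr 0) * (1) = (-1) * M (Sum.inl 1) (Sum.inr 0) := by
    have := congrFun (congrFun hT (Sum.inl 1)) (Sum.inr 0)
    simpa [Matrix.mul_apply, Fintype.sum_sum_type, Fin.sum_univ_two, spxu3Mat, SpxN4.gT, h2] using this
  have t32 : M (Sum.inr 0) (Sum.inl 1) * (-1) = (1) * M (Sum.inr 0) (Sum.inl 1) := by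
    have := congrFun (congrFun hT (Sum.inr 0)) (Sum.inl 1)
    simpa [Matrix.mul_apply, Fintype.sum_sum_type, Fin.sum_univ_two, spxu3Mat, SpxN4.gT, h2] using this
  have t34 : M (Sum.inr 0) (Sum.inr 1) * (-1) = (1) * M (Sum.inr 0) (Sum.inr 1) := by
    have := congrFun (congrFun hT (Sum.inr 0)) (Sum.inr 1)
    simpa [Matrix.mul_apply, Fintype.sum_sum_type, Fin.sum_univ_two, spxu3Mat, SpxN4.gT, h2] using this
  have t41 : M (Sum.inr 1) (Sum.inl 0) * (1) = (-1) * M (Sum.inr 1) (Sum.inl 0) := by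
    have := congrFun (congrFun hT (Sum.inr 1)) (Sum.inl 0)
    simpa [Matrix.mul_apply, Fintype.sum_sum_type, Fin.sum_univ_two, spxu3Mat, SpxN4.gT, h2] using this
  have t43 : M (Sum.inr 1) (Sum.inr 0) * (1) = (-1) * M (Sum.inr 1) (Sum.inr 0) := by
    have := congrFun (congrFun hT (Sum.inr 1)) (Sum.inr 0)
    simpa [Matrix.mul_apply, Fintype.sum_sum_type, Fin.sum_univ_two, spxu3Mat, SpxN4.gT, h2] using this
  have a11 : -M (Sum.inl 0) (Sum.inr 0) = M (Sum.inr 0) (Sum.inl 0) := by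
    have := congrFun (congrFun hA (Sum.inl 0)) (Sum.inl 0)
    simpa [Matrix.mul_apply, Fintype.sum_sum_type, Fin.sum_univ_two, spxu3Mat, SpxN4.gA, h2] using this
  have a31 : -M (Sum.inr 0) (Sum.inr 0) = -M (Sum.inl 0) (Sum.inl 0) := by
    have := congrFun (congrFun hA (Sum.inr 0)) (Sum.inl 0)
    simpa [Matrix.mul_apply, Fintype.sum_sum_type, Fin.sum_univ_two, spxu3Mat, SpxN4.gA, h2] using this
  have a22 : -M (Sum.inl 1) (Sum.inr 1) = M (Sum.inr 1) (Sum.inl 1) := by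
    have := congrFun (congrFun hA (Sum.inl 1)) (Sum.inl 1)
    simpa [Matrix.mul_apply, Fintype.sum_sum_type, Fin.sum_univ_two, spxu3Mat, SpxN4.gA, h2] using this
  have a42 : -M (Sum.inr 1) (Sum.inr 1) = -M (Sum.inl 1) (Sum.inl 1) := by
    have := congrFun (congrFun hA (Sum.inr 1)) (Sum.inl 1)
    simpa [Matrix.mul_apply, Fintype.sum_sum_type, Fin.sum_univ_two, spxu3Mat, SpxN4.gA, h2] using this
  have i21 : M (Sum.inl 1) (Sum.inl 1) = M (Sum.inl 0) (Sum.inl 0) := by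
    have := congrFun (congrFun hI (Sum.inl 1)) (Sum.inl 0)
    simpa [Matrix.mul_apply, Fintype.sum_sum_type, Fin.sum_univ_two, spxu3Mat, SpxN4.gI, h2] using this
  have i41 : M (Sum.inr 1) (Sum.inl 1) = M (Sum.inr 0) (Sum.inl 0) := by
    have := congrFun (congrFun hI (Sum.inr 1)) (Sum.inl 0)
    simpa [Matrix.mul_apply, Fintype.sum_sum_type, Fin.sum_univ_two, spxu3Mat, SpxN4.gI, h2] using this
  have i23 : M (Sum.inl 1) (Sum.inr 1) = M (Sum.inl 0) (Sum.inr 0) := by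
    have := congrFun (congrFun hI (Sum.inl 1)) (Sum.inr 0)
    simpa [Matrix.mul_apply, Fintype.sum_sum_type, Fin.sum_univ_two, spxu3Mat, SpxN4.gI, h2] using this
  have i43 : M (Sum.inr 1) (Sum.inr 1) = M (Sum.inr 0) (Sum.inr 0) := by
    have := congrFun (congrFun hI (Sum.inr 1)) (Sum.inr 0)
    simpa [Matrix.mul_apply, Fintype.sum_sum_type, Fin.sum_univ_two, spxu3Mat, SpxN4.gI, h2] using this
  have b11 : M (Sum.inl 0) (Sum.inl 0) + M (Sum.inl 0) (Sum.inr 0) = M (Sum.inl 0) (Sum.inl 0) + M (Sum.inr 0) (Sum.inl 0) := by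
    have := congrFun (congrFun hB (Sum.inl 0)) (Sum.inl 0)
    simpa [Matrix.mul_apply, Fintype.sum_sum_type, Fin.sum_univ_two, spxu3Mat, SpxN4.gB, h2] using this
  have z12 : M (Sum.inl 0) (Sum.inl 1) = 0 := hz _ (by linear_combination t12)
  have z14 : M (Sum.inl 0) (Sum.inr 1) = 0 := hz _ (by linear_combination t14)
  have z21 : M (Sum.inl 1) (Sum.inl 0) = 0 := hz _ (by linear_combination (-1 : F) * t21)
  have z23 : M (Sum.inl 1) (Sum.inr 0) = 0 := hz _ (by linear_combination (-1 : F) * t23)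
  have z32 : M (Sum.inr 0) (Sum.inl 1) = 0 := hz _ (by linear_combination t32)
  have z34 : M (Sum.inr 0) (Sum.inr 1) = 0 := hz _ (by linear_combination t34)
  have z41 : M (Sum.inr 1) (Sum.inl 0) = 0 := hz _ (by linear_combination (-1 : F) * t41)
  have z43 : M (Sum.inr 1) (Sum.inr 0) = 0 := hz _ (by linear_combination (-1 : F) * t43)
  have z13 : M (Sum.inl 0) (Sum.inr 0) = 0 := hz _ (by linear_combination a11 - b11)
  have z31 : M (Sum.inr 0) (Sum.inl 0) = 0 := by linear_combination (-1 : F) * a11 - z13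
  have z24 : M (Sum.inl 1) (Sum.inr 1) = 0 := by linear_combination i23 + z13
  have z42 : M (Sum.inr 1) (Sum.inl 1) = 0 := by linear_combination i41 + z31
  have d22 : M (Sum.inl 1) (Sum.inl 1) = M (Sum.inl 0) (Sum.inl 0) := i21
  have d33 : M (Sum.inr 0) (Sum.inr 0) = M (Sum.inl 0) (Sum.inl 0) := by linear_combination (-1 : F) * a31
  have d44 : M (Sum.inr 1) (Sum.inr 1) = M (Sum.inl 0) (Sum.inl 0) := by linear_combination i43 + d33
  refine ⟨M (Sum.inl 0) (Sum.inl 0), ?_⟩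
  ext i j
  rcases i with i | i <;> rcases j with j | j <;> fin_cases i <;> fin_cases j <;>
    simp [Matrix.one_apply, z12, z14, z21, z23, z32, z34, z41, z43, z13, z31, z24, z42, d22, d33, d44]

theorem spxu3R_absIrr (hq : Fintype.card F = 3) : ActsAbsolutelyIrreducibly (matrixSet (spxu3R hq)) :=
  ⟨spxu3R_irr hq, spxu3R_comm hq⟩

end comm

end Cfsg.Agent.Lib.helper6.SPX
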