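import Mathlib
import Cfsg.Agent.Lib.Helper21.SPXU3G

/-!
# Project SPX, phase 2, piece P2-U3 (helper21) : the explicit `2_-^(1+4)` in `Sp_4(3)`, kernel computations

`4 × 4` matrices over the field with three elements encoded by sixteen natural numbers (fast kernel arithmetic); the
representation `rho` of `SpxU3G = Q_8 ∘ D_8`; every symplectic `g` with `g i = ± i g` normalises its image (`norm_of_check`);
the monomial element `g0` normalises it too and does not normalise `F[i]`.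
-/

set_option autoImplicit false

namespace Cfsg.Agent.Lib.helper6.SPX

/-- a `4 × 4` matrix over the field with three elements, as sixteen entries (fast kernel arithmetic) -/
structure SpxN4 where
  (a11 a12 a13 a14 a21 a22 a23 a24 a31 a32 a33 a34 a41 a42 a43 a44 : ℕ)
  deriving DecidableEq

namespace SpxN4

/-- the product -/
def mul (x y : SpxN4) : SpxN4 :=
  ⟨(x.a11 * y.a11 + x.a12 * y.a21 + x.a13 * y.a31 + x.a14 * y.a41) % 3, (x.a11 * y.a12 + x.a12 * y.a22 + x.a13 * y.a32 + x.a14 * y.a42) % 3, (x.a11 * y.a13 + x.a12 * y.a23 + x.a13 * y.a33 + x.a14 * y.a43) % 3, (x.a11 * y.a14 + x.a12 * y.a24 + x.a13 * y.a34 + x.a14 * y.a44) % 3, (x.a21 * y.a11 + x.a22 * y.a21 + x.a23 * y.a31 + x.a24 * y.a41) % 3, (x.a21 * y.a12 + x.a22 * y.a22 + x.a23 * y.a32 + x.a24 * y.a42) % 3, (x.a21 * y.a13 + x.a22 * y.a23 + x.a23 * y.a33 + x.a24 * y.a43) % 3, (x.a21 * y.a14 + x.a22 * y.a24 + x.a23 * y.a34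 + x.a24 * y.a44) % 3, (x.a31 * y.a11 + x.a32 * y.a21 + x.a33 * y.a31 + x.a34 * y.a41) % 3, (x.a31 * y.a12 + x.a32 * y.a22 + x.a33 * y.a32 + x.a34 * y.a42) % 3, (x.a31 * y.a13 + x.a32 * y.a23 + x.a33 * y.a33 + x.a34 * y.a43) % 3, (x.a31 * y.a14 + x.a32 * y.a24 + x.a33 * y.a34 + x.a34 * y.a44) % 3, (x.a41 * y.a11 + x.a42 * y.a21 + x.a43 * y.a31 + x.a44 * y.a41) % 3, (x.a41 * y.a12 + x.a42 * y.a22 + x.a43 * y.a32 + x.a44 * y.a42) % 3, (x.a41 * y.a13 + x.a42 * y.a23 + x.a43 * y.a33 + x.a44 * y.a43) % 3, (x.a41 * y.a14 + x.a42 * y.a24 + x.a43 * y.a34 + x.a44 * y.a44) % 3⟩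

/-- the transpose -/
def tr (x : SpxN4) : SpxN4 := ⟨x.a11, x.a21, x.a31, x.a41, x.a12, x.a22, x.a32, x.a42, x.a13, x.a23, x.a33, x.a43, x.a14, x.a24, x.a34, x.a44⟩

/-- the negative -/
def neg (x : SpxN4) : SpxN4 := ⟨(2 * x.a11) % 3, (2 * x.a12) % 3, (2 * x.a13) % 3, (2 * x.a14) % 3, (2 * x.a21) % 3, (2 * x.a22) % 3, (2 * x.a23) % 3, (2 * x.a24) % 3, (2 * x.a31) % 3, (2 * x.a32) % 3, (2 * x.a33) % 3, (2 * x.a34) % 3, (2 * x.a41) % 3, (2 * x.a42) % 3, (2 * x.a43) % 3, (2 * x.a44) % 3⟩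

/-- the identity -/
def one : SpxN4 := ⟨1, 0, 0, 0, 0, 1, 0, 0, 0, 0, 1, 0, 0, 0, 0, 1⟩

/-- all the entries are reduced -/
def wf (x : SpxN4) : Prop := x.a11 < 3 ∧ x.a12 < 3 ∧ x.a13 < 3 ∧ x.a14 < 3 ∧ x.a21 < 3 ∧ x.a22 < 3 ∧ x.a23 < 3 ∧ x.a24 < 3 ∧ x.a31 < 3 ∧ x.a32 < 3 ∧ x.a33 < 3 ∧ x.a34 < 3 ∧ x.a41 < 3 ∧ x.a42 < 3 ∧ x.a43 < 3 ∧ x.a44 < 3

instance (x : SpxN4) : Decidable x.wf := by unfold wf; infer_instance

theorem wf_mul (x y : SpxN4) : (x.mul y).wf := by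
  unfold wf mul
  refine ⟨?_, ?_, ?_, ?_, ?_, ?_, ?_, ?_, ?_, ?_, ?_, ?_, ?_, ?_, ?_, ?_⟩ <;> exact Nat.mod_lt _ (by norm_num)

/-- `a = [[0, 1], [-1, 0]] ⊗ 1` -/
def gA : SpxN4 := ⟨0,0,1,0, 0,0,0,1, 2,0,0,0, 0,2,0,0⟩
/-- `b = [[1, 1], [1, -1]] ⊗ 1` -/
def gB : SpxN4 := ⟨1,0,1,0, 0,1,0,1, 1,0,2,0, 0,1,0,2⟩
/-- `i = 1 ⊗ [[0, -1], [1, 0]]` -/
def gI : SpxN4 := ⟨0,2,0,0, 1,0,0,0, 0,0,0,2, 0,0,1,0⟩
/-- `t = 1 ⊗ diag(1, -1)` -/
def gT : SpxN4 := ⟨1,0,0,0, 0,2,0,0, 0,0,1,0, 0,0,0,2⟩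
/-- the Gram matrix `J = [[0, -1], [1, 0]] ⊗ 1` of `sympForm 2` -/
def gJ : SpxN4 := ⟨0,0,2,0, 0,0,0,2, 1,0,0,0, 0,1,0,0⟩
/-- a monomial element of `N(R) ⊓ Sp` outside `N(F[i])` -/
def g0 : SpxN4 := ⟨0,0,1,0, 0,1,0,0, 2,0,0,0, 0,0,0,1⟩
/-- its inverse -/
def g0i : SpxN4 := ⟨0,0,2,0, 0,1,0,0, 1,0,0,0, 0,0,0,1⟩

/-- `M ^ v` for `v = 0, 1` -/
def pw (M : SpxN4) (v : ZMod 2) : SpxN4 := if v = 0 then one else M
/-- `(-1) ^ e M` -/
def sg (e : ZMod 2) (M : SpxN4) : SpxN4 := if e = 0 then M else M.neg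

/-- the representation `x ↦ (-1)^e a^v1 b^v2 i^v3 t^v4` -/
def rho (x : SpxU3G) : SpxN4 :=
  sg x.e ((((pw gA x.v1).mul (pw gB x.v2)).mul (pw gI x.v3)).mul (pw gT x.v4))

theorem rho_mul_check :
    (SpxU3G.elems.all fun x => SpxU3G.elems.all fun y => decide (rho (x * y) = (rho x).mul (rho y))) = true := by
  decide +kernel

theorem rho_mul (x y : SpxU3G) : rho (x * y) = (rho x).mul (rho y) := by
  have h := List.all_eq_true.1 (List.all_eq_true.1 rho_mul_check x (SpxU3G.mem_elems x)) y (SpxU3G.mem_elems y)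
  exact of_decide_eq_true h

theorem rho_one : rho 1 = one := by decide +kernel

theorem rho_z : rho SpxU3G.z = one.neg := by decide +kernel

theorem rho_xA : rho SpxU3G.xA = gA := by decide +kernel
theorem rho_xB : rho SpxU3G.xB = gB := by decide +kernel
theorem rho_xI : rho SpxU3G.xI = gI := by decide +kernel
theorem rho_xT : rho SpxU3G.xT = gT := by decide +kernel

theorem rho_wf : ∀ x : SpxU3G, (rho x).wf := SpxU3G.forall_of_check (by decide +kernel)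

/-- `gᵀ J g = J` -/
def isSymp (g : SpxN4) : Bool := decide (g.tr.mul (gJ.mul g) = gJ)

theorem rho_symp : ∀ x : SpxU3G, isSymp (rho x) = true := SpxU3G.forall_of_check (by decide +kernel)

/-- the matrix with first and third columns `p, q` and `g i = ± i g` -/
def gpar (s : Bool) (p1 p2 p3 p4 q1 q2 q3 q4 : ℕ) : SpxN4 :=
  ⟨p1, ((if s then 1 else 2) * (2 * p2)) % 3, q1, ((if s then 1 else 2) * (2 * q2)) % 3,
   p2, ((if s then 1 else 2) * p1) % 3, q2, ((if s then 1 else 2) * q1) % 3,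
   p3, ((if s then 1 else 2) * (2 * p4)) % 3, q3, ((if s then 1 else 2) * (2 * q4)) % 3,
   p4, ((if s then 1 else 2) * p3) % 3, q4, ((if s then 1 else 2) * q3) % 3⟩

/-- `g` conjugates the four generators into the image of `rho` -/
def normCheck (g : SpxN4) : Bool :=
  [gA, gB, gI, gT].all fun X => SpxU3G.elems.any fun y => decide (g.mul X = (rho y).mul g)

/-- the check over all parameters -/
def normAll : Bool :=
  [true, false].all fun s => [0, 1, 2].all fun p1 => [0, 1, 2].all fun p2 => [0, 1, 2].all fun p3 =>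
    [0, 1, 2].all fun p4 => [0, 1, 2].all fun q1 => [0, 1, 2].all fun q2 => [0, 1, 2].all fun q3 =>
      [0, 1, 2].all fun q4 =>
        !isSymp (gpar s p1 p2 p3 p4 q1 q2 q3 q4) || normCheck (gpar s p1 p2 p3 p4 q1 q2 q3 q4)

theorem normAll_eq : normAll = true := by decide +kernel

theorem mem3 {n : ℕ} (h : n < 3) : n ∈ [0, 1, 2] := by
  interval_cases n <;> simp

theorem of_normCheck {g : SpxN4} (h : normCheck g = true) :
    ∀ X ∈ [gA, gB, gI, gT], ∃ y : SpxU3G, g.mul X = (rho y).mul g := by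
  intro X hX
  have h1 := List.all_eq_true.1 h X hX
  obtain ⟨y, -, hy⟩ := List.any_eq_true.1 h1
  exact ⟨y, of_decide_eq_true hy⟩

theorem normCheck_gpar (s : Bool) {p1 p2 p3 p4 q1 q2 q3 q4 : ℕ} (hp1 : p1 < 3) (hp2 : p2 < 3) (hp3 : p3 < 3)
    (hp4 : p4 < 3) (hq1 : q1 < 3) (hq2 : q2 < 3) (hq3 : q3 < 3) (hq4 : q4 < 3)
    (hs : isSymp (gpar s p1 p2 p3 p4 q1 q2 q3 q4) = true) :
    normCheck (gpar s p1 p2 p3 p4 q1 q2 q3 q4) = true := by
  have h := normAll_eq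
  unfold normAll at h
  have hs' : s ∈ [true, false] := by cases s <;> simp
  have h1 := List.all_eq_true.1 (List.all_eq_true.1 (List.all_eq_true.1 (List.all_eq_true.1 (List.all_eq_true.1
    (List.all_eq_true.1 (List.all_eq_true.1 (List.all_eq_true.1 (List.all_eq_true.1 h s hs') p1 (mem3 hp1)) p2 (mem3 hp2))
    p3 (mem3 hp3)) p4 (mem3 hp4)) q1 (mem3 hq1)) q2 (mem3 hq2)) q3 (mem3 hq3)) q4 (mem3 hq4)
  rw [hs] at h1
  simpa using h1

theorem g0_symp : isSymp g0 = true := by decide +kernel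
theorem g0i_symp : isSymp g0i = true := by decide +kernel
theorem g0_mul_g0i : g0.mul g0i = one := by decide +kernel
theorem g0i_mul_g0 : g0i.mul g0 = one := by decide +kernel
theorem g0_norm : normCheck g0 = true := by decide +kernel
theorem g0i_norm : normCheck g0i = true := by decide +kernel
/-- `g0 i g0⁻¹` -/
theorem g0_conj_I : g0.mul (gI.mul g0i) = ⟨0,0,0,2, 0,0,2,0, 0,1,0,0, 1,0,0,0⟩ := by decide +kernel

end SpxN4

end Cfsg.Agent.Lib.helper6.SPX
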