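import Mathlib
import Cfsg.Prelude.Def_GeometricClasses
import Cfsg.Agent.Lib.Helper27.ASC.Defs
import Cfsg.Agent.Lib.helper6.Symp
import Cfsg.Agent.Lib.Helper21.SPXU3N4

/-!
# Project SPX, phase 2, piece P2-U3 (helper21) : the explicit `2_-^(1+4)` in `Sp_4(3)` over a field with three elements
-/

set_option autoImplicit false
set_option linter.unusedVariables false
set_option linter.unusedSectionVars false
set_option linter.unusedSimpArgs false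

namespace Cfsg.Agent.Lib.helper6.SPX

open Cfsg Cfsg.Geo Cfsg.Agent.Lib.Helper27.ASC Cfsg.Agent.Lib.helper6
open scoped MatrixGroups Matrix

variable {F : Type*} [Field F]

/-- the matrix over `F` of an encoded matrix -/
def spxu3Mat (F : Type*) [Field F] (x : SpxN4) : Matrix (Fin 2 ⊕ Fin 2) (Fin 2 ⊕ Fin 2) F :=
  Matrix.fromBlocks !![(x.a11 : F), (x.a12 : F); (x.a21 : F), (x.a22 : F)]
    !![(x.a13 : F), (x.a14 : F); (x.a23 : F), (x.a24 : F)]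
    !![(x.a31 : F), (x.a32 : F); (x.a41 : F), (x.a42 : F)]
    !![(x.a33 : F), (x.a34 : F); (x.a43 : F), (x.a44 : F)]

theorem spxu3_cast_mod (h3 : (3 : F) = 0) (n : ℕ) : ((n % 3 : ℕ) : F) = (n : F) := by
  conv_rhs => rw [← Nat.div_add_mod n 3]
  push_cast
  rw [h3, zero_mul, zero_add]

theorem spxu3Mat_mul (h3 : (3 : F) = 0) (x y : SpxN4) :
    spxu3Mat F (x.mul y) = spxu3Mat F x * spxu3Mat F y := by
  unfold spxu3Mat
  rw [Matrix.fromBlocks_multiply]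
  congr 1 <;>
  · ext i j
    fin_cases i <;> fin_cases j <;>
      simp [SpxN4.mul, spxu3_cast_mod h3, Matrix.mul_apply, Fin.sum_univ_two] <;> ring

theorem spxu3Mat_tr (x : SpxN4) : spxu3Mat F x.tr = (spxu3Mat F x)ᵀ := by
  unfold spxu3Mat
  rw [Matrix.fromBlocks_transpose]
  congr 1 <;>
  · ext i j
    fin_cases i <;> fin_cases j <;> simp [SpxN4.tr]

theorem spxu3Mat_one : spxu3Mat F SpxN4.one = 1 := by
  unfold spxu3Mat
  rw [← Matrix.fromBlocks_one]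
  congr 1 <;>
  · ext i j
    fin_cases i <;> fin_cases j <;> simp [SpxN4.one]

theorem spxu3Mat_neg (h3 : (3 : F) = 0) (x : SpxN4) : spxu3Mat F x.neg = -spxu3Mat F x := by
  have h2 : (2 : F) = -1 := by linear_combination h3
  unfold spxu3Mat
  rw [Matrix.fromBlocks_neg]
  congr 1 <;>
  · ext i j
    fin_cases i <;> fin_cases j <;> simp [SpxN4.neg, spxu3_cast_mod h3, h2]

theorem spxu3Mat_gJ (h3 : (3 : F) = 0) : spxu3Mat F SpxN4.gJ = Matrix.J (Fin 2) F := by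
  have h2 : (2 : F) = -1 := by linear_combination h3
  unfold spxu3Mat Matrix.J
  congr 1 <;>
  · ext i j
    fin_cases i <;> fin_cases j <;> simp [SpxN4.gJ, h2]

theorem spxu3Mat_a11 (x : SpxN4) : spxu3Mat F x (Sum.inl 0) (Sum.inl 0) = (x.a11 : F) := rfl
theorem spxu3Mat_a12 (x : SpxN4) : spxu3Mat F x (Sum.inl 0) (Sum.inl 1) = (x.a12 : F) := rfl
theorem spxu3Mat_a13 (x : SpxN4) : spxu3Mat F x (Sum.inl 0) (Sum.inr 0) = (x.a13 : F) := rfl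
theorem spxu3Mat_a14 (x : SpxN4) : spxu3Mat F x (Sum.inl 0) (Sum.inr 1) = (x.a14 : F) := rfl
theorem spxu3Mat_a21 (x : SpxN4) : spxu3Mat F x (Sum.inl 1) (Sum.inl 0) = (x.a21 : F) := rfl
theorem spxu3Mat_a22 (x : SpxN4) : spxu3Mat F x (Sum.inl 1) (Sum.inl 1) = (x.a22 : F) := rfl
theorem spxu3Mat_a23 (x : SpxN4) : spxu3Mat F x (Sum.inl 1) (Sum.inr 0) = (x.a23 : F) := rfl
theorem spxu3Mat_a24 (x : SpxN4) : spxu3Mat F x (Sum.inl 1) (Sum.inr 1) = (x.a24 : F) := rfl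
theorem spxu3Mat_a31 (x : SpxN4) : spxu3Mat F x (Sum.inr 0) (Sum.inl 0) = (x.a31 : F) := rfl
theorem spxu3Mat_a32 (x : SpxN4) : spxu3Mat F x (Sum.inr 0) (Sum.inl 1) = (x.a32 : F) := rfl
theorem spxu3Mat_a33 (x : SpxN4) : spxu3Mat F x (Sum.inr 0) (Sum.inr 0) = (x.a33 : F) := rfl
theorem spxu3Mat_a34 (x : SpxN4) : spxu3Mat F x (Sum.inr 0) (Sum.inr 1) = (x.a34 : F) := rfl
theorem spxu3Mat_a41 (x : SpxN4) : spxu3Mat F x (Sum.inr 1) (Sum.inl 0) = (x.a41 : F) := rfl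
theorem spxu3Mat_a42 (x : SpxN4) : spxu3Mat F x (Sum.inr 1) (Sum.inl 1) = (x.a42 : F) := rfl
theorem spxu3Mat_a43 (x : SpxN4) : spxu3Mat F x (Sum.inr 1) (Sum.inr 0) = (x.a43 : F) := rfl
theorem spxu3Mat_a44 (x : SpxN4) : spxu3Mat F x (Sum.inr 1) (Sum.inr 1) = (x.a44 : F) := rfl

theorem spxu3_cast_inj (h2 : (2 : F) ≠ 0) {a b : ℕ} (ha : a < 3) (hb : b < 3) (h : (a : F) = (b : F)) : a = b := by
  have h1 : (1 : F) ≠ 0 := one_ne_zero
  have h12 : (1 : F) ≠ 2 := by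
    intro h'
    apply h1
    linear_combination (-1 : F) * h'
  interval_cases a <;> interval_cases b <;> (try rfl) <;> exfalso <;> (try simp at h) <;> first
    | exact h1 h | exact h1 h.symm | exact h2 h | exact h2 h.symm | exact h12 h | exact h12 h.symm

theorem spxu3Mat_inj (h2 : (2 : F) ≠ 0) {x y : SpxN4} (hx : x.wf) (hy : y.wf)
    (h : spxu3Mat F x = spxu3Mat F y) : x = y := by
  have e11 := congrFun (congrFun h (Sum.inl 0)) (Sum.inl 0)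
  have e12 := congrFun (congrFun h (Sum.inl 0)) (Sum.inl 1)
  have e13 := congrFun (congrFun h (Sum.inl 0)) (Sum.inr 0)
  have e14 := congrFun (congrFun h (Sum.inl 0)) (Sum.inr 1)
  have e21 := congrFun (congrFun h (Sum.inl 1)) (Sum.inl 0)
  have e22 := congrFun (congrFun h (Sum.inl 1)) (Sum.inl 1)
  have e23 := congrFun (congrFun h (Sum.inl 1)) (Sum.inr 0)
  have e24 := congrFun (congrFun h (Sum.inl 1)) (Sum.inr 1)
  have e31 := congrFun (congrFun h (Sum.inr 0)) (Sum.inl 0)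
  have e32 := congrFun (congrFun h (Sum.inr 0)) (Sum.inl 1)
  have e33 := congrFun (congrFun h (Sum.inr 0)) (Sum.inr 0)
  have e34 := congrFun (congrFun h (Sum.inr 0)) (Sum.inr 1)
  have e41 := congrFun (congrFun h (Sum.inr 1)) (Sum.inl 0)
  have e42 := congrFun (congrFun h (Sum.inr 1)) (Sum.inl 1)
  have e43 := congrFun (congrFun h (Sum.inr 1)) (Sum.inr 0)
  have e44 := congrFun (congrFun h (Sum.inr 1)) (Sum.inr 1)
  simp only [spxu3Mat_a11, spxu3Mat_a12, spxu3Mat_a13, spxu3Mat_a14, spxu3Mat_a21, spxu3Mat_a22, spxu3Mat_a23, spxu3Mat_a24, spxu3Mat_a31, spxu3Mat_a32, spxu3Mat_a33, spxu3Mat_a34, spxu3Mat_a41, spxu3Mat_a42, spxu3Mat_a43, spxu3Mat_a44] at *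
  obtain ⟨x11, x12, x13, x14, x21, x22, x23, x24, x31, x32, x33, x34, x41, x42, x43, x44⟩ := x
  obtain ⟨y11, y12, y13, y14, y21, y22, y23, y24, y31, y32, y33, y34, y41, y42, y43, y44⟩ := y
  obtain ⟨hx11, hx12, hx13, hx14, hx21, hx22, hx23, hx24, hx31, hx32, hx33, hx34, hx41, hx42, hx43, hx44⟩ := hx
  obtain ⟨hy11, hy12, hy13, hy14, hy21, hy22, hy23, hy24, hy31, hy32, hy33, hy34, hy41, hy42, hy43, hy44⟩ := hy
  simp only at *
  rw [spxu3_cast_inj h2 hx11 hy11 e11, spxu3_cast_inj h2 hx12 hy12 e12, spxu3_cast_inj h2 hx13 hy13 e13,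
    spxu3_cast_inj h2 hx14 hy14 e14, spxu3_cast_inj h2 hx21 hy21 e21, spxu3_cast_inj h2 hx22 hy22 e22,
    spxu3_cast_inj h2 hx23 hy23 e23, spxu3_cast_inj h2 hx24 hy24 e24, spxu3_cast_inj h2 hx31 hy31 e31,
    spxu3_cast_inj h2 hx32 hy32 e32, spxu3_cast_inj h2 hx33 hy33 e33, spxu3_cast_inj h2 hx34 hy34 e34,
    spxu3_cast_inj h2 hx41 hy41 e41, spxu3_cast_inj h2 hx42 hy42 e42, spxu3_cast_inj h2 hx43 hy43 e43,
    spxu3_cast_inj h2 hx44 hy44 e44]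

theorem spxu3Mat_ext {M : Matrix (Fin 2 ⊕ Fin 2) (Fin 2 ⊕ Fin 2) F} {x : SpxN4}
    (h11 : M (Sum.inl 0) (Sum.inl 0) = x.a11) (h12 : M (Sum.inl 0) (Sum.inl 1) = x.a12)
    (h13 : M (Sum.inl 0) (Sum.inr 0) = x.a13) (h14 : M (Sum.inl 0) (Sum.inr 1) = x.a14)
    (h21 : M (Sum.inl 1) (Sum.inl 0) = x.a21) (h22 : M (Sum.inl 1) (Sum.inl 1) = x.a22)
    (h23 : M (Sum.inl 1) (Sum.inr 0) = x.a23) (h24 : M (Sum.inl 1) (Sum.inr 1) = x.a24)
    (h31 : M (Sum.inr 0) (Sum.inl 0) = x.a31) (h32 : M (Sum.inr 0) (Sum.inl 1) = x.a32)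
    (h33 : M (Sum.inr 0) (Sum.inr 0) = x.a33) (h34 : M (Sum.inr 0) (Sum.inr 1) = x.a34)
    (h41 : M (Sum.inr 1) (Sum.inl 0) = x.a41) (h42 : M (Sum.inr 1) (Sum.inl 1) = x.a42)
    (h43 : M (Sum.inr 1) (Sum.inr 0) = x.a43) (h44 : M (Sum.inr 1) (Sum.inr 1) = x.a44) :
    M = spxu3Mat F x := by
  ext i j
  rcases i with i | i <;> rcases j with j | j <;> fin_cases i <;> fin_cases j <;>
    first
    | exact h11 | exact h12 | exact h13 | exact h14 | exact h21 | exact h22 | exact h23 | exact h24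
    | exact h31 | exact h32 | exact h33 | exact h34 | exact h41 | exact h42 | exact h43 | exact h44

section card3

variable [Fintype F]

theorem spxu3_three (hq : Fintype.card F = 3) : (3 : F) = 0 := by
  have := Nat.cast_card_eq_zero F
  rw [hq] at this
  exact_mod_cast this

theorem spxu3_two_ne (hq : Fintype.card F = 3) : (2 : F) ≠ 0 := by
  intro h
  have h3 := spxu3_three hq
  have : (1 : F) = 0 := by linear_combination h3 - h
  exact one_ne_zero this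

theorem spxu3_cases (hq : Fintype.card F = 3) (a : F) : a = 0 ∨ a = 1 ∨ a = -1 := by
  have h2 := spxu3_two_ne hq
  have h3 := spxu3_three hq
  by_contra hcon
  push Not at hcon
  obtain ⟨h0, h1, hm⟩ := hcon
  have hinj : Function.Injective ![(0 : F), 1, -1, a] := by
    intro i j hij
    have h10 : (1 : F) ≠ 0 := one_ne_zero
    have hm1 : (-1 : F) ≠ 0 := neg_ne_zero.2 one_ne_zero
    have h1m : (1 : F) ≠ -1 := by
      intro h
      apply h2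
      linear_combination h
    fin_cases i <;> fin_cases j <;> simp at hij <;> first
      | rfl
      | (exfalso; first
          | exact h10 hij | exact h10 hij.symm | exact hm1 hij | exact hm1 hij.symm | exact h1m hij
          | exact h1m hij.symm | exact h0 hij | exact h0 hij.symm | exact h1 hij | exact h1 hij.symm
          | exact hm hij | exact hm hij.symm)
  have := Fintype.card_le_of_injective _ hinj
  rw [hq] at this
  simp at this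

theorem spxu3_rep (hq : Fintype.card F = 3) (a : F) : ∃ n : ℕ, n < 3 ∧ (n : F) = a := by
  have h3 := spxu3_three hq
  rcases spxu3_cases hq a with h | h | h
  · exact ⟨0, by norm_num, by rw [h]; simp⟩
  · exact ⟨1, by norm_num, by rw [h]; simp⟩
  · exact ⟨2, by norm_num, by rw [h]; push_cast; linear_combination h3⟩

end card3

section model

variable [Fintype F]

/-- the representation of `2_-^(1+4)` -/
def spxu3RhoHom (hq : Fintype.card F = 3) : SpxU3G →* GL (Fin 2 ⊕ Fin 2) F :=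
  MonoidHom.toHomUnits
    { toFun := fun x => spxu3Mat F (SpxN4.rho x)
      map_one' := by rw [SpxN4.rho_one, spxu3Mat_one]
      map_mul' := fun x y => by rw [SpxN4.rho_mul, spxu3Mat_mul (spxu3_three hq)] }

theorem spxu3RhoHom_coe (hq : Fintype.card F = 3) (x : SpxU3G) :
    ((spxu3RhoHom hq x : GL (Fin 2 ⊕ Fin 2) F) : Matrix (Fin 2 ⊕ Fin 2) (Fin 2 ⊕ Fin 2) F) =
      spxu3Mat F (SpxN4.rho x) := rfl

/-- the group `2_-^(1+4)` of matrices -/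
def spxu3R (hq : Fintype.card F = 3) : Subgroup (GL (Fin 2 ⊕ Fin 2) F) := (spxu3RhoHom hq).range

theorem spxu3R_pgroup (hq : Fintype.card F = 3) : IsPGroup 2 (spxu3R hq) := by
  have h1 : IsPGroup 2 SpxU3G := by
    apply IsPGroup.of_card (n := 5)
    rw [Nat.card_eq_fintype_card, SpxU3G.card_eq]
    norm_num
  unfold spxu3R
  rw [MonoidHom.range_eq_map]
  exact (h1.to_subgroup ⊤).map _

theorem spxu3_mem_sp (hq : Fintype.card F = 3) (g : GL (Fin 2 ⊕ Fin 2) F) (G : SpxN4)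
    (hg : (g : Matrix (Fin 2 ⊕ Fin 2) (Fin 2 ⊕ Fin 2) F) = spxu3Mat F G) (hs : SpxN4.isSymp G = true) :
    g ∈ spGL 2 F := by
  have h3 := spxu3_three hq
  have h1 : G.tr.mul (SpxN4.gJ.mul G) = SpxN4.gJ := of_decide_eq_true hs
  have h2 := congrArg (spxu3Mat F) h1
  rw [spxu3Mat_mul h3, spxu3Mat_mul h3, spxu3Mat_tr, spxu3Mat_gJ h3, ← hg, ← Matrix.mul_assoc] at h2
  have h4 : (g : Matrix (Fin 2 ⊕ Fin 2) (Fin 2 ⊕ Fin 2) F) ∈ Matrix.symplecticGroup (Fin 2) F :=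
    SymplecticGroup.mem_iff'.2 h2
  exact (mem_symplecticGroup_iff_sympForm _ _).1 h4

theorem spxu3_symp_of_mem (hq : Fintype.card F = 3) (g : GL (Fin 2 ⊕ Fin 2) F) (G : SpxN4)
    (hg : (g : Matrix (Fin 2 ⊕ Fin 2) (Fin 2 ⊕ Fin 2) F) = spxu3Mat F G) (hmem : g ∈ spGL 2 F) :
    SpxN4.isSymp G = true := by
  have h3 := spxu3_three hq
  have h4 : (g : Matrix (Fin 2 ⊕ Fin 2) (Fin 2 ⊕ Fin 2) F) ∈ Matrix.symplecticGroup (Fin 2) F :=
    (mem_symplecticGroup_iff_sympForm _ _).2 hmem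
  have h2 := SymplecticGroup.mem_iff'.1 h4
  have h5 : spxu3Mat F (G.tr.mul (SpxN4.gJ.mul G)) = spxu3Mat F SpxN4.gJ := by
    rw [spxu3Mat_mul h3, spxu3Mat_mul h3, spxu3Mat_tr, spxu3Mat_gJ h3, ← hg, ← Matrix.mul_assoc]
    exact h2
  have h6 := spxu3Mat_inj (spxu3_two_ne hq) (SpxN4.wf_mul _ _) (by decide) h5
  exact decide_eq_true h6

theorem spxu3R_le_sp (hq : Fintype.card F = 3) : spxu3R hq ≤ spGL 2 F := by
  rintro g ⟨x, rfl⟩
  exact spxu3_mem_sp hq _ _ (spxu3RhoHom_coe hq x) (SpxN4.rho_symp x)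

end model

section norm

variable [Fintype F]

/-- a matrix that conjugates the four generators into `R` conjugates `R` into itself -/
theorem spxu3_conj_mem (hq : Fintype.card F = 3) (g : GL (Fin 2 ⊕ Fin 2) F) (G : SpxN4)
    (hg : (g : Matrix (Fin 2 ⊕ Fin 2) (Fin 2 ⊕ Fin 2) F) = spxu3Mat F G) (hn : SpxN4.normCheck G = true) :
    ∀ h ∈ spxu3R hq, g * h * g⁻¹ ∈ spxu3R hq := by
  have h3 := spxu3_three hq
  have hgen := SpxN4.of_normCheck hn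
  -- the generators
  have key : ∀ (x : SpxU3G) (X : SpxN4), SpxN4.rho x = X → X ∈ [SpxN4.gA, SpxN4.gB, SpxN4.gI, SpxN4.gT] →
      g * spxu3RhoHom hq x * g⁻¹ ∈ spxu3R hq := by
    intro x X hxX hX
    obtain ⟨y, hy⟩ := hgen X hX
    have h1 : g * spxu3RhoHom hq x = spxu3RhoHom hq y * g := by
      apply Units.ext
      rw [Units.val_mul, Units.val_mul, spxu3RhoHom_coe, spxu3RhoHom_coe, hg, hxX, ← spxu3Mat_mul h3,
        ← spxu3Mat_mul h3, hy]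
    rw [h1, mul_assoc, mul_inv_cancel, mul_one]
    exact ⟨y, rfl⟩
  let S : Subgroup SpxU3G :=
    (spxu3R hq).comap ((MulAut.conj g).toMonoidHom.comp (spxu3RhoHom hq))
  have hS : ∀ x : SpxU3G, x ∈ S ↔ g * spxu3RhoHom hq x * g⁻¹ ∈ spxu3R hq := fun x => Iff.rfl
  have hA : SpxU3G.xA ∈ S := (hS _).2 (key _ _ SpxN4.rho_xA (by simp))
  have hB : SpxU3G.xB ∈ S := (hS _).2 (key _ _ SpxN4.rho_xB (by simp))
  have hI : SpxU3G.xI ∈ S := (hS _).2 (key _ _ SpxN4.rho_xI (by simp))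
  have hT : SpxU3G.xT ∈ S := (hS _).2 (key _ _ SpxN4.rho_xT (by simp))
  have hall : ∀ x : SpxU3G, x ∈ S := by
    intro x
    rw [SpxU3G.word x]
    exact S.mul_mem (S.mul_mem (S.mul_mem (S.mul_mem (S.pow_mem (S.mul_mem hA hA) _) (S.pow_mem hA _))
      (S.pow_mem hB _)) (S.pow_mem hI _)) (S.pow_mem hT _)
  rintro h ⟨x, rfl⟩
  exact (hS x).1 (hall x)

theorem spxu3_mem_normalizer (hq : Fintype.card F = 3) (g : GL (Fin 2 ⊕ Fin 2) F)
    (h1 : ∀ h ∈ spxu3R hq, g * h * g⁻¹ ∈ spxu3R hq) (h2 : ∀ h ∈ spxu3R hq, g⁻¹ * h * g⁻¹⁻¹ ∈ spxu3R hq) :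
    g ∈ subgroupNormalizer (spxu3R hq) := by
  unfold subgroupNormalizer
  rw [Subgroup.mem_normalizer_iff]
  intro h
  constructor
  · exact h1 h
  · intro hh
    have := h2 _ hh
    rw [inv_inv] at this
    have e : g⁻¹ * (g * h * g⁻¹) * g = h := by group
    rwa [e] at this

end norm

section norm2

variable [Fintype F]

/-- a symplectic matrix commuting or anticommuting with `i` is one of the `2 * 3^8` parametrised matrices -/
theorem spxu3_param (hq : Fintype.card F = 3) (g : GL (Fin 2 ⊕ Fin 2) F) (hg : g ∈ spGL 2 F) (e : F)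
    (he : e = 1 ∨ e = -1)
    (hcomm : (g : Matrix (Fin 2 ⊕ Fin 2) (Fin 2 ⊕ Fin 2) F) * spxu3Mat F SpxN4.gI =
      e • (spxu3Mat F SpxN4.gI * (g : Matrix (Fin 2 ⊕ Fin 2) (Fin 2 ⊕ Fin 2) F))) :
    ∃ G : SpxN4, (g : Matrix (Fin 2 ⊕ Fin 2) (Fin 2 ⊕ Fin 2) F) = spxu3Mat F G ∧ SpxN4.normCheck G = true := by
  have h3 := spxu3_three hq
  have h2 : (2 : F) = -1 := by linear_combination h3
  obtain ⟨p1, hp1', hp1⟩ := spxu3_rep hq ((g : Matrix (Fin 2 ⊕ Fin 2) (Fin 2 ⊕ Fin 2) F) (Sum.inl 0) (Sum.inl 0))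
  obtain ⟨p2, hp2', hp2⟩ := spxu3_rep hq ((g : Matrix (Fin 2 ⊕ Fin 2) (Fin 2 ⊕ Fin 2) F) (Sum.inl 1) (Sum.inl 0))
  obtain ⟨p3, hp3', hp3⟩ := spxu3_rep hq ((g : Matrix (Fin 2 ⊕ Fin 2) (Fin 2 ⊕ Fin 2) F) (Sum.inr 0) (Sum.inl 0))
  obtain ⟨p4, hp4', hp4⟩ := spxu3_rep hq ((g : Matrix (Fin 2 ⊕ Fin 2) (Fin 2 ⊕ Fin 2) F) (Sum.inr 1) (Sum.inl 0))
  obtain ⟨q1, hq1', hq1⟩ := spxu3_rep hq ((g : Matrix (Fin 2 ⊕ Fin 2) (Fin 2 ⊕ Fin 2) F) (Sum.inl 0) (Sum.inr 0))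
  obtain ⟨q2, hq2', hq2⟩ := spxu3_rep hq ((g : Matrix (Fin 2 ⊕ Fin 2) (Fin 2 ⊕ Fin 2) F) (Sum.inl 1) (Sum.inr 0))
  obtain ⟨q3, hq3', hq3⟩ := spxu3_rep hq ((g : Matrix (Fin 2 ⊕ Fin 2) (Fin 2 ⊕ Fin 2) F) (Sum.inr 0) (Sum.inr 0))
  obtain ⟨q4, hq4', hq4⟩ := spxu3_rep hq ((g : Matrix (Fin 2 ⊕ Fin 2) (Fin 2 ⊕ Fin 2) F) (Sum.inr 1) (Sum.inr 0))
  have c11 := congrFun (congrFun hcomm (Sum.inl 0)) (Sum.inl 0)
  have c21 := congrFun (congrFun hcomm (Sum.inl 1)) (Sum.inl 0)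
  have c31 := congrFun (congrFun hcomm (Sum.inr 0)) (Sum.inl 0)
  have c41 := congrFun (congrFun hcomm (Sum.inr 1)) (Sum.inl 0)
  have c13 := congrFun (congrFun hcomm (Sum.inl 0)) (Sum.inr 0)
  have c23 := congrFun (congrFun hcomm (Sum.inl 1)) (Sum.inr 0)
  have c33 := congrFun (congrFun hcomm (Sum.inr 0)) (Sum.inr 0)
  have c43 := congrFun (congrFun hcomm (Sum.inr 1)) (Sum.inr 0)
  simp [Matrix.mul_apply, Fintype.sum_sum_type, Fin.sum_univ_two, spxu3Mat, SpxN4.gI, h2] at c11 c21 c31 c41 c13 c23 c33 c43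
  rcases he with rfl | rfl
  · have hG : (g : Matrix (Fin 2 ⊕ Fin 2) (Fin 2 ⊕ Fin 2) F) =
        spxu3Mat F (SpxN4.gpar true p1 p2 p3 p4 q1 q2 q3 q4) := spxu3Mat_ext
      (by rw [← hp1]; rfl)
      (by rw [c11, ← hp2]; simp [SpxN4.gpar, spxu3_cast_mod h3, h2])
      (by rw [← hq1]; rfl)
      (by rw [c13, ← hq2]; simp [SpxN4.gpar, spxu3_cast_mod h3, h2])
      (by rw [← hp2]; rfl)
      (by rw [c21, ← hp1]; simp [SpxN4.gpar, spxu3_cast_mod h3, h2])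
      (by rw [← hq2]; rfl)
      (by rw [c23, ← hq1]; simp [SpxN4.gpar, spxu3_cast_mod h3, h2])
      (by rw [← hp3]; rfl)
      (by rw [c31, ← hp4]; simp [SpxN4.gpar, spxu3_cast_mod h3, h2])
      (by rw [← hq3]; rfl)
      (by rw [c33, ← hq4]; simp [SpxN4.gpar, spxu3_cast_mod h3, h2])
      (by rw [← hp4]; rfl)
      (by rw [c41, ← hp3]; simp [SpxN4.gpar, spxu3_cast_mod h3, h2])
      (by rw [← hq4]; rfl)
      (by rw [c43, ← hq3]; simp [SpxN4.gpar, spxu3_cast_mod h3, h2])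
    exact ⟨_, hG, SpxN4.normCheck_gpar true hp1' hp2' hp3' hp4' hq1' hq2' hq3' hq4'
      (spxu3_symp_of_mem hq g _ hG hg)⟩
  · have hG : (g : Matrix (Fin 2 ⊕ Fin 2) (Fin 2 ⊕ Fin 2) F) =
        spxu3Mat F (SpxN4.gpar false p1 p2 p3 p4 q1 q2 q3 q4) := spxu3Mat_ext
      (by rw [← hp1]; rfl)
      (by rw [c11, ← hp2]; simp [SpxN4.gpar, spxu3_cast_mod h3, h2])
      (by rw [← hq1]; rfl)
      (by rw [c13, ← hq2]; simp [SpxN4.gpar, spxu3_cast_mod h3, h2])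
      (by rw [← hp2]; rfl)
      (by rw [c21, ← hp1]; simp [SpxN4.gpar, spxu3_cast_mod h3, h2])
      (by rw [← hq2]; rfl)
      (by rw [c23, ← hq1]; simp [SpxN4.gpar, spxu3_cast_mod h3, h2])
      (by rw [← hp3]; rfl)
      (by rw [c31, ← hp4]; simp [SpxN4.gpar, spxu3_cast_mod h3, h2])
      (by rw [← hq3]; rfl)
      (by rw [c33, ← hq4]; simp [SpxN4.gpar, spxu3_cast_mod h3, h2])
      (by rw [← hp4]; rfl)
      (by rw [c41, ← hp3]; simp [SpxN4.gpar, spxu3_cast_mod h3, h2])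
      (by rw [← hq4]; rfl)
      (by rw [c43, ← hq3]; simp [SpxN4.gpar, spxu3_cast_mod h3, h2])
    exact ⟨_, hG, SpxN4.normCheck_gpar false hp1' hp2' hp3' hp4' hq1' hq2' hq3' hq4'
      (spxu3_symp_of_mem hq g _ hG hg)⟩


theorem spxu3_comm_inv (g : GL (Fin 2 ⊕ Fin 2) F) (e : F) (he : e = 1 ∨ e = -1)
    (X : Matrix (Fin 2 ⊕ Fin 2) (Fin 2 ⊕ Fin 2) F)
    (hcomm : (g : Matrix (Fin 2 ⊕ Fin 2) (Fin 2 ⊕ Fin 2) F) * X =
      e • (X * (g : Matrix (Fin 2 ⊕ Fin 2) (Fin 2 ⊕ Fin 2) F))) :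
    ((g⁻¹ : GL (Fin 2 ⊕ Fin 2) F) : Matrix (Fin 2 ⊕ Fin 2) (Fin 2 ⊕ Fin 2) F) * X =
      e • (X * ((g⁻¹ : GL (Fin 2 ⊕ Fin 2) F) : Matrix (Fin 2 ⊕ Fin 2) (Fin 2 ⊕ Fin 2) F)) := by
  have h1 : ((g⁻¹ : GL (Fin 2 ⊕ Fin 2) F) : Matrix (Fin 2 ⊕ Fin 2) (Fin 2 ⊕ Fin 2) F) *
      (g : Matrix (Fin 2 ⊕ Fin 2) (Fin 2 ⊕ Fin 2) F) = 1 := by
    rw [← Units.val_mul, inv_mul_cancel, Units.val_one]
  have h2 : (g : Matrix (Fin 2 ⊕ Fin 2) (Fin 2 ⊕ Fin 2) F) *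
      ((g⁻¹ : GL (Fin 2 ⊕ Fin 2) F) : Matrix (Fin 2 ⊕ Fin 2) (Fin 2 ⊕ Fin 2) F) = 1 := by
    rw [← Units.val_mul, mul_inv_cancel, Units.val_one]
  have hee : e * e = 1 := by rcases he with rfl | rfl <;> ring
  set gi := ((g⁻¹ : GL (Fin 2 ⊕ Fin 2) F) : Matrix (Fin 2 ⊕ Fin 2) (Fin 2 ⊕ Fin 2) F) with hgi
  set gm := (g : Matrix (Fin 2 ⊕ Fin 2) (Fin 2 ⊕ Fin 2) F) with hgm
  have h3 : X * gi = e • (gi * X) := by
    calc X * gi = gi * (gm * X) * gi := by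
          rw [← Matrix.mul_assoc, h1, Matrix.one_mul]
      _ = gi * (e • (X * gm)) * gi := by rw [hcomm]
      _ = e • (gi * X) := by
          rw [Matrix.mul_smul, Matrix.smul_mul, Matrix.mul_assoc, Matrix.mul_assoc, h2, Matrix.mul_one]
  rw [h3, smul_smul, hee, one_smul]

/-- every symplectic matrix commuting or anticommuting with `i` normalises `R` -/
theorem spxu3_normalises (hq : Fintype.card F = 3) (g : GL (Fin 2 ⊕ Fin 2) F) (hg : g ∈ spGL 2 F) (e : F)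
    (he : e = 1 ∨ e = -1)
    (hcomm : (g : Matrix (Fin 2 ⊕ Fin 2) (Fin 2 ⊕ Fin 2) F) * spxu3Mat F SpxN4.gI =
      e • (spxu3Mat F SpxN4.gI * (g : Matrix (Fin 2 ⊕ Fin 2) (Fin 2 ⊕ Fin 2) F))) :
    g ∈ subgroupNormalizer (spxu3R hq) := by
  obtain ⟨G, hG, hn⟩ := spxu3_param hq g hg e he hcomm
  obtain ⟨G', hG', hn'⟩ := spxu3_param hq g⁻¹ ((spGL 2 F).inv_mem hg) e he (spxu3_comm_inv g e he _ hcomm)
  exact spxu3_mem_normalizer hq g (spxu3_conj_mem hq g G hG hn) (spxu3_conj_mem hq g⁻¹ G' hG' hn')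

/-- the monomial element `g0` -/
def spxu3G0 (hq : Fintype.card F = 3) : GL (Fin 2 ⊕ Fin 2) F :=
  ⟨spxu3Mat F SpxN4.g0, spxu3Mat F SpxN4.g0i,
    by rw [← spxu3Mat_mul (spxu3_three hq), SpxN4.g0_mul_g0i, spxu3Mat_one],
    by rw [← spxu3Mat_mul (spxu3_three hq), SpxN4.g0i_mul_g0, spxu3Mat_one]⟩

theorem spxu3G0_coe (hq : Fintype.card F = 3) :
    ((spxu3G0 hq : GL (Fin 2 ⊕ Fin 2) F) : Matrix (Fin 2 ⊕ Fin 2) (Fin 2 ⊕ Fin 2) F) = spxu3Mat F SpxN4.g0 := rfl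

theorem spxu3G0_inv_coe (hq : Fintype.card F = 3) :
    (((spxu3G0 hq)⁻¹ : GL (Fin 2 ⊕ Fin 2) F) : Matrix (Fin 2 ⊕ Fin 2) (Fin 2 ⊕ Fin 2) F) = spxu3Mat F SpxN4.g0i := rfl

theorem spxu3G0_mem_sp (hq : Fintype.card F = 3) : spxu3G0 hq ∈ spGL 2 F :=
  spxu3_mem_sp hq _ _ (spxu3G0_coe hq) SpxN4.g0_symp

theorem spxu3G0_mem_norm (hq : Fintype.card F = 3) : spxu3G0 hq ∈ subgroupNormalizer (spxu3R hq) :=
  spxu3_mem_normalizer hq _ (spxu3_conj_mem hq _ _ (spxu3G0_coe hq) SpxN4.g0_norm)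
    (spxu3_conj_mem hq _ _ (spxu3G0_inv_coe hq) SpxN4.g0i_norm)

/-- `g0 i g0⁻¹` is not in `F[i]` -/
theorem spxu3G0_conj (hq : Fintype.card F = 3) (x y : F) :
    ((spxu3G0 hq : GL (Fin 2 ⊕ Fin 2) F) : Matrix (Fin 2 ⊕ Fin 2) (Fin 2 ⊕ Fin 2) F) * spxu3Mat F SpxN4.gI *
      (((spxu3G0 hq)⁻¹ : GL (Fin 2 ⊕ Fin 2) F) : Matrix (Fin 2 ⊕ Fin 2) (Fin 2 ⊕ Fin 2) F) ≠
      x • (1 : Matrix (Fin 2 ⊕ Fin 2) (Fin 2 ⊕ Fin 2) F) + y • spxu3Mat F SpxN4.gI := by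
  intro h
  rw [spxu3G0_coe, spxu3G0_inv_coe, Matrix.mul_assoc, ← spxu3Mat_mul (spxu3_three hq),
    ← spxu3Mat_mul (spxu3_three hq), SpxN4.g0_conj_I] at h
  have h14 := congrFun (congrFun h (Sum.inl 0)) (Sum.inr 1)
  simp [spxu3Mat, SpxN4.gI] at h14
  exact spxu3_two_ne hq h14

end norm2

end Cfsg.Agent.Lib.helper6.SPX
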