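import Cfsg.Agent.Lib.Helper21.SPXU3IRR

/-!
# Project SPX, phase 2, piece P2-U3 (helper21) : the model statement `fieldu_q3_model`
-/

set_option autoImplicit false
set_option linter.unusedVariables false
set_option linter.unusedSectionVars false
set_option linter.unusedSimpArgs false

namespace Cfsg.Agent.Lib.helper6.SPX

open Cfsg Cfsg.Geo Cfsg.Agent.Lib.Helper27.ASC Cfsg.Agent.Lib.helper6
open scoped MatrixGroups Matrix Kronecker

variable {F : Type*} [Field F]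

theorem spxu3Mat_gI (h3 : (3 : F) = 0) :
    spxu3Mat F SpxN4.gI = Matrix.fromBlocks !![0, -1; 1, 0] 0 0 !![0, -1; 1, 0] := by
  have h2 : (2 : F) = -1 := by linear_combination h3
  unfold spxu3Mat
  congr 1 <;>
  · ext i j
    fin_cases i <;> fin_cases j <;> simp [SpxN4.gI, h2]

theorem spxu3_gI_sq (h3 : (3 : F) = 0) : spxu3Mat F SpxN4.gI * spxu3Mat F SpxN4.gI = -1 := by
  rw [← spxu3Mat_mul h3, ← spxu3Mat_one, ← spxu3Mat_neg h3]
  congr 1

section model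

variable [Fintype F]

/-- an element of `F[i]` whose square is `-1` is `± i` -/
theorem spxu3_sq_neg_one (hq : Fintype.card F = 3) (x y : F)
    (h : (x • (1 : Matrix (Fin 2 ⊕ Fin 2) (Fin 2 ⊕ Fin 2) F) + y • spxu3Mat F SpxN4.gI) *
      (x • (1 : Matrix (Fin 2 ⊕ Fin 2) (Fin 2 ⊕ Fin 2) F) + y • spxu3Mat F SpxN4.gI) = -1) :
    x = 0 ∧ (y = 1 ∨ y = -1) := by
  have h3 := spxu3_three hq
  have h2 : (2 : F) = -1 := by linear_combination h3
  have h2ne := spxu3_two_ne hq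
  have h1 : (1 : F) ≠ 0 := one_ne_zero
  have e1 : (x • (1 : Matrix (Fin 2 ⊕ Fin 2) (Fin 2 ⊕ Fin 2) F) + y • spxu3Mat F SpxN4.gI) *
      (x • (1 : Matrix (Fin 2 ⊕ Fin 2) (Fin 2 ⊕ Fin 2) F) + y • spxu3Mat F SpxN4.gI) =
      (x * x - y * y) • (1 : Matrix (Fin 2 ⊕ Fin 2) (Fin 2 ⊕ Fin 2) F) + (2 * x * y) • spxu3Mat F SpxN4.gI := by
    simp only [Matrix.add_mul, Matrix.mul_add, Matrix.smul_mul, Matrix.mul_smul, Matrix.one_mul, Matrix.mul_one,
      spxu3_gI_sq h3, smul_smul]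
    module
  rw [e1] at h
  have c11 := congrFun (congrFun h (Sum.inl 0)) (Sum.inl 0)
  have c21 := congrFun (congrFun h (Sum.inl 1)) (Sum.inl 0)
  simp [spxu3Mat, SpxN4.gI] at c11 c21
  rcases spxu3_cases hq x with rfl | rfl | rfl <;> rcases spxu3_cases hq y with rfl | rfl | rfl <;>
    first
    | exact ⟨rfl, Or.inl rfl⟩
    | exact ⟨rfl, Or.inr rfl⟩
    | (exfalso; simp at c11 c21 <;> first | exact h1 c11 | exact h2ne c11 | exact h2ne (by linear_combination c11))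

theorem fieldu_q3_model (hq : Fintype.card F = 3) :
    ∃ (R : Subgroup (GL (Fin 2 ⊕ Fin 2) F)) (g0 : GL (Fin 2 ⊕ Fin 2) F),
      IsPGroup 2 R ∧ ActsAbsolutelyIrreducibly (matrixSet R) ∧ R ≤ similarityGroup (sympForm 2 F) ∧
      (∀ g : GL (Fin 2 ⊕ Fin 2) F, g ∈ spGL 2 F →
        (∃ x y : F, (g : Matrix (Fin 2 ⊕ Fin 2) (Fin 2 ⊕ Fin 2) F) *
            Matrix.fromBlocks !![0, -1; 1, 0] 0 0 !![0, -1; 1, 0] *
            ((g⁻¹ : GL (Fin 2 ⊕ Fin 2) F) : Matrix (Fin 2 ⊕ Fin 2) (Fin 2 ⊕ Fin 2) F) =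
          x • (1 : Matrix (Fin 2 ⊕ Fin 2) (Fin 2 ⊕ Fin 2) F) +
            y • Matrix.fromBlocks !![0, -1; 1, 0] 0 0 !![0, -1; 1, 0]) →
        g ∈ subgroupNormalizer R) ∧
      g0 ∈ spGL 2 F ∧ g0 ∈ subgroupNormalizer R ∧
      ∀ x y : F, (g0 : Matrix (Fin 2 ⊕ Fin 2) (Fin 2 ⊕ Fin 2) F) *
            Matrix.fromBlocks !![0, -1; 1, 0] 0 0 !![0, -1; 1, 0] *
            ((g0⁻¹ : GL (Fin 2 ⊕ Fin 2) F) : Matrix (Fin 2 ⊕ Fin 2) (Fin 2 ⊕ Fin 2) F) ≠
          x • (1 : Matrix (Fin 2 ⊕ Fin 2) (Fin 2 ⊕ Fin 2) F) +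
            y • Matrix.fromBlocks !![0, -1; 1, 0] 0 0 !![0, -1; 1, 0] := by
  have h3 := spxu3_three hq
  rw [← spxu3Mat_gI h3]
  refine ⟨spxu3R hq, spxu3G0 hq, spxu3R_pgroup hq, spxu3R_absIrr hq, ?_, ?_, spxu3G0_mem_sp hq,
    spxu3G0_mem_norm hq, spxu3G0_conj hq⟩
  · -- symplectic matrices are similarities
    intro g hg
    have := spxu3R_le_sp hq hg
    exact ⟨1, fun u v => by rw [Units.val_one, one_mul]; exact this u v⟩
  · rintro g hg ⟨x, y, hxy⟩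
    set gm := (g : Matrix (Fin 2 ⊕ Fin 2) (Fin 2 ⊕ Fin 2) F) with hgm
    set gi := ((g⁻¹ : GL (Fin 2 ⊕ Fin 2) F) : Matrix (Fin 2 ⊕ Fin 2) (Fin 2 ⊕ Fin 2) F) with hgi
    have hig : gi * gm = 1 := by rw [hgi, hgm, ← Units.val_mul, inv_mul_cancel, Units.val_one]
    have hgi' : gm * gi = 1 := by rw [hgi, hgm, ← Units.val_mul, mul_inv_cancel, Units.val_one]
    -- the square of the conjugate
    have hsq : (x • (1 : Matrix (Fin 2 ⊕ Fin 2) (Fin 2 ⊕ Fin 2) F) + y • spxu3Mat F SpxN4.gI) *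
        (x • (1 : Matrix (Fin 2 ⊕ Fin 2) (Fin 2 ⊕ Fin 2) F) + y • spxu3Mat F SpxN4.gI) = -1 := by
      rw [← hxy]
      calc gm * spxu3Mat F SpxN4.gI * gi * (gm * spxu3Mat F SpxN4.gI * gi)
          = gm * spxu3Mat F SpxN4.gI * (gi * gm) * spxu3Mat F SpxN4.gI * gi := by
            simp only [Matrix.mul_assoc]
        _ = gm * (spxu3Mat F SpxN4.gI * spxu3Mat F SpxN4.gI) * gi := by
            rw [hig, Matrix.mul_one, Matrix.mul_assoc gm]
        _ = -1 := by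
            rw [spxu3_gI_sq h3, Matrix.mul_neg, Matrix.mul_one, Matrix.neg_mul, hgi']
    obtain ⟨hx, hy⟩ := spxu3_sq_neg_one hq x y hsq
    refine spxu3_normalises hq g hg y hy ?_
    have h5 : gm * spxu3Mat F SpxN4.gI = (gm * spxu3Mat F SpxN4.gI * gi) * gm := by
      rw [Matrix.mul_assoc _ gi gm, hig, Matrix.mul_one]
    rw [h5, hxy, hx, zero_smul, zero_add, Matrix.smul_mul]

end model

end Cfsg.Agent.Lib.helper6.SPX
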