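import Mathlib
import Cfsg.Prelude.Def_LieTypeChar
import Cfsg.Prelude.Def_ChevStructure
import Cfsg.Agent.Lib.helper14.SQD.Defs
import Cfsg.Agent.S1059
import Cfsg.Agent.S1062
import Cfsg.Agent.S1063
import Cfsg.Agent.S1064
import Cfsg.Agent.S1065

/-!
# Project SQD (helper14, S4625), row C3 (`chev_two_part`), VERBATIM.
The 2-part of the orders of `G₂ F₄ E₆ E₇ E₈` over a field with `2 ^ f` elements, from the landed order
formulas S1059, S1062-S1065.  (`sqdc3_two_part` = row X12, proved here under my own name.)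
-/

set_option autoImplicit false

namespace Cfsg.Agent.Lib.helper14.SQD

open Cfsg Cfsg.Lie Matrix

universe u v

/-- row X12, own name. -/
theorem sqdc3_two_part (f N n M d : ℕ) (hd : d * n = (2 ^ f) ^ N * M) (hdo : ¬ 2 ∣ d)
    (hMo : ¬ 2 ∣ M) : ∃ r, n = 2 ^ (f * N) * r ∧ ¬ 2 ∣ r := by
  have hpow : (2 ^ f) ^ N = 2 ^ (f * N) := by rw [← pow_mul]
  rw [hpow] at hd
  have hcop : Nat.Coprime (2 ^ (f * N)) d := by
    apply Nat.Coprime.pow_left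
    exact (Nat.Prime.coprime_iff_not_dvd Nat.prime_two).mpr hdo
  have hdvd : 2 ^ (f * N) ∣ n := by
    apply hcop.dvd_of_dvd_mul_left
    exact ⟨M, hd⟩
  obtain ⟨r, rfl⟩ := hdvd
  refine ⟨r, rfl, ?_⟩
  intro h2
  apply hMo
  have hpos : 0 < 2 ^ (f * N) := by positivity
  have e : 2 ^ (f * N) * (d * r) = 2 ^ (f * N) * M := by rw [← hd]; ring
  have e2 : d * r = M := Nat.eq_of_mul_eq_mul_left hpos e
  rw [← e2]
  exact Dvd.dvd.mul_left h2 d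

theorem sqdc3_odd_sub (q : ℕ) (hq : 2 ∣ q) (hq0 : 0 < q) (k : ℕ) (hk : 0 < k) : ¬ 2 ∣ q ^ k - 1 := by
  have h1 : 2 ∣ q ^ k := dvd_pow hq hk.ne'
  have h2 : 0 < q ^ k := Nat.pow_pos hq0
  omega

theorem sqdc3_odd_mul {a b : ℕ} (ha : ¬ 2 ∣ a) (hb : ¬ 2 ∣ b) : ¬ 2 ∣ a * b := by
  intro h
  rcases (Nat.Prime.dvd_mul Nat.prime_two).mp h with h | h
  · exact ha h
  · exact hb h

theorem sqdc3_odd_gcd (a q : ℕ) (hq : 2 ∣ q) (hq0 : 0 < q) : ¬ 2 ∣ Nat.gcd a (q - 1) := by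
  intro h
  have h1 : 2 ∣ q - 1 := h.trans (Nat.gcd_dvd_right _ _)
  omega

theorem chev_two_part {F : Type} [Field F] [Fintype F] [CharP F 2] (f : ℕ) (hF : Fintype.card F = 2 ^ f)
    (D : ChevalleyDatum) (hD : D ∈ [chevG2, chevF4, chevE6, chevE7, chevE8]) :
    ∃ r, Nat.card ↥(D.group F) = 2 ^ (f * (D.nroots / 2)) * r ∧ ¬ 2 ∣ r := by
  have hf : 0 < f := by
    rcases Nat.eq_zero_or_pos f with h | h
    · exfalso
      rw [h, pow_zero] at hF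
      have := Fintype.one_lt_card (α := F)
      omega
    · exact h
  have hq2 : 2 ∣ 2 ^ f := dvd_pow_self 2 hf.ne'
  have hq0 : 0 < 2 ^ f := by positivity
  have ho : ∀ k, 0 < k → ¬ 2 ∣ (2 ^ f) ^ k - 1 := fun k hk => sqdc3_odd_sub _ hq2 hq0 k hk
  have h1 : ¬ 2 ∣ 1 := by norm_num
  simp only [List.mem_cons, List.mem_nil_iff, or_false] at hD
  rcases hD with rfl | rfl | rfl | rfl | rfl
  · have h := Cfsg.Agent.S1059.result (F := F) hF
    have e : chevG2.nroots / 2 = 6 := by decide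
    rw [e]
    apply sqdc3_two_part f 6 _ (((2 ^ f) ^ 2 - 1) * ((2 ^ f) ^ 6 - 1)) 1 _ h1
    · exact sqdc3_odd_mul (ho 2 (by norm_num)) (ho 6 (by norm_num))
    · rw [one_mul, h]; ring
  · have h := Cfsg.Agent.S1062.result (F := F) hF
    have e : chevF4.nroots / 2 = 24 := by decide
    rw [e]
    apply sqdc3_two_part f 24 _
      (((2 ^ f) ^ 2 - 1) * ((2 ^ f) ^ 6 - 1) * ((2 ^ f) ^ 8 - 1) * ((2 ^ f) ^ 12 - 1)) 1 _ h1
    · exact sqdc3_odd_mul (sqdc3_odd_mul (sqdc3_odd_mul (ho 2 (by norm_num)) (ho 6 (by norm_num)))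
        (ho 8 (by norm_num))) (ho 12 (by norm_num))
    · rw [one_mul, h]; ring
  · have h := Cfsg.Agent.S1063.result (F := F) hF
    have e : chevE6.nroots / 2 = 36 := by decide
    rw [e]
    apply sqdc3_two_part f 36 _
      (((2 ^ f) ^ 2 - 1) * ((2 ^ f) ^ 5 - 1) * ((2 ^ f) ^ 6 - 1) * ((2 ^ f) ^ 8 - 1) *
        ((2 ^ f) ^ 9 - 1) * ((2 ^ f) ^ 12 - 1)) (Nat.gcd 3 (2 ^ f - 1)) _ (sqdc3_odd_gcd 3 _ hq2 hq0)
    · exact sqdc3_odd_mul (sqdc3_odd_mul (sqdc3_odd_mul (sqdc3_odd_mul (sqdc3_odd_mul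
        (ho 2 (by norm_num)) (ho 5 (by norm_num))) (ho 6 (by norm_num))) (ho 8 (by norm_num)))
        (ho 9 (by norm_num))) (ho 12 (by norm_num))
    · rw [h]; ring
  · have h := Cfsg.Agent.S1064.result (F := F) hF
    have e : chevE7.nroots / 2 = 63 := by decide
    rw [e]
    apply sqdc3_two_part f 63 _
      (((2 ^ f) ^ 2 - 1) * ((2 ^ f) ^ 6 - 1) * ((2 ^ f) ^ 8 - 1) * ((2 ^ f) ^ 10 - 1) *
        ((2 ^ f) ^ 12 - 1) * ((2 ^ f) ^ 14 - 1) * ((2 ^ f) ^ 18 - 1)) (Nat.gcd 2 (2 ^ f - 1)) _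
      (sqdc3_odd_gcd 2 _ hq2 hq0)
    · exact sqdc3_odd_mul (sqdc3_odd_mul (sqdc3_odd_mul (sqdc3_odd_mul (sqdc3_odd_mul (sqdc3_odd_mul
        (ho 2 (by norm_num)) (ho 6 (by norm_num))) (ho 8 (by norm_num))) (ho 10 (by norm_num)))
        (ho 12 (by norm_num))) (ho 14 (by norm_num))) (ho 18 (by norm_num))
    · rw [h]; ring
  · have h := Cfsg.Agent.S1065.result (F := F) hF
    have e : chevE8.nroots / 2 = 120 := by decide
    rw [e]
    apply sqdc3_two_part f 120 _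
      (((2 ^ f) ^ 2 - 1) * ((2 ^ f) ^ 8 - 1) * ((2 ^ f) ^ 12 - 1) * ((2 ^ f) ^ 14 - 1) *
        ((2 ^ f) ^ 18 - 1) * ((2 ^ f) ^ 20 - 1) * ((2 ^ f) ^ 24 - 1) * ((2 ^ f) ^ 30 - 1)) 1 _ h1
    · exact sqdc3_odd_mul (sqdc3_odd_mul (sqdc3_odd_mul (sqdc3_odd_mul (sqdc3_odd_mul (sqdc3_odd_mul
        (sqdc3_odd_mul (ho 2 (by norm_num)) (ho 8 (by norm_num))) (ho 12 (by norm_num)))
        (ho 14 (by norm_num))) (ho 18 (by norm_num))) (ho 20 (by norm_num))) (ho 24 (by norm_num)))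
        (ho 30 (by norm_num))
    · rw [one_mul, h]; ring

end Cfsg.Agent.Lib.helper14.SQD
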