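import Mathlib
import Cfsg.Agent.Lib.helper17.STM.Defs
import Cfsg.Agent.Lib.helper17.STM.Defs2
import Cfsg.Agent.Lib.Helper21.STMF12
import Cfsg.Agent.Lib.Helper21.STMF2b

/-!
# Project STM (designer helper17; family S2099), part 2, row F14b (`w_ws`) (helper21), VERBATIM vs `helper17/STM/Skel2.lean.txt`:
`stmf14b_w_ws_core` (`Helper21/STMF12core.lean`) at W12 `isMon_w`, N2p `Lg_cj_mem_Yg`, F2b `NP_h` (`Helper21/STMF2b.lean`).
-/

set_option autoImplicit false
set_option linter.unusedSectionVars false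
set_option linter.unusedVariables false

namespace Cfsg.Agent.Lib.helper17.STM

open Cfsg.Agent.Lib.helper15.St2 Cfsg.Agent.Lib.helper3.STC Cfsg.Agent.Lib.Lead.STD

universe v w

namespace SysM

variable {F : Type*} [Field F] {A B : F} [Fact (∀ r : F, r ^ 2 ≠ -B + A * r)] {ι : Type*} [DecidableEq ι] {G : Type*} [Group G] (S : SysM F A B ι G)

section F
variable (o : ι ⊕ ι)

/-- F14b [M]  `w o k 1 * ws o 1 = w o (ng k) 1 * (h o k (-1) * ws k 1)`. -/
theorem w_ws [Finite F] {k : ι ⊕ ι} (hk : k ≠ o) (hk' : k ≠ ng o) : ∃ n, S.NP o n ∧ S.w o k 1 * S.ws o 1 = S.w o (ng k) 1 * n :=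
  S.stmf14b_w_ws_core o (fun {_ _} h h' u hu => S.isMon_w h h' u hu) (S.Lg_cj_mem_Yg o) hk hk'
    (S.NP_h o hk hk' (neg_ne_zero.mpr one_ne_zero))

end F

end SysM

end Cfsg.Agent.Lib.helper17.STM
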