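import Mathlib
import Cfsg.Agent.Lib.helper17.STM.Defs
import Cfsg.Agent.Lib.helper17.STM.Defs2
import Cfsg.Agent.Lib.Helper16.STDW13

/-!
# Project STM (designer helper17; family S2099), row W10 (helper21): `IsMon.congr`, `IsMon.mul`, `IsMon.inv` — VERBATIM vs `helper17/STM/Skel1.lean.txt`
(model `Helper18.STBW10`; the `toSysD.IsMon` component is STD W13, `Helper16.STDW13`).
-/

set_option autoImplicit false
set_option linter.unusedSectionVars false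
set_option linter.unusedVariables false

namespace Cfsg.Agent.Lib.helper17.STM

open Cfsg.Agent.Lib.helper15.St2 Cfsg.Agent.Lib.helper3.STC Cfsg.Agent.Lib.Lead.STD

universe v w

namespace SysM

variable {F : Type*} [Field F] {A B : F} [Fact (∀ r : F, r ^ 2 ≠ -B + A * r)] {ι : Type*} {G : Type*} [Group G] (S : SysM F A B ι G)

variable [DecidableEq ι]

/-- W10 [S-M]  model STB W10 (`Helper18.STBW10`): formal properties of `IsMon`. -/
theorem IsMon.congr {g : G} {σ σ' : Equiv.Perm (ι ⊕ ι)} {d d' : ι ⊕ ι → F} {c0 c0' : Kq F A B} {ε ε' : Bool} (h : S.IsMon g σ d c0 ε)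
    (hσ : σ = σ') (hd : ∀ k, d k = d' k) (hc0 : c0 = c0') (hε : ε = ε') : S.IsMon g σ' d' c0' ε' := by
  have : d = d' := funext hd
  subst hσ this hc0 hε
  exact h

theorem IsMon.mul {g g' : G} {σ σ' : Equiv.Perm (ι ⊕ ι)} {d d' : ι ⊕ ι → F} {c0 c0' : Kq F A B} {ε ε' : Bool} (h : S.IsMon g σ d c0 ε)
    (h' : S.IsMon g' σ' d' c0' ε') : S.IsMon (g * g') (σ * σ') (fun k => d (σ' k) * d' k) (c0 * tw ε c0') (xor ε ε') := by
  obtain ⟨h1, h2, h3, h4, h5⟩ := h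
  obtain ⟨h1', h2', h3', h4', h5'⟩ := h'
  refine ⟨SysD.IsMon.mul S.toSysD h1 h1', fun k => ?_, fun k => ?_, ?_, fun k t => ?_⟩
  · simp only [Equiv.Perm.mul_apply]
    rw [h2', h2]
  · show d (σ' k) * d' k * (d (σ' (ng k)) * d' (ng k)) = 1
    rw [h2']
    have e1 := h3 (σ' k)
    have e2 := h3' k
    calc d (σ' k) * d' k * (d (ng (σ' k)) * d' (ng k))
        = (d (σ' k) * d (ng (σ' k))) * (d' k * d' (ng k)) := by ring
      _ = 1 := by rw [e1, e2, one_mul]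
  · rw [nm_mul, nm_tw, h4, h4', one_mul]
  · rw [← cj_cj, h5' k t, h5 (σ' k)]
    simp only [Equiv.Perm.mul_apply]
    congr 1
    rw [tw_smul, tw_mul, tw_tw, mul_smul_comm, smul_smul, mul_assoc]

theorem IsMon.inv {g : G} {σ : Equiv.Perm (ι ⊕ ι)} {d : ι ⊕ ι → F} {c0 : Kq F A B} {ε : Bool} (h : S.IsMon g σ d c0 ε) :
    S.IsMon g⁻¹ σ⁻¹ (fun k => (d (σ⁻¹ k))⁻¹) (tw ε c0)⁻¹ ε := by
  obtain ⟨h1, h2, h3, h4, h5⟩ := h
  have hs : ∀ k, σ⁻¹ (ng k) = ng (σ⁻¹ k) := by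
    intro k
    apply σ.injective
    rw [h2]
    have e1 : σ (σ⁻¹ (ng k)) = ng k := σ.apply_symm_apply (ng k)
    have e2 : σ (σ⁻¹ k) = k := σ.apply_symm_apply k
    rw [e1, e2]
  have hc0 : c0 ≠ 0 := by
    intro e
    rw [e, nm_zero] at h4
    exact zero_ne_one h4
  refine ⟨SysD.IsMon.inv S.toSysD h1, hs, fun k => ?_, ?_, fun k t => ?_⟩
  · show (d (σ⁻¹ k))⁻¹ * (d (σ⁻¹ (ng k)))⁻¹ = 1
    rw [hs, ← mul_inv, h3, inv_one]
  · rw [nm_inv, nm_tw, h4, inv_one]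
  · apply cj_inv_of
    rw [h5]
    have e2 : σ (σ⁻¹ k) = k := σ.apply_symm_apply k
    rw [e2]
    congr 1
    have hne : d (σ⁻¹ k) ≠ 0 := h1.1 _
    have e3 : tw ε (tw ε c0) = c0 := by
      rw [tw_tw, Bool.xor_self, tw_false]
    have e4 : tw ε (tw ε t) = t := by
      rw [tw_tw, Bool.xor_self, tw_false]
    rw [tw_smul, tw_mul, tw_inv, e3, e4, mul_smul_comm, smul_smul, mul_inv_cancel₀ hne, one_smul, ← mul_assoc,
      mul_inv_cancel₀ hc0, one_mul]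

end SysM

end Cfsg.Agent.Lib.helper17.STM
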