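import Mathlib
import Cfsg.Agent.Lib.Helper24.SU3M.Defs
import Cfsg.Agent.Lib.Helper25.SU3P.Basic

/-!
# Project SU3M (designer helper24), row T1 (helper21): `exists_tor` VERBATIM vs `Helper24/SU3M/Skel.lean.txt`.
Extras: `su3mt1_mk` (an element of `Cfsg.SU 3 F q` from a matrix), `su3mt1_smat_mk`, `su3mt1_herm_diag`, `su3mt1_herm_w`, `su3mt1_herm_s`, `su3mt1_neg_one_pow`.
-/

set_option autoImplicit false
set_option linter.unusedSectionVars false
set_option linter.unusedVariables false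

namespace Cfsg.Agent.Lib.Helper24.SU3M

open Cfsg.Agent.Lib.Helper19.U3P Cfsg.Agent.Lib.Helper25.SU3P Cfsg.Agent.Lib.helper14.SU3J Matrix

universe u

section T

variable {F : Type u} [Field F] [Fintype F] {q : ℕ}

/-- an element of `Cfsg.SU 3 F q` from a matrix of determinant `1` preserving the form -/
def su3mt1_mk (M : Matrix (Fin 3) (Fin 3) F) (hdet : M.det = 1)
    (hM : ∀ u v, Cfsg.hermForm 3 F q (M *ᵥ u) (M *ᵥ v) = Cfsg.hermForm 3 F q u v) : ↥(Cfsg.SU 3 F q) :=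
  ⟨⟨M, hdet⟩, fun u v => hM u v⟩

theorem su3mt1_smat_mk (M : Matrix (Fin 3) (Fin 3) F) (hdet : M.det = 1)
    (hM : ∀ u v, Cfsg.hermForm 3 F q (M *ᵥ u) (M *ᵥ v) = Cfsg.hermForm 3 F q u v) :
    smat (su3mt1_mk M hdet hM) = M := rfl

theorem su3mt1_herm_diag {x y z : F} (hx : x ^ (q + 1) = 1) (hy : y ^ (q + 1) = 1) (hz : z ^ (q + 1) = 1) (u v : Fin 3 → F) :
    Cfsg.hermForm 3 F q (Matrix.diagonal ![x, y, z] *ᵥ u) (Matrix.diagonal ![x, y, z] *ᵥ v) = Cfsg.hermForm 3 F q u v := by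
  have key : ∀ (d a b : F), d ^ (q + 1) = 1 → d * a * (d * b) ^ q = a * b ^ q := by
    intro d a b hd
    rw [mul_pow]
    calc d * a * (d ^ q * b ^ q) = d ^ (q + 1) * (a * b ^ q) := by ring
      _ = _ := by rw [hd, one_mul]
  unfold Cfsg.hermForm
  simp only [Fin.sum_univ_three, Matrix.mulVec_diagonal]
  have e0 : (![x, y, z] : Fin 3 → F) 0 = x := rfl
  have e1 : (![x, y, z] : Fin 3 → F) 1 = y := rfl
  have e2 : (![x, y, z] : Fin 3 → F) 2 = z := rfl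
  rw [e0, e1, e2, key _ _ _ hx, key _ _ _ hy, key _ _ _ hz]

theorem su3mt1_herm_w (u v : Fin 3 → F) :
    Cfsg.hermForm 3 F q ((!![0, 0, 1; 1, 0, 0; 0, 1, 0] : Matrix (Fin 3) (Fin 3) F) *ᵥ u)
      ((!![0, 0, 1; 1, 0, 0; 0, 1, 0] : Matrix (Fin 3) (Fin 3) F) *ᵥ v) = Cfsg.hermForm 3 F q u v := by
  unfold Cfsg.hermForm
  simp [Fin.sum_univ_three, Matrix.mulVec, dotProduct]
  ring

theorem su3mt1_neg_one_pow (hF : Fintype.card F = q ^ 2) : (-1 : F) ^ (q + 1) = 1 := by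
  rcases Nat.even_or_odd q with hq | hq
  · -- characteristic two
    obtain ⟨p, hp⟩ := CharP.exists F
    have := hp
    obtain ⟨n, hpP, hcard⟩ := FiniteField.card F p
    have h2 : 2 ∣ p ^ (n : ℕ) := by
      rw [← hcard, hF]
      exact Dvd.dvd.pow hq.two_dvd (by norm_num)
    have h2p : 2 ∣ p := Nat.Prime.dvd_of_dvd_pow Nat.prime_two h2
    have hp2 : p = 2 := ((Nat.prime_dvd_prime_iff_eq Nat.prime_two hpP).1 h2p).symm
    subst hp2
    have : (-1 : F) = 1 := CharTwo.neg_eq 1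
    rw [this, one_pow]
  · rw [pow_succ, hq.neg_one_pow]
    ring

theorem su3mt1_herm_s (hF : Fintype.card F = q ^ 2) (u v : Fin 3 → F) :
    Cfsg.hermForm 3 F q ((!![0, -1, 0; -1, 0, 0; 0, 0, -1] : Matrix (Fin 3) (Fin 3) F) *ᵥ u)
      ((!![0, -1, 0; -1, 0, 0; 0, 0, -1] : Matrix (Fin 3) (Fin 3) F) *ᵥ v) = Cfsg.hermForm 3 F q u v := by
  have key : ∀ (a b : F), -(a * (-b) ^ q) = a * b ^ q := by
    intro a b
    have h1 := su3mt1_neg_one_pow (F := F) hF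
    calc -(a * (-b) ^ q) = (-1) ^ (q + 1) * (a * b ^ q) := by
          rw [neg_pow b, pow_succ]
          ring
      _ = _ := by rw [h1, one_mul]
  unfold Cfsg.hermForm
  simp only [Fin.sum_univ_three, Matrix.mulVec, dotProduct]
  simp
  rw [key, key, key]
  ring

/-- T1 [M] -/
theorem exists_tor (hF : Fintype.card F = q ^ 2) :
    ∃ (dg : (↥(rootsOfUnity (q + 1) F) × ↥(rootsOfUnity (q + 1) F)) →* ↥(Cfsg.SU 3 F q)) (w s : ↥(Cfsg.SU 3 F q)), Tor q dg w s := by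
  have hroot : ∀ a : ↥(rootsOfUnity (q + 1) F), (((a : Fˣ) : F)) ^ (q + 1) = 1 := by
    intro a
    have h := (mem_rootsOfUnity _ _).1 a.2
    have := congrArg (fun x : Fˣ => (x : F)) h
    simpa using this
  have hdetD : ∀ a b : ↥(rootsOfUnity (q + 1) F),
      (Matrix.diagonal ![((a : Fˣ) : F), ((b : Fˣ) : F), (((a * b)⁻¹ : Fˣ) : F)]).det = 1 := by
    intro a b
    have ha : ((a : Fˣ) : F) ≠ 0 := Units.ne_zero _
    have hb : ((b : Fˣ) : F) ≠ 0 := Units.ne_zero _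
    rw [Matrix.det_diagonal, Fin.prod_univ_three]
    simp
    field_simp
  have hMD : ∀ (a b : ↥(rootsOfUnity (q + 1) F)) (u v : Fin 3 → F),
      Cfsg.hermForm 3 F q (Matrix.diagonal ![((a : Fˣ) : F), ((b : Fˣ) : F), (((a * b)⁻¹ : Fˣ) : F)] *ᵥ u)
        (Matrix.diagonal ![((a : Fˣ) : F), ((b : Fˣ) : F), (((a * b)⁻¹ : Fˣ) : F)] *ᵥ v) = Cfsg.hermForm 3 F q u v := by
    intro a b u v
    exact su3mt1_herm_diag (hroot a) (hroot b) (hroot (a * b)⁻¹) u v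
  let dgf : (↥(rootsOfUnity (q + 1) F) × ↥(rootsOfUnity (q + 1) F)) → ↥(Cfsg.SU 3 F q) := fun p =>
    su3mt1_mk (Matrix.diagonal ![((p.1 : Fˣ) : F), ((p.2 : Fˣ) : F), (((p.1 * p.2)⁻¹ : Fˣ) : F)]) (hdetD p.1 p.2) (hMD p.1 p.2)
  have hdgf : ∀ p, smat (dgf p) = Matrix.diagonal ![((p.1 : Fˣ) : F), ((p.2 : Fˣ) : F), (((p.1 * p.2)⁻¹ : Fˣ) : F)] :=
    fun p => rfl
  let dg : (↥(rootsOfUnity (q + 1) F) × ↥(rootsOfUnity (q + 1) F)) →* ↥(Cfsg.SU 3 F q) :=
    { toFun := dgf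
      map_one' := by
        apply smat_inj
        rw [hdgf, smat_one]
        ext i j
        fin_cases i <;> fin_cases j <;> simp
      map_mul' := by
        intro p p'
        apply smat_inj
        rw [smat_mul, hdgf, hdgf, hdgf, Matrix.diagonal_mul_diagonal]
        congr 1
        ext i
        fin_cases i <;> simp <;> ring }
  have hdetw : (!![0, 0, 1; 1, 0, 0; 0, 1, 0] : Matrix (Fin 3) (Fin 3) F).det = 1 := by
    rw [Matrix.det_fin_three]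
    simp
  have hdets : (!![0, -1, 0; -1, 0, 0; 0, 0, -1] : Matrix (Fin 3) (Fin 3) F).det = 1 := by
    rw [Matrix.det_fin_three]
    simp
  refine ⟨dg, su3mt1_mk _ hdetw (su3mt1_herm_w (q := q)), su3mt1_mk _ hdets (su3mt1_herm_s hF), ?_, rfl, rfl⟩
  intro a b
  exact hdgf (a, b)

end T

end Cfsg.Agent.Lib.Helper24.SU3M
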