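import Mathlib
import Cfsg.Agent.Lib.helper17.SLP.Defs
import Cfsg.Agent.Lib.helper3.SP4.Defs
import Cfsg.Prelude.Def_Classical
import Cfsg.Agent.Lib.Helper22.SU4.Defs
import Cfsg.Agent.Lib.helper4.SU4F1
import Cfsg.Agent.Lib.Helper5.SU4F2
import Cfsg.Agent.Lib.helper15.SP4H6
import Cfsg.Agent.Lib.Helper9.SP4H1
import Cfsg.Agent.Lib.Helper9.SP4P1
import Cfsg.Agent.Lib.helper6.SLPM4
import Cfsg.Agent.Lib.helper2.SLPM1
import Cfsg.Agent.Lib.helper8.SU4T8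
import Cfsg.Agent.Lib.Helper13.SU4FIN1
import Cfsg.Agent.Lib.Helper5.SU4W4
import Cfsg.Agent.Lib.Helper5.SU4FIN3
import Cfsg.Agent.Lib.helper15.SU4FIN4
import Cfsg.Agent.Lib.Helper22.SU4M6
import Cfsg.Agent.Lib.Helper22.SU4M7
import Cfsg.Agent.Lib.Helper22.SU4M8
import Cfsg.Agent.S0279

/-!
# Project SU4 (designer helper22), row FIN6 `psu4_main` (helper21): `PSU₄(q)` has a presentation with 6 generators and at most 36 relators
-/

set_option autoImplicit false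

namespace Cfsg.Agent.Lib.Helper22.SU4

open Cfsg.Agent.Lib.helper17.SLP Cfsg.Agent.Lib.helper3.SP4

universe u v

/-- naturality of `ev6` -/
theorem su4fin6_ev6_map {G : Type u} {H : Type v} [Group G] [Group H] (φ : G →* H) (a₁ a₂ a₃ b₁ b₂ b₃ : G)
    (r : FreeGroup (Fin 6)) : φ (ev6 a₁ a₂ a₃ b₁ b₂ b₃ r) = ev6 (φ a₁) (φ a₂) (φ a₃) (φ b₁) (φ b₂) (φ b₃) r := by
  have h : φ.comp (ev6 a₁ a₂ a₃ b₁ b₂ b₃) = ev6 (φ a₁) (φ a₂) (φ a₃) (φ b₁) (φ b₂) (φ b₃) := by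
    apply FreeGroup.ext_hom
    intro i
    fin_cases i <;> simp [ev6]
  exact DFunLike.congr_fun h r

theorem su4fin6_ev6_pHa {G : Type u} [Group G] (a₁ a₂ a₃ b₁ b₂ b₃ : G) : ev6 a₁ a₂ a₃ b₁ b₂ b₃ pHa = a₂ := by
  simp [ev6, pHa]

theorem su4fin6_ev6_pHb {G : Type u} [Group G] (a₁ a₂ a₃ b₁ b₂ b₃ : G) : ev6 a₁ a₂ a₃ b₁ b₂ b₃ pHb = b₂ := by
  simp [ev6, pHb]

/-- the image of a generating set of six elements under a surjective homomorphism generates -/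
theorem su4fin6_gen_map {G : Type u} {H : Type v} [Group G] [Group H] (φ : G →* H)
    (hφ : Function.Surjective φ) (a1 a2 a3 b1 b2 b3 : G)
    (h : Subgroup.closure {a1, a2, a3, b1, b2, b3} = ⊤) :
    Subgroup.closure {φ a1, φ a2, φ a3, φ b1, φ b2, φ b3} = ⊤ := by
  have h1 := congrArg (Subgroup.map φ) h
  rw [MonoidHom.map_closure, Subgroup.map_top_of_surjective φ hφ] at h1
  rw [← h1]
  congr 1
  simp only [Set.image_insert_eq, Set.image_singleton]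

/-- an isomorphism maps the centre into the centre -/
theorem su4fin6_center_map {G : Type u} {H : Type v} [Group G] [Group H] (Φ : G ≃* H) {z : G}
    (hz : z ∈ Subgroup.center G) : Φ z ∈ Subgroup.center H := by
  rw [Subgroup.mem_center_iff] at hz ⊢
  intro h
  obtain ⟨g, rfl⟩ := Φ.surjective h
  rw [← map_mul, ← map_mul, hz g]

/-- the order of `ζ ^ ((q² - 1) / g)` -/
theorem su4fin6_order {F : Type u} [Field F] [Fintype F] (q : ℕ) (hF : Fintype.card F = q ^ 2) (ζ : Fˣ)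
    (hζ : ∀ y : Fˣ, y ∈ Subgroup.zpowers ζ) (g : ℕ) (hg : g ∣ q ^ 2 - 1) (hq : 0 < q ^ 2 - 1) :
    orderOf (ζ ^ ((q ^ 2 - 1) / g)) = g := by
  have ho : orderOf ζ = q ^ 2 - 1 := by
    rw [orderOf_eq_card_of_forall_mem_zpowers hζ, Nat.card_units, Nat.card_eq_fintype_card, hF]
  have hg0 : 0 < g := Nat.pos_of_dvd_of_pos hg hq
  have hm : (q ^ 2 - 1) / g ∣ orderOf ζ := by
    rw [ho]
    exact Nat.div_dvd_of_dvd hg
  have hm0 : (q ^ 2 - 1) / g ≠ 0 := by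
    have := Nat.div_pos (Nat.le_of_dvd hq hg) hg0
    omega
  rw [orderOf_pow_of_dvd hm0 hm, ho, Nat.div_div_self hg (by omega)]

/-- FIN6 -/
theorem psu4_main {F : Type u} [Field F] [Fintype F] (q : ℕ) (hF : Fintype.card F = q ^ 2) :
    ∃ rels : Finset (FreeGroup (Fin 6)), rels.card ≤ 36 ∧
      Nonempty (PresentedGroup (↑rels : Set (FreeGroup (Fin 6))) ≃* Cfsg.PSU 4 F q) := by
  classical
  obtain ⟨K, iK, fK, D, hK, hσ⟩ := exists_twT q hF
  obtain ⟨ζ, ζ₀, hζ, hζ₀, hn, he⟩ := exists_gensT q hF hK D hσ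
  have hFK : Fintype.card F = Fintype.card K ^ 2 := by rw [hF, hK]
  have hq2 : 2 ≤ q := by
    rw [← hK]
    exact Fintype.one_lt_card
  obtain ⟨LA, zc, hlenA, -, hLArel, hzc, hLA⟩ := sl_hom ζ hζ
  obtain ⟨LB, zb, hlenB, -, hLBrel, hzb, hLB⟩ := sl_hom ζ₀ hζ₀
  obtain ⟨za, hza⟩ := exists_word (xM (1 : F)) (hM ζ) wM (closure_M ζ hζ) (xM (D.ι (ζ₀ : K)))
  obtain ⟨zd, hzd⟩ := exists_word (xM (1 : K)) (hM ζ₀) wM (closure_M ζ₀ hζ₀) (xM (D.tr (ζ : F)))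
  obtain ⟨hrelM, hgenM⟩ := wordsT_M D hFK ζ hζ ζ₀ hζ₀ hn (q + 1) he LA LB za zc zb zd hLArel hLBrel hza hzc hzb hzd
  obtain ⟨Φ⟩ := suj_iso q hF D hσ
  -- the numbers
  obtain ⟨g, hg⟩ : ∃ g, g = Nat.gcd 4 (q + 1) := ⟨_, rfl⟩
  obtain ⟨m, hm⟩ : ∃ m, m = (q ^ 2 - 1) / g := ⟨_, rfl⟩
  obtain ⟨k, hk⟩ : ∃ k, k = 2 * (q - 1) / g := ⟨_, rfl⟩
  have hgdvd : g ∣ q ^ 2 - 1 := by
    have h1 : g ∣ q + 1 := by rw [hg]; exact Nat.gcd_dvd_right 4 (q + 1)
    have h2 : q ^ 2 - 1 = (q + 1) * (q - 1) := by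
      obtain ⟨c, rfl⟩ : ∃ c, q = c + 1 := ⟨q - 1, by omega⟩
      simp only [Nat.add_sub_cancel]
      ring_nf
      omega
    rw [h2]
    exact Dvd.dvd.mul_right h1 _
  have hqpos : 0 < q ^ 2 - 1 := by
    have : 4 ≤ q ^ 2 := by nlinarith
    omega
  have hg0 : 0 < g := Nat.pos_of_dvd_of_pos hgdvd hqpos
  -- the quotient map
  let π : ↥(Cfsg.SU 4 F q) →* Cfsg.PSU 4 F q := QuotientGroup.mk' (Subgroup.center ↥(Cfsg.SU 4 F q))
  have hπ : Function.Surjective π := QuotientGroup.mk'_surjective _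
  let Ψ : ↥(SUJ D.σ) →* Cfsg.PSU 4 F q := π.comp Φ.toMonoidHom
  have hΨ : Function.Surjective Ψ := hπ.comp Φ.surjective
  obtain ⟨L6, hL6⟩ : ∃ L6, L6 = LA.map inA ++ LB.map inB ++ wordsT6 (inA za) (inA zc) (inB zb) (inB zd) (q + 1) :=
    ⟨_, rfl⟩
  have hL6len : L6.length = LA.length + LB.length + 13 := by
    rw [hL6, List.length_append, List.length_append, List.length_map, List.length_map]
    rfl
  have hfinS : Finite ↥(Cfsg.SU 4 F q) := inferInstance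
  have hfinP : Finite (Cfsg.PSU 4 F q) := inferInstance
  -- the central word
  obtain ⟨hcen, -⟩ := center_word q hF hK D hσ ζ hζ ζ₀ hn
  rw [← hg, ← hm, ← hk] at hcen
  have hgenP := su4fin6_gen_map Ψ hΨ _ _ _ _ _ _ hgenM
  have hrelP : ∀ r ∈ L6, ev6 (Ψ (rhoAT D (xM (1 : F)))) (Ψ (rhoAT D (hM ζ))) (Ψ (rhoAT D wM))
      (Ψ (rhoBT D (xM (1 : K)))) (Ψ (rhoBT D (hM ζ₀))) (Ψ (rhoBT D wM)) r = 1 := by
    intro r hr
    rw [← su4fin6_ev6_map, hrelM r (by rw [← hL6]; exact hr), map_one]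
  refine ⟨(L6 ++ [pHa ^ m * pHb ^ k]).toFinset, ?_, ?_⟩
  · calc (L6 ++ [pHa ^ m * pHb ^ k]).toFinset.card ≤ (L6 ++ [pHa ^ m * pHb ^ k]).length := List.toFinset_card_le _
      _ = LA.length + LB.length + 13 + 1 := by rw [List.length_append, hL6len]; rfl
      _ ≤ 36 := by omega
  · refine pres_of_card6 (L6 ++ [pHa ^ m * pHb ^ k]) _ _ _ _ _ _ hgenP ?_ ?_
    · intro r hr
      rw [List.mem_append] at hr
      rcases hr with hr | hr
      · exact hrelP r hr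
      · rw [List.mem_singleton] at hr
        rw [hr, map_mul, map_pow, map_pow, su4fin6_ev6_pHa, su4fin6_ev6_pHb]
        have e : Ψ (rhoAT D (hM ζ)) ^ m * Ψ (rhoBT D (hM ζ₀)) ^ k =
            Ψ (rh (rhoAT D) ζ ^ m * rh (rhoBT D) ζ₀ ^ k) := by
          rw [map_mul, map_pow, map_pow]
          rfl
        rw [e]
        exact (QuotientGroup.eq_one_iff _).mpr (su4fin6_center_map Φ hcen)
    · intro G _ ua ha wa ub hb wb hgen hrel
      have hrel6 : ∀ r ∈ LA.map inA ++ LB.map inB ++ wordsT6 (inA za) (inA zc) (inB zb) (inB zd) (q + 1),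
          ev6 ua ha wa ub hb wb r = 1 := fun r hr => hrel r (List.mem_append_left _ (by rw [hL6]; exact hr))
      have hextra : ha ^ m * hb ^ k = 1 := by
        have h := hrel (pHa ^ m * pHb ^ k) (List.mem_append_right _ (List.mem_singleton.mpr rfl))
        rwa [map_mul, map_pow, map_pow, su4fin6_ev6_pHa, su4fin6_ev6_pHb] at h
      obtain ⟨φa, φb, H, hha, hhb, hgen'⟩ :=
        hypT_of_words D ζ ζ₀ (q + 1) he LA LB za zc zb zd hza hzc hzb hzd hLA hLB G ua ha wa ub hb wb hgen hrel6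
      have R : Tor4T D φa φb := tor4T D ζ hζ ζ₀ hζ₀ hn φa φb H
      obtain ⟨hfin, hle⟩ := card_le_su4 D hFK ζ hζ ζ₀ hζ₀ hn φa φb H hgen'
      obtain ⟨-, hT⟩ := TTT_card D φa φb R
      have hone : rh φa (ζ ^ m) * rh φb (ζ₀ ^ k) = 1 := by
        unfold rh at hha hhb ⊢
        rw [← slpm1_hM_pow, ← slpm1_hM_pow, map_pow, map_pow, hha, hhb]
        exact hextra
      have hT' := hT (ζ ^ m) (ζ₀ ^ k) hone
      have hord : g ≤ orderOf ((ζ ^ m, ζ₀ ^ k) : Fˣ × Kˣ) := by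
        apply Nat.le_of_dvd (orderOf_pos _)
        rw [Prod.orderOf]
        have : orderOf (ζ ^ m) = g := by
          rw [hm]
          exact su4fin6_order q hF ζ hζ g hgdvd hqpos
        rw [this]
        exact Nat.dvd_lcm_left _ _
      refine ⟨hfin, ?_⟩
      -- `card SU = card PSU * g`
      have hSU : Nat.card ↥(Cfsg.SU 4 F q) = Nat.card (Cfsg.PSU 4 F q) * g := by
        rw [Subgroup.card_eq_card_quotient_mul_card_subgroup (Subgroup.center ↥(Cfsg.SU 4 F q)),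
          Cfsg.Agent.S0279.result hF 4 (by norm_num), hg]
      have hM7 := card_SU4 (F := F) q hF
      rw [hF, hK] at hle hT'
      have h1 : g * Nat.card G ≤ Nat.card (Cfsg.PSU 4 F q) * g := by
        rw [← hSU, hM7]
        calc g * Nat.card G
            ≤ g * (Nat.card (TTT φa φb) * ((q ^ 2) ^ 2 * q ^ 2) *
                (1 + q ^ 2 + q + 2 * (q ^ 2 * q) + (q ^ 2) ^ 2 * q + q ^ 2 * q ^ 2 + (q ^ 2) ^ 2 * q ^ 2)) :=
              Nat.mul_le_mul_left _ hle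
          _ = (g * Nat.card (TTT φa φb)) * ((q ^ 2) ^ 2 * q ^ 2) *
                (1 + q ^ 2 + q + 2 * (q ^ 2 * q) + (q ^ 2) ^ 2 * q + q ^ 2 * q ^ 2 + (q ^ 2) ^ 2 * q ^ 2) := by ring
          _ ≤ ((q ^ 2 - 1) * (q - 1)) * ((q ^ 2) ^ 2 * q ^ 2) *
                (1 + q ^ 2 + q + 2 * (q ^ 2 * q) + (q ^ 2) ^ 2 * q + q ^ 2 * q ^ 2 + (q ^ 2) ^ 2 * q ^ 2) := by
              apply Nat.mul_le_mul_right
              apply Nat.mul_le_mul_right
              exact le_trans (Nat.mul_le_mul_right _ hord) hT'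
      rw [mul_comm g] at h1
      exact Nat.le_of_mul_le_mul_right h1 hg0

end Cfsg.Agent.Lib.Helper22.SU4
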