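import Mathlib
import Cfsg.Agent.Lib.Helper19.SU5.Defs
import Cfsg.Agent.Lib.Helper19.SU5.Defs2
import Cfsg.Agent.Lib.Helper16.SU5Z0
import Cfsg.Agent.Lib.Helper21.SU5Z1core

/-!
# Project SU5 (designer helper19; S2291 odd case), row Z1 (helper21): `match_dictU` VERBATIM vs `Helper19/SU5/Skel2.lean.txt`
(`su5z1_core` of `Helper21/SU5Z1core.lean` applied to Z0 `wu_eq_huU` of `Helper16/SU5Z0.lean`).
-/

set_option autoImplicit false
set_option linter.unusedSectionVars false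
set_option linter.unusedVariables false

namespace Cfsg.Agent.Lib.Helper19.SU5

open Cfsg.Agent.Lib.helper17.SLP Cfsg.Agent.Lib.helper3.SP4 Cfsg.Agent.Lib.Helper22.SU4
open Cfsg.Agent.Lib.Helper27.STU (Lam XpM XmM XpS XmS SUm XpU XmU SysU)
open Cfsg.Agent.Lib.helper3.STC (ng sws)
open Cfsg.Agent.Lib.helper3.SU5 (Dat Tab5 Pre)

universe u v w

section Z

variable {F : Type u} {K : Type u} [Field F] [Field K] [StarRing F] [Fintype F] [Fintype K] {D : Tw F K}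

variable {G₀ : Type v} [Group G₀] (S : SysU F True (Fin 2) G₀)

/-- Z1 [M] -/
theorem match_dictU (hFK : Fintype.card F = Fintype.card K ^ 2) (P : RO D)
    (ψa : Matrix.SpecialLinearGroup (Fin 2) F →* G₀) (ψb : ↥(SUm F True) →* G₀) (M : MatchU S ψa ψb) :
    (∀ t, rx ψa t = S.xs (Sum.inl 0) (Sum.inl 1) t) ∧ rn ψa = S.ws (Sum.inl 0) (Sum.inl 1) 1 ∧
      (∀ s : Fˣ, rh ψa s = S.hs (Sum.inl 0) (Sum.inl 1) (s : F)) ∧
      (∀ ξ, yb ψb ξ = S.xl (Sum.inl 1) ξ) ∧ (∀ ξ, ybm ψb ξ = S.xl (Sum.inr 1) ξ) ∧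
      rn (phiL P ψb) = S.wl (Sum.inl 1) (Lam.tr (P.ζ : F)) ∧
      ∀ (r : Fˣ) (η : Lam F True), η.c = (r : F) * P.kap →
        hbF P ψb r = S.hl (Sum.inl 1) η (Lam.tr (P.ζ : F)) :=
  su5z1_core S P (fun η r h => wu_eq_huU hFK P η r h) ψa ψb M

end Z

end Cfsg.Agent.Lib.Helper19.SU5
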