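import Mathlib
import Cfsg.Prelude.Def_CaseTheorems
import Cfsg.Agent.Lib.Helper21.SecRank
import Cfsg.Agent.Lib.Helper21.MaxClassTwo
import Cfsg.Agent.Lib.Helper21.SympE
import Cfsg.Agent.Lib.Helper24.NormalRank

set_option autoImplicit false

universe u

namespace Cfsg.Agent.Lib.Helper21.SecRank2

open Cfsg.Agent.Lib.Helper21.Symp
open scoped commutatorElement

/-- internal form of "sectional `p`-rank at most `k`" -/
def SR (p k : ℕ) (S : Type*) [Group S] : Prop :=
  ∀ H N : Subgroup S, N ≤ H → (∀ h ∈ H, ∀ n ∈ N, h * n * h⁻¹ ∈ N) →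
    (∀ x ∈ H, ∀ y ∈ H, x * y * x⁻¹ * y⁻¹ ∈ N) → (∀ x ∈ H, x ^ p ∈ N) → N.relIndex H ≤ p ^ k

theorem SR.of_sectional {S : Type*} [Group S] [Finite S] {p k : ℕ}
    (hr : Cfsg.SectionalPRankLE p k S) : SR p k S := by
  intro H N hNH hnorm hcomm hpow
  have h1 := Cfsg.Agent.Lib.Helper21.SecRank.card_le_of_section hr H N hNH hnorm hcomm hpow
  have h2 : Nat.card N * N.relIndex H = Nat.card H := by
    have := Subgroup.relIndex_mul_relIndex ⊥ N H bot_le hNH
    rwa [Subgroup.relIndex_bot_left, Subgroup.relIndex_bot_left] at this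
  rw [← h2, mul_comm] at h1
  exact Nat.le_of_mul_le_mul_right h1 Nat.card_pos

theorem SR.subgroup {S : Type*} [Group S] {p k : ℕ} (h : SR p k S) (M : Subgroup S) :
    SR p k ↥M := by
  intro H N hNH hnorm hcomm hpow
  have := h (H.map M.subtype) (N.map M.subtype) (Subgroup.map_mono hNH) ?_ ?_ ?_
  · rwa [Subgroup.relIndex_map_map_of_injective _ _ M.subtype_injective] at this
  · rintro _ ⟨x, hx, rfl⟩ _ ⟨y, hy, rfl⟩
    have := Subgroup.mem_map_of_mem M.subtype (hnorm x hx y hy)
    simpa using this
  · rintro _ ⟨x, hx, rfl⟩ _ ⟨y, hy, rfl⟩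
    have := Subgroup.mem_map_of_mem M.subtype (hcomm x hx y hy)
    simpa using this
  · rintro _ ⟨x, hx, rfl⟩
    have := Subgroup.mem_map_of_mem M.subtype (hpow x hx)
    simpa using this

theorem SR.quotient {S : Type*} [Group S] {p k : ℕ} (h : SR p k S) (B : Subgroup S) [B.Normal] :
    SR p k (S ⧸ B) := by
  intro H N hNH hnorm hcomm hpow
  have := h (H.comap (QuotientGroup.mk' B)) (N.comap (QuotientGroup.mk' B))
    (Subgroup.comap_mono hNH) ?_ ?_ ?_
  · rwa [Subgroup.relIndex_comap,
      Subgroup.map_comap_eq_self_of_surjective (QuotientGroup.mk'_surjective B)] at this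
  · intro x hx y hy
    rw [Subgroup.mem_comap] at hx hy ⊢
    have := hnorm _ hx _ hy
    simpa using this
  · intro x hx y hy
    rw [Subgroup.mem_comap] at hx hy ⊢
    have := hcomm _ hx _ hy
    simpa using this
  · intro x hx
    rw [Subgroup.mem_comap] at hx ⊢
    have := hpow _ hx
    simpa using this

/-- a nonabelian `2`-group has `4 ∣ |S : S'|` -/
theorem four_dvd_index_commutator {S : Type*} [Group S] [Finite S] (hS : IsPGroup 2 S)
    (hnonab : ∃ x y : S, x * y ≠ y * x) : 4 ∣ (commutator S).index := by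
  haveI : Fact (Nat.Prime 2) := ⟨Nat.prime_two⟩
  haveI : Group.IsNilpotent S := hS.isNilpotent
  obtain ⟨x, y, hxy⟩ := hnonab
  haveI : Nontrivial S := ⟨⟨x * y, y * x, hxy⟩⟩
  obtain ⟨j, hj⟩ := hS.index (commutator S)
  have hlt : commutator S < ⊤ := Group.IsSolvable.commutator_lt_top_of_nontrivial S
  rcases j with _ | _ | j
  · exfalso
    rw [pow_zero, Subgroup.index_eq_one] at hj
    exact (ne_of_lt hlt) hj
  · exfalso
    rw [zero_add, pow_one] at hj
    -- commutator is a coatom
    have hco : IsCoatom (commutator S) := by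
      refine ⟨ne_of_lt hlt, fun K hK => ?_⟩
      have h1 : K.index ∣ 2 := by rw [← hj]; exact Subgroup.index_dvd_of_le hK.le
      rcases (Nat.dvd_prime Nat.prime_two).mp h1 with h2 | h2
      · exact Subgroup.index_eq_one.mp h2
      · exfalso
        have := Subgroup.relIndex_mul_index hK.le
        rw [h2, hj] at this
        have h3 : (commutator S).relIndex K = 1 := by omega
        rw [Subgroup.relIndex_eq_one] at h3
        exact (not_le_of_gt hK) h3
    have hfr : frattini S = commutator S :=
      le_antisymm (frattini_le_coatom hco)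
        (Cfsg.Agent.Lib.Helper1.pgroup_commutator_le_frattini hS)
    obtain ⟨g, -, hg⟩ := SetLike.exists_of_lt hlt
    have hsup : Subgroup.zpowers g ⊔ frattini S = ⊤ := by
      rw [hfr]
      by_contra hne
      have hle : commutator S ≤ Subgroup.zpowers g ⊔ commutator S := le_sup_right
      rcases eq_or_lt_of_le hle with h4 | h4
      · apply hg
        rw [h4]
        exact (le_sup_left : Subgroup.zpowers g ≤ _) (Subgroup.mem_zpowers g)
      · exact hne (hco.2 _ h4)
    have htop : Subgroup.zpowers g = ⊤ := frattini_nongenerating hsup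
    apply hxy
    have hx : x ∈ Subgroup.zpowers g := by rw [htop]; trivial
    have hy : y ∈ Subgroup.zpowers g := by rw [htop]; trivial
    obtain ⟨i, rfl⟩ := Subgroup.mem_zpowers_iff.mp hx
    obtain ⟨i', rfl⟩ := Subgroup.mem_zpowers_iff.mp hy
    rw [← zpow_add, ← zpow_add, add_comm]
  · rw [hj, pow_succ, pow_succ]
    exact ⟨2 ^ j, by ring⟩


theorem mem_zpowers_of_sq {S : Type*} [Group S] {z a : S} (hz : z * z = 1)
    (ha : a ∈ Subgroup.zpowers z) : a = 1 ∨ a = z := by
  obtain ⟨i, rfl⟩ := Subgroup.mem_zpowers_iff.mp ha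
  have hz2 : z ^ (2 : ℤ) = 1 := by rw [zpow_ofNat, pow_two]; exact hz
  rcases Int.even_or_odd' i with ⟨j, rfl | rfl⟩
  · left; rw [zpow_mul, hz2, one_zpow]
  · right; rw [zpow_add, zpow_mul, hz2, one_zpow, one_mul, zpow_one]

theorem base16 {S : Type u} [Group S] [Finite S] (hS : IsPGroup 2 S) (hSR : SR 2 2 S)
    (M : Subgroup S) (hMidx : M.index = 2) (hMcard : Nat.card M = 8)
    (hM4 : (commutator ↥M).index = 4) (hS' : commutator S = ⁅M, M⁆) : False := by
  haveI : Fact (Nat.Prime 2) := ⟨Nat.prime_two⟩
  haveI hMn : M.Normal := Subgroup.normal_of_index_eq_two hMidx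
  have hX8 : Nat.card ↥M = 2 ^ 3 := by rw [hMcard]; norm_num
  have hcl := mc_class_of_index_four 3 ↥M (by norm_num) hX8 hM4
  obtain ⟨_, hsq⟩ := mc_two_index 3 ↥M le_rfl hX8 hcl
  obtain ⟨hZ2, hZle, _⟩ := mc_structure 3 le_rfl hX8 hM4
  have hmap : (commutator ↥M).map M.subtype = ⁅M, M⁆ := Subgroup.map_subtype_commutator M
  have hM₁card : Nat.card (⁅M, M⁆ : Subgroup S) = 2 := by
    have h1 := Subgroup.card_mul_index (commutator ↥M)
    rw [hM4, hMcard] at h1
    have h2 : Nat.card (commutator ↥M) = 2 := by omega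
    rw [← hmap, ← h2]
    exact Nat.card_congr
      ((commutator ↥M).equivMapOfInjective M.subtype M.subtype_injective).toEquiv.symm
  have hne : (⁅M, M⁆ : Subgroup S) ≠ ⊥ := by
    intro h
    rw [h, Subgroup.card_bot] at hM₁card
    omega
  obtain ⟨⟨z, hzM₁'⟩, hz1⟩ := (Subgroup.ne_bot_iff_exists_ne_one).mp hne
  have hz1' : z ≠ 1 := fun h => hz1 (Subtype.ext h)
  have hzord : orderOf z = 2 := by
    have h1 : orderOf z ∣ 2 := by
      rw [← hM₁card]; exact Subgroup.orderOf_dvd_natCard _ hzM₁'
    rcases (Nat.dvd_prime Nat.prime_two).mp h1 with h2 | h2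
    · exact absurd (orderOf_eq_one_iff.mp h2) hz1'
    · exact h2
  have hzpow : Subgroup.zpowers z = ⁅M, M⁆ := by
    apply Subgroup.eq_of_le_of_card_ge (Subgroup.zpowers_le.mpr hzM₁')
    rw [Nat.card_zpowers, hzord, hM₁card]
  have hzz : z * z = 1 := by
    have := pow_orderOf_eq_one z
    rwa [hzord, pow_two] at this
  have hzc : ∀ g : S, g * z = z * g := by
    intro g
    have hN : (commutator S).Normal := inferInstance
    have h1 : g * z * g⁻¹ ∈ commutator S := hN.conj_mem z (hS' ▸ hzM₁') g
    rw [hS', ← hzpow] at h1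
    rcases mem_zpowers_of_sq hzz h1 with h2 | h2
    · exfalso
      apply hz1'
      have : z = g⁻¹ * (g * z * g⁻¹) * g := by group
      rw [this, h2]; group
    · calc g * z = g * z * g⁻¹ * g := by group
        _ = z * g := by rw [h2]
  have hZc : ∀ a ∈ Subgroup.zpowers z, ∀ g : S, g * a = a * g := by
    intro a ha g
    obtain ⟨i, rfl⟩ := Subgroup.mem_zpowers_iff.mp ha
    have : Commute g z := hzc g
    exact (this.zpow_right i).eq
  have hzM : z ∈ M := (Subgroup.commutator_le_right M M) hzM₁'
  have hcommM : ∀ x ∈ M, ∀ y ∈ M, x * y * x⁻¹ * y⁻¹ ∈ Subgroup.zpowers z := by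
    intro x hx y hy
    rw [hzpow]
    exact Subgroup.commutator_mem_commutator hx hy
  have hcentM : ∀ x ∈ M, (∀ y ∈ M, x * y = y * x) → x ∈ Subgroup.zpowers z := by
    intro x hx hxc
    have h1 : (⟨x, hx⟩ : ↥M) ∈ Subgroup.center ↥M := by
      rw [Subgroup.mem_center_iff]
      intro g
      exact Subtype.ext (hxc g g.2).symm
    have h2 := Subgroup.mem_map_of_mem M.subtype (hZle h1)
    rw [hmap] at h2
    rw [hzpow]; exact h2
  have hinner : ∀ s : S, ∃ e ∈ M, ∀ x ∈ M, s * x * s⁻¹ * x⁻¹ = e * x * e⁻¹ * x⁻¹ := by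
    intro s
    have hfmem : ∀ x : S, s * x * s⁻¹ * x⁻¹ ∈ Subgroup.zpowers z := by
      intro x
      rw [hzpow, ← hS', commutator_def]
      exact Subgroup.commutator_mem_commutator (Subgroup.mem_top s) (Subgroup.mem_top x)
    apply exists_inner_of_hom hS M z hzord hzM (fun x _ => (hzc x).symm) hcommM hcentM
      (fun x => s * x * s⁻¹ * x⁻¹) (fun x _ => hfmem x)
    · intro x _ y _
      have h1 : Commute (s * y * s⁻¹ * y⁻¹) x := (hZc _ (hfmem y) x).symm
      show s * (x * y) * s⁻¹ * (x * y)⁻¹ = (s * x * s⁻¹ * x⁻¹) * (s * y * s⁻¹ * y⁻¹)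
      calc s * (x * y) * s⁻¹ * (x * y)⁻¹
          = (s * x * s⁻¹ * x⁻¹) * (x * (s * y * s⁻¹ * y⁻¹)) * x⁻¹ := by group
        _ = (s * x * s⁻¹ * x⁻¹) * ((s * y * s⁻¹ * y⁻¹) * x) * x⁻¹ := by rw [h1.eq]
        _ = _ := by group
    · intro a ha
      show s * a * s⁻¹ * a⁻¹ = 1
      rw [hZc a ha s]; group
  have hpow : ∀ s : S, s ^ 2 ∈ (⁅M, M⁆ : Subgroup S) := by
    intro s
    obtain ⟨e, heM, he⟩ := hinner s
    have hc : ∀ x ∈ M, (e⁻¹ * s) * x = x * (e⁻¹ * s) := by
      intro x hx
      have h1 := he x hx
      have h2 : s * x * s⁻¹ = e * x * e⁻¹ := mul_right_cancel h1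
      calc (e⁻¹ * s) * x = e⁻¹ * (s * x * s⁻¹) * s := by group
        _ = e⁻¹ * (e * x * e⁻¹) * s := by rw [h2]
        _ = x * (e⁻¹ * s) := by group
    have hs : s = e * (e⁻¹ * s) := by group
    have hcomm : Commute e (e⁻¹ * s) := (hc e heM).symm
    rw [hs, hcomm.mul_pow]
    apply mul_mem
    · have h1 := Subgroup.mem_map_of_mem M.subtype (hsq ⟨e, heM⟩)
      rw [hmap] at h1
      rw [pow_two]
      simpa using h1
    · rw [← hzpow]
      apply hcentM _ (Subgroup.sq_mem_of_index_two hMidx _)
      intro y hy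
      exact (((show Commute (e⁻¹ * s) y from hc y hy)).pow_left 2).eq
  have hfin := hSR ⊤ ⁅M, M⁆ le_top
    (by
      intro h _ n hn
      have hN : (commutator S).Normal := inferInstance
      rw [← hS'] at hn ⊢
      exact hN.conj_mem n hn h)
    (by
      intro x _ y _
      rw [← hS', commutator_def]
      exact Subgroup.commutator_mem_commutator (Subgroup.mem_top x) (Subgroup.mem_top y))
    (fun x _ => hpow x)
  rw [Subgroup.relIndex_top_right] at hfin
  have h1 := Subgroup.card_mul_index (⁅M, M⁆ : Subgroup S)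
  have h2 := Subgroup.card_mul_index M
  rw [hM₁card] at h1
  rw [hMcard, hMidx] at h2
  have : (⁅M, M⁆ : Subgroup S).index = 8 := by omega
  rw [this] at hfin
  norm_num at hfin


theorem index_commutator_eq_four : ∀ (n : ℕ) (S : Type u) [Group S] [Finite S], Nat.card S = n →
    IsPGroup 2 S → SR 2 2 S →
    (∃ Q : Subgroup S, Nat.card Q = 8 ∧ ∃ x ∈ Q, ∃ y ∈ Q, x * y ≠ y * x) →
    (commutator S).index = 4 := by
  haveI : Fact (Nat.Prime 2) := ⟨Nat.prime_two⟩
  intro n
  induction n using Nat.strong_induction_on with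
  | _ n ih =>
    intro S _ _ hn hS hSR ⟨Q, hQ8, x, hx, y, hy, hxy⟩
    have h4dvd : 4 ∣ (commutator S).index := four_dvd_index_commutator hS ⟨x, y, hxy⟩
    have hcS := Subgroup.card_mul_index (commutator S)
    rw [hn] at hcS
    have hneS : commutator S ≠ ⊥ := by
      intro h
      apply hxy
      have : ⁅x, y⁆ ∈ commutator S := by
        rw [commutator_def]
        exact Subgroup.commutator_mem_commutator (Subgroup.mem_top x) (Subgroup.mem_top y)
      rw [h, Subgroup.mem_bot, commutatorElement_eq_one_iff_mul_comm] at this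
      exact this
    have hcpos : 2 ≤ Nat.card (commutator S) := by
      by_contra hlt
      have h1 : Nat.card (commutator S) = 1 := by
        have : 0 < Nat.card (commutator S) := Nat.card_pos
        omega
      exact hneS (Subgroup.card_eq_one.mp h1)
    rcases eq_top_or_exists_le_coatom Q with hQtop | ⟨M, hMco, hQM⟩
    · -- S has order 8
      have hn8 : n = 8 := by rw [← hn, ← hQ8, hQtop, Subgroup.card_top]
      rw [hn8] at hcS
      obtain ⟨t, ht⟩ := h4dvd
      rw [ht] at hcS ⊢
      have : t = 1 := by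
        have h1 : Nat.card (commutator S) * t = 2 := by nlinarith
        have h2 : t ∣ 2 := Dvd.intro_left _ h1
        rcases (Nat.dvd_prime Nat.prime_two).mp h2 with h3 | h3
        · exact h3
        · rw [h3] at h1; omega
      rw [this]
    · have hMidx : M.index = 2 := Cfsg.Agent.Lib.Helper1.pgroup_coatom_index hS hMco
      haveI hMn : M.Normal := Subgroup.normal_of_index_eq_two hMidx
      have hcM := Subgroup.card_mul_index M
      rw [hMidx, hn] at hcM
      have hMlt : Nat.card M < n := by
        have : 0 < Nat.card M := Nat.card_pos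
        omega
      -- induction on M
      have hM4 : (commutator ↥M).index = 4 := by
        apply ih (Nat.card M) hMlt ↥M rfl (hS.to_subgroup M) (hSR.subgroup M)
        refine ⟨Q.subgroupOf M, ?_, ⟨x, hQM hx⟩, ?_, ⟨y, hQM hy⟩, ?_, ?_⟩
        · rw [← hQ8]
          exact Nat.card_congr (Subgroup.subgroupOfEquivOfLe hQM).toEquiv
        · rw [Subgroup.mem_subgroupOf]; exact hx
        · rw [Subgroup.mem_subgroupOf]; exact hy
        · intro h
          exact hxy (congrArg Subtype.val h)
      have hmap : (commutator ↥M).map M.subtype = ⁅M, M⁆ := Subgroup.map_subtype_commutator M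
      have hM₁card : Nat.card (⁅M, M⁆ : Subgroup S) * 4 = Nat.card M := by
        have h1 := Subgroup.card_mul_index (commutator ↥M)
        rw [hM4] at h1
        rw [← h1, ← hmap]
        congr 1
        exact Nat.card_congr
          ((commutator ↥M).equivMapOfInjective M.subtype M.subtype_injective).toEquiv.symm
      have hM₁le : (⁅M, M⁆ : Subgroup S) ≤ commutator S := by
        rw [commutator_def]
        exact Subgroup.commutator_mono le_top le_top
      have hdvd : Nat.card (⁅M, M⁆ : Subgroup S) ∣ Nat.card (commutator S) :=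
        Subgroup.card_dvd_of_le hM₁le
      obtain ⟨t, ht⟩ := hdvd
      obtain ⟨i4, hi4⟩ := h4dvd
      have hM₁pos : 0 < Nat.card (⁅M, M⁆ : Subgroup S) := Nat.card_pos
      -- |S'| * index = n = 8 * |M₁|
      have hkey : t * i4 = 2 := by
        have h1 : Nat.card (⁅M, M⁆ : Subgroup S) * (t * i4 * 4) =
            Nat.card (⁅M, M⁆ : Subgroup S) * 8 := by
          calc Nat.card (⁅M, M⁆ : Subgroup S) * (t * i4 * 4)
              = (Nat.card (⁅M, M⁆ : Subgroup S) * t) * (4 * i4) := by ring
            _ = n := by rw [← ht, ← hi4]; exact hcS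
            _ = Nat.card (⁅M, M⁆ : Subgroup S) * 8 := by rw [← hcM, ← hM₁card]; ring
        have := Nat.eq_of_mul_eq_mul_left hM₁pos h1
        omega
      have hi4' : i4 = 1 ∨ i4 = 2 := by
        have h2 : i4 ∣ 2 := Dvd.intro_left _ hkey
        exact (Nat.dvd_prime Nat.prime_two).mp h2
      rcases hi4' with h1 | h2
      · rw [hi4, h1]
      · exfalso
        have ht1 : t = 1 := by rw [h2] at hkey; omega
        rw [ht1, mul_one] at ht
        have hS' : commutator S = ⁅M, M⁆ :=
          (Subgroup.eq_of_le_of_card_ge hM₁le (le_of_eq ht)).symm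
        -- card M ≥ 8
        have hM8 : 8 ≤ Nat.card M := by
          rw [← hQ8]; exact Subgroup.card_le_of_le hQM
        by_cases hn16 : Nat.card M = 8
        · exact base16 hS hSR M hMidx hn16 hM4 hS'
        · -- reduce modulo a normal subgroup B of index 2 in ⁅M, M⁆
          obtain ⟨m, hm⟩ := (IsPGroup.iff_card.mp (hS.to_subgroup (⁅M, M⁆ : Subgroup S)))
          have hm1 : 1 ≤ m := by
            by_contra h0
            have : m = 0 := by omega
            rw [this, pow_zero] at hm
            omega
          have hm2 : 2 ≤ m := by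
            by_contra hlt
            have : m = 1 := by omega
            rw [this, pow_one] at hm
            omega
          haveI hM₁n : (⁅M, M⁆ : Subgroup S).Normal := inferInstance
          obtain ⟨B, hBle, hBn, hBcard⟩ := Cfsg.Agent.Lib.Helper24.nr_exists_normal_card hS (m - 1) 1
            (⁅M, M⁆ : Subgroup S) (by rw [hm]; congr 1; omega)
          haveI := hBn
          have hBS' : B ≤ commutator S := le_trans hBle hM₁le
          have hidxq := mc_index_commutator_quotient B hBS'
          rw [hi4, h2] at hidxq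
          -- the quotient has order 16
          have hcq : Nat.card (S ⧸ B) = 16 := by
            have h1 := Subgroup.card_mul_index B
            rw [← Subgroup.index_eq_card]
            rw [hn, hBcard] at h1
            have h3 : 2 ^ m * 8 = n := by rw [← hm, ← hcM, ← hM₁card]; ring
            have h4 : 2 ^ m = 2 ^ (m - 1) * 2 := by rw [← pow_succ]; congr 1; omega
            rw [← h3, h4] at h1
            have hpos : 0 < 2 ^ (m - 1) := by positivity
            have : 2 ^ (m - 1) * B.index = 2 ^ (m - 1) * 16 := by rw [h1]; ring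
            exact Nat.eq_of_mul_eq_mul_left hpos this
          have hlt16 : 16 < n := by
            have : Nat.card M ≠ 8 := hn16
            omega
          have hq4 : (commutator (S ⧸ B)).index = 4 := by
            apply ih 16 hlt16 (S ⧸ B) hcq (hS.to_quotient B) (hSR.quotient B)
            -- the image of M
            have hker : (QuotientGroup.mk' B).ker ≤ M := by
              rw [QuotientGroup.ker_mk']
              exact le_trans hBle (Subgroup.commutator_le_right M M)
            have hidxM : (M.map (QuotientGroup.mk' B)).index = 2 := by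
              rw [Subgroup.index_map_eq _ (QuotientGroup.mk'_surjective B) hker, hMidx]
            have hcardM' : Nat.card (M.map (QuotientGroup.mk' B)) = 8 := by
              have := Subgroup.card_mul_index (M.map (QuotientGroup.mk' B))
              rw [hidxM, hcq] at this
              omega
            -- noncommuting pair
            have hex : ∃ a ∈ M, ∃ b ∈ M, a * b * a⁻¹ * b⁻¹ ∉ B := by
              by_contra hno
              have hle : (⁅M, M⁆ : Subgroup S) ≤ B := by
                rw [Subgroup.commutator_le]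
                intro a ha b hb
                by_contra hab
                exact hno ⟨a, ha, b, hb, hab⟩
              have := Subgroup.card_le_of_le hle
              rw [hm, hBcard] at this
              have h4 : 2 ^ m = 2 ^ (m - 1) * 2 := by rw [← pow_succ]; congr 1; omega
              have hpos : 0 < 2 ^ (m - 1) := by positivity
              omega
            obtain ⟨a, ha, b, hb, hab⟩ := hex
            refine ⟨M.map (QuotientGroup.mk' B), hcardM', (QuotientGroup.mk' B) a,
              Subgroup.mem_map_of_mem _ ha, (QuotientGroup.mk' B) b,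
              Subgroup.mem_map_of_mem _ hb, ?_⟩
            intro h
            apply hab
            rw [← QuotientGroup.eq_one_iff]
            have e : ((a * b * a⁻¹ * b⁻¹ : S) : S ⧸ B) =
                (QuotientGroup.mk' B) a * (QuotientGroup.mk' B) b *
                ((QuotientGroup.mk' B) a)⁻¹ * ((QuotientGroup.mk' B) b)⁻¹ := rfl
            rw [e, h]; group
          rw [hq4] at hidxq
          omega

end Cfsg.Agent.Lib.Helper21.SecRank2
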