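import Mathlib
import Cfsg.Agent.Lib.Helper21.SecRank2
import Cfsg.Agent.S4400

set_option autoImplicit false

universe u

namespace Cfsg.Agent.Lib.Helper21.SecFour

open Cfsg.Agent.Lib.Helper21.SecRank2 Cfsg.Agent.Lib.Helper21.SecRank
open scoped Pointwise

/-- the internal form of the sectional rank condition gives back the official one -/
theorem SR.to_sectional {S : Type*} [Group S] [Finite S] {p k : ℕ} (h : SR p k S) :
    Cfsg.SectionalPRankLE p k S := by
  intro H N hN A hA hpow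
  -- preimage of `A` in `H`, pushed to `S`
  let A' : Subgroup ↥H := A.comap (QuotientGroup.mk' N)
  have hNA' : N ≤ A' := by
    intro n hn
    show (QuotientGroup.mk' N) n ∈ A
    rw [QuotientGroup.mk'_apply, (QuotientGroup.eq_one_iff n).mpr hn]
    exact one_mem _
  have h1 := h (A'.map H.subtype) (N.map H.subtype) (Subgroup.map_mono hNA') ?_ ?_ ?_
  · rw [Subgroup.relIndex_map_map_of_injective _ _ H.subtype_injective] at h1
    have h2 : N.relIndex A' = Nat.card A := by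
      have key : ((⊥ : Subgroup (↥H ⧸ N)).comap (QuotientGroup.mk' N)).relIndex A' = Nat.card A := by
        rw [Subgroup.relIndex_comap,
          Subgroup.map_comap_eq_self_of_surjective (QuotientGroup.mk'_surjective N),
          Subgroup.relIndex_bot_left]
      have e : (⊥ : Subgroup (↥H ⧸ N)).comap (QuotientGroup.mk' N) = N := by
        rw [MonoidHom.comap_bot, QuotientGroup.ker_mk']
      rw [e] at key
      exact key
    rw [h2] at h1; exact h1
  · rintro _ ⟨x, hx, rfl⟩ _ ⟨y, hy, rfl⟩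
    refine ⟨x * y * x⁻¹, hN.conj_mem y hy x, by simp⟩
  · rintro _ ⟨x, hx, rfl⟩ _ ⟨y, hy, rfl⟩
    refine ⟨x * y * x⁻¹ * y⁻¹, ?_, by simp⟩
    show x * y * x⁻¹ * y⁻¹ ∈ N
    rw [← QuotientGroup.eq_one_iff]
    have hx' : (QuotientGroup.mk' N) x ∈ A := hx
    have hy' : (QuotientGroup.mk' N) y ∈ A := hy
    have hc : (⟨_, hx'⟩ : ↥A) * ⟨_, hy'⟩ = ⟨_, hy'⟩ * ⟨_, hx'⟩ := hA.is_comm.comm _ _
    have hc' : (QuotientGroup.mk' N) x * (QuotientGroup.mk' N) y =
        (QuotientGroup.mk' N) y * (QuotientGroup.mk' N) x := congrArg Subtype.val hc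
    simp only [QuotientGroup.mk'_apply] at hc'
    rw [QuotientGroup.mk_mul, QuotientGroup.mk_mul, QuotientGroup.mk_mul, hc', QuotientGroup.mk_inv,
      QuotientGroup.mk_inv]
    group
  · rintro _ ⟨x, hx, rfl⟩
    refine ⟨x ^ p, ?_, by simp⟩
    show x ^ p ∈ N
    rw [← QuotientGroup.eq_one_iff, QuotientGroup.mk_pow]
    exact hpow _ hx


section commuting

variable {S : Type*} [Group S]

/-- the multiplication map on two elementwise commuting subgroups -/
noncomputable def mulHom (A B : Subgroup S) (hc : ∀ a ∈ A, ∀ b ∈ B, a * b = b * a) :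
    ↥A × ↥B →* S :=
  MonoidHom.noncommCoprod A.subtype B.subtype
    (fun a b => (show Commute (A.subtype a) (B.subtype b) from hc a a.2 b b.2))

theorem mulHom_apply (A B : Subgroup S) (hc : ∀ a ∈ A, ∀ b ∈ B, a * b = b * a) (x : ↥A × ↥B) :
    mulHom A B hc x = (x.1 : S) * (x.2 : S) := rfl

theorem mulHom_range (A B : Subgroup S) (hc : ∀ a ∈ A, ∀ b ∈ B, a * b = b * a) :
    (mulHom A B hc).range = A ⊔ B := by
  unfold mulHom
  rw [MonoidHom.noncommCoprod_range, Subgroup.range_subtype, Subgroup.range_subtype]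

/-- elements of the join of two commuting subgroups are products -/
theorem exists_mul_of_mem_sup (A B : Subgroup S) (hc : ∀ a ∈ A, ∀ b ∈ B, a * b = b * a) :
    ∀ x ∈ A ⊔ B, ∃ a ∈ A, ∃ b ∈ B, x = a * b := by
  intro x hx
  rw [← mulHom_range A B hc] at hx
  obtain ⟨⟨a, b⟩, rfl⟩ := hx
  exact ⟨a, a.2, b, b.2, rfl⟩

theorem card_sup_of_commute [Finite S] (A B : Subgroup S)
    (hc : ∀ a ∈ A, ∀ b ∈ B, a * b = b * a) (hd : A ⊓ B = ⊥) :
    Nat.card ↥(A ⊔ B) = Nat.card A * Nat.card B := by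
  have hinj : Function.Injective (mulHom A B hc) := by
    unfold mulHom
    rw [MonoidHom.noncommCoprod_injective]
    refine ⟨A.subtype_injective, B.subtype_injective, ?_⟩
    rw [Subgroup.range_subtype, Subgroup.range_subtype, disjoint_iff, hd]
  rw [← mulHom_range A B hc, ← Nat.card_prod]
  exact (Nat.card_congr (Equiv.ofInjective _ hinj)).symm

/-- the product of two elementary sections of commuting subgroups is an elementary section -/
theorem section_prod (p : ℕ) (A B NA NB : Subgroup S)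
    (hc : ∀ a ∈ A, ∀ b ∈ B, a * b = b * a) (hNA : NA ≤ A) (hNB : NB ≤ B)
    (hA1 : ∀ a ∈ A, ∀ n ∈ NA, a * n * a⁻¹ ∈ NA)
    (hA2 : ∀ x ∈ A, ∀ y ∈ A, x * y * x⁻¹ * y⁻¹ ∈ NA) (hA3 : ∀ x ∈ A, x ^ p ∈ NA)
    (hB1 : ∀ a ∈ B, ∀ n ∈ NB, a * n * a⁻¹ ∈ NB)
    (hB2 : ∀ x ∈ B, ∀ y ∈ B, x * y * x⁻¹ * y⁻¹ ∈ NB) (hB3 : ∀ x ∈ B, x ^ p ∈ NB) :
    (∀ h ∈ A ⊔ B, ∀ n ∈ NA ⊔ NB, h * n * h⁻¹ ∈ NA ⊔ NB) ∧
    (∀ x ∈ A ⊔ B, ∀ y ∈ A ⊔ B, x * y * x⁻¹ * y⁻¹ ∈ NA ⊔ NB) ∧
    (∀ x ∈ A ⊔ B, x ^ p ∈ NA ⊔ NB) := by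
  have hcN : ∀ a ∈ NA, ∀ b ∈ NB, a * b = b * a := fun a ha b hb => hc a (hNA ha) b (hNB hb)
  have key : ∀ (u v : ↥A × ↥B), mulHom A B hc u * mulHom A B hc v * (mulHom A B hc u)⁻¹ =
      ((u.1 : S) * v.1 * (u.1 : S)⁻¹) * ((u.2 : S) * v.2 * (u.2 : S)⁻¹) := by
    intro u v
    rw [← map_inv, ← map_mul, ← map_mul, mulHom_apply]
    simp
  refine ⟨?_, ?_, ?_⟩
  · intro h hh n hn
    rw [← mulHom_range A B hc] at hh
    obtain ⟨u, rfl⟩ := hh
    obtain ⟨a, ha, b, hb, rfl⟩ := exists_mul_of_mem_sup NA NB hcN n hn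
    have := key u (⟨a, hNA ha⟩, ⟨b, hNB hb⟩)
    rw [mulHom_apply (x := (⟨a, hNA ha⟩, ⟨b, hNB hb⟩))] at this
    rw [this]
    exact mul_mem (Subgroup.mem_sup_left (hA1 _ u.1.2 a ha)) (Subgroup.mem_sup_right (hB1 _ u.2.2 b hb))
  · intro x hx y hy
    rw [← mulHom_range A B hc] at hx hy
    obtain ⟨u, rfl⟩ := hx
    obtain ⟨v, rfl⟩ := hy
    have e : mulHom A B hc u * mulHom A B hc v * (mulHom A B hc u)⁻¹ * (mulHom A B hc v)⁻¹ =
        ((u.1 : S) * v.1 * (u.1 : S)⁻¹ * (v.1 : S)⁻¹) * ((u.2 : S) * v.2 * (u.2 : S)⁻¹ * (v.2 : S)⁻¹) := by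
      rw [← map_inv, ← map_inv, ← map_mul, ← map_mul, ← map_mul, mulHom_apply]
      simp
    rw [e]
    exact mul_mem (Subgroup.mem_sup_left (hA2 _ u.1.2 _ v.1.2)) (Subgroup.mem_sup_right (hB2 _ u.2.2 _ v.2.2))
  · intro x hx
    rw [← mulHom_range A B hc] at hx
    obtain ⟨u, rfl⟩ := hx
    rw [← map_pow, mulHom_apply]
    simp only [Prod.pow_fst, Prod.pow_snd, Subgroup.coe_pow]
    exact mul_mem (Subgroup.mem_sup_left (hA3 _ u.1.2)) (Subgroup.mem_sup_right (hB3 _ u.2.2))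

end commuting


section nc

variable {S : Type*} [Group S]

/-- nonabelian with centre of order two -/
def NC {S : Type*} [Group S] (A : Subgroup S) : Prop :=
  ¬ IsMulCommutative ↥A ∧ Nat.card ↥(Subgroup.center ↥A) = 2

/-- `z` is the non-identity central element of `A` -/
def CG {S : Type*} [Group S] (A : Subgroup S) (z : S) : Prop :=
  z ∈ A ∧ z ≠ 1 ∧ (∀ a ∈ A, a * z = z * a) ∧ ∀ c ∈ A, (∀ a ∈ A, a * c = c * a) → c = 1 ∨ c = z

theorem NC.of_equiv {S' : Type*} [Group S'] {A : Subgroup S} {B : Subgroup S'} (e : ↥A ≃* ↥B)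
    (h : NC A) : NC B := by
  refine ⟨fun hB => h.1 ⟨⟨fun a b => e.injective ?_⟩⟩, ?_⟩
  · rw [map_mul, map_mul]; exact hB.is_comm.comm _ _
  · rw [← h.2]; exact Nat.card_congr (Subgroup.centerCongr e).symm.toEquiv

theorem NC.exists_cg {A : Subgroup S} (h : NC A) : ∃ z, CG A z := by
  obtain ⟨y, hy1, hyu⟩ := (Nat.card_eq_two_iff' (1 : ↥(Subgroup.center ↥A))).mp h.2
  refine ⟨((y : ↥A) : S), (y : ↥A).2, ?_, ?_, ?_⟩
  · intro e
    apply hy1
    apply Subtype.ext; apply Subtype.ext; exact e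
  · intro a ha
    have := Subgroup.mem_center_iff.mp y.2 ⟨a, ha⟩
    exact congrArg Subtype.val this
  · intro c hc hcen
    by_cases hc1 : c = 1
    · left; exact hc1
    right
    have hmem : (⟨c, hc⟩ : ↥A) ∈ Subgroup.center ↥A := by
      rw [Subgroup.mem_center_iff]
      intro g
      exact Subtype.ext (hcen g g.2)
    have := hyu ⟨⟨c, hc⟩, hmem⟩ (fun e => hc1 (by
      have := congrArg (fun w : ↥(Subgroup.center ↥A) => ((w : ↥A) : S)) e
      exact this))
    have := congrArg (fun w : ↥(Subgroup.center ↥A) => ((w : ↥A) : S)) this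
    exact this

theorem CG.mul_self {A : Subgroup S} {z : S} (h : CG A z) : z * z = 1 := by
  obtain ⟨hzA, hz1, hzc, hzu⟩ := h
  rcases hzu (z * z) (mul_mem hzA hzA) (fun a ha => by
    rw [← mul_assoc, hzc a ha, mul_assoc, hzc a ha, mul_assoc]) with h | h
  · exact h
  · exfalso; apply hz1
    have : z * z = z * 1 := by rw [mul_one]; exact h
    exact mul_left_cancel this

theorem CG.inv_eq {A : Subgroup S} {z : S} (h : CG A z) : z⁻¹ = z :=
  inv_eq_of_mul_eq_one_left h.mul_self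

/-- the centre of `A` pushed to `S` -/
theorem CG.center_map {A : Subgroup S} {z : S} (h : CG A z) (x : S) :
    x ∈ (Subgroup.center ↥A).map A.subtype ↔ x = 1 ∨ x = z := by
  obtain ⟨hzA, hz1, hzc, hzu⟩ := h
  constructor
  · rintro ⟨w, hw, rfl⟩
    refine hzu _ w.2 (fun a ha => ?_)
    have := Subgroup.mem_center_iff.mp hw ⟨a, ha⟩
    exact congrArg Subtype.val this
  · rintro (rfl | rfl)
    · exact one_mem _
    · refine ⟨⟨x, hzA⟩, ?_, rfl⟩
      rw [SetLike.mem_coe, Subgroup.mem_center_iff]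
      intro g
      exact Subtype.ext (hzc g g.2)

/-- conjugate of a subgroup -/
def cj (g : S) (A : Subgroup S) : Subgroup S := A.map (MulAut.conj g).toMonoidHom

theorem mem_cj {g : S} {A : Subgroup S} {x : S} : x ∈ cj g A ↔ ∃ a ∈ A, x = g * a * g⁻¹ := by
  unfold cj
  constructor
  · rintro ⟨a, ha, rfl⟩; exact ⟨a, ha, rfl⟩
  · rintro ⟨a, ha, rfl⟩; exact ⟨a, ha, rfl⟩

theorem mem_cj' {g : S} {A : Subgroup S} {x : S} : x ∈ cj g A ↔ g⁻¹ * x * g ∈ A := by
  rw [mem_cj]
  constructor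
  · rintro ⟨a, ha, rfl⟩
    have : g⁻¹ * (g * a * g⁻¹) * g = a := by group
    rw [this]; exact ha
  · intro h
    exact ⟨_, h, by group⟩

theorem conj_mem_cj {g : S} {A : Subgroup S} {a : S} (ha : a ∈ A) : g * a * g⁻¹ ∈ cj g A :=
  mem_cj.mpr ⟨a, ha, rfl⟩

theorem cj_le {g : S} {A B : Subgroup S} (h : A ≤ B) : cj g A ≤ cj g B := Subgroup.map_mono h

theorem card_cj [Finite S] (g : S) (A : Subgroup S) : Nat.card (cj g A) = Nat.card A :=
  Subgroup.card_map_of_injective (MulAut.conj g).injective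

theorem NC.cj {A : Subgroup S} (h : NC A) (g : S) : NC (cj g A) :=
  h.of_equiv (Subgroup.equivMapOfInjective A _ (MulAut.conj g).injective)

theorem CG.cj {A : Subgroup S} {z : S} (h : CG A z) (g : S) : CG (cj g A) (g * z * g⁻¹) := by
  obtain ⟨hzA, hz1, hzc, hzu⟩ := h
  refine ⟨conj_mem_cj hzA, ?_, ?_, ?_⟩
  · intro e
    apply hz1
    have : z = g⁻¹ * (g * z * g⁻¹) * g := by group
    rw [this, e]; group
  · intro a ha
    obtain ⟨a', ha', rfl⟩ := mem_cj.mp ha
    have := hzc a' ha'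
    calc g * a' * g⁻¹ * (g * z * g⁻¹) = g * (a' * z) * g⁻¹ := by group
      _ = g * (z * a') * g⁻¹ := by rw [this]
      _ = g * z * g⁻¹ * (g * a' * g⁻¹) := by group
  · intro c hc hcen
    obtain ⟨c', hc', rfl⟩ := mem_cj.mp hc
    rcases hzu c' hc' (fun a ha => by
      have := hcen _ (conj_mem_cj (g := g) ha)
      have e1 : g * a * g⁻¹ * (g * c' * g⁻¹) = g * (a * c') * g⁻¹ := by group
      have e2 : g * c' * g⁻¹ * (g * a * g⁻¹) = g * (c' * a) * g⁻¹ := by group
      rw [e1, e2] at this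
      exact mul_left_cancel (mul_right_cancel this)) with h | h
    · left; rw [h]; group
    · right; rw [h]

end nc


/-- sectional rank passes to subgroups -/
theorem sectional_subgroup {S : Type*} [Group S] [Finite S] {p k : ℕ}
    (hr : Cfsg.SectionalPRankLE p k S) (M : Subgroup S) : Cfsg.SectionalPRankLE p k ↥M :=
  SR.to_sectional ((SR.of_sectional hr).subgroup M)

/-- two nonabelian subgroups with centres of order two, both normalized by `D`, with different
centres: they meet trivially, commute, and their centralizer in `D` lies in their join -/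
theorem pair_lemma {S : Type*} [Group S] [Finite S] (h2 : IsPGroup 2 S)
    (hr : Cfsg.SectionalPRankLE 2 4 S) (D A B : Subgroup S) (hAD : A ≤ D) (hBD : B ≤ D)
    (hnA : ∀ d ∈ D, ∀ a ∈ A, d * a * d⁻¹ ∈ A) (hnB : ∀ d ∈ D, ∀ b ∈ B, d * b * d⁻¹ ∈ B)
    (hA : NC A) (hB : NC B) (zA zB : S) (hzA : CG A zA) (hzB : CG B zB) (hne : zA ≠ zB) :
    A ⊓ B = ⊥ ∧ (∀ a ∈ A, ∀ b ∈ B, a * b = b * a) ∧
      ∀ c ∈ D, (∀ a ∈ A, c * a = a * c) → (∀ b ∈ B, c * b = b * c) → c ∈ A ⊔ B := by
  haveI hAn : (A.subgroupOf D).Normal := by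
    refine ⟨fun n hn d => ?_⟩
    rw [Subgroup.mem_subgroupOf] at hn ⊢
    have := hnA d d.2 n hn
    simpa using this
  haveI hBn : (B.subgroupOf D).Normal := by
    refine ⟨fun n hn d => ?_⟩
    rw [Subgroup.mem_subgroupOf] at hn ⊢
    have := hnB d d.2 n hn
    simpa using this
  have eA : ↥A ≃* ↥(A.subgroupOf D) := (Subgroup.subgroupOfEquivOfLe hAD).symm
  have eB : ↥B ≃* ↥(B.subgroupOf D) := (Subgroup.subgroupOfEquivOfLe hBD).symm
  have hA' : NC (A.subgroupOf D) := hA.of_equiv eA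
  have hB' : NC (B.subgroupOf D) := hB.of_equiv eB
  have hzA' : CG (A.subgroupOf D) (⟨zA, hAD hzA.1⟩ : ↥D) := by
    refine ⟨Subgroup.mem_subgroupOf.mpr hzA.1, fun e => hzA.2.1 (congrArg Subtype.val e), ?_, ?_⟩
    · intro a ha
      exact Subtype.ext (hzA.2.2.1 a (Subgroup.mem_subgroupOf.mp ha))
    · intro c hc hcen
      rcases hzA.2.2.2 c (Subgroup.mem_subgroupOf.mp hc) (fun a ha => by
        have := hcen ⟨a, hAD ha⟩ (Subgroup.mem_subgroupOf.mpr ha)
        exact congrArg Subtype.val this) with h | h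
      · left; exact Subtype.ext h
      · right; exact Subtype.ext h
  have hzB' : CG (B.subgroupOf D) (⟨zB, hBD hzB.1⟩ : ↥D) := by
    refine ⟨Subgroup.mem_subgroupOf.mpr hzB.1, fun e => hzB.2.1 (congrArg Subtype.val e), ?_, ?_⟩
    · intro a ha
      exact Subtype.ext (hzB.2.2.1 a (Subgroup.mem_subgroupOf.mp ha))
    · intro c hc hcen
      rcases hzB.2.2.2 c (Subgroup.mem_subgroupOf.mp hc) (fun a ha => by
        have := hcen ⟨a, hBD ha⟩ (Subgroup.mem_subgroupOf.mpr ha)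
        exact congrArg Subtype.val this) with h | h
      · left; exact Subtype.ext h
      · right; exact Subtype.ext h
  have hne' : (Subgroup.center ↥(A.subgroupOf D)).map (A.subgroupOf D).subtype ≠
      (Subgroup.center ↥(B.subgroupOf D)).map (B.subgroupOf D).subtype := by
    intro e
    have h1 : (⟨zA, hAD hzA.1⟩ : ↥D) ∈
        (Subgroup.center ↥(A.subgroupOf D)).map (A.subgroupOf D).subtype :=
      (hzA'.center_map _).mpr (Or.inr rfl)
    rw [e, hzB'.center_map] at h1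
    rcases h1 with h1 | h1
    · exact hzA.2.1 (congrArg Subtype.val h1)
    · exact hne (congrArg Subtype.val h1)
  obtain ⟨r1, r2, r3⟩ := Cfsg.Agent.S4400.result (h2.to_subgroup D) (sectional_subgroup hr D)
    (A.subgroupOf D) (B.subgroupOf D) hA'.1 hB'.1 hA'.2 hB'.2 hne'
  have hinf : A ⊓ B = ⊥ := by
    rw [eq_bot_iff]
    intro x hx
    obtain ⟨hxA, hxB⟩ := Subgroup.mem_inf.mp hx
    have : (⟨x, hAD hxA⟩ : ↥D) ∈ A.subgroupOf D ⊓ B.subgroupOf D :=
      Subgroup.mem_inf.mpr ⟨Subgroup.mem_subgroupOf.mpr hxA, Subgroup.mem_subgroupOf.mpr hxB⟩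
    rw [r2, Subgroup.mem_bot] at this
    rw [Subgroup.mem_bot]
    exact congrArg Subtype.val this
  have hcomm : ∀ a ∈ A, ∀ b ∈ B, a * b = b * a := by
    intro a ha b hb
    have h1 := (Subgroup.commutator_eq_bot_iff_le_centralizer.mp r1)
      (Subgroup.mem_subgroupOf.mpr (show ((⟨a, hAD ha⟩ : ↥D) : S) ∈ A from ha))
    rw [Subgroup.mem_centralizer_iff] at h1
    have := h1 ⟨b, hBD hb⟩ (Subgroup.mem_subgroupOf.mpr hb)
    exact (congrArg Subtype.val this).symm
  refine ⟨hinf, hcomm, ?_⟩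
  intro c hc hcA hcB
  have hcmem : (⟨c, hc⟩ : ↥D) ∈ Subgroup.centralizer
      ((A.subgroupOf D ⊔ B.subgroupOf D : Subgroup ↥D) : Set ↥D) := by
    have hle : A.subgroupOf D ⊔ B.subgroupOf D ≤ Subgroup.centralizer ({(⟨c, hc⟩ : ↥D)} : Set ↥D) := by
      refine sup_le ?_ ?_
      · intro a ha
        rw [Subgroup.mem_centralizer_iff]
        rintro _ rfl
        exact Subtype.ext (hcA a (Subgroup.mem_subgroupOf.mp ha))
      · intro b hb
        rw [Subgroup.mem_centralizer_iff]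
        rintro _ rfl
        exact Subtype.ext (hcB b (Subgroup.mem_subgroupOf.mp hb))
    rw [Subgroup.mem_centralizer_iff]
    intro x hx
    have := hle hx
    rw [Subgroup.mem_centralizer_iff] at this
    exact (this _ rfl).symm
  have h3 := r3 hcmem
  have hmap : (A.subgroupOf D ⊔ B.subgroupOf D).map D.subtype ≤ A ⊔ B := by
    rw [Subgroup.map_sup]
    refine sup_le ?_ ?_
    · rintro _ ⟨x, hx, rfl⟩
      exact Subgroup.mem_sup_left (Subgroup.mem_subgroupOf.mp hx)
    · rintro _ ⟨x, hx, rfl⟩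
      exact Subgroup.mem_sup_right (Subgroup.mem_subgroupOf.mp hx)
  exact hmap ⟨⟨c, hc⟩, h3, rfl⟩

/-- an element of `A ⊔ B` centralizing both lies in the product of the centres -/
theorem central_cases {S : Type*} [Group S] (A B : Subgroup S)
    (hc : ∀ a ∈ A, ∀ b ∈ B, a * b = b * a) (zA zB : S) (hzA : CG A zA) (hzB : CG B zB)
    (c : S) (hcm : c ∈ A ⊔ B) (hcA : ∀ a ∈ A, c * a = a * c) (hcB : ∀ b ∈ B, c * b = b * c) :
    c = 1 ∨ c = zA ∨ c = zB ∨ c = zA * zB := by
  obtain ⟨a, ha, b, hb, rfl⟩ := exists_mul_of_mem_sup A B hc c hcm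
  have haZ : ∀ x ∈ A, x * a = a * x := by
    intro x hx
    have h1 := hcA x hx
    have h3 : b * x = x * b := (hc x hx b hb).symm
    have h4 : a * x * b = x * a * b := by
      calc a * x * b = a * (x * b) := by group
        _ = a * (b * x) := by rw [h3]
        _ = a * b * x := by group
        _ = x * (a * b) := h1
        _ = x * a * b := by group
    exact (mul_right_cancel h4).symm
  have hbZ : ∀ x ∈ B, x * b = b * x := by
    intro x hx
    have h1 := hcB x hx
    have h3 : a * x = x * a := hc a ha x hx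
    have h4 : a * (b * x) = a * (x * b) := by
      calc a * (b * x) = a * b * x := by group
        _ = x * (a * b) := h1
        _ = x * a * b := by group
        _ = a * x * b := by rw [h3]
        _ = a * (x * b) := by group
    exact (mul_left_cancel h4).symm
  rcases hzA.2.2.2 a ha haZ with h | h <;> rcases hzB.2.2.2 b hb hbZ with h' | h'
  · left; rw [h, h', mul_one]
  · right; right; left; rw [h, h', one_mul]
  · right; left; rw [h, h', mul_one]
  · right; right; right; rw [h, h']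

end Cfsg.Agent.Lib.Helper21.SecFour
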