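import Mathlib
import Cfsg.Agent.Lib.Helper21.SecFour

set_option autoImplicit false

universe u

namespace Cfsg.Agent.Lib.Helper21.SecFour

open Cfsg.Agent.Lib.Helper21.SecRank2 Cfsg.Agent.Lib.Helper21.SecRank
open scoped Pointwise

/-- an element of `T` whose centralizer has index at most `2` in `P × P₂` lies in `S₀` and
centralizes one of the two factors -/
theorem k1 {S : Type*} [Group S] [Finite S] (h2 : IsPGroup 2 S) (P P₂ S₀ T : Subgroup S)
    (hnP : ∀ s ∈ S₀, ∀ a ∈ P, s * a * s⁻¹ ∈ P) (hnP₂ : ∀ s ∈ S₀, ∀ a ∈ P₂, s * a * s⁻¹ ∈ P₂)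
    (hswap : ∀ x ∈ T, x ∉ S₀ → ∀ a ∈ P, x * a * x⁻¹ ∈ P₂)
    (hinf : P ⊓ P₂ = ⊥) (hc : ∀ a ∈ P, ∀ b ∈ P₂, a * b = b * a)
    (hP4 : 2 < Nat.card P) (y : S) (hyT : y ∈ T)
    (hcard : Nat.card ↥(P ⊔ P₂) ≤
      2 * Nat.card ↥(Subgroup.centralizer ({y} : Set S) ⊓ (P ⊔ P₂))) :
    y ∈ S₀ ∧ ((∀ a ∈ P, y * a = a * y) ∨ (∀ b ∈ P₂, y * b = b * y)) := by
  haveI : Fact (Nat.Prime 2) := ⟨Nat.prime_two⟩
  have hQ : Nat.card ↥(P ⊔ P₂) = Nat.card P * Nat.card P₂ := card_sup_of_commute P P₂ hc hinf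
  have hmemC : ∀ x : S, x ∈ Subgroup.centralizer ({y} : Set S) ↔ y * x = x * y := fun x =>
    Subgroup.mem_centralizer_singleton_iff.trans eq_comm
  have hyS₀ : y ∈ S₀ := by
    by_contra hy
    -- the centralizer meets `P` trivially
    have h1 : P ⊓ (Subgroup.centralizer ({y} : Set S) ⊓ (P ⊔ P₂)) = ⊥ := by
      rw [eq_bot_iff]
      intro x hx
      obtain ⟨hxP, hxC⟩ := Subgroup.mem_inf.mp hx
      have hxy := (hmemC x).mp (Subgroup.mem_inf.mp hxC).1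
      have h3 : y * x * y⁻¹ = x := by rw [hxy, mul_inv_cancel_right]
      have h4 := hswap y hyT hy x hxP
      rw [h3] at h4
      rw [← hinf]; exact Subgroup.mem_inf.mpr ⟨hxP, h4⟩
    have h5 := card_eq_inf_mul P (Subgroup.centralizer ({y} : Set S) ⊓ (P ⊔ P₂))
    rw [h1, Subgroup.card_bot, one_mul] at h5
    have h7 : Nat.card P * P.relIndex (P ⊔ P₂) = Nat.card ↥(P ⊔ P₂) := by
      have := Subgroup.relIndex_mul_relIndex ⊥ P (P ⊔ P₂) bot_le le_sup_left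
      rwa [Subgroup.relIndex_bot_left, Subgroup.relIndex_bot_left] at this
    rw [hQ] at h7
    have h8 : P.relIndex (P ⊔ P₂) = Nat.card P₂ := Nat.eq_of_mul_eq_mul_left Nat.card_pos h7
    have h6 : P.relIndex (Subgroup.centralizer ({y} : Set S) ⊓ (P ⊔ P₂)) ≤ P.relIndex (P ⊔ P₂) :=
      Subgroup.relIndex_le_of_le_right inf_le_right (by rw [h8]; exact Nat.card_pos.ne')
    rw [h5, hQ] at hcard
    rw [h8] at h6
    have h9 : Nat.card P * Nat.card P₂ ≤ 2 * Nat.card P₂ := hcard.trans (Nat.mul_le_mul_left _ h6)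
    have h10 : Nat.card P ≤ 2 := Nat.le_of_mul_le_mul_right h9 Nat.card_pos
    omega
  refine ⟨hyS₀, ?_⟩
  by_contra hcon
  rw [not_or] at hcon
  obtain ⟨hA, hB⟩ := hcon
  push Not at hA hB
  obtain ⟨a₀, ha₀, ha₀y⟩ := hA
  obtain ⟨b₀, hb₀, hb₀y⟩ := hB
  have hlt1 : Subgroup.centralizer ({y} : Set S) ⊓ P < P :=
    lt_of_le_of_ne inf_le_right (fun e => ha₀y ((hmemC a₀).mp
      (show a₀ ∈ Subgroup.centralizer ({y} : Set S) ⊓ P by rw [e]; exact ha₀).1))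
  have hlt2 : Subgroup.centralizer ({y} : Set S) ⊓ P₂ < P₂ :=
    lt_of_le_of_ne inf_le_right (fun e => hb₀y ((hmemC b₀).mp
      (show b₀ ∈ Subgroup.centralizer ({y} : Set S) ⊓ P₂ by rw [e]; exact hb₀).1))
  have hc1 := Cfsg.Agent.Lib.Helper20.card_mul_le_of_lt h2 hlt1
  have hc2 := Cfsg.Agent.Lib.Helper20.card_mul_le_of_lt h2 hlt2
  have hle : Subgroup.centralizer ({y} : Set S) ⊓ (P ⊔ P₂) ≤
      (Subgroup.centralizer ({y} : Set S) ⊓ P) ⊔ (Subgroup.centralizer ({y} : Set S) ⊓ P₂) := by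
    intro x hx
    obtain ⟨hxC, hxQ⟩ := Subgroup.mem_inf.mp hx
    obtain ⟨a, ha, b, hb, rfl⟩ := exists_mul_of_mem_sup P P₂ hc x hxQ
    have hxy := (hmemC _).mp hxC
    have ha' := hnP y hyS₀ a ha
    have hb' := hnP₂ y hyS₀ b hb
    have e1 : (y * a * y⁻¹) * (y * b * y⁻¹) = a * b := by
      have : (y * a * y⁻¹) * (y * b * y⁻¹) = y * (a * b) * y⁻¹ := by group
      rw [this, hxy, mul_inv_cancel_right]
    have e2 : a⁻¹ * (y * a * y⁻¹) = b * (y * b * y⁻¹)⁻¹ := by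
      have : a⁻¹ * ((y * a * y⁻¹) * (y * b * y⁻¹)) * (y * b * y⁻¹)⁻¹ = a⁻¹ * (a * b) * (y * b * y⁻¹)⁻¹ := by
        rw [e1]
      have l : a⁻¹ * ((y * a * y⁻¹) * (y * b * y⁻¹)) * (y * b * y⁻¹)⁻¹ = a⁻¹ * (y * a * y⁻¹) := by group
      have r : a⁻¹ * (a * b) * (y * b * y⁻¹)⁻¹ = b * (y * b * y⁻¹)⁻¹ := by group
      rw [l, r] at this
      exact this
    have h3 : a⁻¹ * (y * a * y⁻¹) ∈ P ⊓ P₂ := by
      refine Subgroup.mem_inf.mpr ⟨mul_mem (inv_mem ha) ha', ?_⟩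
      rw [e2]; exact mul_mem hb (inv_mem hb')
    rw [hinf, Subgroup.mem_bot] at h3
    have h4 : y * a * y⁻¹ = a := by
      have := congrArg (fun w => a * w) h3
      simpa using this
    have h5 : y * b * y⁻¹ = b := by
      rw [h4] at e1
      exact mul_left_cancel e1
    have h6 : y * a = a * y := by
      calc y * a = (y * a * y⁻¹) * y := by group
        _ = a * y := by rw [h4]
    have h7 : y * b = b * y := by
      calc y * b = (y * b * y⁻¹) * y := by group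
        _ = b * y := by rw [h5]
    exact mul_mem (Subgroup.mem_sup_left (Subgroup.mem_inf.mpr ⟨(hmemC a).mpr h6, ha⟩))
      (Subgroup.mem_sup_right (Subgroup.mem_inf.mpr ⟨(hmemC b).mpr h7, hb⟩))
  have hcard2 : Nat.card ↥((Subgroup.centralizer ({y} : Set S) ⊓ P) ⊔
      (Subgroup.centralizer ({y} : Set S) ⊓ P₂)) =
      Nat.card ↥(Subgroup.centralizer ({y} : Set S) ⊓ P) *
        Nat.card ↥(Subgroup.centralizer ({y} : Set S) ⊓ P₂) := by
    apply card_sup_of_commute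
    · intro a ha b hb
      exact hc a (Subgroup.mem_inf.mp ha).2 b (Subgroup.mem_inf.mp hb).2
    · rw [eq_bot_iff, ← hinf]
      exact inf_le_inf inf_le_right inf_le_right
  have h11 := Subgroup.card_le_of_le hle
  rw [hcard2] at h11
  rw [hQ] at hcard
  have hpos1 : 0 < Nat.card ↥(Subgroup.centralizer ({y} : Set S) ⊓ P) := Nat.card_pos
  have hpos2 : 0 < Nat.card ↥(Subgroup.centralizer ({y} : Set S) ⊓ P₂) := Nat.card_pos
  have h12 : (Nat.card ↥(Subgroup.centralizer ({y} : Set S) ⊓ P) * 2) *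
      (Nat.card ↥(Subgroup.centralizer ({y} : Set S) ⊓ P₂) * 2) ≤ Nat.card P * Nat.card P₂ :=
    Nat.mul_le_mul hc1 hc2
  have h13 : 0 < Nat.card ↥(Subgroup.centralizer ({y} : Set S) ⊓ P) *
      Nat.card ↥(Subgroup.centralizer ({y} : Set S) ⊓ P₂) := Nat.mul_pos hpos1 hpos2
  nlinarith


theorem card_le_two_mul {S : Type*} [Group S] [Finite S] (Y Q T : Subgroup S) (hQT : Q ≤ T)
    (hY : Y.relIndex T = 2) : Nat.card Q ≤ 2 * Nat.card ↥(Y ⊓ Q) := by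
  have h1 := card_eq_inf_mul Y Q
  have h2 : Y.relIndex Q ≤ Y.relIndex T :=
    Subgroup.relIndex_le_of_le_right hQT (by rw [hY]; norm_num)
  rw [hY] at h2
  rw [h1, mul_comm]
  exact Nat.mul_le_mul_right _ h2

/-- the set-up: `S₀ = C_S(z)` normalizes `P`, whose centre is `⟨z⟩` -/
structure Setup {S : Type*} [Group S] (P S₀ : Subgroup S) (z : S) : Prop where
  nc : NC P
  cg : CG P z
  mem : ∀ s, s ∈ S₀ ↔ s * z = z * s
  norm : ∀ s ∈ S₀, ∀ x ∈ P, s * x * s⁻¹ ∈ P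

theorem Setup.le {S : Type*} [Group S] {P S₀ : Subgroup S} {z : S} (h : Setup P S₀ z) : P ≤ S₀ :=
  fun a ha => (h.mem a).mpr (h.cg.2.2.1 a ha)

/-- conjugating the set-up -/
theorem Setup.cj {S : Type*} [Group S] {P S₀ : Subgroup S} {z : S} (h : Setup P S₀ z) (g : S) :
    Setup (cj g P) (cj g S₀) (g * z * g⁻¹) := by
  refine ⟨h.nc.cj g, h.cg.cj g, ?_, ?_⟩
  · intro s
    rw [mem_cj', h.mem]
    constructor
    · intro e
      have : s * (g * z * g⁻¹) = g * (g⁻¹ * s * g * z) * g⁻¹ := by group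
      rw [this, e]; group
    · intro e
      have : g⁻¹ * s * g * z = g⁻¹ * (s * (g * z * g⁻¹)) * g := by group
      rw [this, e]; group
  · intro s hs x hx
    rw [mem_cj'] at hs hx ⊢
    have := h.norm _ hs _ hx
    have e : g⁻¹ * (s * x * s⁻¹) * g = g⁻¹ * s * g * (g⁻¹ * x * g) * (g⁻¹ * s * g)⁻¹ := by group
    rw [e]; exact this

theorem cj_eq_self_of_mem_normalizer {S : Type*} [Group S] {A : Subgroup S} {g : S}
    (hg : g ∈ Subgroup.normalizer (A : Set S)) : cj g A = A := by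
  ext x
  rw [mem_cj']
  have := (Subgroup.mem_normalizer_iff.mp (inv_mem hg) x)
  rw [inv_inv] at this
  exact this.symm

/-- first stage: a conjugate of `P` under the normalizer of `S₀` -/
theorem stage1 {S : Type*} [Group S] [Finite S] (h2 : IsPGroup 2 S)
    (hr : Cfsg.SectionalPRankLE 2 4 S) (P S₀ : Subgroup S) (z : S) (hs : Setup P S₀ z)
    (t : S) (ht : t ∈ Subgroup.normalizer (S₀ : Set S)) (htS : t ∉ S₀) :
    Setup (cj t P) S₀ (t * z * t⁻¹) ∧ t * z * t⁻¹ ≠ z ∧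
    P ⊓ cj t P = ⊥ ∧ (∀ a ∈ P, ∀ b ∈ cj t P, a * b = b * a) ∧
      ∀ c ∈ S₀, (∀ a ∈ P, c * a = a * c) → (∀ b ∈ cj t P, c * b = b * c) → c ∈ P ⊔ cj t P := by
  have hs2 : Setup (cj t P) S₀ (t * z * t⁻¹) := by
    have := hs.cj t
    rwa [cj_eq_self_of_mem_normalizer ht] at this
  have hne : t * z * t⁻¹ ≠ z := by
    intro e
    apply htS
    rw [hs.mem]
    calc t * z = (t * z * t⁻¹) * t := by group
      _ = z * t := by rw [e]
  obtain ⟨r1, r2, r3⟩ := pair_lemma h2 hr S₀ P (cj t P) hs.le hs2.le hs.norm hs2.norm hs.nc hs2.nc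
    z (t * z * t⁻¹) hs.cg hs2.cg (Ne.symm hne)
  exact ⟨hs2, hne, r1, r2, r3⟩

end Cfsg.Agent.Lib.Helper21.SecFour
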