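import Mathlib
import Cfsg.Agent.Lib.Helper21.SecFourB

set_option autoImplicit false

universe u

namespace Cfsg.Agent.Lib.Helper21.SecFour

open Cfsg.Agent.Lib.Helper21.SecRank2 Cfsg.Agent.Lib.Helper21.SecRank
open scoped Pointwise

theorem card_eq_card_mul_relIndex {S : Type*} [Group S] (N H : Subgroup S) (h : N ≤ H) :
    Nat.card H = Nat.card N * N.relIndex H := by
  have := Subgroup.relIndex_mul_relIndex ⊥ N H bot_le h
  rw [Subgroup.relIndex_bot_left, Subgroup.relIndex_bot_left] at this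
  exact this.symm

/-- if `P` commutes with a conjugate that it meets trivially, its sectional rank is at most half -/
theorem sec_two {S : Type*} [Group S] [Finite S] (hr : Cfsg.SectionalPRankLE 2 4 S)
    (P : Subgroup S) (t : S) (hinf : P ⊓ cj t P = ⊥)
    (hc : ∀ a ∈ P, ∀ b ∈ cj t P, a * b = b * a) : Cfsg.SectionalPRankLE 2 2 ↥P := by
  apply SR.to_sectional
  intro H N hNH hnorm hcomm hpow
  have hH₁ : H.map P.subtype ≤ P := by
    rintro _ ⟨x, -, rfl⟩; exact x.2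
  have hN₁ : N.map P.subtype ≤ H.map P.subtype := Subgroup.map_mono hNH
  have hc' : ∀ a ∈ H.map P.subtype, ∀ b ∈ cj t (H.map P.subtype), a * b = b * a :=
    fun a ha b hb => hc a (hH₁ ha) b (cj_le hH₁ hb)
  have hA1 : ∀ a ∈ H.map P.subtype, ∀ n ∈ N.map P.subtype, a * n * a⁻¹ ∈ N.map P.subtype := by
    rintro _ ⟨x, hx, rfl⟩ _ ⟨y, hy, rfl⟩
    have := Subgroup.mem_map_of_mem P.subtype (hnorm x hx y hy)
    simpa using this
  have hA2 : ∀ x ∈ H.map P.subtype, ∀ y ∈ H.map P.subtype,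
      x * y * x⁻¹ * y⁻¹ ∈ N.map P.subtype := by
    rintro _ ⟨x, hx, rfl⟩ _ ⟨y, hy, rfl⟩
    have := Subgroup.mem_map_of_mem P.subtype (hcomm x hx y hy)
    simpa using this
  have hA3 : ∀ x ∈ H.map P.subtype, x ^ 2 ∈ N.map P.subtype := by
    rintro _ ⟨x, hx, rfl⟩
    have := Subgroup.mem_map_of_mem P.subtype (hpow x hx)
    simpa using this
  have hB1 : ∀ a ∈ cj t (H.map P.subtype), ∀ n ∈ cj t (N.map P.subtype),
      a * n * a⁻¹ ∈ cj t (N.map P.subtype) := by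
    intro a ha n hn
    rw [mem_cj'] at ha hn ⊢
    have := hA1 _ ha _ hn
    have e : t⁻¹ * (a * n * a⁻¹) * t = t⁻¹ * a * t * (t⁻¹ * n * t) * (t⁻¹ * a * t)⁻¹ := by group
    rw [e]; exact this
  have hB2 : ∀ x ∈ cj t (H.map P.subtype), ∀ y ∈ cj t (H.map P.subtype),
      x * y * x⁻¹ * y⁻¹ ∈ cj t (N.map P.subtype) := by
    intro x hx y hy
    rw [mem_cj'] at hx hy ⊢
    have := hA2 _ hx _ hy
    have e : t⁻¹ * (x * y * x⁻¹ * y⁻¹) * t =
        t⁻¹ * x * t * (t⁻¹ * y * t) * (t⁻¹ * x * t)⁻¹ * (t⁻¹ * y * t)⁻¹ := by group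
    rw [e]; exact this
  have hB3 : ∀ x ∈ cj t (H.map P.subtype), x ^ 2 ∈ cj t (N.map P.subtype) := by
    intro x hx
    rw [mem_cj'] at hx ⊢
    have := hA3 _ hx
    have e : t⁻¹ * x ^ 2 * t = (t⁻¹ * x * t) ^ 2 := by
      rw [pow_two, pow_two]; group
    rw [e]; exact this
  obtain ⟨s1, s2, s3⟩ := section_prod 2 (H.map P.subtype) (cj t (H.map P.subtype))
    (N.map P.subtype) (cj t (N.map P.subtype)) hc' hN₁ (cj_le hN₁) hA1 hA2 hA3 hB1 hB2 hB3
  have hsr := (SR.of_sectional hr) (H.map P.subtype ⊔ cj t (H.map P.subtype))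
    (N.map P.subtype ⊔ cj t (N.map P.subtype)) (sup_le_sup hN₁ (cj_le hN₁)) s1 s2 s3
  have hinfH : H.map P.subtype ⊓ cj t (H.map P.subtype) = ⊥ := by
    rw [eq_bot_iff, ← hinf]; exact inf_le_inf hH₁ (cj_le hH₁)
  have hinfN : N.map P.subtype ⊓ cj t (N.map P.subtype) = ⊥ := by
    rw [eq_bot_iff, ← hinfH]; exact inf_le_inf hN₁ (cj_le hN₁)
  have hcH := card_sup_of_commute _ _ hc' hinfH
  have hcN := card_sup_of_commute (N.map P.subtype) (cj t (N.map P.subtype))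
    (fun a ha b hb => hc' a (hN₁ ha) b (cj_le hN₁ hb)) hinfN
  rw [card_cj] at hcH hcN
  have e1 := card_eq_card_mul_relIndex _ _ (sup_le_sup hN₁ (cj_le hN₁) :
    N.map P.subtype ⊔ cj t (N.map P.subtype) ≤ H.map P.subtype ⊔ cj t (H.map P.subtype))
  have e2 := card_eq_card_mul_relIndex _ _ hN₁
  have e3 : (N.map P.subtype).relIndex (H.map P.subtype) = N.relIndex H :=
    Subgroup.relIndex_map_map_of_injective _ _ P.subtype_injective
  rw [hcH, hcN, e2, e3] at e1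
  have hpos : 0 < Nat.card ↥(N.map P.subtype) := Nat.card_pos
  have e4 : N.relIndex H * N.relIndex H =
      (N.map P.subtype ⊔ cj t (N.map P.subtype)).relIndex
        (H.map P.subtype ⊔ cj t (H.map P.subtype)) := by
    have : Nat.card ↥(N.map P.subtype) * Nat.card ↥(N.map P.subtype) *
        (N.relIndex H * N.relIndex H) = Nat.card ↥(N.map P.subtype) * Nat.card ↥(N.map P.subtype) *
        (N.map P.subtype ⊔ cj t (N.map P.subtype)).relIndex
        (H.map P.subtype ⊔ cj t (H.map P.subtype)) := by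
      rw [← e1]; ring
    exact Nat.eq_of_mul_eq_mul_left (Nat.mul_pos hpos hpos) this
  rw [← e4] at hsr
  nlinarith

theorem NC.two_lt_card {S : Type*} [Group S] [Finite S] {A : Subgroup S} (h : NC A) :
    2 < Nat.card A := by
  by_contra hle
  push Not at hle
  apply h.1
  have h1 : Nat.card ↥(Subgroup.center ↥A) ≤ Nat.card ↥A := Subgroup.card_le_card_group _
  have h2 : Nat.card ↥(Subgroup.center ↥A) = Nat.card ↥A := by rw [h.2] at h1 ⊢; omega
  have h3 : Subgroup.center ↥A = ⊤ := (Subgroup.card_eq_iff_eq_top _).mp h2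
  refine ⟨⟨fun a b => ?_⟩⟩
  have : b ∈ Subgroup.center ↥A := by rw [h3]; trivial
  exact Subgroup.mem_center_iff.mp this a

/-- second stage: `S₀` has index two in its normalizer -/
theorem stage2 {S : Type*} [Group S] [Finite S] (h2 : IsPGroup 2 S)
    (hr : Cfsg.SectionalPRankLE 2 4 S) (P S₀ : Subgroup S) (z : S) (hs : Setup P S₀ z)
    (t : S) (ht : t ∈ Subgroup.normalizer (S₀ : Set S)) (htS : t ∉ S₀)
    (x : S) (hx : x ∈ Subgroup.normalizer (S₀ : Set S)) (hxS : x ∉ S₀) : t⁻¹ * x ∈ S₀ := by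
  by_contra hcon
  obtain ⟨hs2, hne2, hinf2, hc2, hcen2⟩ := stage1 h2 hr P S₀ z hs t ht htS
  obtain ⟨hs3, hne3, hinf3, hc3, hcen3⟩ := stage1 h2 hr P S₀ z hs x hx hxS
  have hne23 : t * z * t⁻¹ ≠ x * z * x⁻¹ := by
    intro e
    apply hcon
    rw [hs.mem]
    calc t⁻¹ * x * z = t⁻¹ * (x * z * x⁻¹) * x := by group
      _ = t⁻¹ * (t * z * t⁻¹) * x := by rw [e]
      _ = z * (t⁻¹ * x) := by group
  obtain ⟨r1, r2, r3⟩ := pair_lemma h2 hr S₀ (cj t P) (cj x P) hs2.le hs3.le hs2.norm hs3.norm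
    hs2.nc hs3.nc _ _ hs2.cg hs3.cg hne23
  apply hs3.nc.1
  refine ⟨⟨fun c c' => ?_⟩⟩
  apply Subtype.ext
  show (c : S) * c' = c' * c
  have hcm : (c : S) ∈ P ⊔ cj t P := hcen2 c (hs3.le c.2) (fun a ha => (hc3 a ha c c.2).symm)
    (fun b hb => (r2 b hb c c.2).symm)
  obtain ⟨a, ha, b, hb, e⟩ := exists_mul_of_mem_sup P (cj t P) hc2 _ hcm
  rw [e]
  have e1 := hc3 a ha c' c'.2
  have e2 := r2 b hb c' c'.2
  calc a * b * c' = a * (b * c') := by group
    _ = a * (c' * b) := by rw [e2]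
    _ = (a * c') * b := by group
    _ = c' * a * b := by rw [e1]
    _ = c' * (a * b) := by group

theorem stage2' {S : Type*} [Group S] [Finite S] (h2 : IsPGroup 2 S)
    (hr : Cfsg.SectionalPRankLE 2 4 S) (P S₀ : Subgroup S) (z : S) (hs : Setup P S₀ z)
    (x : S) (hx : x ∈ Subgroup.normalizer (S₀ : Set S)) (hxS : x ∉ S₀)
    (y : S) (hy : y ∈ Subgroup.normalizer (S₀ : Set S)) (hyS : y ∉ S₀) : x * y ∈ S₀ := by
  have := stage2 h2 hr P S₀ z hs x⁻¹ (inv_mem hx) (fun h => hxS (by simpa using inv_mem h)) y hy hyS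
  rwa [inv_inv] at this

theorem stage2_index {S : Type*} [Group S] [Finite S] (h2 : IsPGroup 2 S)
    (hr : Cfsg.SectionalPRankLE 2 4 S) (P S₀ : Subgroup S) (z : S) (hs : Setup P S₀ z)
    (t : S) (ht : t ∈ Subgroup.normalizer (S₀ : Set S)) (htS : t ∉ S₀) :
    S₀.relIndex (Subgroup.normalizer (S₀ : Set S)) = 2 := by
  show (S₀.subgroupOf (Subgroup.normalizer (S₀ : Set S))).index = 2
  rw [Subgroup.index_eq_two_iff]
  refine ⟨⟨t, ht⟩, fun b => ?_⟩
  by_cases hb : (b : S) ∈ S₀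
  · right
    refine ⟨Subgroup.mem_subgroupOf.mpr hb, fun h => htS ?_⟩
    have h' : (b : S) * t ∈ S₀ := Subgroup.mem_subgroupOf.mp h
    have := mul_mem (inv_mem hb) h'
    rwa [inv_mul_cancel_left] at this
  · left
    refine ⟨Subgroup.mem_subgroupOf.mpr ?_, fun h => hb (Subgroup.mem_subgroupOf.mp h)⟩
    exact stage2' h2 hr P S₀ z hs b b.2 hb t ht htS

end Cfsg.Agent.Lib.Helper21.SecFour
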