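import Mathlib
import Cfsg.Agent.Lib.Helper21.SecFourC

set_option autoImplicit false

universe u

namespace Cfsg.Agent.Lib.Helper21.SecFour

open Cfsg.Agent.Lib.Helper21.SecRank2 Cfsg.Agent.Lib.Helper21.SecRank
open scoped Pointwise

/-- the symmetric configuration of `P` and its conjugate inside `T = N(S₀)` -/
structure Pair {S : Type*} [Group S] (S₀ T A B : Subgroup S) (zA zB : S) : Prop where
  sA : Setup A S₀ zA
  sB : Setup B S₀ zB
  ne : zA ≠ zB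
  inf : A ⊓ B = ⊥
  comm : ∀ a ∈ A, ∀ b ∈ B, a * b = b * a
  cen : ∀ c ∈ S₀, (∀ a ∈ A, c * a = a * c) → (∀ b ∈ B, c * b = b * c) → c ∈ A ⊔ B
  swapAB : ∀ x ∈ T, x ∉ S₀ → ∀ a ∈ A, x * a * x⁻¹ ∈ B
  swapBA : ∀ x ∈ T, x ∉ S₀ → ∀ b ∈ B, x * b * x⁻¹ ∈ A
  swapzAB : ∀ x ∈ T, x ∉ S₀ → x * zA * x⁻¹ = zB
  swapzBA : ∀ x ∈ T, x ∉ S₀ → x * zB * x⁻¹ = zA
  idx : S₀.relIndex T = 2
  le : S₀ ≤ T
  ex : ∃ t ∈ T, t ∉ S₀

variable {S : Type*} [Group S] {S₀ T A B : Subgroup S} {zA zB : S}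

theorem Pair.symm (h : Pair S₀ T A B zA zB) : Pair S₀ T B A zB zA where
  sA := h.sB
  sB := h.sA
  ne := h.ne.symm
  inf := by rw [inf_comm]; exact h.inf
  comm := fun b hb a ha => (h.comm a ha b hb).symm
  cen := fun c hc hB hA => by rw [sup_comm]; exact h.cen c hc hA hB
  swapAB := h.swapBA
  swapBA := h.swapAB
  swapzAB := h.swapzBA
  swapzBA := h.swapzAB
  idx := h.idx
  le := h.le
  ex := h.ex

theorem Pair.zz_comm (h : Pair S₀ T A B zA zB) : zA * zB = zB * zA :=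
  h.comm zA h.sA.cg.1 zB h.sB.cg.1

/-- `T` centralizes `zA * zB` -/
theorem Pair.central (h : Pair S₀ T A B zA zB) (x : S) (hx : x ∈ T) :
    x * (zA * zB) = (zA * zB) * x := by
  by_cases hxS : x ∈ S₀
  · have e1 := (h.sA.mem x).mp hxS
    have e2 := (h.sB.mem x).mp hxS
    calc x * (zA * zB) = (x * zA) * zB := by group
      _ = zA * (x * zB) := by rw [e1]; group
      _ = zA * zB * x := by rw [e2]; group
  · have e1 := h.swapzAB x hx hxS
    have e2 := h.swapzBA x hx hxS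
    calc x * (zA * zB) = (x * zA * x⁻¹) * (x * zB * x⁻¹) * x := by group
      _ = zB * zA * x := by rw [e1, e2]
      _ = zA * zB * x := by rw [h.zz_comm]

/-- an element of `S₀` centralizing both factors is in the four-group `V` -/
theorem Pair.mem_V (h : Pair S₀ T A B zA zB) (c : S) (hc : c ∈ S₀)
    (hcA : ∀ a ∈ A, c * a = a * c) (hcB : ∀ b ∈ B, c * b = b * c) :
    c = 1 ∨ c = zA ∨ c = zB ∨ c = zA * zB :=
  central_cases A B h.comm zA zB h.sA.cg h.sB.cg c (h.cen c hc hcA hcB) hcA hcB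

theorem Pair.AB_le (h : Pair S₀ T A B zA zB) : A ⊔ B ≤ T :=
  sup_le (h.sA.le.trans h.le) (h.sB.le.trans h.le)

theorem relIndex_cj [Finite S] (u : S) (X Y : Subgroup S) :
    (cj u X).relIndex (cj u Y) = X.relIndex Y :=
  Subgroup.relIndex_map_map_of_injective _ _ (MulAut.conj u).injective

/-- conjugates of `zA` under the normalizer of `T` lie in `S₀` and centralize a factor -/
theorem Pair.lemB [Finite S] (h2 : IsPGroup 2 S) (h : Pair S₀ T A B zA zB) (u : S)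
    (hu : u ∈ Subgroup.normalizer (T : Set S)) :
    u * zA * u⁻¹ ∈ S₀ ∧ ((∀ a ∈ A, (u * zA * u⁻¹) * a = a * (u * zA * u⁻¹)) ∨
      (∀ b ∈ B, (u * zA * u⁻¹) * b = b * (u * zA * u⁻¹))) := by
  have hyT : u * zA * u⁻¹ ∈ T :=
    (Subgroup.mem_normalizer_iff.mp hu zA).mp (h.le (h.sA.le h.sA.cg.1))
  have hidx : (cj u S₀).relIndex T = 2 := by
    have := relIndex_cj u S₀ T
    rw [cj_eq_self_of_mem_normalizer hu, h.idx] at this
    exact this
  have hle : cj u S₀ ≤ Subgroup.centralizer ({u * zA * u⁻¹} : Set S) := by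
    intro s hs
    rw [Subgroup.mem_centralizer_singleton_iff]
    exact (((h.sA.cj u).mem s).mp hs)
  have hcard := card_le_two_mul (cj u S₀) (A ⊔ B) T h.AB_le hidx
  have hcard2 : Nat.card ↥(cj u S₀ ⊓ (A ⊔ B)) ≤
      Nat.card ↥(Subgroup.centralizer ({u * zA * u⁻¹} : Set S) ⊓ (A ⊔ B)) :=
    Subgroup.card_le_of_le (inf_le_inf_right _ hle)
  exact k1 h2 A B S₀ T h.sA.norm h.sB.norm h.swapAB h.inf h.comm h.sA.nc.two_lt_card _ hyT
    (hcard.trans (Nat.mul_le_mul_left _ hcard2))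

/-- conjugates of `zA` under elements of `N(T)` outside `T` are not in `V` -/
theorem Pair.lemD (h : Pair S₀ T A B zA zB) (u : S)
    (hu : u ∈ Subgroup.normalizer (T : Set S)) (huT : u ∉ T) :
    u * zA * u⁻¹ ≠ 1 ∧ u * zA * u⁻¹ ≠ zA ∧ u * zA * u⁻¹ ≠ zB ∧ u * zA * u⁻¹ ≠ zA * zB := by
  obtain ⟨t, htT, htS⟩ := h.ex
  refine ⟨?_, ?_, ?_, ?_⟩
  · intro e
    apply h.sA.cg.2.1
    have : zA = u⁻¹ * (u * zA * u⁻¹) * u := by group
    rw [this, e]; group
  · intro e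
    apply huT
    apply h.le
    rw [h.sA.mem]
    calc u * zA = (u * zA * u⁻¹) * u := by group
      _ = zA * u := by rw [e]
  · intro e
    apply huT
    have e1 := h.swapzAB t htT htS
    have h1 : t⁻¹ * u ∈ S₀ := by
      rw [h.sA.mem]
      calc t⁻¹ * u * zA = t⁻¹ * (u * zA * u⁻¹) * u := by group
        _ = t⁻¹ * (t * zA * t⁻¹) * u := by rw [e, e1]
        _ = zA * (t⁻¹ * u) := by group
    have := mul_mem htT (h.le h1)
    rwa [mul_inv_cancel_left] at this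
  · intro e
    apply htS
    have hx : u * t * u⁻¹ ∈ T := (Subgroup.mem_normalizer_iff.mp hu t).mp htT
    have e1 := h.central _ hx
    rw [← e] at e1
    rw [h.sA.mem]
    have : u * (t * zA) * u⁻¹ = u * (zA * t) * u⁻¹ := by
      calc u * (t * zA) * u⁻¹ = u * t * u⁻¹ * (u * zA * u⁻¹) := by group
        _ = u * zA * u⁻¹ * (u * t * u⁻¹) := e1
        _ = u * (zA * t) * u⁻¹ := by group
    exact mul_left_cancel (mul_right_cancel this)

theorem conj_mul_conj (u a b : S) : (u * a * u⁻¹) * (u * b * u⁻¹) = u * (a * b) * u⁻¹ := by group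

theorem conj_inj {u a b : S} (h : u * a * u⁻¹ = u * b * u⁻¹) : a = b :=
  mul_left_cancel (mul_right_cancel h)

/-- the product of the two conjugated centres is `zA * zB` again -/
theorem Pair.prod [Finite S] (h2 : IsPGroup 2 S) (h : Pair S₀ T A B zA zB) (u : S)
    (hu : u ∈ Subgroup.normalizer (T : Set S)) (huT : u ∉ T) :
    (u * zA * u⁻¹) * (u * zB * u⁻¹) = zA * zB := by
  obtain ⟨t, htT, htS⟩ := h.ex
  obtain ⟨h3S, -⟩ := h.lemB h2 u hu
  obtain ⟨h4S, -⟩ := h.symm.lemB h2 u hu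
  have hcen : ∀ x ∈ T, x * ((u * zA * u⁻¹) * (u * zB * u⁻¹)) =
      ((u * zA * u⁻¹) * (u * zB * u⁻¹)) * x := by
    intro x hx
    have hx' : u⁻¹ * x * u ∈ T := by
      have := (Subgroup.mem_normalizer_iff.mp (inv_mem hu) x).mp hx
      rwa [inv_inv] at this
    have e := h.central _ hx'
    rw [conj_mul_conj]
    calc x * (u * (zA * zB) * u⁻¹) = u * ((u⁻¹ * x * u) * (zA * zB)) * u⁻¹ := by group
      _ = u * ((zA * zB) * (u⁻¹ * x * u)) * u⁻¹ := by rw [e]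
      _ = u * (zA * zB) * u⁻¹ * x := by group
  rcases h.mem_V _ (mul_mem h3S h4S)
    (fun a ha => (hcen a (h.le (h.sA.le ha))).symm)
    (fun b hb => (hcen b (h.le (h.sB.le hb))).symm) with e | e | e | e
  · exfalso
    rw [conj_mul_conj] at e
    have e1 : zA * zB = 1 := by
      have : zA * zB = u⁻¹ * (u * (zA * zB) * u⁻¹) * u := by group
      rw [this, e]; group
    apply h.ne
    have := eq_inv_of_mul_eq_one_left e1
    rwa [h.sB.cg.inv_eq] at this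
  · exfalso
    apply htS
    rw [h.sA.mem]
    have := hcen t htT
    rwa [e] at this
  · exfalso
    apply htS
    rw [h.sB.mem]
    have := hcen t htT
    rwa [e] at this
  · exact e

/-- the two conjugated centres centralize the same subgroups of `T` -/
theorem Pair.lemQ [Finite S] (h2 : IsPGroup 2 S) (h : Pair S₀ T A B zA zB) (u : S)
    (hu : u ∈ Subgroup.normalizer (T : Set S)) (huT : u ∉ T) (X : Subgroup S) (hX : X ≤ T)
    (h3 : ∀ x ∈ X, (u * zA * u⁻¹) * x = x * (u * zA * u⁻¹)) :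
    ∀ x ∈ X, (u * zB * u⁻¹) * x = x * (u * zB * u⁻¹) := by
  intro x hx
  have hp := h.prod h2 u hu huT
  have e := h.central x (hX hx)
  rw [← hp] at e
  have e3 := h3 x hx
  have : (u * zA * u⁻¹) * ((u * zB * u⁻¹) * x) = (u * zA * u⁻¹) * (x * (u * zB * u⁻¹)) := by
    calc (u * zA * u⁻¹) * ((u * zB * u⁻¹) * x) = ((u * zA * u⁻¹) * (u * zB * u⁻¹)) * x := by group
      _ = x * ((u * zA * u⁻¹) * (u * zB * u⁻¹)) := e.symm
      _ = (x * (u * zA * u⁻¹)) * (u * zB * u⁻¹) := by group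
      _ = ((u * zA * u⁻¹) * x) * (u * zB * u⁻¹) := by rw [e3]
      _ = (u * zA * u⁻¹) * (x * (u * zB * u⁻¹)) := by group
  exact mul_left_cancel this

/-- the final contradiction, in abstract form -/
theorem final [Finite S] (h2 : IsPGroup 2 S) (hr : Cfsg.SectionalPRankLE 2 4 S)
    {S₀ A Ad : Subgroup S} {zA zd zd' : S} (u : S)
    (sA : Setup A S₀ zA) (sd : Setup Ad S₀ zd)
    (hd'S : zd' ∈ S₀) (hd'c : ∀ a ∈ Ad, zd' * a = a * zd')
    (hk_ne : u * zd * u⁻¹ ≠ zA)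
    (hw1 : u * zd' * u⁻¹ ≠ 1) (hw2 : u * zd' * u⁻¹ ≠ zA) (hw3 : u * zd' * u⁻¹ ≠ u * zd * u⁻¹)
    (hw4 : u * zd' * u⁻¹ ≠ zA * (u * zd * u⁻¹))
    (hwS : u * zd' * u⁻¹ ∈ S₀) (hwA : ∀ a ∈ A, (u * zd' * u⁻¹) * a = a * (u * zd' * u⁻¹))
    (hkA : ∀ a ∈ A, (u * zd * u⁻¹) * a = a * (u * zd * u⁻¹))
    (hzK : ∀ b ∈ cj u Ad, zA * b = b * zA) : False := by
  have sK := sd.cj u
  have hAD : A ≤ S₀ ⊓ cj u S₀ := fun a ha =>
    Subgroup.mem_inf.mpr ⟨sA.le ha, (sK.mem a).mpr (hkA a ha).symm⟩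
  have hKD : cj u Ad ≤ S₀ ⊓ cj u S₀ := fun b hb =>
    Subgroup.mem_inf.mpr ⟨(sA.mem b).mpr (hzK b hb).symm, sK.le hb⟩
  obtain ⟨r1, r2, r3⟩ := pair_lemma h2 hr (S₀ ⊓ cj u S₀) A (cj u Ad) hAD hKD
    (fun d hd => sA.norm d (Subgroup.mem_inf.mp hd).1)
    (fun d hd => sK.norm d (Subgroup.mem_inf.mp hd).2) sA.nc sK.nc zA (u * zd * u⁻¹) sA.cg sK.cg
    hk_ne.symm
  have hwK : ∀ b ∈ cj u Ad, (u * zd' * u⁻¹) * b = b * (u * zd' * u⁻¹) := by
    intro b hb
    obtain ⟨a, ha, rfl⟩ := mem_cj.mp hb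
    rw [conj_mul_conj, conj_mul_conj, hd'c a ha]
  have hwm := r3 _ (Subgroup.mem_inf.mpr ⟨hwS, conj_mem_cj hd'S⟩) hwA hwK
  rcases central_cases A (cj u Ad) r2 zA _ sA.cg sK.cg _ hwm hwA hwK with e | e | e | e
  · exact hw1 e
  · exact hw2 e
  · exact hw3 e
  · exact hw4 e

theorem Pair.main' [Finite S] (h2 : IsPGroup 2 S) (hr : Cfsg.SectionalPRankLE 2 4 S)
    (h : Pair S₀ T A B zA zB) (u : S)
    (hu : u ∈ Subgroup.normalizer (T : Set S)) (huT : u ∉ T)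
    (h3A : ∀ a ∈ A, (u * zA * u⁻¹) * a = a * (u * zA * u⁻¹)) : False := by
  obtain ⟨h3S, -⟩ := h.lemB h2 u hu
  obtain ⟨h4S, -⟩ := h.symm.lemB h2 u hu
  obtain ⟨d31, d32, d33, d34⟩ := h.lemD u hu huT
  obtain ⟨d41, d42, d43, d44⟩ := h.symm.lemD u hu huT
  have hp := h.prod h2 u hu huT
  have h4A := h.lemQ h2 u hu huT A (h.sA.le.trans h.le) h3A
  have hne34 : u * zA * u⁻¹ ≠ u * zB * u⁻¹ := fun e => h.ne (conj_inj e)
  have hsq3 : (u * zA * u⁻¹) * (u * zA * u⁻¹) = 1 := by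
    rw [conj_mul_conj, h.sA.cg.mul_self]; group
  have hsq4 : (u * zB * u⁻¹) * (u * zB * u⁻¹) = 1 := by
    rw [conj_mul_conj, h.sB.cg.mul_self]; group
  have hzB1 : zB ≠ 1 := h.sB.cg.2.1
  obtain ⟨-, hA | hB⟩ := h.lemB h2 u⁻¹ (inv_mem hu)
  · have hzK : ∀ b ∈ cj u A, zA * b = b * zA := by
      intro b hb
      obtain ⟨a, ha, rfl⟩ := mem_cj.mp hb
      have := hA a ha
      rw [inv_inv] at this
      calc zA * (u * a * u⁻¹) = u * ((u⁻¹ * zA * u) * a) * u⁻¹ := by group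
        _ = u * (a * (u⁻¹ * zA * u)) * u⁻¹ := by rw [this]
        _ = u * a * u⁻¹ * zA := by group
    refine final h2 hr u h.sA h.sA (h.sB.le h.sB.cg.1)
      (fun a ha => (h.comm a ha zB h.sB.cg.1).symm) d32 d41 d43 hne34.symm ?_ h4S h4A h3A hzK
    intro e
    apply hzB1
    have e3 := h3A zA h.sA.cg.1
    have : zA * zB = zA * 1 := by
      rw [← hp, e, ← mul_assoc, e3, mul_assoc, hsq3]
    exact mul_left_cancel this
  · have hzK : ∀ b ∈ cj u B, zA * b = b * zA := by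
      intro b hb
      obtain ⟨a, ha, rfl⟩ := mem_cj.mp hb
      have := hB a ha
      rw [inv_inv] at this
      calc zA * (u * a * u⁻¹) = u * ((u⁻¹ * zA * u) * a) * u⁻¹ := by group
        _ = u * (a * (u⁻¹ * zA * u)) * u⁻¹ := by rw [this]
        _ = u * a * u⁻¹ * zA := by group
    refine final h2 hr u h.sA h.sB (h.sA.le h.sA.cg.1)
      (fun b hb => h.comm zA h.sA.cg.1 b hb) d43 d31 d32 hne34 ?_ h3S h3A h4A hzK
    intro e
    apply hzB1
    have : zA * zB = zA * 1 := by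
      rw [← hp, e, mul_assoc, hsq4]
    exact mul_left_cancel this

theorem Pair.main [Finite S] (h2 : IsPGroup 2 S) (hr : Cfsg.SectionalPRankLE 2 4 S)
    (h : Pair S₀ T A B zA zB) (u : S)
    (hu : u ∈ Subgroup.normalizer (T : Set S)) (huT : u ∉ T) : False := by
  obtain ⟨-, hA | hB⟩ := h.lemB h2 u hu
  · exact h.main' h2 hr u hu huT hA
  · exact h.symm.main' h2 hr u hu huT (h.lemQ h2 u hu huT B (h.sB.le.trans h.le) hB)

end Cfsg.Agent.Lib.Helper21.SecFour
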