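import Mathlib
import Cfsg.Prelude.Def_CaseTheorems
import Cfsg.Prelude.Def_OddOrderLocal
import Cfsg.Agent.Lib.Helper21.SecRank2
import Cfsg.Agent.Lib.Helper1.BurnsideBasis
import Cfsg.Agent.Lib.Helper1.Nilp

set_option autoImplicit false

universe u

namespace Cfsg.Agent.Lib.Helper21.SecRank3

open Cfsg.Agent.Lib.Helper21.SecRank2

/-- a group generated by two commuting elements is commutative -/
theorem commutative_of_gen {S : Type*} [Group S] {x y : S}
    (hgen : Subgroup.closure ({x, y} : Set S) = ⊤) (hxy : x * y = y * x) :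
    ∀ g h : S, g * h = h * g := by
  have h := Cfsg.Agent.Lib.Helper21.SecRank.closure_comm ({x, y} : Set S) (by
    rintro a (rfl | rfl) b (rfl | rfl)
    · rfl
    · exact hxy
    · exact hxy.symm
    · rfl)
  intro g k
  exact h g (by rw [hgen]; trivial) k (by rw [hgen]; trivial)

/-- a cyclic subgroup normalised by two generators is normal -/
theorem normal_zpowers_of_gen {S : Type*} [Group S] [Finite S] {x y w : S}
    (hgen : Subgroup.closure ({x, y} : Set S) = ⊤)
    (hx : x * w * x⁻¹ ∈ Subgroup.zpowers w) (hy : y * w * y⁻¹ ∈ Subgroup.zpowers w) :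
    (Subgroup.zpowers w).Normal := by
  have key : ∀ g ∈ Subgroup.closure ({x, y} : Set S), ∀ h ∈ Subgroup.zpowers w,
      g * h * g⁻¹ ∈ Subgroup.zpowers w := by
    intro g hg
    induction hg using Subgroup.closure_induction with
    | mem g hg =>
      intro h hh
      obtain ⟨i, rfl⟩ := Subgroup.mem_zpowers_iff.mp hh
      rw [← conj_zpow]
      rcases hg with rfl | rfl
      · exact zpow_mem hx i
      · exact zpow_mem hy i
    | one => intro h hh; simpa using hh
    | mul a b _ _ iha ihb =>
      intro h hh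
      have := iha _ (ihb h hh)
      have e : a * b * h * (a * b)⁻¹ = a * (b * h * b⁻¹) * a⁻¹ := by group
      rw [e]; exact this
    | inv a _ iha =>
      intro h hh
      -- conjugation by `a` is an injective self-map of the finite set `zpowers w`
      let f : Subgroup.zpowers w → Subgroup.zpowers w := fun t => ⟨a * t * a⁻¹, iha t t.2⟩
      have hinj : Function.Injective f := by
        intro s t hst
        have : a * (s : S) * a⁻¹ = a * (t : S) * a⁻¹ := congrArg Subtype.val hst
        apply Subtype.ext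
        simpa using this
      obtain ⟨t, ht⟩ := (Finite.injective_iff_surjective.mp hinj) ⟨h, hh⟩
      have ht' : a * (t : S) * a⁻¹ = h := congrArg Subtype.val ht
      have e : a⁻¹ * h * a⁻¹⁻¹ = (t : S) := by rw [← ht']; group
      rw [e]; exact t.2
  exact ⟨fun h hh g => key g (by rw [hgen]; trivial) h hh⟩

/-- two generators, the first generating a normal subgroup: metacyclic -/
theorem metacyclic_of_gen {S : Type u} [Group S] {x y : S}
    (hgen : Subgroup.closure ({x, y} : Set S) = ⊤) (hn : (Subgroup.zpowers x).Normal) :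
    Cfsg.IsMetacyclic S := by
  refine ⟨Subgroup.zpowers x, hn, inferInstance, ?_⟩
  refine ⟨⟨QuotientGroup.mk y, fun q => ?_⟩⟩
  obtain ⟨g, rfl⟩ := QuotientGroup.mk_surjective q
  have hle : Subgroup.closure ({x, y} : Set S) ≤
      (Subgroup.zpowers (QuotientGroup.mk y : S ⧸ Subgroup.zpowers x)).comap
        (QuotientGroup.mk' (Subgroup.zpowers x)) := by
    rw [Subgroup.closure_le]
    rintro a (rfl | rfl)
    · show QuotientGroup.mk' (Subgroup.zpowers a) a ∈
        Subgroup.zpowers (QuotientGroup.mk y : S ⧸ Subgroup.zpowers a)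
      have : QuotientGroup.mk' (Subgroup.zpowers a) a = 1 :=
        (QuotientGroup.eq_one_iff a).mpr (Subgroup.mem_zpowers a)
      rw [this]; exact one_mem _
    · exact Subgroup.mem_zpowers _
  have := hle (by rw [hgen]; trivial : g ∈ Subgroup.closure ({x, y} : Set S))
  exact this

/-- replacing a generator `x` by `x * w` with `w` a power of the other generator -/
theorem closure_pair_mul {S : Type*} [Group S] {x y w : S}
    (hgen : Subgroup.closure ({x, y} : Set S) = ⊤) (hw : w ∈ Subgroup.zpowers y) :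
    Subgroup.closure ({x * w, y} : Set S) = ⊤ := by
  rw [eq_top_iff, ← hgen, Subgroup.closure_le]
  have hy : y ∈ Subgroup.closure ({x * w, y} : Set S) := Subgroup.subset_closure (by simp)
  have hw' : w ∈ Subgroup.closure ({x * w, y} : Set S) := by
    have : Subgroup.zpowers y ≤ Subgroup.closure ({x * w, y} : Set S) := by
      rw [Subgroup.zpowers_le]; exact hy
    exact this hw
  have hxw : x * w ∈ Subgroup.closure ({x * w, y} : Set S) := Subgroup.subset_closure (by simp)
  rintro a (rfl | rfl)
  · have := mul_mem hxw (inv_mem hw')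
    simpa using this
  · exact hy

/-- a `2`-group with Frattini index at most `4` is generated by two elements -/
theorem exists_gen_pair {S : Type*} [Group S] [Finite S] (hS : IsPGroup 2 S)
    (hidx : (frattini S).index ≤ 4) : ∃ x y : S, Subgroup.closure ({x, y} : Set S) = ⊤ := by
  haveI : Fact (Nat.Prime 2) := ⟨Nat.prime_two⟩
  by_cases h1 : ∃ x : S, x ∉ frattini S
  · obtain ⟨x, hx⟩ := h1
    by_cases h2 : ∃ y : S, y ∉ frattini S ⊔ Subgroup.zpowers x
    · obtain ⟨y, hy⟩ := h2
      refine ⟨x, y, ?_⟩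
      apply frattini_nongenerating
      have c1 := Cfsg.Agent.Lib.Helper1.card_sup_zpowers_of_not_mem hS (frattini S) le_rfl x hx
      have c2 := Cfsg.Agent.Lib.Helper1.card_sup_zpowers_of_not_mem hS
        (frattini S ⊔ Subgroup.zpowers x) le_sup_left y hy
      have c3 : Nat.card (frattini S) * (frattini S).index = Nat.card S :=
        Subgroup.card_mul_index _
      have e : Subgroup.closure ({x, y} : Set S) ⊔ frattini S =
          frattini S ⊔ Subgroup.zpowers x ⊔ Subgroup.zpowers y := by
        rw [Set.insert_eq, Subgroup.closure_union, ← Subgroup.zpowers_eq_closure,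
          ← Subgroup.zpowers_eq_closure, sup_comm, sup_assoc]
      rw [e]
      apply Subgroup.eq_top_of_le_card
      rw [c2, c1, ← c3]
      nlinarith
    · refine ⟨x, x, ?_⟩
      apply frattini_nongenerating
      rw [Set.pair_eq_singleton, ← Subgroup.zpowers_eq_closure, sup_comm, eq_top_iff]
      intro y _
      by_contra hy
      exact h2 ⟨y, hy⟩
  · refine ⟨1, 1, ?_⟩
    apply frattini_nongenerating
    rw [eq_top_iff]
    intro y _
    by_contra hy
    exact h1 ⟨y, fun h => hy ((le_sup_right : frattini S ≤ _) h)⟩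

/-- sectional rank `≤ 2` bounds the Frattini index of a `2`-group -/
theorem frattini_index_le {S : Type*} [Group S] [Finite S] (hS : IsPGroup 2 S) (hSR : SR 2 2 S) :
    (frattini S).index ≤ 4 := by
  haveI : Fact (Nat.Prime 2) := ⟨Nat.prime_two⟩
  have hn : (frattini S).Normal := inferInstance
  have := hSR ⊤ (frattini S) le_top (fun h _ n hn' => hn.conj_mem n hn' h)
    (fun x _ y _ => by
      apply Cfsg.Agent.Lib.Helper1.pgroup_commutator_le_frattini hS
      have := Subgroup.commutator_mem_commutator (Subgroup.mem_top x) (Subgroup.mem_top y)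
      rwa [commutatorElement_def] at this)
    (fun x _ => Cfsg.Agent.Lib.Helper1.pgroup_pow_mem_frattini hS x)
  rwa [Subgroup.relIndex_top_right] at this


/-- the inductive step: a central involution `z` of `S'` with `S / ⟨z⟩` metacyclic -/
theorem reduction {S : Type u} [Group S] [Finite S] (hS : IsPGroup 2 S) (z : S) (hz2 : z * z = 1)
    (hzc : ∀ g : S, g * z = z * g) (hzS : z ∈ commutator S)
    (hn : (Subgroup.zpowers z).Normal) (hq : Cfsg.IsMetacyclic (S ⧸ Subgroup.zpowers z)) :
    Cfsg.IsMetacyclic S ∨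
      (commutator S ≤ Subgroup.zpowers z ∧ ∃ x y : S, Subgroup.closure ({x, y} : Set S) = ⊤) := by
  haveI : Fact (Nat.Prime 2) := ⟨Nat.prime_two⟩
  obtain ⟨N, hNn, hNc, hQc⟩ := hq
  obtain ⟨⟨xb, hxb⟩, hxgen⟩ := hNc.exists_generator
  obtain ⟨x, rfl⟩ := QuotientGroup.mk_surjective xb
  obtain ⟨qb, hqgen⟩ := hQc.exists_generator
  obtain ⟨yb, rfl⟩ := QuotientGroup.mk_surjective qb
  obtain ⟨y, rfl⟩ := QuotientGroup.mk_surjective yb
  have hzinv : z⁻¹ = z := inv_eq_of_mul_eq_one_left hz2
  -- every element of N is the image of a power of x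
  have hN : ∀ q ∈ N, ∃ i : ℤ, q = QuotientGroup.mk (x ^ i) := by
    intro q hq
    obtain ⟨i, hi⟩ := Subgroup.mem_zpowers_iff.mp (hxgen ⟨q, hq⟩)
    refine ⟨i, ?_⟩
    have := congrArg Subtype.val hi
    rw [QuotientGroup.mk_zpow]
    simpa using this.symm
  -- generation
  have hgen : Subgroup.closure ({x, y} : Set S) = ⊤ := by
    apply frattini_nongenerating
    rw [eq_top_iff]
    intro g _
    obtain ⟨i, hi⟩ := Subgroup.mem_zpowers_iff.mp (hqgen (QuotientGroup.mk (QuotientGroup.mk g)))
    rw [← QuotientGroup.mk_zpow, ← QuotientGroup.mk_zpow] at hi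
    have h1 := QuotientGroup.eq.mp hi
    obtain ⟨j, hj⟩ := hN _ h1
    rw [← QuotientGroup.mk_inv, ← QuotientGroup.mk_mul] at hj
    have h2 := QuotientGroup.eq.mp hj
    have hx' : x ∈ Subgroup.closure ({x, y} : Set S) := Subgroup.subset_closure (by simp)
    have hy' : y ∈ Subgroup.closure ({x, y} : Set S) := Subgroup.subset_closure (by simp)
    have hr : ((y ^ i)⁻¹ * g)⁻¹ * x ^ j ∈ frattini S :=
      Cfsg.Agent.Lib.Helper1.pgroup_commutator_le_frattini hS
        ((Subgroup.zpowers_le.mpr hzS) h2)
    have e : g = (y ^ i * x ^ j) * (((y ^ i)⁻¹ * g)⁻¹ * x ^ j)⁻¹ := by group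
    rw [e]
    exact Subgroup.mul_mem_sup (mul_mem (zpow_mem hy' i) (zpow_mem hx' j)) (inv_mem hr)
  -- conjugation
  have hconj : ∃ k : ℤ, y * x * y⁻¹ = x ^ k ∨ y * x * y⁻¹ = x ^ k * z := by
    have h1 := hNn.conj_mem _ hxb (QuotientGroup.mk y)
    obtain ⟨k, hk⟩ := hN _ h1
    refine ⟨k, ?_⟩
    rw [← QuotientGroup.mk_inv, ← QuotientGroup.mk_mul, ← QuotientGroup.mk_mul] at hk
    have h2 := QuotientGroup.eq.mp hk
    rcases mem_zpowers_of_sq hz2 h2 with h3 | h3
    · left
      have : y * x * y⁻¹ = (y * x * y⁻¹) * ((y * x * y⁻¹)⁻¹ * x ^ k) := by rw [h3, mul_one]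
      rw [this]; group
    · right
      have : y * x * y⁻¹ = (y * x * y⁻¹) * ((y * x * y⁻¹)⁻¹ * x ^ k) * z⁻¹ := by
        rw [h3, hzinv, mul_assoc _ z z, hz2, mul_one]
      rw [this, hzinv]; group
  have hxx : x * x * x⁻¹ ∈ Subgroup.zpowers x := by
    rw [mul_inv_cancel_right]; exact Subgroup.mem_zpowers x
  obtain ⟨k, hk⟩ := hconj
  by_cases hyx : y * x * y⁻¹ ∈ Subgroup.zpowers x
  · left
    exact metacyclic_of_gen hgen (normal_zpowers_of_gen hgen hxx hyx)
  have hk' : y * x * y⁻¹ = x ^ k * z := by
    rcases hk with h | h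
    · exfalso; apply hyx; rw [h]; exact zpow_mem (Subgroup.mem_zpowers x) k
    · exact h
  have hzx : z ∉ Subgroup.zpowers x := by
    intro h
    apply hyx; rw [hk']
    exact mul_mem (zpow_mem (Subgroup.mem_zpowers x) k) h
  right
  -- the commutator
  have hcxz : ∀ i : ℤ, Commute (x ^ i) z := fun i => hzc (x ^ i)
  set w : S := x ^ (k - 1) * z with hw
  have hwx : x * w * x⁻¹ = w := by
    rw [hw]
    have h1 : z * x⁻¹ = x⁻¹ * z := (hzc x⁻¹).symm
    calc x * (x ^ (k - 1) * z) * x⁻¹ = x * x ^ (k - 1) * (z * x⁻¹) := by group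
      _ = x * x ^ (k - 1) * (x⁻¹ * z) := by rw [h1]
      _ = x ^ (k - 1) * z := by group
  have hwy : y * w * y⁻¹ = w ^ k := by
    rw [hw, (hcxz (k - 1)).mul_zpow]
    have h1 : y * (x ^ (k - 1) * z) * y⁻¹ = (y * x * y⁻¹) ^ (k - 1) * (y * z * y⁻¹) := by
      rw [conj_zpow]; group
    have h2 : y * z * y⁻¹ = z := by rw [hzc y, mul_inv_cancel_right]
    rw [h1, h2, hk', (hcxz k).mul_zpow, ← zpow_mul, ← zpow_mul, mul_assoc]
    have h3 : z ^ (k - 1) * z = z ^ k := by
      rw [← zpow_add_one]; congr 1; ring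
    rw [h3]
    congr 2
    ring
  have hwn : (Subgroup.zpowers w).Normal :=
    normal_zpowers_of_gen hgen (by rw [hwx]; exact Subgroup.mem_zpowers w)
      (by rw [hwy]; exact zpow_mem (Subgroup.mem_zpowers w) k)
  have hyxw : y * x = w * (x * y) := by
    have : y * x = (y * x * y⁻¹) * y := by group
    rw [this, hk', hw]
    have h1 : z * y = y * z := (hzc y).symm
    have h2 : z * (x * y) = (x * y) * z := (hzc (x * y)).symm
    calc x ^ k * z * y = x ^ k * (z * y) := by group
      _ = x ^ k * (y * z) := by rw [h1]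
      _ = x ^ (k - 1) * ((x * y) * z) := by group
      _ = x ^ (k - 1) * (z * (x * y)) := by rw [h2]
      _ = x ^ (k - 1) * z * (x * y) := by group
  have hcomq : ∀ a b : S ⧸ Subgroup.zpowers w, a * b = b * a := by
    apply commutative_of_gen (x := (QuotientGroup.mk x : S ⧸ Subgroup.zpowers w))
      (y := (QuotientGroup.mk y : S ⧸ Subgroup.zpowers w))
    · have := congrArg (Subgroup.map (QuotientGroup.mk' (Subgroup.zpowers w))) hgen
      rw [MonoidHom.map_closure, Set.image_pair, ← MonoidHom.range_eq_map,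
        MonoidHom.range_eq_top.mpr (QuotientGroup.mk'_surjective _)] at this
      exact this
    · have e1 : (QuotientGroup.mk (y * x) : S ⧸ Subgroup.zpowers w) = QuotientGroup.mk (x * y) := by
        rw [hyxw, QuotientGroup.mk_mul, (QuotientGroup.eq_one_iff w).mpr (Subgroup.mem_zpowers w),
          one_mul]
      rw [← QuotientGroup.mk_mul, ← QuotientGroup.mk_mul]; exact e1.symm
  have hle : commutator S ≤ Subgroup.zpowers w :=
    (Subgroup.Normal.quotient_commutative_iff_commutator_le).mp ⟨⟨hcomq⟩⟩
  obtain ⟨j, hj⟩ := Subgroup.mem_zpowers_iff.mp (hle hzS)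
  rw [hw, (hcxz (k - 1)).mul_zpow] at hj
  have hz2' : z ^ (2 : ℤ) = 1 := by rw [zpow_ofNat, pow_two]; exact hz2
  rcases Int.even_or_odd' j with ⟨m, rfl | rfl⟩
  · exfalso
    rw [zpow_mul z, hz2', one_zpow, mul_one] at hj
    apply hzx
    rw [← hj, ← zpow_mul]
    exact zpow_mem (Subgroup.mem_zpowers x) _
  · rw [zpow_add z, zpow_mul z, hz2', one_zpow, one_mul, zpow_one, mul_eq_right] at hj
    have h1 : ((orderOf (x ^ (k - 1)) : ℕ) : ℤ) ∣ 2 * m + 1 := orderOf_dvd_iff_zpow_eq_one.mpr hj
    obtain ⟨e, he⟩ := (IsPGroup.iff_orderOf.mp hS) (x ^ (k - 1))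
    have h2 : x ^ (k - 1) = 1 := by
      rcases e with _ | e
      · rw [pow_zero] at he
        exact orderOf_eq_one_iff.mp he
      · exfalso
        rw [he, pow_succ] at h1
        have : (2 : ℤ) ∣ 2 * m + 1 := Dvd.dvd.trans ⟨2 ^ e, by push_cast; ring⟩ h1
        omega
    refine ⟨?_, x, y, hgen⟩
    rw [hw, h2, one_mul] at hle
    exact hle


/-- commuting involutions `a, b ∉ {1, z}` in a group without `E₈`: `a = b` or `a * b = z` -/
theorem rank_rel {S : Type*} [Group S] [Finite S] (hSR : SR 2 2 S) (z : S) (hz2 : z * z = 1)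
    (hz1 : z ≠ 1) (hzc : ∀ g : S, g * z = z * g) (a b : S) (ha : a * a = 1) (hb : b * b = 1)
    (hab : a * b = b * a) (ha1 : a ≠ 1) (haz : a ≠ z) (hb1 : b ≠ 1) (hbz : b ≠ z) :
    a = b ∨ a * b = z := by
  classical
  by_contra hcon
  rw [not_or] at hcon
  obtain ⟨hne, hne'⟩ := hcon
  set E : Subgroup S := Subgroup.closure ({a, b, z} : Set S) with hE
  have hEc : ∀ g ∈ E, ∀ h ∈ E, g * h = h * g := by
    apply Cfsg.Agent.Lib.Helper21.SecRank.closure_comm
    rintro g (rfl | rfl | rfl) h (rfl | rfl | rfl)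
    · rfl
    · exact hab
    · exact hzc _
    · exact hab.symm
    · rfl
    · exact hzc _
    · exact (hzc _).symm
    · exact (hzc _).symm
    · rfl
  have hEsq : ∀ g ∈ E, g ^ 2 = 1 := by
    intro g hg
    induction hg using Subgroup.closure_induction with
    | mem g hg =>
      rw [pow_two]
      rcases hg with rfl | rfl | rfl
      · exact ha
      · exact hb
      · exact hz2
    | one => simp
    | mul g h hg hh ihg ihh =>
      have := hEc g hg h hh
      rw [(show Commute g h from this).mul_pow, ihg, ihh, mul_one]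
    | inv g _ ih => rw [inv_pow, ih, inv_one]
  have hcard := hSR E ⊥ bot_le (fun h _ n hn => by
      rw [Subgroup.mem_bot] at hn ⊢; rw [hn]; group)
    (fun g hg h hh => by
      rw [Subgroup.mem_bot, hEc g hg h hh]; group)
    (fun g hg => by rw [Subgroup.mem_bot]; exact hEsq g hg)
  rw [Subgroup.relIndex_bot_left] at hcard
  have haE : a ∈ E := Subgroup.subset_closure (by simp)
  have hbE : b ∈ E := Subgroup.subset_closure (by simp)
  have hzE : z ∈ E := Subgroup.subset_closure (by simp)
  have hzinv : z⁻¹ = z := inv_eq_of_mul_eq_one_left hz2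
  have hT : ({1, a, z, a * z, b} : Finset S).card = 5 := by
    rw [Finset.card_insert_of_notMem, Finset.card_insert_of_notMem, Finset.card_insert_of_notMem,
      Finset.card_insert_of_notMem, Finset.card_singleton]
    · simp only [Finset.mem_singleton]
      intro h
      apply hne'
      rw [← h, ← mul_assoc, ha, one_mul]
    · simp only [Finset.mem_insert, Finset.mem_singleton, not_or]
      refine ⟨fun h => ha1 ?_, fun h => hbz h.symm⟩
      have : a * z = 1 * z := by rw [one_mul]; exact h.symm
      exact mul_right_cancel this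
    · simp only [Finset.mem_insert, Finset.mem_singleton, not_or]
      refine ⟨haz, fun h => hz1 ?_, hne⟩
      have : a * z = a * 1 := by rw [mul_one]; exact h.symm
      exact mul_left_cancel this
    · simp only [Finset.mem_insert, Finset.mem_singleton, not_or]
      refine ⟨fun h => ha1 h.symm, fun h => hz1 h.symm, fun h => haz ?_, fun h => hb1 h.symm⟩
      rw [← hzinv]
      exact eq_inv_of_mul_eq_one_left h.symm
  have hsub : (({1, a, z, a * z, b} : Finset S) : Set S) ⊆ (E : Set S) := by
    intro g hg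
    simp only [Finset.coe_insert, Finset.coe_singleton, Set.mem_insert_iff,
      Set.mem_singleton_iff] at hg
    rcases hg with rfl | rfl | rfl | rfl | rfl
    · exact one_mem E
    · exact haE
    · exact hzE
    · exact mul_mem haE hzE
    · exact hbE
  have h5 := Set.ncard_le_ncard hsub (Set.toFinite _)
  rw [Set.ncard_coe_finset, hT] at h5
  have h6 : Nat.card E = (E : Set S).ncard := Nat.card_coe_set_eq (E : Set S)
  rw [h6] at hcard
  omega

theorem pow_pair {S : Type*} [Group S] (z : S) (hz2 : z * z = 1) (n : ℕ) :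
    z ^ n = 1 ∨ z ^ n = z := by
  induction n with
  | zero => left; simp
  | succ n ih =>
    rcases ih with h | h
    · right; rw [pow_succ, h, one_mul]
    · left; rw [pow_succ, h, hz2]

theorem pow_formula {S : Type*} [Group S]
    (hsq : ∀ g h : S, (g * g) * h = h * (g * g)) (x w e : S) (he : w * x = x * w * e)
    (hec : ∀ g : S, g * e = e * g) (n : ℕ) :
    (x * w) ^ (2 * n) = (x * x) ^ n * (w * w) ^ n * e ^ n := by
  have h2 : (x * w) * (x * w) = (x * x) * (w * w) * e := by
    calc (x * w) * (x * w) = x * (w * x) * w := by group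
      _ = x * (x * w * e) * w := by rw [he]
      _ = x * x * w * (e * w) := by group
      _ = x * x * w * (w * e) := by rw [hec w]
      _ = (x * x) * (w * w) * e := by group
  rw [pow_mul, pow_two, h2]
  have c1 : Commute ((x * x) * (w * w)) e := hec _
  have c2 : Commute (x * x) (w * w) := hsq x (w * w)
  rw [c1.mul_pow, c2.mul_pow]

/-- the case `S' = ⟨z⟩` of order two -/
theorem final_case {S : Type*} [Group S] [Finite S] (hS : IsPGroup 2 S) (z : S) (hz2 : z * z = 1)
    (hzc : ∀ g : S, g * z = z * g)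
    (hcomm : ∀ g h : S, g * h * g⁻¹ * h⁻¹ = 1 ∨ g * h * g⁻¹ * h⁻¹ = z)
    (hna : ∃ g h : S, g * h ≠ h * g) (hgen : ∃ x y : S, Subgroup.closure ({x, y} : Set S) = ⊤)
    (hrank : ∀ a b : S, a * a = 1 → b * b = 1 → a * b = b * a → a ≠ 1 → a ≠ z → b ≠ 1 → b ≠ z →
        a = b ∨ a * b = z) :
    ∃ u v : S, Subgroup.closure ({u, v} : Set S) = ⊤ ∧ z ∈ Subgroup.zpowers u := by
  classical
  by_contra H
  have H' : ∀ u v : S, Subgroup.closure ({u, v} : Set S) = ⊤ → z ∉ Subgroup.zpowers u :=
    fun u v h hz => H ⟨u, v, h, hz⟩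
  have hex : ∃ n : ℕ, ∃ x y : S, Subgroup.closure ({x, y} : Set S) = ⊤ ∧ orderOf x = n := by
    obtain ⟨x, y, h⟩ := hgen; exact ⟨_, x, y, h, rfl⟩
  obtain ⟨x, y, hxy, hox⟩ := Nat.find_spec hex
  have hmin : ∀ u v : S, Subgroup.closure ({u, v} : Set S) = ⊤ → orderOf x ≤ orderOf u := by
    intro u v h
    rw [hox]; exact Nat.find_min' hex ⟨u, v, h, rfl⟩
  have hyx : Subgroup.closure ({y, x} : Set S) = ⊤ := by rw [Set.pair_comm]; exact hxy
  have hxyne : x * y ≠ y * x := by
    intro h; obtain ⟨g, k, hgk⟩ := hna; exact hgk (commutative_of_gen hxy h g k)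
  -- squares are central
  have hsq : ∀ g h : S, (g * g) * h = h * (g * g) := by
    intro g h
    obtain ⟨e, he, hee, hec⟩ : ∃ e : S, h * g = e * g * h ∧ e * e = 1 ∧ ∀ t : S, t * e = e * t := by
      rcases hcomm h g with h1 | h1
      · refine ⟨1, ?_, by simp, by simp⟩
        have : h * g = (h * g * h⁻¹ * g⁻¹) * g * h := by group
        rw [this, h1]
      · refine ⟨z, ?_, hz2, hzc⟩
        have : h * g = (h * g * h⁻¹ * g⁻¹) * g * h := by group
        rw [this, h1]
    calc g * g * h = (e * e) * (g * g * h) := by rw [hee, one_mul]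
      _ = e * ((e * g) * g * h) := by group
      _ = e * ((g * e) * g * h) := by rw [hec g]
      _ = (e * g) * ((e * g) * h) := by group
      _ = (e * g) * (e * g * h) := by group
      _ = (e * g) * (h * g) := by rw [he]
      _ = (e * g * h) * g := by group
      _ = (h * g) * g := by rw [he]
      _ = h * (g * g) := by group
  have hsqpow : ∀ (g h : S) (n : ℕ), Commute ((g * g) ^ n) h := fun g h n =>
    (show Commute (g * g) h from hsq g h).pow_left n
  obtain ⟨k, hk⟩ := (IsPGroup.iff_orderOf.mp hS) x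
  obtain ⟨l, hl⟩ := (IsPGroup.iff_orderOf.mp hS) y
  have hkl : k ≤ l := by
    have := hmin y x hyx
    rw [hk, hl] at this
    exact (Nat.pow_le_pow_iff_right (by norm_num)).mp this
  have hx1 : x ≠ 1 := by
    intro h; apply hxyne; rw [h, one_mul, mul_one]
  rcases k with _ | _ | k
  · exfalso
    rw [pow_zero, orderOf_eq_one_iff] at hk
    exact hx1 hk
  · -- x is an involution
    rw [zero_add, pow_one] at hk
    have hxx : x * x = 1 := by rw [← pow_two, ← hk]; exact pow_orderOf_eq_one x
    have hxz : x ≠ z := fun h => H' x y hxy (h ▸ Subgroup.mem_zpowers x)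
    rcases l with _ | _ | l
    · omega
    · rw [zero_add, pow_one] at hl
      have hyy : y * y = 1 := by rw [← pow_two, ← hl]; exact pow_orderOf_eq_one y
      have hxinv : x⁻¹ = x := inv_eq_of_mul_eq_one_left hxx
      have hyinv : y⁻¹ = y := inv_eq_of_mul_eq_one_left hyy
      have h1 : (x * y) ^ 2 = x * y * x⁻¹ * y⁻¹ := by
        rw [pow_two, hxinv, hyinv]; group
      have hclo := closure_pair_mul hxy (Subgroup.mem_zpowers y)
      rcases hcomm x y with h2 | h2
      · apply hxyne
        have : x * y = (x * y * x⁻¹ * y⁻¹) * y * x := by group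
        rw [this, h2, one_mul]
      · apply H' (x * y) y hclo
        rw [← h2, ← h1]
        exact pow_mem (Subgroup.mem_zpowers _) 2
    · set b : S := y ^ (2 ^ (l + 1)) with hb
      have hbb : b * b = 1 := by
        rw [hb, ← pow_add, ← two_mul, ← pow_succ', ← hl]; exact pow_orderOf_eq_one y
      have hb1 : b ≠ 1 := by
        apply pow_ne_one_of_lt_orderOf (by positivity)
        rw [hl]; exact Nat.pow_lt_pow_right (by norm_num) (by omega)
      have hbz : b ≠ z := fun h =>
        H' y x hyx (h ▸ pow_mem (Subgroup.mem_zpowers y) _)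
      have hby : Commute b y := (Commute.refl y).pow_left _
      have hbc : ∀ h : S, Commute b h := by
        intro h
        have : b = (y * y) ^ (2 ^ l) := by
          rw [hb, ← pow_two, ← pow_mul, ← pow_succ']
        rw [this]; exact hsqpow y h _
      exfalso
      apply hxyne
      rcases hrank x b hxx hbb (hbc x).symm.eq hx1 hxz hb1 hbz with h | h
      · rw [h]; exact hby.eq
      · have hx : x = z * b⁻¹ := by rw [← h, mul_inv_cancel_right]
        rw [hx]
        exact (Commute.mul_left (hzc y).symm hby.inv_left).eq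
  · -- order at least 4
    obtain ⟨d, rfl⟩ : ∃ d, l = k + 2 + d := ⟨l - (k + 2), by omega⟩
    set a : S := x ^ (2 ^ (k + 1)) with ha
    set b : S := y ^ (2 ^ (k + 1 + d)) with hb
    set w : S := y ^ (2 ^ d) with hw
    have haa : a * a = 1 := by
      rw [ha, ← pow_add, ← two_mul, ← pow_succ', ← hk]; exact pow_orderOf_eq_one x
    have hbb : b * b = 1 := by
      rw [hb, ← pow_add, ← two_mul, ← pow_succ']
      have : k + 1 + d + 1 = k + 2 + d := by ring
      rw [this, ← hl]; exact pow_orderOf_eq_one y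
    have ha1 : a ≠ 1 := by
      apply pow_ne_one_of_lt_orderOf (by positivity)
      rw [hk]; exact Nat.pow_lt_pow_right (by norm_num) (by omega)
    have hb1 : b ≠ 1 := by
      apply pow_ne_one_of_lt_orderOf (by positivity)
      rw [hl]; exact Nat.pow_lt_pow_right (by norm_num) (by omega)
    have haz : a ≠ z := fun h =>
      H' x y hxy (h ▸ pow_mem (Subgroup.mem_zpowers x) _)
    have hbz : b ≠ z := fun h =>
      H' y x hyx (h ▸ pow_mem (Subgroup.mem_zpowers y) _)
    have hax : a = (x * x) ^ (2 ^ k) := by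
      rw [ha, ← pow_two, ← pow_mul, ← pow_succ']
    have hbw : b = (w * w) ^ (2 ^ k) := by
      rw [hb, hw, ← pow_two, ← pow_mul, ← pow_mul]
      congr 1; ring
    have hac : ∀ h : S, Commute a h := by
      intro h; rw [hax]; exact hsqpow x h _
    have hab : a * b = 1 ∨ a * b = z := by
      rcases hrank a b haa hbb (hac b).eq ha1 haz hb1 hbz with h | h
      · left; rw [← h]; exact haa
      · right; exact h
    -- the commutator of w and x
    obtain ⟨e, he, hez, hec⟩ : ∃ e : S, w * x = x * w * e ∧ (e = 1 ∨ e = z) ∧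
        ∀ t : S, t * e = e * t := by
      refine ⟨w⁻¹ * x⁻¹ * w⁻¹⁻¹ * x⁻¹⁻¹, by group, hcomm w⁻¹ x⁻¹, ?_⟩
      rcases hcomm w⁻¹ x⁻¹ with h | h
      · rw [h]; simp
      · rw [h]; exact hzc
    have hform := pow_formula hsq x w e he hec (2 ^ k)
    rw [← hax, ← hbw, ← pow_succ'] at hform
    have hen : e ^ (2 ^ k) = 1 ∨ e ^ (2 ^ k) = z := by
      rcases hez with h | h
      · left; rw [h, one_pow]
      · rw [h]; exact pow_pair z hz2 _
    have hu : (x * w) ^ (2 ^ (k + 1)) = 1 ∨ (x * w) ^ (2 ^ (k + 1)) = z := by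
      rw [hform]
      rcases hab with h1 | h1 <;> rcases hen with h2 | h2 <;> rw [h1, h2]
      · left; simp
      · right; simp
      · right; simp
      · left; exact hz2
    have hclo := closure_pair_mul (w := w) hxy (pow_mem (Subgroup.mem_zpowers y) _)
    rcases hu with h | h
    · have h1 : orderOf (x * w) ∣ 2 ^ (k + 1) := orderOf_dvd_of_pow_eq_one h
      have h2 := Nat.le_of_dvd (by positivity) h1
      have h3 := hmin _ _ hclo
      rw [hk] at h3
      have h4 : 2 ^ (k + 1) < 2 ^ (k + 1 + 1) := Nat.pow_lt_pow_right (by norm_num) (by omega)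
      omega
    · apply H' _ _ hclo
      rw [← h]
      exact pow_mem (Subgroup.mem_zpowers _) _


/-- a `2`-group of sectional rank at most `2` is metacyclic -/
theorem metacyclic_of_SR : ∀ (n : ℕ) (S : Type u) [Group S] [Finite S], Nat.card S = n →
    IsPGroup 2 S → SR 2 2 S → Cfsg.IsMetacyclic S := by
  intro n
  induction n using Nat.strong_induction_on with
  | _ n ih =>
  intro S _ _ hcard hS hSR
  haveI : Fact (Nat.Prime 2) := ⟨Nat.prime_two⟩
  have hidx := frattini_index_le hS hSR
  obtain ⟨x₀, y₀, hgen₀⟩ := exists_gen_pair hS hidx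
  by_cases hab : ∀ g h : S, g * h = h * g
  · have hn : (Subgroup.zpowers x₀).Normal :=
      ⟨fun h hh g => by rw [hab g h, mul_inv_cancel_right]; exact hh⟩
    exact metacyclic_of_gen hgen₀ hn
  · have hna : ∃ g h : S, g * h ≠ h * g := by
      by_contra hcon
      apply hab
      intro g h
      by_contra hgh
      exact hcon ⟨g, h, hgh⟩
    haveI : Group.IsNilpotent S := hS.isNilpotent
    have hcm : ∀ g k : S, g * k * g⁻¹ * k⁻¹ ∈ commutator S := by
      intro g k
      have := Subgroup.commutator_mem_commutator (Subgroup.mem_top g) (Subgroup.mem_top k)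
      rwa [commutatorElement_def] at this
    have hc : commutator S ≠ ⊥ := by
      intro h
      apply hab
      intro g k
      have := hcm g k
      rw [h, Subgroup.mem_bot] at this
      have e : g * k = (g * k * g⁻¹ * k⁻¹) * k * g := by group
      rw [e, this, one_mul]
    have hne := Cfsg.Agent.Lib.Helper1.normal_inf_center_ne_bot (commutator S) hc
    haveI hKnt : Nontrivial ↥(commutator S ⊓ Subgroup.center S) :=
      (Subgroup.nontrivial_iff_ne_bot _).mpr hne
    have h2dvd : 2 ∣ Nat.card ↥(commutator S ⊓ Subgroup.center S) := by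
      rcases (hS.to_subgroup (commutator S ⊓ Subgroup.center S)).card_eq_or_dvd with h | h
      · exfalso
        have := Finite.one_lt_card (α := ↥(commutator S ⊓ Subgroup.center S))
        omega
      · exact h
    obtain ⟨⟨z, hzK⟩, hzo⟩ := exists_prime_orderOf_dvd_card' 2 h2dvd
    rw [Subgroup.orderOf_mk] at hzo
    have hz2 : z * z = 1 := by rw [← pow_two, ← hzo]; exact pow_orderOf_eq_one z
    have hz1 : z ≠ 1 := by
      intro h; rw [h, orderOf_one] at hzo; omega
    have hzc : ∀ g : S, g * z = z * g := Subgroup.mem_center_iff.mp (Subgroup.mem_inf.mp hzK).2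
    have hzS : z ∈ commutator S := (Subgroup.mem_inf.mp hzK).1
    haveI hn : (Subgroup.zpowers z).Normal := by
      refine ⟨fun h hh g => ?_⟩
      obtain ⟨i, rfl⟩ := Subgroup.mem_zpowers_iff.mp hh
      have : g * z ^ i = z ^ i * g := (Commute.zpow_right (hzc g) i).eq
      rw [this, mul_inv_cancel_right]
      exact zpow_mem (Subgroup.mem_zpowers z) i
    have hcq : Nat.card S = Nat.card (S ⧸ Subgroup.zpowers z) * Nat.card (Subgroup.zpowers z) :=
      Subgroup.card_eq_card_quotient_mul_card_subgroup _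
    rw [Nat.card_zpowers, hzo] at hcq
    have hlt : Nat.card (S ⧸ Subgroup.zpowers z) < n := by
      have : 0 < Nat.card S := Nat.card_pos
      omega
    have hq := ih _ hlt (S ⧸ Subgroup.zpowers z) rfl (hS.to_quotient _) (hSR.quotient _)
    rcases reduction hS z hz2 hzc hzS hn hq with hm | ⟨hle, x, y, hgen⟩
    · exact hm
    · have hcomm : ∀ g h : S, g * h * g⁻¹ * h⁻¹ = 1 ∨ g * h * g⁻¹ * h⁻¹ = z :=
        fun g h => mem_zpowers_of_sq hz2 (hle (hcm g h))
      obtain ⟨u, v, huv, hzu⟩ := final_case hS z hz2 hzc hcomm hna ⟨x, y, hgen⟩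
        (rank_rel hSR z hz2 hz1 hzc)
      have hun : (Subgroup.zpowers u).Normal :=
        Subgroup.Normal.of_commutator_le S (hle.trans (Subgroup.zpowers_le.mpr hzu))
      exact metacyclic_of_gen huv hun

end Cfsg.Agent.Lib.Helper21.SecRank3
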