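import Mathlib
import Cfsg.Agent.Lib.Helper18.SpE.Defs

set_option autoImplicit false
set_option linter.unusedSectionVars false
set_option linter.unusedVariables false

/-! Project SpE (S2333), piece D2: small trace / quadratic form identities. -/

namespace Cfsg.Agent.Lib.Helper21.SpED2

open Matrix Cfsg.Agent.Lib.Helper18.SpE

section D

variable {F : Type*} [Field F] [Fintype F] {n : ℕ}

/-- D2 -/
theorem chT_comp_cgS (χ0 : AddChar F ℂ) (A T : Matrix (Fin n) (Fin n) F) :
    (chT χ0 T).compAddMonoidHom (cgS A) = chT χ0 (Aᵀ * T * A) := by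
  apply DFunLike.ext
  intro S
  rw [AddChar.compAddMonoidHom_apply, chT_apply, chT_apply, coe_cgS]
  congr 1
  rw [← Matrix.mul_assoc, ← Matrix.mul_assoc, Matrix.trace_mul_comm, ← Matrix.mul_assoc,
    ← Matrix.mul_assoc]

/-- D2 -/
theorem qfT_comp (A T : Matrix (Fin n) (Fin n) F) :
    (qfT T).comp (Matrix.toLin' A) = qfT (Aᵀ * T * A) := by
  ext x
  rw [QuadraticMap.comp_apply, qfT_apply, qfT_apply, Matrix.toLin'_apply,
    ← Matrix.mulVec_mulVec, ← Matrix.mulVec_mulVec,
    Matrix.dotProduct_mulVec x Aᵀ (T *ᵥ A *ᵥ x), Matrix.vecMul_transpose]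

/-- D2 -/
theorem qfT_surj (Q : QuadraticForm F (Fin n → F)) :
    ∃ T : Matrix (Fin n) (Fin n) F, qfT T = Q := by
  obtain ⟨B, hB⟩ := LinearMap.BilinMap.toQuadraticMap_surjective (R := F) (M := Fin n → F)
    (N := F) Q
  refine ⟨LinearMap.toMatrix₂' F B, ?_⟩
  unfold qfT
  rw [Matrix.toLinearMap₂'_toMatrix', hB]

/-- D2 -/
theorem polar_qfT_single (T : Matrix (Fin n) (Fin n) F) (i j : Fin n) (hij : i ≠ j) :
    QuadraticMap.polar (qfT T) (Pi.single i 1) (Pi.single j 1) = T i j + T j i := by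
  unfold qfT
  rw [LinearMap.BilinMap.polar_toQuadraticMap, Matrix.toLinearMap₂'_apply',
    Matrix.toLinearMap₂'_apply', Matrix.mulVec_single_one, Matrix.mulVec_single_one,
    single_one_dotProduct, single_one_dotProduct]
  rfl

/-- D2 -/
theorem chT_symE (χ0 : AddChar F ℂ) (T : Matrix (Fin n) (Fin n) F) (i j : Fin n) (hij : i ≠ j)
    (t : F) : chT χ0 T (symE i j t) = χ0 (t * (T i j + T j i)) := by
  rw [chT_apply]
  congr 1
  show Matrix.trace (T * (Matrix.single i j t + Matrix.single j i t)) = _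
  rw [Matrix.mul_add, Matrix.trace_add, Matrix.trace_mul_single, Matrix.trace_mul_single]
  simp only [MulOpposite.smul_eq_mul_unop, MulOpposite.unop_op]
  ring

end D

end Cfsg.Agent.Lib.Helper21.SpED2
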