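import Mathlib
import Cfsg.Agent.Lib.Helper21.SympF

set_option autoImplicit false

namespace Cfsg.Agent.Lib.Helper21.Symp

open Cfsg.Agent.Lib.Helper21.CycAct Cfsg.Agent.Lib.Helper21.OmegaCent Cfsg.Agent.Lib.Helper21.CycNT

variable {G : Type*} [Group G]

theorem closure_char (A B : Subgroup G) [A.Characteristic] [B.Characteristic] (p : ℕ) :
    (Subgroup.closure {x | x ∈ A ∧ x ^ p ∈ B}).Characteristic := by
  rw [Subgroup.characteristic_iff_map_le]
  intro φ
  rw [MonoidHom.map_closure, Subgroup.closure_le]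
  rintro _ ⟨x, ⟨hxA, hxB⟩, rfl⟩
  apply Subgroup.subset_closure
  refine ⟨char_map_mem A φ hxA, ?_⟩
  show (φ x) ^ p ∈ B
  rw [← map_pow]
  exact char_map_mem B φ hxB

theorem comm_mem_of_sq_mem (N : Subgroup G) [hN : N.Normal] (h : ∀ x : G, x ^ 2 ∈ N) (a b : G) :
    a * b * a⁻¹ * b⁻¹ ∈ N := by
  have e : a * b * a⁻¹ * b⁻¹ = (a * b) ^ 2 * (b⁻¹ * (a ^ 2)⁻¹ * b⁻¹⁻¹) * (b ^ 2)⁻¹ := by
    rw [pow_two, pow_two, pow_two]; group
  rw [e]
  exact mul_mem (mul_mem (h _) (hN.conj_mem _ (inv_mem (h a)) b⁻¹)) (inv_mem (h b))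

variable {p n : ℕ} [hp : Fact p.Prime] {u : G}

theorem not_cyclic_of_two [Finite G] (hG : IsPGroup p G) (Y : Subgroup G) (hY : IsCyclic Y)
    (z τ : G) (hz : z ∈ Y) (hτ : τ ∈ Y) (hzord : orderOf z = p) (hτp : τ ^ p = 1)
    (hτz : τ ∉ Subgroup.zpowers z) : False := by
  have hpp : p.Prime := hp.out
  obtain ⟨⟨y, hyY⟩, hy⟩ := hY.exists_generator
  have hmem : ∀ a ∈ Y, a ∈ Subgroup.zpowers y := by
    intro a ha
    exact (mem_zpowers_coe (⟨y, hyY⟩ : ↥Y) ⟨a, ha⟩).mp (hy ⟨a, ha⟩)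
  obtain ⟨m, hm⟩ := (IsPGroup.iff_orderOf.mp hG) y
  have hzp : z ^ p = 1 := by rw [← hzord]; exact pow_orderOf_eq_one z
  have hm1 : 1 ≤ m := by
    by_contra h0
    have hm0 : m = 0 := by omega
    rw [hm0, pow_zero, orderOf_eq_one_iff] at hm
    have h1 := hmem z hz
    rw [hm, Subgroup.zpowers_one_eq_bot, Subgroup.mem_bot] at h1
    rw [h1, orderOf_one] at hzord
    exact hpp.one_lt.ne hzord
  have h1 := omega_zpowers hm hm1 (hmem z hz) hzp
  have h2 := omega_zpowers hm hm1 (hmem τ hτ) hτp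
  have hord : orderOf (y ^ (p ^ (m - 1))) = p := by
    rw [orderOf_pow_of_dvd (pow_ne_zero _ hpp.ne_zero)
      (by rw [hm]; exact pow_dvd_pow p (by omega)), hm, Nat.pow_div (by omega) hpp.pos]
    have : m - (m - 1) = 1 := by omega
    rw [this, pow_one]
  have heq : Subgroup.zpowers z = Subgroup.zpowers (y ^ (p ^ (m - 1))) := by
    apply Subgroup.eq_of_le_of_card_ge (Subgroup.zpowers_le.mpr h1)
    rw [Nat.card_zpowers, Nat.card_zpowers, hord, hzord]
  apply hτz
  rw [heq]; exact h2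

theorem Ctx.caseD_false [Finite G] (c : Ctx p n u)
    (hsymp : ∀ A : Subgroup G, A.Characteristic → IsMulCommutative A → IsCyclic A)
    (h2 : 2 ≤ n) (hc : p ≠ 2 ∨ 3 ≤ n) (E : Subgroup G)
    (hP1 : ∀ g : G, ∃ e ∈ E, ∃ r ∈ Subgroup.centralizer (E : Set G), g = e * r)
    (hEW : E ≤ c.W) (hP3 : ∀ x ∈ E, x ^ p ∈ Subgroup.zpowers (u ^ (p ^ (n - 1))))
    (hP3' : p ≠ 2 → 2 ≤ n → ∀ x ∈ E, x ^ p = 1)
    (τ : G) (hτR : τ ∈ Subgroup.centralizer (E : Set G)) (hτU : τ ∉ Subgroup.zpowers u)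
    (hτM : τ * u ^ p = u ^ p * τ) (hτp : τ ^ p = 1)
    (hT2 : ∀ r ∈ Subgroup.centralizer (E : Set G), r * u ^ p = u ^ p * r →
      ∃ i j : ℤ, r = u ^ i * τ ^ j)
    (hT3 : ∀ i j : ℤ, ∃ s : ℤ, (p : ℤ) ∣ s - 1 ∧ (u ^ i * τ ^ j) ^ p = u ^ (i * p * s)) :
    False := by
  have hpp : p.Prime := hp.out
  haveI := c.hchar
  haveI hA := zpowers_pow_characteristic u p
  haveI hB := zpowers_pow_characteristic u (p ^ 2)
  haveI hM₀ := closure_char (Subgroup.centralizer (Subgroup.zpowers (u ^ p) : Set G))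
    (Subgroup.zpowers (u ^ (p ^ 2))) p
  set M₀ := Subgroup.closure {x | x ∈ Subgroup.centralizer (Subgroup.zpowers (u ^ p) : Set G) ∧
    x ^ p ∈ Subgroup.zpowers (u ^ (p ^ 2))} with hM₀def
  have hYchar : (M₀ ⊓ Subgroup.centralizer (M₀ : Set G)).Characteristic := inferInstance
  have hYcomm : IsMulCommutative ↥(M₀ ⊓ Subgroup.centralizer (M₀ : Set G)) :=
    ⟨⟨fun a b => Subtype.ext ((Subgroup.mem_centralizer_iff.mp b.2.2) a a.2.1)⟩⟩
  have hYcyc := hsymp _ hYchar hYcomm
  have hmemA : ∀ x : G, x * u ^ p = u ^ p * x →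
      x ∈ Subgroup.centralizer (Subgroup.zpowers (u ^ p) : Set G) := by
    intro x hx
    rw [Subgroup.mem_centralizer_iff]
    intro h hh
    obtain ⟨i, rfl⟩ := Subgroup.mem_zpowers_iff.mp hh
    have : Commute x (u ^ p) := hx
    exact (this.zpow_right i).eq.symm
  have hτgen : τ ∈ M₀ := Subgroup.subset_closure ⟨hmemA τ hτM, by rw [hτp]; exact one_mem _⟩
  have hzgen : u ^ (p ^ (n - 1)) ∈ M₀ :=
    Subgroup.subset_closure ⟨hmemA _ (c.z_central (u ^ p)).symm, by rw [c.z_pow]; exact one_mem _⟩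
  have hzcent : u ^ (p ^ (n - 1)) ∈ Subgroup.centralizer (M₀ : Set G) := by
    rw [Subgroup.mem_centralizer_iff]
    intro h _
    exact c.z_central h
  have hτcent : τ ∈ Subgroup.centralizer (M₀ : Set G) := by
    have hle : M₀ ≤ Subgroup.centralizer {τ} := by
      rw [hM₀def, Subgroup.closure_le]
      rintro x ⟨hxA, hxB⟩
      rw [SetLike.mem_coe, Subgroup.mem_centralizer_iff]
      intro b hb
      rw [Set.mem_singleton_iff] at hb
      rw [hb]
      -- τ * x = x * τ
      obtain ⟨e, he, r, hr, rfl⟩ := hP1 x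
      have hxu : u ^ p * (e * r) = e * r * u ^ p :=
        (Subgroup.mem_centralizer_iff.mp hxA) _ (Subgroup.mem_zpowers _)
      have heu : u ^ p * e = e * u ^ p :=
        c.comm_U_W (Subgroup.pow_mem _ (Subgroup.mem_zpowers u) _) (hEW he)
      have hru : r * u ^ p = u ^ p * r := by
        have h1 : e * (u ^ p * r) = e * (r * u ^ p) := by
          calc e * (u ^ p * r) = (e * u ^ p) * r := by rw [mul_assoc]
            _ = (u ^ p * e) * r := by rw [heu]
            _ = u ^ p * (e * r) := by rw [mul_assoc]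
            _ = e * r * u ^ p := hxu
            _ = e * (r * u ^ p) := by rw [mul_assoc]
        exact (mul_left_cancel h1).symm
      obtain ⟨i, j, hrij⟩ := hT2 r hr hru
      obtain ⟨s, hs1, hs⟩ := hT3 i j
      have her : Commute e r := (Subgroup.mem_centralizer_iff.mp hr) e he
      have hepB : e ^ p ∈ Subgroup.zpowers (u ^ (p ^ 2)) := by
        by_cases hp2 : p = 2
        · have hn3 : 3 ≤ n := by
            rcases hc with h | h
            · exact absurd hp2 h
            · exact h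
          have h1 := hP3 e he
          have hle : Subgroup.zpowers (u ^ (p ^ (n - 1))) ≤ Subgroup.zpowers (u ^ (p ^ 2)) := by
            rw [Subgroup.zpowers_le]
            have e1 : u ^ (p ^ (n - 1)) = (u ^ (p ^ 2)) ^ (p ^ (n - 3)) := by
              rw [← pow_mul, ← pow_add]; congr 2; omega
            rw [e1]
            exact Subgroup.pow_mem _ (Subgroup.mem_zpowers _) _
          exact hle h1
        · rw [hP3' hp2 h2 e he]; exact one_mem _
      have hrpB : u ^ (i * p * s) ∈ Subgroup.zpowers (u ^ (p ^ 2)) := by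
        have h1 : (e * r) ^ p = e ^ p * r ^ p := her.mul_pow p
        rw [hrij, hs] at h1
        have h3 : u ^ (i * p * s) = (e ^ p)⁻¹ * (e * (u ^ i * τ ^ j)) ^ p := by
          rw [h1]; group
        rw [h3]
        rw [hrij] at hxB
        exact mul_mem (inv_mem hepB) hxB
      have hpi : (p : ℤ) ∣ i := by
        obtain ⟨m, hm⟩ := Subgroup.mem_zpowers_iff.mp hrpB
        rw [← zpow_natCast, ← zpow_mul, zpow_eq_iff c.hord] at hm
        have h4 : ((p : ℤ) ^ 2) ∣ ((p ^ n : ℕ) : ℤ) := by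
          push_cast
          exact pow_dvd_pow _ h2
        have h5 := dvd_trans h4 hm
        have h6 : ((p : ℤ) ^ 2) ∣ i * s * p := by
          have e2 : i * s * p = ((p ^ 2 : ℕ) : ℤ) * m - (((p ^ 2 : ℕ) : ℤ) * m - i * p * s) := by
            ring
          rw [e2]
          exact dvd_sub (by push_cast; exact dvd_mul_right _ _) h5
        have h7 : (p : ℤ) ^ (2 - 1) ∣ i * s := by
          have := (pow_dvd_mul_iff p hpp.pos 2 (by norm_num) (i * s)).mp (by
            push_cast; exact h6)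
          exact this
        have h8 : (p : ℤ) ^ 1 ∣ i * s := by simpa using h7
        have := (isCoprime_of_dvd_sub_one hs1 1).symm.dvd_of_dvd_mul_right h8
        simpa using this
      obtain ⟨i', rfl⟩ := hpi
      have hτui : Commute τ (u ^ ((p : ℤ) * i')) := by
        rw [zpow_mul, zpow_natCast]
        exact (show Commute τ (u ^ p) from hτM).zpow_right i'
      have hτr : Commute τ r := by
        rw [hrij]
        exact hτui.mul_right ((Commute.refl τ).zpow_right j)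
      have hτe : Commute τ e := ((Subgroup.mem_centralizer_iff.mp hτR) e he).symm
      exact (hτe.mul_right hτr).eq
    rw [Subgroup.mem_centralizer_iff]
    intro h hh
    have := Subgroup.mem_centralizer_iff.mp (hle hh) τ (Set.mem_singleton τ)
    exact this.symm
  have hτz : τ ∉ Subgroup.zpowers (u ^ (p ^ (n - 1))) := fun h => hτU (c.Z0_le_U h)
  exact not_cyclic_of_two c.hpg _ hYcyc (u ^ (p ^ (n - 1))) τ ⟨hzgen, hzcent⟩ ⟨hτgen, hτcent⟩
    c.orderOf_z hτp hτz


theorem Ctx.caseC [Finite G] {u : G} (c : Ctx 2 2 u) (E : Subgroup G)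
    (hP1 : ∀ g : G, ∃ e ∈ E, ∃ r ∈ Subgroup.centralizer (E : Set G), g = e * r)
    (hP3 : ∀ x ∈ E, x ^ 2 ∈ Subgroup.zpowers (u ^ (2 ^ (2 - 1))))
    (hC1 : ∀ r ∈ Subgroup.centralizer (E : Set G), r ^ 2 ∈ Subgroup.zpowers (u ^ 2))
    (hC2 : ∀ r ∈ Subgroup.centralizer (E : Set G),
      (∀ y ∈ Subgroup.centralizer (E : Set G), r * y = y * r) → r ∈ Subgroup.zpowers (u ^ 2))
    (hnonab : ∃ x y : G, x * y ≠ y * x) :
    Cfsg.IsExtraspecial 2 ↥(⊤ : Subgroup G) := by
  haveI : Fact (Nat.Prime 2) := ⟨Nat.prime_two⟩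
  have hz2 : u ^ (2 ^ (2 - 1)) = u ^ 2 := by norm_num
  have hord : orderOf (u ^ 2) = 2 := by
    have := c.orderOf_z
    rwa [hz2] at this
  have hzc : ∀ g : G, g * u ^ 2 = u ^ 2 * g := by
    intro g
    have := c.z_central g
    rwa [hz2] at this
  rw [hz2] at hP3
  have hsq : ∀ x : G, x ^ 2 ∈ Subgroup.zpowers (u ^ 2) := by
    intro x
    obtain ⟨e, he, r, hr, rfl⟩ := hP1 x
    have her : Commute e r := (Subgroup.mem_centralizer_iff.mp hr) e he
    rw [her.mul_pow]
    exact mul_mem (hP3 e he) (hC1 r hr)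
  have hN : (Subgroup.zpowers (u ^ 2)).Normal := by
    constructor
    intro a ha g
    obtain ⟨i, rfl⟩ := Subgroup.mem_zpowers_iff.mp ha
    have : Commute g (u ^ 2) := hzc g
    rw [(this.zpow_right i).eq]
    simp
  apply isExtraspecial_subgroup c.hpg ⊤ (u ^ 2) (Subgroup.mem_top _) hord (fun x _ => hzc x)
  · intro x _ hx
    apply hC2 x
    · rw [Subgroup.mem_centralizer_iff]
      intro e _
      exact (hx e (Subgroup.mem_top _)).symm
    · intro y _
      exact hx y (Subgroup.mem_top _)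
  · intro x _ y _
    exact comm_mem_of_sq_mem _ hsq x y
  · intro x _
    exact hsq x
  · obtain ⟨x, y, hxy⟩ := hnonab
    exact ⟨x, Subgroup.mem_top _, y, Subgroup.mem_top _, hxy⟩

end Cfsg.Agent.Lib.Helper21.Symp
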