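import Mathlib
import Cfsg.Agent.Lib.helper3.T2E.Defs
import Cfsg.Agent.Lib.helper8.ChevIE7f
import Cfsg.Agent.Lib.helper8.ChevSt35
import Cfsg.Agent.Lib.helper8.ChevTw7

/-!
# T2E (S2108, designer helper3), row D11d `NT_conj_self` (helper21), VERBATIM vs `helper3/T2E/SkelD.lean.txt`.

`r` fixed: `NT q r t = n_r(t)` (`h8nU_eq`), `h8nU_conj_x` with `stdc_sl`.  `r` not fixed: the root elements of `± σ r` commute
with those of `± r` (`h8xU_commute`, `decide` on `commTerms`), so the factors of `± σ r` cancel in the conjugate.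
-/

set_option autoImplicit false
set_option linter.unusedSectionVars false
set_option linter.unusedVariables false

namespace Cfsg.Agent.Lib.helper3.T2E

open Cfsg.Lie Cfsg.Lie.ChevalleyDatum Matrix
open Cfsg.Agent.Lib.helper8 Cfsg.Agent.Lib.Helper10.TEM Cfsg.Agent.Lib.helper7.Ce
  Cfsg.Agent.Lib.helper15.St2

universe u

variable {K : Type u} [Field K] {q : ℕ} {f : K ≃+* K}

/-- the rank one conjugation rule for `X` -/
theorem t2ed11dh21_rank_one (r : ℕ) (hr : r < 72) (t : K) (ht : t ≠ 0) (u : K) :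
    (X r t * X (71 - r) (-t⁻¹) * X r t) * X r u * (X r t * X (71 - r) (-t⁻¹) * X r t)⁻¹ =
      X (71 - r) (-(t⁻¹ ^ 2 * u)) := by
  have hd := root_data r hr
  have h := h8nU_conj_x (K := K) chevE6 hB r (Cfsg.Agent.Lib.helper14.INV.stdc_sl chevE6 hD hB r hd.1) t u ht
  rw [h8nU_eq, hd.2.1] at h
  exact h

/-- group lemma: factors commuting with everything else cancel in a conjugate -/
theorem t2ed11dh21_cancel {G : Type*} [Group G] (a1 a2 b1 b2 x : G)
    (h11 : Commute b1 a1) (h12 : Commute b1 a2) (h21 : Commute b2 a1) (h1x : Commute b1 x) (h2x : Commute b2 x) :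
    (a1 * b1 * (a2 * b2) * (a1 * b1)) * x * (a1 * b1 * (a2 * b2) * (a1 * b1))⁻¹ =
      (a1 * a2 * a1) * x * (a1 * a2 * a1)⁻¹ := by
  have e : a1 * b1 * (a2 * b2) * (a1 * b1) = (a1 * a2 * a1) * (b1 * b2 * b1) := by
    calc a1 * b1 * (a2 * b2) * (a1 * b1) = a1 * (b1 * a2) * (b2 * a1) * b1 := by group
      _ = a1 * (a2 * b1) * (a1 * b2) * b1 := by rw [h12.eq, h21.eq]
      _ = a1 * a2 * (b1 * a1) * b2 * b1 := by group
      _ = a1 * a2 * (a1 * b1) * b2 * b1 := by rw [h11.eq]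
      _ = (a1 * a2 * a1) * (b1 * b2 * b1) := by group
  have hc : Commute (b1 * b2 * b1) x := (h1x.mul_left h2x).mul_left h1x
  have e2 : (a1 * a2 * a1) * (b1 * b2 * b1) * x * ((a1 * a2 * a1) * (b1 * b2 * b1))⁻¹ =
      (a1 * a2 * a1) * ((b1 * b2 * b1) * x * (b1 * b2 * b1)⁻¹) * (a1 * a2 * a1)⁻¹ := by group
  rw [e, e2, hc.eq, mul_inv_cancel_right]

set_option synthInstance.maxSize 1024 in
theorem t2ed11dh21_data : ∀ r < 72, h8sE6 r ≠ r →
    h8sE6 r ≠ 71 - r ∧ chevE6.commTerms r (h8sE6 r) = [] ∧ chevE6.commTerms r (71 - h8sE6 r) = [] ∧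
      chevE6.commTerms (71 - r) (h8sE6 r) = [] ∧ chevE6.commTerms (71 - r) (71 - h8sE6 r) = [] := by
  decide +kernel

theorem t2ed11dh21_arith (r s : ℕ) (hr : r < 72) (hs : s < 72) (h1 : s ≠ r) (h2 : s ≠ 71 - r) :
    71 - s ≠ r ∧ 71 - s ≠ 71 - r ∧ s ≠ 71 - (71 - r) ∧ 71 - s < 72 := by omega

-- ROW D11d
theorem NT_conj_self (hF : Frob q f) (r : ℕ) (hr : r < 72) (t : K) (ht : t ≠ 0) (u : K) :
    NT q r t * X r u * (NT q r t)⁻¹ = X (71 - r) (-(t⁻¹ ^ 2 * u)) := by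
  have hd := root_data r hr
  have hr' : 71 - r < 72 := by omega
  have hd' := root_data (71 - r) hr'
  have hσn : h8sE6 (71 - r) = 71 - h8sE6 r := hd.2.2.2.2.1
  by_cases hσ : h8sE6 r = r
  · have hσ' : h8sE6 (71 - r) = 71 - r := by rw [hσn, hσ]
    unfold NT XT
    rw [if_pos hσ, if_pos hσ']
    exact t2ed11dh21_rank_one r hr t ht u
  · have hs : h8sE6 r < 72 := hd.2.2.1
    have hσ' : h8sE6 (71 - r) ≠ 71 - r := by
      rw [hσn]
      omega
    obtain ⟨k1, k2, k3, k4, k5⟩ := t2ed11dh21_data r hr hσ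
    obtain ⟨n2, a3, a5, hs'⟩ := t2ed11dh21_arith r (h8sE6 r) hr hs hσ k1
    have hds := root_data (h8sE6 r) hs
    have hds' := root_data (71 - h8sE6 r) hs'
    -- commutations
    have n1 : h8sE6 r ≠ chevE6.negIdx.getD r 0 := by rw [hd.2.1]; exact k1
    have n3 : 71 - h8sE6 r ≠ chevE6.negIdx.getD r 0 := by rw [hd.2.1]; exact a3
    have n4 : h8sE6 r ≠ 71 - r := k1
    have n5 : h8sE6 r ≠ chevE6.negIdx.getD (71 - r) 0 := by rw [hd'.2.1]; exact a5
    have c1 : ∀ a b : K, Commute (X (h8sE6 r) a) (X r b) := by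
      intro a b
      have := h8xU_commute (K := K) chevE6 hB hC r (h8sE6 r) hd.1 hds.1 hσ n1 k2 b a
      exact this.symm
    have c2 : ∀ a b : K, Commute (X (71 - h8sE6 r) a) (X r b) := by
      intro a b
      have := h8xU_commute (K := K) chevE6 hB hC r (71 - h8sE6 r) hd.1 hds'.1 n2 n3 k3 b a
      exact this.symm
    have c3 : ∀ a b : K, Commute (X (h8sE6 r) a) (X (71 - r) b) := by
      intro a b
      have := h8xU_commute (K := K) chevE6 hB hC (71 - r) (h8sE6 r) hd'.1 hds.1 n4 n5 k4 b a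
      exact this.symm
    unfold NT XT
    rw [if_neg hσ, if_neg hσ']
    unfold XS
    rw [hσn]
    exact (t2ed11dh21_cancel _ _ _ _ _ (c1 _ _) (c3 _ _) (c2 _ _) (c1 _ _) (c2 _ _)).trans
      (t2ed11dh21_rank_one r hr t ht u)

end Cfsg.Agent.Lib.helper3.T2E
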