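import Mathlib
import Cfsg.Agent.Lib.helper3.T2E.Defs
import Cfsg.Agent.Lib.Helper22.T2ED1
import Cfsg.Agent.Lib.helper8.ChevTwE6H16
import Cfsg.Agent.Lib.helper8.ChevTwE6c
import Cfsg.Agent.Lib.helper8.ChevFix1

/-!
# T2E row D12a (designer helper3): `G¹ = twistedE6 K q` is generated by the twisted root elements
Verbatim vs `Cfsg/Agent/Lib/helper3/T2E/SkelD.lean.txt`.  `⊇` is D1 (`XT_mem`); `⊆`: the generators of
`twistedE6 = genSubgroup (e6Words K q)` are `XT q r t`, `r ∈ [46, 25, 39, 32, 56, 15, 42, 29]`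
(as in TEM F5 `gen_le`).
-/

set_option autoImplicit false

namespace Cfsg.Agent.Lib.helper3.T2E

open Cfsg.Lie Cfsg.Lie.ChevalleyDatum Matrix
open Cfsg.Agent.Lib.helper8 Cfsg.Agent.Lib.Helper10.TEM Cfsg.Agent.Lib.helper7.Ce
  Cfsg.Agent.Lib.helper15.St2

universe u

variable {K : Type u} [Field K] {q : ℕ} {f : K ≃+* K}

/-- every generator of `twistedE6 = genSubgroup (e6Words K q)` is an admissible twisted root element -/
theorem t2ed12ah21_gen_le (H : Subgroup (GG K))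
    (h : ∀ r < 72, ∀ t : K, Adm q r t → XT q r t ∈ H) :
    twistedE6 K q ≤ H := by
  unfold twistedE6 ChevalleyDatum.genSubgroup
  rw [Subgroup.closure_le]
  rintro x ⟨w, hw, hxw⟩
  have hx' : x = h8wordU chevE6 hB w := Units.ext (hxw.trans (h8wordU_val chevE6 hB w).symm)
  rw [hx']
  rcases hw with ⟨t, ht, r, hr, rfl⟩ | ⟨t, rs, hrs, rfl⟩
  · rw [h8wordU_one]
    have hr' : r ∈ [46, 25, 39, 32] := by
      simp only [e6p2, e6m2, e6p4, e6m4] at hr
      exact hr
    obtain ⟨h1, h2, -⟩ := h8twE6_fixdata.1 r hr'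
    have h1' : r < 72 := h1
    have := h r h1' t (fun _ => ht)
    unfold XT at this
    rw [if_pos h2] at this
    exact this
  · have hrs' : (rs.1, rs.2) ∈ [(56, 36), (15, 35), (42, 37), (29, 34)] := by
      simp only [e6p1, e6p6, e6m1, e6m6, e6p3, e6p5, e6m3, e6m5] at hrs
      exact hrs
    obtain ⟨h1, h2, h3, h4, h5, h6⟩ := h8twE6_fixdata.2 (rs.1, rs.2) hrs'
    simp only at h1 h2 h3 h4 h5 h6
    rw [h8wordU_two]
    have hne : h8sE6 rs.1 ≠ rs.1 := by
      rw [h3]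
      simp only [List.mem_cons, List.not_mem_nil, or_false, Prod.mk.injEq] at hrs'
      rcases hrs' with ⟨e1, e2⟩ | ⟨e1, e2⟩ | ⟨e1, e2⟩ | ⟨e1, e2⟩ <;> rw [e1, e2] <;> decide
    have h1' : rs.1 < 72 := h1
    have := h rs.1 h1' t (fun hσ => absurd hσ hne)
    unfold XT at this
    rw [if_neg hne] at this
    unfold XS X at this
    rw [h3, h5] at this
    simpa using this

-- ROW D12a [M]  `⊇` D1; `⊆`: the generators of `twistedE6 = genSubgroup (e6Words K q)` are `XT q r t`, `r ∈ [46, 25, 39, 32, 56, 15, 42, 29]`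
-- (`h8twE6_fixdata`, TEM F5).
theorem G1_gen (hF : Frob q f) :
    twistedE6 K q = Subgroup.closure {g : GG K | ∃ r < 72, ∃ t : K, Adm q r t ∧ g = XT q r t} := by
  apply le_antisymm
  · apply t2ed12ah21_gen_le
    intro r hr t ht
    exact Subgroup.subset_closure ⟨r, hr, t, ht, rfl⟩
  · rw [Subgroup.closure_le]
    rintro g ⟨r, hr, t, ht, rfl⟩
    exact XT_mem hF r hr t ht

end Cfsg.Agent.Lib.helper3.T2E
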