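import Mathlib
import Cfsg.Agent.Lib.helper17.T3.Defs
import Cfsg.Agent.Lib.Helper19.T3A.Defs
import Cfsg.Agent.Lib.Helper19.T3A.Comb
import Cfsg.Agent.Lib.Helper21.T3AB5core
import Cfsg.Agent.Lib.helper23.T3AB1
import Cfsg.Agent.Lib.Helper1.T3AU2
import Cfsg.Agent.Lib.Helper10.T3AT6
import Cfsg.Agent.Lib.helper14.T3AB4
import Cfsg.Agent.Lib.helper14.T3AD1
import Cfsg.Agent.Lib.helper14.T3AD8
import Cfsg.Agent.Lib.helper14.T3AT5
import Cfsg.Agent.Lib.Helper20.T3AB2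
import Cfsg.Agent.Lib.Helper26.T3AD6

/-!
# Project T3A (sub-designer helper19; family T3 / S2110), rows B5 `rank_one_cell` and B6 `cell_up` (helper21), VERBATIM vs
`Helper19/T3A/Skel.lean.txt`: the cores of `Helper21/T3AB5core.lean` at the landed rows B1 U2 B2 T5 T6 B3 B4 D7 D3 D9.
-/

set_option autoImplicit false
set_option linter.unusedSectionVars false
set_option linter.unusedVariables false

namespace Cfsg.Agent.Lib.helper17.T3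

open Matrix Cfsg.Agent.Lib.helper15.St2 Cfsg.Agent.Lib.helper7.Ce Cfsg.Agent.Lib.helper7.CEU Cfsg.Agent.Lib.Helper19.T3A

variable {F K : Type*} [Field F] [Field K] [Algebra F K]

namespace SysT

variable {C : Cub F K} {Γ : Type*} [Group Γ] (Q : SysT C Γ)

-- ROW B5
theorem rank_one_cell [Finite K] (s : Bool) {b : Γ} (hb : b ∈ Q.Bor) :
    Q.nS s * b * Q.nS s ∈ Q.Bor ∨ ∃ b1 ∈ Q.Bor, ∃ b2 ∈ Q.Bor, Q.nS s * b * Q.nS s = b1 * Q.nS s * b2 :=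
  Q.t3ab5h21_core s Q.Tor_le_Bor Q.U_le_Bor (Q.Us_le_U s) (Q.Xs_le_U s)
    (fun hg => Q.Bor_decomp s hg) (fun hh => (Q.cj_nS_Tor s hh).1) (Q.nS_sq_mem_Tor s)
    (Q.nS_Us s) (Q.nS_Xs s) (Q.Ys_rank_one s) hb

-- ROW B6
theorem cell_up [Finite K] (s : Bool) (w : List Bool) (hw : simplePos s (wdW w)) {b : Γ} (hb : b ∈ Q.Bor) :
    ∃ b1 ∈ Q.Bor, ∃ b2 ∈ Q.Bor, Q.nS s * b * Q.nw w = b1 * Q.nw (s :: w) * b2 :=
  Q.t3ab6h21_core s w hw Q.Tor_le_Bor Q.U_le_Bor (Q.Us_le_U s)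
    (fun hg => Q.Bor_decomp s hg) (fun hh => (Q.cj_nS_Tor s hh).1) (Q.nS_Us s) (Q.isMon_nw w)
    (fun h => SysT.IsMon.inv Q h) (fun {_ _} h {_ _ _ _} hs hl => SysT.IsMon.cj_mem_UU Q h hs hl) hb

end SysT

end Cfsg.Agent.Lib.helper17.T3
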