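import Mathlib
import Cfsg.Agent.Lib.helper17.T3.Defs

/-!
# Family T3 (S2110), project T3C (designer helper17), row A1a (helper21), VERBATIM vs `helper17/T3/SkelC.lean.txt`:
`Cub.theta_inj theta_surj tr_add tr_neg tr_zero tr_sub tr_smul tr_theta` (basic trace algebra).
-/

set_option autoImplicit false

namespace Cfsg.Agent.Lib.helper17.T3

open Cfsg.Agent.Lib.helper15.St2 Cfsg.Agent.Lib.helper7.Ce Matrix

variable {F K : Type*} [Field F] [Field K] [Algebra F K]

namespace Cub

variable (C : Cub F K)

/-- [A1a] [S] `θ` is injective (`θ3`). -/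
theorem theta_inj : Function.Injective C.θ := by
  intro x y h
  have h2 := congrArg (fun z => C.θ (C.θ z)) h
  simp only [C.θ3] at h2
  exact h2

/-- [A1a] [S] -/
theorem theta_surj : Function.Surjective C.θ := by
  intro x
  exact ⟨C.θ (C.θ x), C.θ3 x⟩

/-- [A1a] [S] (`htr`, injectivity of `algebraMap F K`) -/
theorem tr_add (x y : K) : C.tr (x + y) = C.tr x + C.tr y := by
  apply (algebraMap F K).injective
  simp only [map_add, C.htr]
  ring

/-- [A1a] [S] -/
theorem tr_neg (x : K) : C.tr (-x) = -C.tr x := by
  apply (algebraMap F K).injective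
  simp only [map_neg, C.htr]
  ring

/-- [A1a] [S] -/
theorem tr_zero : C.tr 0 = 0 := by
  apply (algebraMap F K).injective
  simp only [map_zero, C.htr]
  ring

/-- [A1a] [S] -/
theorem tr_sub (x y : K) : C.tr (x - y) = C.tr x - C.tr y := by
  apply (algebraMap F K).injective
  simp only [map_sub, C.htr]
  ring

/-- [A1a] [S] (`θF`) -/
theorem tr_smul (c : F) (x : K) : C.tr (c • x) = c * C.tr x := by
  apply (algebraMap F K).injective
  simp only [map_mul, C.htr, Algebra.smul_def, C.θF]
  ring

/-- [A1a] [S] -/
theorem tr_theta (x : K) : C.tr (C.θ x) = C.tr x := by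
  apply (algebraMap F K).injective
  simp only [C.htr, C.θ3]
  ring

end Cub

end Cfsg.Agent.Lib.helper17.T3
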