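import Mathlib
import Cfsg.Agent.Lib.helper17.T3.Defs

/-!
# Family T3 (S2110), project T3C (designer helper17), row A1b (helper21), VERBATIM vs `helper17/T3/SkelC.lean.txt`:
`Cub.nm_mul nm_one nm_zero nm_ne_zero nm_inv nm_neg nm_smul nm_theta` (basic norm algebra).
-/

set_option autoImplicit false

namespace Cfsg.Agent.Lib.helper17.T3

open Cfsg.Agent.Lib.helper15.St2 Cfsg.Agent.Lib.helper7.Ce Matrix

variable {F K : Type*} [Field F] [Field K] [Algebra F K]

namespace Cub

variable (C : Cub F K)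

/-- [A1b] [S] -/
theorem nm_mul (x y : K) : C.nm (x * y) = C.nm x * C.nm y := by
  apply (algebraMap F K).injective
  simp only [map_mul, C.hnm]
  ring

/-- [A1b] [S] -/
theorem nm_one : C.nm 1 = 1 := by
  apply (algebraMap F K).injective
  simp only [map_one, C.hnm]
  ring

/-- [A1b] [S] -/
theorem nm_zero : C.nm 0 = 0 := by
  apply (algebraMap F K).injective
  simp only [map_zero, C.hnm]
  ring

/-- [A1b] [S] (`θ` injective) -/
theorem nm_ne_zero {x : K} (hx : x ≠ 0) : C.nm x ≠ 0 := by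
  intro h
  have h2 := C.hnm x
  rw [h, map_zero] at h2
  have h3 : C.θ x ≠ 0 := (map_ne_zero C.θ).mpr hx
  have h4 : C.θ (C.θ x) ≠ 0 := (map_ne_zero C.θ).mpr h3
  exact mul_ne_zero (mul_ne_zero hx h3) h4 h2.symm

/-- [A1b] [S] -/
theorem nm_inv (x : K) : C.nm x⁻¹ = (C.nm x)⁻¹ := by
  by_cases hx : x = 0
  · rw [hx, _root_.inv_zero, nm_zero, _root_.inv_zero]
  · apply eq_inv_of_mul_eq_one_right
    rw [← nm_mul, mul_inv_cancel₀ hx, nm_one]

/-- [A1b] [S] -/
theorem nm_neg (x : K) : C.nm (-x) = -C.nm x := by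
  apply (algebraMap F K).injective
  simp only [map_neg, C.hnm]
  ring

/-- [A1b] [S] -/
theorem nm_smul (c : F) (x : K) : C.nm (c • x) = c ^ 3 * C.nm x := by
  apply (algebraMap F K).injective
  simp only [map_mul, map_pow, C.hnm, Algebra.smul_def, C.θF]
  ring

/-- [A1b] [S] -/
theorem nm_theta (x : K) : C.nm (C.θ x) = C.nm x := by
  apply (algebraMap F K).injective
  simp only [C.hnm, C.θ3]
  ring

end Cub

end Cfsg.Agent.Lib.helper17.T3
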