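import Mathlib
import Cfsg.Agent.Lib.helper8.T3M.Defs
import Cfsg.Agent.Lib.helper8.ChevTwD4

/-!
# Project T3M (designer helper8; family T3 / S2110), row N1 `t3m_gen` (helper21), VERBATIM vs `helper8/T3M/Skel.lean.txt`:
`twistedD4 K q` is generated by the four families `XS D 0 t`, `XS D 3 t`, `XL D 2 c`, `XL D 5 c`.
-/

set_option autoImplicit false

namespace Cfsg.Agent.Lib.helper8.T3M

open Cfsg.Lie Cfsg.Lie.ChevalleyDatum Matrix
open Cfsg.Agent.Lib.helper8
open Cfsg.Agent.Lib.helper23.TD4V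
open Cfsg.Agent.Lib.helper17.T3
open Cfsg.Agent.Lib.helper15.St2 Cfsg.Agent.Lib.helper7.Ce

universe u

variable {K : Type u} [Field K] {q : ℕ}

/-- the general form: a subgroup containing the four families contains `twistedD4 K q` -/
theorem t3mn1h21_gen_le (D : Dat K q) (H : Subgroup (GG K))
    (h0 : ∀ t, XS D 0 t ∈ H) (h3 : ∀ t, XS D 3 t ∈ H)
    (h2 : ∀ c : D.Fx, XL D 2 c ∈ H) (h5 : ∀ c : D.Fx, XL D 5 c ∈ H) :
    twistedD4 K q ≤ H := by
  unfold twistedD4 ChevalleyDatum.genSubgroup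
  rw [Subgroup.closure_le]
  rintro x ⟨w, hw, hxw⟩
  have hx' : x = h8wordU chevD4 hB w := Units.ext (hxw.trans (h8wordU_val chevD4 hB w).symm)
  rw [hx']
  rcases hw with ⟨t, ht, r, hr, rfl⟩ | ⟨t, rs, hrs, rfl⟩
  · rw [h8wordU_one]
    have hft : D.f t = t := by rw [D.hf, ht]
    simp only [d4p2, d4m2, List.mem_cons, List.not_mem_nil, or_false] at hr
    rcases hr with rfl | rfl
    · have hmem : -t ∈ D.Fx := by rw [Dat.mem_Fx, map_neg, hft]
      have := h2 ⟨-t, hmem⟩
      rw [XL_def, val6_2, XL3_2] at this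
      simpa [X] using this
    · have hmem : t ∈ D.Fx := by rw [Dat.mem_Fx, hft]
      have := h5 ⟨t, hmem⟩
      rw [XL_def, val6_5, XL3_5] at this
      simpa [X] using this
  · rw [h8wordU_three]
    have e1 : t ^ q = D.f t := (D.hf t).symm
    have e2 : t ^ (q ^ 2) = D.f (D.f t) := by rw [D.hf, D.hf, ← pow_mul, sq]
    rw [e1, e2]
    simp only [d4p1, d4p3, d4p4, d4m1, d4m3, d4m4, List.mem_cons, List.not_mem_nil, or_false] at hrs
    rcases hrs with rfl | rfl
    · have := h0 t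
      rw [XS_def, val6_0, XS3_0] at this
      simpa [X] using this
    · have := h3 (-t)
      rw [XS_def, val6_3, XS3_3] at this
      simpa [X] using this

/-- **N1** [S-M].  `twistedD4 K q = chevD4.genSubgroup K (d4Words K q) = closure {g | ∃ w ∈ d4Words K q, ↑g = wordMat w}`; `Subgroup.closure_le`,
each generator is one of the four families (`h8xU_val`, `h8wordU_one`, `h8wordU_three` of `ChevTwD4`; `D.hf`; for `Xma`: `t = -(−t)`, `(-t) ^ q = D.f (-t) = -D.f t`). -/
theorem t3m_gen (D : Dat K q) :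
    twistedD4 K q ≤ Subgroup.closure ({g | ∃ t, g = XS D 0 t} ∪ {g | ∃ t, g = XS D 3 t} ∪
      {g | ∃ c : D.Fx, g = XL D 2 c} ∪ {g | ∃ c : D.Fx, g = XL D 5 c}) := by
  apply t3mn1h21_gen_le D
  · intro t
    exact Subgroup.subset_closure (Or.inl (Or.inl (Or.inl ⟨t, rfl⟩)))
  · intro t
    exact Subgroup.subset_closure (Or.inl (Or.inl (Or.inr ⟨t, rfl⟩)))
  · intro c
    exact Subgroup.subset_closure (Or.inl (Or.inr ⟨c, rfl⟩))
  · intro c
    exact Subgroup.subset_closure (Or.inr ⟨c, rfl⟩)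

end Cfsg.Agent.Lib.helper8.T3M
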