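import Mathlib
import Cfsg.Prelude.Def_ChevStructure
import Cfsg.Prelude.Def_LieTwisted
import Cfsg.Agent.Lib.helper8.TD4.Defs
import Cfsg.Agent.Lib.Helper21.TD4B7core
import Cfsg.Agent.Lib.helper3.TD4B5
import Cfsg.Agent.Lib.Helper25.TD4B6

set_option autoImplicit false

namespace Cfsg.Agent.Lib.helper8.TD4

open Cfsg.Lie Cfsg.Lie.ChevalleyDatum Cfsg.Agent.Lib.helper8 Matrix

universe u v

section B

variable {F : Type u} [Field F] (hB : H8Base.{u} chevD4)

theorem rho_rel (hA : H8ReflAll chevD4) (f : F ≃+* F) (h h' : GL chevD4.Idx F)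
    (hh : h ∈ chevD4.diagonalSubgroup F) (hh' : h' ∈ chevD4.diagonalSubgroup F)
    (hF : Fr hA f h = (h' * h8nU chevD4 hB 14 1) * h * (h' * h8nU chevD4 hB 14 1)⁻¹) :
    ∀ r < 24, h8chi chevD4 hB h (rho r) = f (h8chi chevD4 hB h r) :=
  td4b7_core hB hA f h h' (chi_twist hB hA f h hh).2 (chi_refl hB h h' hh hh').2 hF

end B

end Cfsg.Agent.Lib.helper8.TD4
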