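import Mathlib
import Cfsg.Agent.Lib.helper23.TD4V.Defs
import Cfsg.Agent.Lib.Helper20.TD4VE2c
import Cfsg.Agent.Lib.Helper21.TD4VE2core

/-!
# Project TD4V (helper23, S2462), row E2 (`B1_le_Pp`), VERBATIM: the core on the landed E2c.
-/

set_option autoImplicit false

namespace Cfsg.Agent.Lib.helper23.TD4V

open Cfsg.Lie Cfsg.Lie.ChevalleyDatum Matrix
open Cfsg.Agent.Lib.helper8 Cfsg.Agent.Lib.helper8.TD4
open Cfsg.Agent.Lib.helper23.P4V

universe u v

section E

variable {F K : Type u} [Field F] [Field K] [Fintype F] [Fintype K] (j : F →+* K) (q : ℕ)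

theorem B1_le_Pp (hq : IsPrimePow q) (hF : Fintype.card F = q) (hK : Fintype.card K = q ^ 3) :
    chevD4.borelSubgroup K ⊓ twistedD4 K q ≤ Pp j q :=
  td4ve2_core j q hq hF hK (fun u hu => U1_form q hq hK u hu)

end E

end Cfsg.Agent.Lib.helper23.TD4V
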