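import Cfsg.Agent.Lib.Helper9.TRI.Defs3
import Cfsg.Agent.Lib.Helper25.SWA1
import Cfsg.Agent.Lib.helper15.SWA4
import Cfsg.Agent.Lib.helper23.TRINB
import Cfsg.Agent.Lib.Helper21.TRI2TS1
import Cfsg.Agent.Lib.Helper21.TRI3SHR
import Cfsg.Agent.Lib.Helper21.TRI3FACT2
import Cfsg.Agent.Lib.Helper11.TRI3FRONT
import Cfsg.Agent.Lib.Helper11.TRI3FACT1
import Cfsg.Agent.Lib.Helper13.TRI3BACK
import Cfsg.Agent.Lib.Helper25.TRI2TY

/-!
Project TRI, piece 3-REL : `crit_rel` (helper21).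
-/

set_option autoImplicit false

namespace Cfsg.Agent.Lib.Helper9.TRI

open Cfsg.Agent.Lib.Helper19.SW
open scoped commutatorElement

variable {G : Type*} [Group G] {V : Type*} [MulAction G V] {Adj : V → V → Prop} {ty : V → Bool}
  {A : Bool} {b : ℕ}

/-- a third neighbour. -/
theorem tri3rel_third (h : LS3 G Adj) {v x : V} (y : V) (hx : Adj v x) :
    ∃ z, Adj v z ∧ z ≠ x ∧ z ≠ y := by
  obtain ⟨u, u', hu, hu', hux, hu'x, huu'⟩ := tri2ts1_two_others h hx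
  by_cases huy : u = y
  · exact ⟨u', hu', hu'x, fun e => huu' (by rw [huy, e])⟩
  · exact ⟨u, hu, hux, huy⟩

/-- the walk `w, x, z, m₁, m₂, m₃, m₄`. -/
def tri3rel_walk (w x z m₁ m₂ m₃ m₄ : V) : ℕ → V
  | 0 => w
  | 1 => x
  | 2 => z
  | 3 => m₁
  | 4 => m₂
  | 5 => m₃
  | _ => m₄

/-- TRI-3-REL : for `b ≥ 6` a critical walk satisfies `c_{p0} c_{p1} c_{p2} c_{p3} = c_{p4}`
("non-straight at `p 2`"). -/
theorem crit_rel (H : PAS G Adj ty A b) (hX : XCase G Adj ty A) (hb6 : 6 ≤ b) {p : ℕ → V}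
    (hc : IsCritical G Adj p b) :
    cE G Adj (p 0) * cE G Adj (p 1) * (cE G Adj (p 2) * cE G Adj (p 3)) = cE G Adj (p 4) := by
  have h := H.bip.ls3
  have hw := hc.1
  have hb4 : 4 ≤ b := by omega
  -- the third neighbour `y` of `p 3`
  have h32 : Adj (p 3) (p 2) := h.symm _ _ (hw 2 (by omega))
  have h34 : Adj (p 3) (p 4) := hw 3 (by omega)
  obtain ⟨y, hy, hy2, hy4⟩ := tri3rel_third h (p 4) h32
  rcases front H hX hb4 hc hy hy2 hy4 with hP | hP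
  · exact hP
  · exfalso
    -- shift twice to the right
    have hbb : Adj (p b) (p (b - 1)) := tri2ts1_adj_end h hc (by omega)
    obtain ⟨m₁, hm₁, hm₁ne, -⟩ : ∃ z, Adj (p b) z ∧ z ≠ p (b - 1) ∧ z ≠ p (b - 1) :=
      tri3rel_third h (p (b - 1)) hbb
    obtain ⟨m₂, hm₂, hm₂ne, hs₁⟩ := two_shift_right H hb4 hc hm₁ hm₁ne
    have hs₁b : shiftR p b m₁ m₂ b = m₂ := shiftR_last p b m₁ m₂
    have hs₁p : shiftR p b m₁ m₂ (b - 1) = m₁ := shiftR_pred p m₁ m₂ (by omega)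
    have hm₂₁ : Adj m₂ m₁ := h.symm _ _ hm₂
    obtain ⟨m₃, hm₃, hm₃ne, -⟩ : ∃ z, Adj m₂ z ∧ z ≠ m₁ ∧ z ≠ m₁ := tri3rel_third h m₁ hm₂₁
    have hm₃' : Adj (shiftR p b m₁ m₂ b) m₃ := by rw [hs₁b]; exact hm₃
    have hm₃ne' : m₃ ≠ shiftR p b m₁ m₂ (b - 1) := by rw [hs₁p]; exact hm₃ne
    obtain ⟨m₄, hm₄, hm₄ne, hs₂⟩ := two_shift_right H hb4 hs₁ hm₃' hm₃ne'
    have hs₂0 : shiftR (shiftR p b m₁ m₂) b m₃ m₄ 0 = p 4 := by
      rw [shiftR_lo _ b m₃ m₄ (by omega : 0 + 2 ≤ b), shiftR_lo p b m₁ m₂ (by omega : 0 + 2 + 2 ≤ b)]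
    have hs₂1 : shiftR (shiftR p b m₁ m₂) b m₃ m₄ 1 = p 5 := by
      rw [shiftR_lo _ b m₃ m₄ (by omega : 1 + 2 ≤ b), shiftR_lo p b m₁ m₂ (by omega : 1 + 2 + 2 ≤ b)]
    have hs₂b : shiftR (shiftR p b m₁ m₂) b m₃ m₄ b = m₄ := shiftR_last _ b m₃ m₄
    -- FACT1 : `c_y ∉ Q_{m₄}`
    have h35 : p 3 ≠ p 5 := crit_nobacktrack h hc (i := 3) (by omega)
    have hnot : cE G Adj y ∉ Qs G Adj m₄ := by
      have := cE_not_mem_Qs H hs₂ (v := y) (β := p 3)
        (by rw [hs₂0]; exact h.symm _ _ h34) hy (by rw [hs₂1]; exact h35) (by rw [hs₂0]; exact hy4)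
      rw [hs₂b] at this
      exact this
    -- BACK
    have hb2 : p (b - 2) ≠ p b := by
      have := crit_nobacktrack h hc (i := b - 2) (by omega)
      have e : b - 2 + 2 = b := by omega
      rw [e] at this
      exact this
    have hb12 : Adj (p (b - 1)) (p (b - 2)) := by
      have := hw (b - 2) (by omega)
      have e : b - 2 + 1 = b - 1 := by omega
      rw [e] at this
      exact h.symm _ _ this
    obtain ⟨y', hy', hy'2, hy'b⟩ := tri3rel_third h (p b) hb12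
    -- the common end: `P = c_w`, `w ~ p (b-1)`
    obtain ⟨w, hwadj, hPw⟩ : ∃ w, Adj (p (b - 1)) w ∧
        cE G Adj (p 0) * cE G Adj (p 1) * (cE G Adj (p 2) * cE G Adj (p 3)) = cE G Adj w := by
      rcases back H hX hb4 hc hm₁ hm₂ hm₂ne hs₁ hy' hy'b hy'2 with hB | hB
      · exact ⟨p (b - 2), hb12, hB⟩
      · exact ⟨y', hy', hB⟩
    -- `w` has type `A`
    have htyb1 : ty (p (b - 1)) ≠ A := by
      obtain ⟨hev, hty⟩ := crit_ty H hc
      intro e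
      have := (hty (b - 1) (by omega)).mp e
      obtain ⟨k, hk⟩ := hev
      obtain ⟨k', hk'⟩ := this
      omega
    have htyw : ty w = A := by
      have hne := H.bip.adj_ty _ _ hwadj
      revert hne htyb1
      cases ty (p (b - 1)) <;> cases ty w <;> cases A <;> simp
    -- FACT2
    have hwalk : IsWalk Adj (tri3rel_walk w (p (b - 1)) (p b) m₁ m₂ m₃ m₄) 6 := by
      intro i hi
      interval_cases i
      · exact h.symm _ _ hwadj
      · exact h.symm _ _ hbb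
      · exact hm₁
      · exact hm₂
      · exact hm₃
      · exact hm₄
    have hmem := cE_mem_Qs_far H hwalk (by omega) htyw
    have hmem' : cE G Adj w ∈ Qs G Adj m₄ := hmem
    apply hnot
    rw [← hP, hPw]
    exact hmem'

end Cfsg.Agent.Lib.Helper9.TRI
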