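import Cfsg.Agent.Lib.Helper21.TS4C1Ac
import Cfsg.Agent.Lib.Lead.TS2SQZ

/-!
# Project TS4 (S5666, NT world, `4 ≤ a`), piece C1A (helper21): `c1A_of_ntsA` VERBATIM vs `helper6/TS4/Skel`.

`t = m x_u(c) m⁻¹ ∈ K0`, `(t - 1)² = 0`; `sqz_kron`: `t = (1+N) ⊗ 1` (rank count: `rank N ≤ 1`, done) or
`t = 1 ⊗ (1+N)`: impossible (Siegel element `1 ⊗ ρ_{w,z}`, `w ∈ im N`, `z ∈ ker N \ im N`, conjugated by `m`,
and `NtsA`).
-/

set_option autoImplicit false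
set_option linter.unusedSectionVars false
set_option linter.unusedVariables false

namespace Cfsg.Agent.Lib.Helper21.TS

open Matrix
open scoped Kronecker
open Cfsg.Agent.Lib.helper7.TP

variable {a b : ℕ} {F : Type*} [Field F]
variable {J1 : Matrix (Fin a) (Fin a) F} {J2 : Matrix (Fin b) (Fin b) F}

/-- the `B`-type case is impossible. -/
theorem ts4c1a_case2 (C : Ctx J1 J2) (ha : 3 ≤ a) (hb : 1 ≤ b)
    (M : Subgroup (Matrix.GeneralLinearGroup (Fin a × Fin b) F)) (hT0 : T0 J1 J2 ≤ M)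
    (hN : NtsA J1 M)
    (m : Matrix.GeneralLinearGroup (Fin a × Fin b) F) (hm : m ∈ M) (u : Fin a → F) (c : F)
    (hu : u ≠ 0) (hc : c ≠ 0) (N : Matrix (Fin b) (Fin b) F) (hNN : N * N = 0)
    (hD : (1 : Matrix (Fin a) (Fin a) F) ⊗ₖ N =
      (m : Matrix (Fin a × Fin b) (Fin a × Fin b) F) *
        (opm J1 u u ⊗ₖ (c • (1 : Matrix (Fin b) (Fin b) F))) *
        ((m⁻¹ : Matrix.GeneralLinearGroup (Fin a × Fin b) F) :
          Matrix (Fin a × Fin b) (Fin a × Fin b) F))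
    (hP : ∀ y y' : Fin b → F, bf J2 (y + N *ᵥ y) (y' + N *ᵥ y') = bf J2 y y') : False := by
  set mm := (m : Matrix (Fin a × Fin b) (Fin a × Fin b) F) with hmm
  set mi := ((m⁻¹ : Matrix.GeneralLinearGroup (Fin a × Fin b) F) :
    Matrix (Fin a × Fin b) (Fin a × Fin b) F) with hmi
  have h1 : mm * mi = 1 := by rw [hmm, hmi, ← Units.val_mul, mul_inv_cancel, Units.val_one]
  have h2 : mi * mm = 1 := by rw [hmm, hmi, ← Units.val_mul, inv_mul_cancel, Units.val_one]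
  obtain ⟨hE2, hE3⟩ := ts4c1a_iso N hNN hP
  obtain ⟨w₀, hw⟩ := ts4c1a_ne C hb mm mi h2 u c hu hc N hD
  obtain ⟨z, hNz, hz⟩ := ts4c1a_kerim C ha hb mm mi h2 u c hu N hD
  have hww : bf J2 (N *ᵥ w₀) (N *ᵥ w₀) = 0 := hE2 w₀ w₀
  have hwz : bf J2 (N *ᵥ w₀) z = 0 := by
    have := hE3 w₀ z
    rw [hNz, bf_zero_right, zero_add] at this
    exact this
  have hzneg : bf J2 (N *ᵥ w₀) (-z) = 0 := by rw [bf_neg_right, hwz, neg_zero]
  let ρG : Matrix.GeneralLinearGroup (Fin b) F :=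
    ⟨sieg J2 (N *ᵥ w₀) z, sieg J2 (N *ᵥ w₀) (-z),
      by rw [sieg_mul C.sym C.two hww hwz hzneg, add_neg_cancel, tssieg_zero],
      by rw [sieg_mul C.sym C.two hww hzneg hwz, neg_add_cancel, tssieg_zero]⟩
  have hρG : (ρG : Matrix (Fin b) (Fin b) F) = sieg J2 (N *ᵥ w₀) z := rfl
  have hρIso : ρG ∈ Iso J2 :=
    (mem_Iso_iff_bf J2 ρG).mpr (fun x y => by rw [hρG]; exact tssieg_iso C.sym C.two hww hwz x y)
  have hr : kronG (1 : Matrix.GeneralLinearGroup (Fin a) F) ρG ∈ T0 J1 J2 :=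
    kronG_mem_T0 (Subgroup.one_mem _) hρIso
  have hr'M : m⁻¹ * kronG (1 : Matrix.GeneralLinearGroup (Fin a) F) ρG * m ∈ M :=
    M.mul_mem (M.mul_mem (M.inv_mem hm) (hT0 hr)) hm
  have hr'coe : ((m⁻¹ * kronG (1 : Matrix.GeneralLinearGroup (Fin a) F) ρG * m :
      Matrix.GeneralLinearGroup (Fin a × Fin b) F) : Matrix (Fin a × Fin b) (Fin a × Fin b) F) =
      mi * ((1 : Matrix (Fin a) (Fin a) F) ⊗ₖ sieg J2 (N *ᵥ w₀) z) * mm := by
    rw [Units.val_mul, Units.val_mul, kronG_coe, Units.val_one, hρG]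
  have hρ : ∀ x : Fin b → F, sieg J2 (N *ᵥ w₀) z *ᵥ x = x + bf J2 z x • (N *ᵥ w₀) -
      bf J2 (N *ᵥ w₀) x • z - (bf J2 z z / 2 * bf J2 (N *ᵥ w₀) x) • (N *ᵥ w₀) :=
    fun x => sieg_mulVec J2 _ z x
  have hR1 : ∀ x' : Fin b → F, sieg J2 (N *ᵥ w₀) z *ᵥ (N *ᵥ x') = N *ᵥ x' := by
    intro x'
    have e1 : bf J2 z (N *ᵥ x') = 0 := by
      have := hE3 z x'
      rw [hNz, bf_zero_left, add_zero] at this
      exact this
    rw [hρ, e1, hE2, zero_smul, zero_smul, mul_zero, zero_smul, add_zero, sub_zero, sub_zero]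
  have hR2 : ∀ x' : Fin b → F, N *ᵥ x' = 0 →
      sieg J2 (N *ᵥ w₀) z *ᵥ x' = x' + N *ᵥ (bf J2 z x' • w₀) := by
    intro x' hx'
    have e1 : bf J2 (N *ᵥ w₀) x' = 0 := by
      have := hE3 w₀ x'
      rw [hx', bf_zero_right, zero_add] at this
      exact this
    rw [hρ, e1, zero_smul, mul_zero, zero_smul, sub_zero, sub_zero, Matrix.mulVec_smul]
  obtain ⟨x₀, c₀, hx₀, hHA⟩ := hN _ hr'M u hu
    (fun y => by rw [hr'coe]; exact ts4c1a_F1 C mm mi h2 u c hu hc N _ hD hR1 y)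
    (fun x hx y => by rw [hr'coe]; exact ts4c1a_F2 C mm mi h2 u c N _ w₀ z hD hR2 x hx y)
  unfold HA at hHA
  have hHA' : ∀ (x : Fin a → F) (y : Fin b → F),
      (mi * ((1 : Matrix (Fin a) (Fin a) F) ⊗ₖ sieg J2 (N *ᵥ w₀) z) * mm) *ᵥ ten x y =
        ten x y + bf J1 x x₀ • ten u y + bf J1 x u • ten x₀ y + (bf J1 x u * c₀) • ten u y := by
    intro x y
    have := hHA x y
    rw [hr'coe, Matrix.one_mulVec, Matrix.smul_mulVec, Matrix.one_mulVec, ten_smul_right,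
      smul_smul] at this
    exact this
  by_cases hcase : ∃ l : F, x₀ = l • u
  · obtain ⟨l, hl⟩ := hcase
    apply ts4c1a_subA C (by omega) mm mi h1 h2 u c hu hc N _ w₀ z hD hρ hw hz (-(2 * l + c₀))
    apply ts4c1a_mat_ext
    intro x y
    rw [hHA', Matrix.add_mulVec, Matrix.one_mulVec, ts4c1a_Nu_ten, hl, bf_smul_right, ten_smul_left,
      bf_alt C.alt u x]
    module
  · push Not at hcase
    have hex : ∃ x₂ : Fin a → F, bf J1 x₂ u = 0 ∧ bf J1 x₂ x₀ ≠ 0 := by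
      by_contra hcon
      push Not at hcon
      obtain ⟨t, ht⟩ := tshti_dperp C.alt C.det1 hu hcon
      exact hcase t ht
    obtain ⟨x₂, hx₂u, hx₂x₀⟩ := hex
    apply ts4c1a_subB C (by omega) mm mi h1 h2 u c hu hc N _ w₀ z hD hρ hw hz hE3
      ((bf J1 x₂ x₀)⁻¹ • x₂)
    intro y
    rw [hHA', bf_smul_left, bf_smul_left, hx₂u, inv_mul_cancel₀ hx₂x₀, mul_zero, zero_mul,
      zero_smul, zero_smul, one_smul, add_zero, add_zero]

/-- C1A: `m ∈ M`, `t = m x_u(c) m⁻¹ ∈ K0` ⇒ `m L_u = L_{u'}` (needs `3 ≤ a`: `L_u^⊥ ≠ L_u`). -/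
theorem c1A_of_ntsA (C : Ctx J1 J2) (ha : 3 ≤ a) (hb : 3 ≤ b)
    (M : Subgroup (Matrix.GeneralLinearGroup (Fin a × Fin b) F)) (hT0 : T0 J1 J2 ≤ M)
    (hMS : M ≤ SpV J1 J2) (hN : NtsA J1 M)
    (m : Matrix.GeneralLinearGroup (Fin a × Fin b) F) (hm : m ∈ M) (u : Fin a → F) (c : F)
    (hu : u ≠ 0) (hc : c ≠ 0) (ht : m * xA C u c * m⁻¹ ∈ K0 a b F) :
    ∃ u' : Fin a → F, u' ≠ 0 ∧ ∀ y : Fin b → F, ∃ y' : Fin b → F,
      (m : Matrix (Fin a × Fin b) (Fin a × Fin b) F) *ᵥ ten u y = ten u' y' := by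
  set mm := (m : Matrix (Fin a × Fin b) (Fin a × Fin b) F) with hmm
  set mi := ((m⁻¹ : Matrix.GeneralLinearGroup (Fin a × Fin b) F) :
    Matrix (Fin a × Fin b) (Fin a × Fin b) F) with hmi
  have h1 : mm * mi = 1 := by rw [hmm, hmi, ← Units.val_mul, mul_inv_cancel, Units.val_one]
  have h2 : mi * mm = 1 := by rw [hmm, hmi, ← Units.val_mul, inv_mul_cancel, Units.val_one]
  have hcoe : ((m * xA C u c * m⁻¹ : Matrix.GeneralLinearGroup (Fin a × Fin b) F) :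
      Matrix (Fin a × Fin b) (Fin a × Fin b) F) =
      1 + mm * (opm J1 u u ⊗ₖ (c • (1 : Matrix (Fin b) (Fin b) F))) * mi := by
    rw [Units.val_mul, Units.val_mul, xA_coe, XAm, Matrix.mul_add, Matrix.add_mul, Matrix.mul_one, h1]
  have hNuNu : (opm J1 u u ⊗ₖ (c • (1 : Matrix (Fin b) (Fin b) F))) *
      (opm J1 u u ⊗ₖ (c • (1 : Matrix (Fin b) (Fin b) F))) = 0 := by
    rw [← Matrix.mul_kronecker_mul, opm_mul_opm, bf_self_alt C.alt C.two, zero_smul,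
      Matrix.zero_kronecker]
  have hsq : (((m * xA C u c * m⁻¹ : Matrix.GeneralLinearGroup (Fin a × Fin b) F) :
      Matrix (Fin a × Fin b) (Fin a × Fin b) F) - 1) *
      (((m * xA C u c * m⁻¹ : Matrix.GeneralLinearGroup (Fin a × Fin b) F) :
      Matrix (Fin a × Fin b) (Fin a × Fin b) F) - 1) = 0 := by
    rw [hcoe, add_sub_cancel_left]
    rw [show mm * (opm J1 u u ⊗ₖ (c • (1 : Matrix (Fin b) (Fin b) F))) * mi *
        (mm * (opm J1 u u ⊗ₖ (c • (1 : Matrix (Fin b) (Fin b) F))) * mi) =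
        mm * ((opm J1 u u ⊗ₖ (c • (1 : Matrix (Fin b) (Fin b) F))) * (mi * mm) *
          (opm J1 u u ⊗ₖ (c • (1 : Matrix (Fin b) (Fin b) F)))) * mi by
      simp only [Matrix.mul_assoc], h2, Matrix.mul_one, hNuNu, Matrix.mul_zero, Matrix.zero_mul]
  rcases sqz_kron C.two (by omega) (by omega) _ ht hsq with ⟨N, hNN, hN1⟩ | ⟨N, hNN, hN1⟩
  · apply ts4c1a_case1 C (by omega) mm mi h2 u c hu hc N
    have := hN1
    rw [hcoe, Matrix.add_kronecker, Matrix.one_kronecker_one] at this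
    exact (add_left_cancel this).symm
  · exfalso
    have hD : (1 : Matrix (Fin a) (Fin a) F) ⊗ₖ N =
        mm * (opm J1 u u ⊗ₖ (c • (1 : Matrix (Fin b) (Fin b) F))) * mi := by
      have := hN1
      rw [hcoe, Matrix.kronecker_add, Matrix.one_kronecker_one] at this
      exact (add_left_cancel this).symm
    have htS : m * xA C u c * m⁻¹ ∈ SpV J1 J2 :=
      (SpV J1 J2).mul_mem ((SpV J1 J2).mul_mem (hMS hm)
        (XAG_mem_SpV C.alt u _ ((selfAdj_one J2).smul c))) ((SpV J1 J2).inv_mem (hMS hm))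
    have hbf := (mem_Iso_iff_bf _ _).mp htS
    obtain ⟨x₁, hx₁⟩ := bf_nondeg C.det1 hu
    have hP : ∀ y y' : Fin b → F, bf J2 (y + N *ᵥ y) (y' + N *ᵥ y') = bf J2 y y' := by
      intro y y'
      have := hbf (ten u y) (ten x₁ y')
      rw [hN1, kron_mulVec_ten, kron_mulVec_ten, Matrix.one_mulVec, Matrix.one_mulVec, bf_JV_ten,
        bf_JV_ten, Matrix.add_mulVec, Matrix.add_mulVec, Matrix.one_mulVec, Matrix.one_mulVec] at this
      exact mul_left_cancel₀ hx₁ this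
    exact ts4c1a_case2 C ha (by omega) M hT0 hN m hm u c hu hc N hNN hD hP

end Cfsg.Agent.Lib.Helper21.TS
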