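import Cfsg.Agent.Lib.helper6.TS4.Defs
import Cfsg.Agent.Lib.helper6.TSSIEG
import Cfsg.Agent.Lib.Helper9.TSHTI

/-!
# Project TS4 (S5666, NT world, `4 ≤ a`), piece C1A, part a: generic lemmas and the `A`-type case (helper21)
-/

set_option autoImplicit false
set_option linter.unusedSectionVars false
set_option linter.unusedVariables false

namespace Cfsg.Agent.Lib.Helper21.TS

open Matrix
open scoped Kronecker
open Cfsg.Agent.Lib.helper7.TP

variable {a b : ℕ} {F : Type*} [Field F]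
variable {J1 : Matrix (Fin a) (Fin a) F} {J2 : Matrix (Fin b) (Fin b) F}

/-- entries of `(γ ⊗ 1) v`. -/
theorem ts4c1a_kron_one_mulVec (γ : Matrix (Fin a) (Fin a) F) (v : Fin a × Fin b → F)
    (i : Fin a) (j : Fin b) :
    ((γ ⊗ₖ (1 : Matrix (Fin b) (Fin b) F)) *ᵥ v) (i, j) = (γ *ᵥ fun i' => v (i', j)) i := by
  simp only [Matrix.mulVec, dotProduct, Fintype.sum_prod_type, Matrix.kroneckerMap_apply,
    Matrix.one_apply]
  apply Finset.sum_congr rfl
  intro i' _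
  simp

/-- entries of `(1 ⊗ γ) v`. -/
theorem ts4c1a_one_kron_mulVec (γ : Matrix (Fin b) (Fin b) F) (v : Fin a × Fin b → F)
    (i : Fin a) (j : Fin b) :
    (((1 : Matrix (Fin a) (Fin a) F) ⊗ₖ γ) *ᵥ v) (i, j) = (γ *ᵥ fun j' => v (i, j')) j := by
  simp only [Matrix.mulVec, dotProduct, Fintype.sum_prod_type, Matrix.kroneckerMap_apply,
    Matrix.one_apply]
  simp

/-- `rank (γ ⊗ 1_b) = b * rank γ`. -/
theorem ts4c1a_rank_kron_one (γ : Matrix (Fin a) (Fin a) F) :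
    (γ ⊗ₖ (1 : Matrix (Fin b) (Fin b) F)).rank = b * γ.rank := by
  classical
  let Φ : (Fin b → LinearMap.range γ.mulVecLin) →ₗ[F] (Fin a × Fin b → F) :=
    { toFun := fun f p => (f p.2 : Fin a → F) p.1
      map_add' := by intro f g; funext p; simp
      map_smul' := by intro c f; funext p; simp }
  have hΦ : ∀ f p, Φ f p = (f p.2 : Fin a → F) p.1 := fun f p => rfl
  have hinj : Function.Injective Φ := by
    intro f g h
    funext j
    apply Subtype.ext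
    funext i
    exact congrFun h (i, j)
  have hrange : LinearMap.range Φ =
      LinearMap.range (γ ⊗ₖ (1 : Matrix (Fin b) (Fin b) F)).mulVecLin := by
    apply le_antisymm
    · rintro _ ⟨f, rfl⟩
      have : ∀ j, ∃ g : Fin a → F, γ *ᵥ g = (f j : Fin a → F) := fun j => by
        obtain ⟨g, hg⟩ := (f j).2
        exact ⟨g, by rw [← hg, Matrix.mulVecLin_apply]⟩
      choose g hg using this
      refine ⟨fun p => g p.2 p.1, ?_⟩
      funext p
      obtain ⟨i, j⟩ := p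
      rw [Matrix.mulVecLin_apply, ts4c1a_kron_one_mulVec, hΦ]
      exact congrFun (hg j) i
    · rintro _ ⟨v, rfl⟩
      refine ⟨fun j => ⟨γ *ᵥ (fun i' => v (i', j)), ⟨_, Matrix.mulVecLin_apply _ _⟩⟩, ?_⟩
      funext p
      obtain ⟨i, j⟩ := p
      rw [Matrix.mulVecLin_apply, ts4c1a_kron_one_mulVec, hΦ]
  rw [Matrix.rank, ← hrange, LinearMap.finrank_range_of_inj hinj, Module.finrank_pi_fintype]
  simp [Matrix.rank]

/-- two matrices that agree on all pure tensors are equal. -/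
theorem ts4c1a_mat_ext {X Y : Matrix (Fin a × Fin b) (Fin a × Fin b) F}
    (h : ∀ (u : Fin a → F) (w : Fin b → F), X *ᵥ ten u w = Y *ᵥ ten u w) : X = Y := by
  have hs : ∀ (i : Fin a) (j : Fin b),
      ten (Pi.single i (1 : F)) (Pi.single j (1 : F)) = Pi.single (i, j) (1 : F) := by
    intro i j
    funext p
    obtain ⟨i', j'⟩ := p
    simp only [ten, Pi.single_apply, Prod.mk.injEq]
    by_cases hi : i' = i <;> by_cases hj : j' = j <;> simp [hi, hj]
  ext p r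
  obtain ⟨i, j⟩ := r
  have := congrFun (h (Pi.single i 1) (Pi.single j 1)) p
  rw [hs, Matrix.mulVec_single_one, Matrix.mulVec_single_one] at this
  exact this

/-- the nilpotent part of `x_u(c)`: its image is in `L_u`. -/
theorem ts4c1a_Nu_range (J1 : Matrix (Fin a) (Fin a) F) (u : Fin a → F) (c : F)
    (q : Fin a × Fin b → F) :
    ∃ y : Fin b → F, (opm J1 u u ⊗ₖ (c • (1 : Matrix (Fin b) (Fin b) F))) *ᵥ q = ten u y := by
  refine ⟨fun j => c * bf J1 u (fun i' => q (i', j)), ?_⟩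
  funext p
  obtain ⟨i, j⟩ := p
  rw [Matrix.kronecker_smul, ← Matrix.smul_kronecker, ts4c1a_kron_one_mulVec, Matrix.smul_mulVec,
    opm_mulVec]
  simp only [ten, Pi.smul_apply, smul_eq_mul]
  ring

theorem ts4c1a_Nu_ten (J1 : Matrix (Fin a) (Fin a) F) (u : Fin a → F) (c : F)
    (x : Fin a → F) (y : Fin b → F) :
    (opm J1 u u ⊗ₖ (c • (1 : Matrix (Fin b) (Fin b) F))) *ᵥ ten x y =
      (c * bf J1 u x) • ten u y := by
  rw [kron_mulVec_ten, opm_mulVec, Matrix.smul_mulVec, Matrix.one_mulVec, ten_smul_left,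
    ten_smul_right, smul_smul, mul_comm]

/-- `m L_u ⊆ im D`. -/
theorem ts4c1a_mLu (C : Ctx J1 J2) (mm mi D : Matrix (Fin a × Fin b) (Fin a × Fin b) F)
    (h2 : mi * mm = 1) (u : Fin a → F) (c : F) (hu : u ≠ 0) (hc : c ≠ 0)
    (hD : D = mm * (opm J1 u u ⊗ₖ (c • (1 : Matrix (Fin b) (Fin b) F))) * mi)
    (y : Fin b → F) : ∃ v : Fin a × Fin b → F, mm *ᵥ ten u y = D *ᵥ v := by
  obtain ⟨x₁, hx₁⟩ := bf_nondeg C.det1 hu
  refine ⟨(c * bf J1 u x₁)⁻¹ • (mm *ᵥ ten x₁ y), ?_⟩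
  have hne : c * bf J1 u x₁ ≠ 0 := mul_ne_zero hc hx₁
  have e : mi *ᵥ (mm *ᵥ ten x₁ y) = ten x₁ y := by
    rw [Matrix.mulVec_mulVec, h2, Matrix.one_mulVec]
  rw [hD, Matrix.mulVec_smul, ← Matrix.mulVec_mulVec, ← Matrix.mulVec_mulVec, e,
    ts4c1a_Nu_ten, Matrix.mulVec_smul, smul_smul, inv_mul_cancel₀ hne, one_smul]

/-- Case 1 (`A`-type). -/
theorem ts4c1a_case1 (C : Ctx J1 J2) (hb : 1 ≤ b)
    (mm mi : Matrix (Fin a × Fin b) (Fin a × Fin b) F) (h2 : mi * mm = 1)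
    (u : Fin a → F) (c : F) (hu : u ≠ 0) (hc : c ≠ 0) (N : Matrix (Fin a) (Fin a) F)
    (hD : N ⊗ₖ (1 : Matrix (Fin b) (Fin b) F) =
      mm * (opm J1 u u ⊗ₖ (c • (1 : Matrix (Fin b) (Fin b) F))) * mi) :
    ∃ u' : Fin a → F, u' ≠ 0 ∧ ∀ y : Fin b → F, ∃ y' : Fin b → F, mm *ᵥ ten u y = ten u' y' := by
  classical
  have hr1 : (N ⊗ₖ (1 : Matrix (Fin b) (Fin b) F)).rank ≤ b := by
    rw [hD]
    refine le_trans (Matrix.rank_mul_le_left _ _) (le_trans (Matrix.rank_mul_le_right _ _) ?_)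
    rw [Matrix.kronecker_smul, ← Matrix.smul_kronecker, ts4c1a_rank_kron_one]
    have : (c • opm J1 u u).rank ≤ 1 := by
      rw [opm, ← Matrix.smul_vecMulVec]
      exact Matrix.rank_vecMulVec_le _ _
    calc b * (c • opm J1 u u).rank ≤ b * 1 := Nat.mul_le_mul_left _ this
      _ = b := mul_one b
  rw [ts4c1a_rank_kron_one] at hr1
  have hrN : N.rank ≤ 1 := by
    by_contra hcon
    push Not at hcon
    have : b * 2 ≤ b * N.rank := Nat.mul_le_mul_left _ hcon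
    omega
  rw [Matrix.rank] at hrN
  obtain ⟨u₀, hu₀⟩ := finrank_le_one_iff.mp hrN
  have hrow : ∀ x : Fin a → F, ∃ k : F, N *ᵥ x = k • (u₀ : Fin a → F) := by
    intro x
    obtain ⟨k, hk⟩ := hu₀ ⟨N *ᵥ x, ⟨x, Matrix.mulVecLin_apply _ _⟩⟩
    exact ⟨k, by rw [← Submodule.coe_smul, hk]⟩
  have key : ∀ y : Fin b → F, ∃ y' : Fin b → F, mm *ᵥ ten u y = ten (u₀ : Fin a → F) y' := by
    intro y
    obtain ⟨v, hv⟩ := ts4c1a_mLu C mm mi (N ⊗ₖ (1 : Matrix (Fin b) (Fin b) F)) h2 u c hu hc hD y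
    choose k hk using hrow
    refine ⟨fun j => k (fun i' => v (i', j)), ?_⟩
    rw [hv]
    funext p
    obtain ⟨i, j⟩ := p
    rw [ts4c1a_kron_one_mulVec, hk]
    simp only [ten, Pi.smul_apply, smul_eq_mul]
    ring
  by_cases h0 : (u₀ : Fin a → F) = 0
  · refine ⟨u, hu, fun y => ⟨0, ?_⟩⟩
    obtain ⟨y', hy'⟩ := key y
    rw [hy', h0]
    funext p
    simp [ten]
  · exact ⟨u₀, h0, key⟩

end Cfsg.Agent.Lib.Helper21.TS
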