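import Cfsg.Agent.Lib.Helper21.TS4C1Aa

/-!
# Project TS4, piece C1A, part b: the `B`-type case is impossible (helper21)
-/

set_option autoImplicit false
set_option linter.unusedSectionVars false
set_option linter.unusedVariables false

namespace Cfsg.Agent.Lib.Helper21.TS

open Matrix
open scoped Kronecker
open Cfsg.Agent.Lib.helper7.TP

variable {a b : ℕ} {F : Type*} [Field F]
variable {J1 : Matrix (Fin a) (Fin a) F} {J2 : Matrix (Fin b) (Fin b) F}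

theorem ts4c1a_inj {mm mi : Matrix (Fin a × Fin b) (Fin a × Fin b) F} (h2 : mi * mm = 1)
    {v v' : Fin a × Fin b → F} (h : mm *ᵥ v = mm *ᵥ v') : v = v' := by
  have := congrArg (fun q => mi *ᵥ q) h
  simp only [Matrix.mulVec_mulVec, h2, Matrix.one_mulVec] at this
  exact this

/-- `(1 ⊗ N)`: rows. -/
theorem ts4c1a_row (N : Matrix (Fin b) (Fin b) F) (v : Fin a × Fin b → F) (i : Fin a) :
    (fun j' => (((1 : Matrix (Fin a) (Fin a) F) ⊗ₖ N) *ᵥ v) (i, j')) = N *ᵥ (fun j' => v (i, j')) := by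
  funext j'
  rw [ts4c1a_one_kron_mulVec]

/-- isometry `1 + N`, `N² = 0`: `N` is skew-adjoint with totally singular image. -/
theorem ts4c1a_iso (N : Matrix (Fin b) (Fin b) F) (hNN : N * N = 0)
    (hP : ∀ y y' : Fin b → F, bf J2 (y + N *ᵥ y) (y' + N *ᵥ y') = bf J2 y y') :
    (∀ x y : Fin b → F, bf J2 (N *ᵥ x) (N *ᵥ y) = 0) ∧
    (∀ x y : Fin b → F, bf J2 x (N *ᵥ y) + bf J2 (N *ᵥ x) y = 0) := by
  have hE1 : ∀ y y' : Fin b → F,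
      bf J2 y (N *ᵥ y') + bf J2 (N *ᵥ y) y' + bf J2 (N *ᵥ y) (N *ᵥ y') = 0 := by
    intro y y'
    have := hP y y'
    rw [bf_add_left, bf_add_right, bf_add_right] at this
    linear_combination this
  have hNN' : ∀ y : Fin b → F, N *ᵥ (N *ᵥ y) = 0 := by
    intro y
    rw [Matrix.mulVec_mulVec, hNN, Matrix.zero_mulVec]
  have hE2 : ∀ x y : Fin b → F, bf J2 (N *ᵥ x) (N *ᵥ y) = 0 := by
    intro x y
    have := hE1 x (N *ᵥ y)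
    rw [hNN', bf_zero_right, bf_zero_right] at this
    linear_combination this
  refine ⟨hE2, fun x y => ?_⟩
  have := hE1 x y
  rw [hE2] at this
  linear_combination this

/-- `N ≠ 0`. -/
theorem ts4c1a_ne (C : Ctx J1 J2) (hb : 1 ≤ b)
    (mm mi : Matrix (Fin a × Fin b) (Fin a × Fin b) F) (h2 : mi * mm = 1)
    (u : Fin a → F) (c : F) (hu : u ≠ 0) (hc : c ≠ 0) (N : Matrix (Fin b) (Fin b) F)
    (hD : (1 : Matrix (Fin a) (Fin a) F) ⊗ₖ N =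
      mm * (opm J1 u u ⊗ₖ (c • (1 : Matrix (Fin b) (Fin b) F))) * mi) :
    ∃ w₀ : Fin b → F, N *ᵥ w₀ ≠ 0 := by
  by_contra hcon
  push Not at hcon
  have hD0 : ∀ v : Fin a × Fin b → F, ((1 : Matrix (Fin a) (Fin a) F) ⊗ₖ N) *ᵥ v = 0 := by
    intro v
    funext p
    obtain ⟨i, j⟩ := p
    rw [ts4c1a_one_kron_mulVec, hcon]
    rfl
  let y₁ : Fin b → F := Pi.single ⟨0, hb⟩ 1
  have hy₁ : y₁ ≠ 0 := by
    intro h
    have := congrFun h ⟨0, hb⟩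
    simp [y₁] at this
  obtain ⟨v, hv⟩ := ts4c1a_mLu C mm mi _ h2 u c hu hc hD y₁
  rw [hD0] at hv
  have h0 : mm *ᵥ ten u y₁ = mm *ᵥ 0 := by rw [hv, Matrix.mulVec_zero]
  exact hy₁ (tshti_ten_zero hu (ts4c1a_inj h2 h0))

/-- `ker N ⊄ im N` (`3 ≤ a`). -/
theorem ts4c1a_kerim (C : Ctx J1 J2) (ha : 3 ≤ a) (hb : 1 ≤ b)
    (mm mi : Matrix (Fin a × Fin b) (Fin a × Fin b) F) (h2 : mi * mm = 1)
    (u : Fin a → F) (c : F) (hu : u ≠ 0) (N : Matrix (Fin b) (Fin b) F)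
    (hD : (1 : Matrix (Fin a) (Fin a) F) ⊗ₖ N =
      mm * (opm J1 u u ⊗ₖ (c • (1 : Matrix (Fin b) (Fin b) F))) * mi) :
    ∃ z : Fin b → F, N *ᵥ z = 0 ∧ ∀ p : Fin b → F, z ≠ N *ᵥ p := by
  by_contra hcon
  push Not at hcon
  obtain ⟨x, z', hxu, hz'u, hz'x⟩ := tshti_pair C.alt C.det1 ha hu
  let y₁ : Fin b → F := Pi.single ⟨0, hb⟩ 1
  have hy₁ : y₁ ≠ 0 := by
    intro h
    have := congrFun h ⟨0, hb⟩
    simp [y₁] at this
  have hux : bf J1 u x = 0 := by rw [bf_alt C.alt, hxu, neg_zero]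
  have hDv : ((1 : Matrix (Fin a) (Fin a) F) ⊗ₖ N) *ᵥ (mm *ᵥ ten x y₁) = 0 := by
    have e : mi *ᵥ (mm *ᵥ ten x y₁) = ten x y₁ := by
      rw [Matrix.mulVec_mulVec, h2, Matrix.one_mulVec]
    rw [hD, ← Matrix.mulVec_mulVec, ← Matrix.mulVec_mulVec, e, ts4c1a_Nu_ten, hux, mul_zero,
      zero_smul, Matrix.mulVec_zero]
  have hrows : ∀ i : Fin a, ∃ p : Fin b → F, (fun j' => (mm *ᵥ ten x y₁) (i, j')) = N *ᵥ p := by
    intro i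
    apply hcon
    rw [← ts4c1a_row, hDv]
    rfl
  choose p hp using hrows
  have hv : mm *ᵥ ten x y₁ =
      ((1 : Matrix (Fin a) (Fin a) F) ⊗ₖ N) *ᵥ (fun q : Fin a × Fin b => p q.1 q.2) := by
    funext q
    obtain ⟨i, j⟩ := q
    rw [ts4c1a_one_kron_mulVec]
    exact congrFun (hp i) j
  rw [hD, ← Matrix.mulVec_mulVec, ← Matrix.mulVec_mulVec] at hv
  have h3 := ts4c1a_inj h2 hv
  obtain ⟨y'', hy''⟩ := ts4c1a_Nu_range J1 u c (mi *ᵥ fun q : Fin a × Fin b => p q.1 q.2)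
  rw [hy''] at h3
  obtain ⟨e, he⟩ := tshti_ten_eq hy₁ h3
  apply hz'x
  rw [he, bf_smul_right, hz'u, mul_zero]

/-- (F1): `r'` fixes `L_u` pointwise. -/
theorem ts4c1a_F1 (C : Ctx J1 J2) (mm mi : Matrix (Fin a × Fin b) (Fin a × Fin b) F)
    (h2 : mi * mm = 1) (u : Fin a → F) (c : F) (hu : u ≠ 0) (hc : c ≠ 0)
    (N ρ : Matrix (Fin b) (Fin b) F)
    (hD : (1 : Matrix (Fin a) (Fin a) F) ⊗ₖ N =
      mm * (opm J1 u u ⊗ₖ (c • (1 : Matrix (Fin b) (Fin b) F))) * mi)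
    (hR1 : ∀ x' : Fin b → F, ρ *ᵥ (N *ᵥ x') = N *ᵥ x') (y : Fin b → F) :
    (mi * ((1 : Matrix (Fin a) (Fin a) F) ⊗ₖ ρ) * mm) *ᵥ ten u y = ten u y := by
  obtain ⟨v, hv⟩ := ts4c1a_mLu C mm mi _ h2 u c hu hc hD y
  have e : ((1 : Matrix (Fin a) (Fin a) F) ⊗ₖ ρ) *ᵥ (mm *ᵥ ten u y) = mm *ᵥ ten u y := by
    rw [hv]
    funext q
    obtain ⟨i, j⟩ := q
    rw [ts4c1a_one_kron_mulVec, ts4c1a_row, hR1, ts4c1a_one_kron_mulVec]
  rw [← Matrix.mulVec_mulVec, ← Matrix.mulVec_mulVec, e, Matrix.mulVec_mulVec, h2, Matrix.one_mulVec]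

/-- (F2): `(r' - 1) L_u^⊥ ⊆ L_u`. -/
theorem ts4c1a_F2 (C : Ctx J1 J2) (mm mi : Matrix (Fin a × Fin b) (Fin a × Fin b) F)
    (h2 : mi * mm = 1) (u : Fin a → F) (c : F)
    (N ρ : Matrix (Fin b) (Fin b) F) (w₀ z : Fin b → F)
    (hD : (1 : Matrix (Fin a) (Fin a) F) ⊗ₖ N =
      mm * (opm J1 u u ⊗ₖ (c • (1 : Matrix (Fin b) (Fin b) F))) * mi)
    (hR2 : ∀ x' : Fin b → F, N *ᵥ x' = 0 → ρ *ᵥ x' = x' + N *ᵥ (bf J2 z x' • w₀))
    (x : Fin a → F) (hx : bf J1 x u = 0) (y : Fin b → F) :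
    ∃ y' : Fin b → F,
      (mi * ((1 : Matrix (Fin a) (Fin a) F) ⊗ₖ ρ) * mm) *ᵥ ten x y = ten x y + ten u y' := by
  have hux : bf J1 u x = 0 := by rw [bf_alt C.alt, hx, neg_zero]
  have e : mi *ᵥ (mm *ᵥ ten x y) = ten x y := by
    rw [Matrix.mulVec_mulVec, h2, Matrix.one_mulVec]
  have hDv : ((1 : Matrix (Fin a) (Fin a) F) ⊗ₖ N) *ᵥ (mm *ᵥ ten x y) = 0 := by
    rw [hD, ← Matrix.mulVec_mulVec, ← Matrix.mulVec_mulVec, e, ts4c1a_Nu_ten, hux, mul_zero,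
      zero_smul, Matrix.mulVec_zero]
  have hrows : ∀ i : Fin a, N *ᵥ (fun j' => (mm *ᵥ ten x y) (i, j')) = 0 := by
    intro i
    rw [← ts4c1a_row, hDv]
    rfl
  let P : Fin a × Fin b → F := fun q => bf J2 z (fun j' => (mm *ᵥ ten x y) (q.1, j')) * w₀ q.2
  have hRv : ((1 : Matrix (Fin a) (Fin a) F) ⊗ₖ ρ) *ᵥ (mm *ᵥ ten x y) =
      mm *ᵥ ten x y + ((1 : Matrix (Fin a) (Fin a) F) ⊗ₖ N) *ᵥ P := by
    funext q
    obtain ⟨i, j⟩ := q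
    rw [Pi.add_apply, ts4c1a_one_kron_mulVec, ts4c1a_one_kron_mulVec, hR2 _ (hrows i), Pi.add_apply]
    rfl
  obtain ⟨y', hy'⟩ := ts4c1a_Nu_range J1 u c (mi *ᵥ P)
  refine ⟨y', ?_⟩
  have e2 : mi *ᵥ (mm *ᵥ ((opm J1 u u ⊗ₖ (c • (1 : Matrix (Fin b) (Fin b) F))) *ᵥ (mi *ᵥ P))) =
      (opm J1 u u ⊗ₖ (c • (1 : Matrix (Fin b) (Fin b) F))) *ᵥ (mi *ᵥ P) := by
    rw [Matrix.mulVec_mulVec, h2, Matrix.one_mulVec]
  rw [← Matrix.mulVec_mulVec, ← Matrix.mulVec_mulVec, hRv, Matrix.mulVec_add, e, hD,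
    ← Matrix.mulVec_mulVec, ← Matrix.mulVec_mulVec, e2, hy']

end Cfsg.Agent.Lib.Helper21.TS
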