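import Cfsg.Agent.Lib.Helper21.TS4C1Ab

/-!
# Project TS4, piece C1A, part c: the two final contradictions of the `B`-type case (helper21)
-/

set_option autoImplicit false
set_option linter.unusedSectionVars false
set_option linter.unusedVariables false

namespace Cfsg.Agent.Lib.Helper21.TS

open Matrix
open scoped Kronecker
open Cfsg.Agent.Lib.helper7.TP

variable {a b : ℕ} {F : Type*} [Field F]
variable {J1 : Matrix (Fin a) (Fin a) F} {J2 : Matrix (Fin b) (Fin b) F}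

theorem ts4c1a_ten_row (i₀ : Fin a) (y : Fin b → F) :
    (fun j' => ten (Pi.single i₀ (1 : F)) y (i₀, j')) = y := by
  funext j'
  simp [ten]

/-- sub-case A: `x₀ ∈ F u`. -/
theorem ts4c1a_subA (C : Ctx J1 J2) (ha : 1 ≤ a)
    (mm mi : Matrix (Fin a × Fin b) (Fin a × Fin b) F) (h1 : mm * mi = 1) (h2 : mi * mm = 1)
    (u : Fin a → F) (c : F) (hu : u ≠ 0) (hc : c ≠ 0)
    (N ρ : Matrix (Fin b) (Fin b) F) (w₀ z : Fin b → F)
    (hD : (1 : Matrix (Fin a) (Fin a) F) ⊗ₖ N =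
      mm * (opm J1 u u ⊗ₖ (c • (1 : Matrix (Fin b) (Fin b) F))) * mi)
    (hρ : ∀ x : Fin b → F, ρ *ᵥ x = x + bf J2 z x • (N *ᵥ w₀) - bf J2 (N *ᵥ w₀) x • z -
      (bf J2 z z / 2 * bf J2 (N *ᵥ w₀) x) • (N *ᵥ w₀))
    (hw : N *ᵥ w₀ ≠ 0) (hz : ∀ p : Fin b → F, z ≠ N *ᵥ p) (c' : F)
    (hR' : mi * ((1 : Matrix (Fin a) (Fin a) F) ⊗ₖ ρ) * mm =
      1 + opm J1 u u ⊗ₖ (c' • (1 : Matrix (Fin b) (Fin b) F))) : False := by
  obtain ⟨y₀, hy₀⟩ := bf_nondeg C.det2 hw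
  let i₀ : Fin a := ⟨0, ha⟩
  have hR : (1 : Matrix (Fin a) (Fin a) F) ⊗ₖ ρ =
      mm * (1 + opm J1 u u ⊗ₖ (c' • (1 : Matrix (Fin b) (Fin b) F))) * mi := by
    rw [← hR', ← Matrix.mul_assoc, ← Matrix.mul_assoc, h1, Matrix.one_mul, Matrix.mul_assoc, h1,
      Matrix.mul_one]
  let q : Fin a × Fin b → F := ten (Pi.single i₀ 1) y₀
  obtain ⟨y'', hy''⟩ := ts4c1a_Nu_range J1 u c' (mi *ᵥ q)
  obtain ⟨v, hv⟩ := ts4c1a_mLu C mm mi _ h2 u c hu hc hD y''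
  have hRq : ((1 : Matrix (Fin a) (Fin a) F) ⊗ₖ ρ) *ᵥ q =
      q + ((1 : Matrix (Fin a) (Fin a) F) ⊗ₖ N) *ᵥ v := by
    rw [hR, ← Matrix.mulVec_mulVec, ← Matrix.mulVec_mulVec, Matrix.add_mulVec, Matrix.one_mulVec,
      hy'', Matrix.mulVec_add, Matrix.mulVec_mulVec, h1, Matrix.one_mulVec, hv]
  have hrow : ρ *ᵥ y₀ = y₀ + N *ᵥ (fun j' => v (i₀, j')) := by
    have := congrArg (fun (s : Fin a × Fin b → F) => fun j' => s (i₀, j')) hRq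
    simp only at this
    rw [ts4c1a_row] at this
    rw [show (fun j' => q (i₀, j')) = y₀ from ts4c1a_ten_row i₀ y₀] at this
    rw [this]
    funext j'
    simp only [Pi.add_apply]
    rw [show q (i₀, j') = y₀ j' from congrFun (ts4c1a_ten_row i₀ y₀) j', ← ts4c1a_row]
  rw [hρ] at hrow
  set β := bf J2 (N *ᵥ w₀) y₀ with hβ
  have h3 : β • z = N *ᵥ ((bf J2 z y₀ - bf J2 z z / 2 * β) • w₀ - fun j' => v (i₀, j')) := by
    rw [Matrix.mulVec_sub, Matrix.mulVec_smul]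
    linear_combination (norm := module) (-1 : F) • hrow
  apply hz (β⁻¹ • ((bf J2 z y₀ - bf J2 z z / 2 * β) • w₀ - fun j' => v (i₀, j')))
  rw [Matrix.mulVec_smul, ← h3, smul_smul, inv_mul_cancel₀ hy₀, one_smul]

/-- sub-case B: `x₀ ∉ F u`. -/
theorem ts4c1a_subB (C : Ctx J1 J2) (ha : 1 ≤ a)
    (mm mi : Matrix (Fin a × Fin b) (Fin a × Fin b) F) (h1 : mm * mi = 1) (h2 : mi * mm = 1)
    (u : Fin a → F) (c : F) (hu : u ≠ 0) (hc : c ≠ 0)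
    (N ρ : Matrix (Fin b) (Fin b) F) (w₀ z : Fin b → F)
    (hD : (1 : Matrix (Fin a) (Fin a) F) ⊗ₖ N =
      mm * (opm J1 u u ⊗ₖ (c • (1 : Matrix (Fin b) (Fin b) F))) * mi)
    (hρ : ∀ x : Fin b → F, ρ *ᵥ x = x + bf J2 z x • (N *ᵥ w₀) - bf J2 (N *ᵥ w₀) x • z -
      (bf J2 z z / 2 * bf J2 (N *ᵥ w₀) x) • (N *ᵥ w₀))
    (hw : N *ᵥ w₀ ≠ 0) (hz : ∀ p : Fin b → F, z ≠ N *ᵥ p)
    (hE3 : ∀ x y : Fin b → F, bf J2 x (N *ᵥ y) + bf J2 (N *ᵥ x) y = 0)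
    (x₂ : Fin a → F)
    (hR' : ∀ y : Fin b → F, (mi * ((1 : Matrix (Fin a) (Fin a) F) ⊗ₖ ρ) * mm) *ᵥ ten x₂ y =
      ten x₂ y + ten u y) : False := by
  let i₀ : Fin a := ⟨0, ha⟩
  -- (B1)
  have hB1 : ∀ (y : Fin b → F) (i : Fin a), ∃ k : F,
      (fun j' => (mm *ᵥ ten u y) (i, j')) = k • (N *ᵥ w₀) := by
    intro y i
    obtain ⟨v, hv⟩ := ts4c1a_mLu C mm mi _ h2 u c hu hc hD y
    have e1 : mm *ᵥ ten u y = ((1 : Matrix (Fin a) (Fin a) F) ⊗ₖ ρ) *ᵥ (mm *ᵥ ten x₂ y) -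
        mm *ᵥ ten x₂ y := by
      have this : mm *ᵥ ((mi * ((1 : Matrix (Fin a) (Fin a) F) ⊗ₖ ρ) * mm) *ᵥ ten x₂ y) =
          mm *ᵥ (ten x₂ y + ten u y) := by rw [hR' y]
      rw [← Matrix.mulVec_mulVec, ← Matrix.mulVec_mulVec, Matrix.mulVec_mulVec, h1,
        Matrix.one_mulVec, Matrix.mulVec_add] at this
      rw [this]
      abel
    set q := mm *ᵥ ten x₂ y with hq
    have hrow1 : (fun j' => (mm *ᵥ ten u y) (i, j')) =
        ρ *ᵥ (fun j' => q (i, j')) - fun j' => q (i, j') := by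
      rw [← ts4c1a_row ρ]
      funext j'
      rw [e1]
      rfl
    have hrow2 : (fun j' => (mm *ᵥ ten u y) (i, j')) = N *ᵥ (fun j' => v (i, j')) := by
      rw [hv, ts4c1a_row]
    rw [hρ] at hrow1
    set qi : Fin b → F := fun j' => q (i, j') with hqi
    set t := bf J2 (N *ᵥ w₀) qi with ht
    by_cases ht0 : t = 0
    · refine ⟨bf J2 z qi, ?_⟩
      rw [hrow1, ht0]
      module
    · exfalso
      have h3 : t • z = N *ᵥ ((bf J2 z qi - bf J2 z z / 2 * t) • w₀ - fun j' => v (i, j')) := by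
        rw [Matrix.mulVec_sub, Matrix.mulVec_smul, ← hrow2, hrow1]
        module
      apply hz (t⁻¹ • ((bf J2 z qi - bf J2 z z / 2 * t) • w₀ - fun j' => v (i, j')))
      rw [Matrix.mulVec_smul, ← h3, smul_smul, inv_mul_cancel₀ ht0, one_smul]
  -- (B2)
  have hB2 : ∀ y' : Fin b → F, ∃ k : F, N *ᵥ y' = k • (N *ᵥ w₀) := by
    intro y'
    obtain ⟨y'', hy''⟩ := ts4c1a_Nu_range J1 u c (mi *ᵥ ten (Pi.single i₀ (1 : F)) y')
    obtain ⟨k, hk⟩ := hB1 y'' i₀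
    refine ⟨k, ?_⟩
    rw [← hk, ← hy'', Matrix.mulVec_mulVec, Matrix.mulVec_mulVec, ← hD,
      ts4c1a_row, ts4c1a_ten_row]
  -- (B3)
  have hB3 : bf J2 (N *ᵥ w₀) w₀ = 0 := by
    have := hE3 w₀ w₀
    rw [bf_symm C.sym w₀ (N *ᵥ w₀)] at this
    have h2' : (2 : F) * bf J2 (N *ᵥ w₀) w₀ = 0 := by linear_combination this
    rcases mul_eq_zero.mp h2' with h | h
    · exact (C.two h).elim
    · exact h
  -- (B4)
  apply hw
  apply tshti_zero_of_bf C.det2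
  intro x
  obtain ⟨k, hk⟩ := hB2 x
  have := hE3 x w₀
  rw [hk, bf_smul_left, hB3, mul_zero, add_zero] at this
  exact this

end Cfsg.Agent.Lib.Helper21.TS
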