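import Cfsg.Agent.Lib.Helper21.TS4C1A
import Cfsg.Agent.Lib.Helper16.TS4UFPcore
import Cfsg.Agent.Lib.helper17.TS4NT4core
import Cfsg.Agent.Lib.Helper28.TS4MEET
import Cfsg.Agent.Lib.Helper29.TS4GEN
import Cfsg.Agent.Lib.helper6.TS4BURN

/-!
# Project TS4: the assembled NT world for `4 ≤ a` (helper21, second copy of the UFP / NT4 wrappers under
seat-prefixed names, so that S5666 does not wait): `ts4h21_ufpA_of_stabA`, `ts4h21_nt_world4`.
-/

set_option autoImplicit false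
set_option linter.unusedSectionVars false
set_option linter.unusedVariables false

namespace Cfsg.Agent.Lib.Helper21.TS

open Matrix
open scoped Kronecker
open Cfsg.Agent.Lib.helper7.TP

variable {a b : ℕ} {F : Type*} [Field F]
variable {J1 : Matrix (Fin a) (Fin a) F} {J2 : Matrix (Fin b) (Fin b) F}

/-- UFP (statement of `ufpA_of_stabA`). -/
theorem ts4h21_ufpA_of_stabA (C : Ctx J1 J2) (ha : 3 ≤ a) (hb : 3 ≤ b)
    (M : Subgroup (Matrix.GeneralLinearGroup (Fin a × Fin b) F)) (hT0 : T0 J1 J2 ≤ M)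
    (hMS : M ≤ SpV J1 J2) (hN : NtsA J1 M) (hS : StabA M) : UfpA J1 J2 M :=
  ts4ufp_core C M hMS hS
    (fun m hm u c hu hc ht => c1A_of_ntsA C ha hb M hT0 hMS hN m hm u c hu hc ht)

/-- NT4 (statement of `nt_world4`). -/
theorem ts4h21_nt_world4 [Fintype F] (C : Ctx J1 J2) (ha : 4 ≤ a) (hb : 3 ≤ b)
    (M : Subgroup (Matrix.GeneralLinearGroup (Fin a × Fin b) F)) (hT0 : T0 J1 J2 ≤ M)
    (hMS : M ≤ SpV J1 J2) (hN : NtsA J1 M) (hS : StabA M) : M ≤ T0 J1 J2 :=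
  ts4nt4_core (by omega) M hMS
    (ts4h21_ufpA_of_stabA C (by omega) hb M hT0 hMS hN hS)
    (fun p _ _ hU g hg u₀ u hu₀ hu => meetA_of_ufpA p C M hT0 hMS hU g hg u₀ u hu₀ hu)
    (fun g hg hgK u₀ hu₀ hME => genA_of_meetA C ha M hS g hg hgK u₀ hu₀ hME)
    (fun p _ _ g hg u₀ hu₀ hG =>
      burn_false p C (by omega) (by omega) M hT0 hMS hS g hg u₀ hu₀ hG)

end Cfsg.Agent.Lib.Helper21.TS
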