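import Mathlib

/-!
# Project TSD (S5980), row ORTHINV (second copy): an orthogonal involution with prescribed `rank (β - 1)`.

Route: an orthogonal basis gives an invertible `P` with `Pᵀ J P` diagonal; `β = P diag(±1) P⁻¹`.
-/

set_option autoImplicit false
set_option linter.unusedVariables false
set_option linter.unusedSectionVars false

namespace Cfsg.Agent.Lib.helper4.TSD

open Matrix

variable {F : Type*} [Field F]

/-- a symmetric matrix (`2 ≠ 0`) is congruent to a diagonal matrix. -/
theorem tsdorthinv21_diag (h2 : (2 : F) ≠ 0) {b : ℕ} (J : Matrix (Fin b) (Fin b) F) (hJ : Jᵀ = J) :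
    ∃ P : Matrix (Fin b) (Fin b) F, P.det ≠ 0 ∧ ∃ w : Fin b → F, Pᵀ * J * P = diagonal w := by
  classical
  have hinv : Invertible (2 : F) := invertibleOfNonzero h2
  set B : LinearMap.BilinForm F (Fin b → F) := Matrix.toBilin' J with hBdef
  have hB : B.IsSymm := by
    refine ⟨fun x y => ?_⟩
    simp only [hBdef, Matrix.toBilin'_apply]
    rw [Finset.sum_comm]
    refine Finset.sum_congr rfl fun i _ => Finset.sum_congr rfl fun k _ => ?_
    have : J k i = J i k := by
      have := congrFun (congrFun hJ i) k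
      simpa [Matrix.transpose_apply] using this
    rw [this]; ring
  obtain ⟨v, hv⟩ := LinearMap.BilinForm.exists_orthogonal_basis (LinearMap.BilinForm.isSymm_iff.mp hB)
  have hfr : Module.finrank F (Fin b → F) = b := by simp
  let v' : Module.Basis (Fin b) F (Fin b → F) := v.reindex (finCongr hfr)
  have hv' : ∀ i k : Fin b, i ≠ k → B (v' i) (v' k) = 0 := by
    intro i k hik
    have : (finCongr hfr).symm i ≠ (finCongr hfr).symm k := fun h => hik ((finCongr hfr).symm.injective h)
    have := hv this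
    simpa [v', Module.Basis.reindex_apply] using this
  refine ⟨(Pi.basisFun F (Fin b)).toMatrix v', ?_, fun i => B (v' i) (v' i), ?_⟩
  · have h1 := (Pi.basisFun F (Fin b)).toMatrix_mul_toMatrix_flip v'
    intro h0
    have := congrArg Matrix.det h1
    rw [Matrix.det_mul, h0, zero_mul, Matrix.det_one] at this
    exact zero_ne_one this
  · ext i k
    have hent : ∀ s t : Fin b, (Pi.basisFun F (Fin b)).toMatrix v' s t = v' t s := by
      intro s t
      simp [Module.Basis.toMatrix_apply]
    have hval : (((Pi.basisFun F (Fin b)).toMatrix v')ᵀ * J * (Pi.basisFun F (Fin b)).toMatrix v') i k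
        = B (v' i) (v' k) := by
      simp only [hBdef, Matrix.toBilin'_apply, Matrix.mul_apply, Matrix.transpose_apply, hent]
      rw [Finset.sum_comm]
      refine Finset.sum_congr rfl fun s _ => ?_
      rw [Finset.sum_mul]
    rw [hval]
    by_cases hik : i = k
    · subst hik; simp
    · rw [Matrix.diagonal_apply_ne _ hik]; exact hv' i k hik

/-- ORTHINV (second copy of `tsd_orth_inv`). -/
theorem tsdorthinv21_orth_inv (h2 : (2 : F) ≠ 0) {b : ℕ} (J : Matrix (Fin b) (Fin b) F) (hJ : Jᵀ = J) (hdet : J.det ≠ 0)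
    (j : ℕ) (hj : j ≤ b) :
    ∃ β : GL (Fin b) F, (β : Matrix (Fin b) (Fin b) F)ᵀ * J * (β : Matrix (Fin b) (Fin b) F) = J ∧
      (β : Matrix (Fin b) (Fin b) F) ^ 2 = 1 ∧ ((β : Matrix (Fin b) (Fin b) F) - 1).rank = j := by
  classical
  obtain ⟨P, hP, w, hPw⟩ := tsdorthinv21_diag h2 J hJ
  have hPu : IsUnit P.det := isUnit_iff_ne_zero.mpr hP
  set ε : Fin b → F := fun i => if i.val < j then -1 else 1 with hε
  set E : Matrix (Fin b) (Fin b) F := diagonal ε with hE
  have hεε : ∀ i, ε i * ε i = 1 := by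
    intro i; simp only [hε]; split_ifs <;> ring
  have hEE : E * E = 1 := by
    rw [hE, diagonal_mul_diagonal, ← diagonal_one]
    congr 1; ext i; exact hεε i
  have hPP : P * P⁻¹ = 1 := Matrix.mul_nonsing_inv P hPu
  have hPP' : P⁻¹ * P = 1 := Matrix.nonsing_inv_mul P hPu
  set M : Matrix (Fin b) (Fin b) F := P * E * P⁻¹ with hM
  have hMM : M * M = 1 := by
    calc M * M = P * (E * (P⁻¹ * P) * E) * P⁻¹ := by simp only [hM, Matrix.mul_assoc]
      _ = 1 := by rw [hPP', Matrix.mul_one, hEE, Matrix.mul_one, hPP]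
  refine ⟨⟨M, M, hMM, hMM⟩, ?_, ?_, ?_⟩
  · show Mᵀ * J * M = J
    have hEDE : E * diagonal w * E = diagonal w := by
      rw [hE, diagonal_mul_diagonal, diagonal_mul_diagonal]
      congr 1; ext i
      calc ε i * w i * ε i = w i * (ε i * ε i) := by ring
        _ = w i := by rw [hεε i, mul_one]
    have hJ' : J = (P⁻¹)ᵀ * (Pᵀ * J * P) * P⁻¹ := by
      calc J = (P * P⁻¹)ᵀ * J * (P * P⁻¹) := by rw [hPP]; simp
        _ = _ := by rw [Matrix.transpose_mul]; simp only [Matrix.mul_assoc]
    have hEt : Eᵀ = E := diagonal_transpose _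
    calc Mᵀ * J * M = (P⁻¹)ᵀ * (E * (Pᵀ * J * P) * E) * P⁻¹ := by
          rw [hM, Matrix.transpose_mul, Matrix.transpose_mul, hEt]; simp only [Matrix.mul_assoc]
      _ = (P⁻¹)ᵀ * (Pᵀ * J * P) * P⁻¹ := by rw [hPw, hEDE]
      _ = J := hJ'.symm
  · show M ^ 2 = 1
    rw [pow_two, hMM]
  · show (M - 1).rank = j
    have h1 : M - 1 = P * (E - 1) * P⁻¹ := by
      rw [Matrix.mul_sub, Matrix.sub_mul, Matrix.mul_one, hPP]
    have hPiu : IsUnit (P⁻¹).det := by
      rw [Matrix.det_nonsing_inv]; exact hPu.ringInverse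
    rw [h1, Matrix.rank_mul_eq_left_of_isUnit_det _ _ hPiu, Matrix.rank_mul_eq_right_of_isUnit_det _ _ hPu]
    have h2' : E - 1 = diagonal (fun i => ε i - 1) := by
      rw [hE, ← diagonal_one, Matrix.diagonal_sub]
    rw [h2', Matrix.rank_diagonal, Fintype.card_subtype]
    have hfil : (Finset.univ.filter (fun i : Fin b => ε i - 1 ≠ 0)) =
        Finset.univ.filter (fun i : Fin b => (i : ℕ) < j) := by
      ext i
      simp only [Finset.mem_filter, Finset.mem_univ, true_and, hε]
      split_ifs with h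
      · simp only [h, iff_true]
        intro h0
        apply h2
        linear_combination -h0
      · simp [h]
    rw [hfil, Fin.card_filter_val_lt, min_eq_right hj]

/-- ORTHINV [M] (row copy, verbatim name). -/
theorem tsd_orth_inv (h2 : (2 : F) ≠ 0) {b : ℕ} (J : Matrix (Fin b) (Fin b) F) (hJ : Jᵀ = J) (hdet : J.det ≠ 0)
    (j : ℕ) (hj : j ≤ b) :
    ∃ β : GL (Fin b) F, (β : Matrix (Fin b) (Fin b) F)ᵀ * J * (β : Matrix (Fin b) (Fin b) F) = J ∧
      (β : Matrix (Fin b) (Fin b) F) ^ 2 = 1 ∧ ((β : Matrix (Fin b) (Fin b) F) - 1).rank = j :=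
  tsdorthinv21_orth_inv h2 J hJ hdet j hj

end Cfsg.Agent.Lib.helper4.TSD
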