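import Mathlib
import Cfsg.Prelude.Def_KGroupFacts

set_option autoImplicit false

namespace Cfsg.Agent.Lib.Helper21

open Cfsg

universe u

structure Tw {G : Type u} [Group G] {n : ℕ} (φ1 φ2 : G →* Multiplicative (ZMod n)) : Type u where
  fst : G
  snd : ZMod n

namespace Tw

variable {G : Type u} [Group G] {n : ℕ} (φ1 φ2 : G →* Multiplicative (ZMod n))

def cc (g h : G) : ZMod n := Multiplicative.toAdd (φ1 g) * Multiplicative.toAdd (φ2 h)

lemma cc_mul_left (g h k : G) : cc φ1 φ2 (g * h) k = cc φ1 φ2 g k + cc φ1 φ2 h k := by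
  simp only [cc, map_mul, toAdd_mul]; ring

lemma cc_mul_right (g h k : G) : cc φ1 φ2 g (h * k) = cc φ1 φ2 g h + cc φ1 φ2 g k := by
  simp only [cc, map_mul, toAdd_mul]; ring

lemma cc_one_left (h : G) : cc φ1 φ2 1 h = 0 := by
  simp only [cc, map_one, toAdd_one, zero_mul]

lemma cc_one_right (g : G) : cc φ1 φ2 g 1 = 0 := by
  simp only [cc, map_one, toAdd_one, mul_zero]

lemma cc_inv_left (g h : G) : cc φ1 φ2 g⁻¹ h = - cc φ1 φ2 g h := by
  simp only [cc, map_inv, toAdd_inv]; ring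

variable {φ1 φ2}

@[ext] lemma ext' {x y : Tw φ1 φ2} (h1 : x.fst = y.fst) (h2 : x.snd = y.snd) : x = y := by
  cases x; cases y; simp only at h1 h2; subst h1; subst h2; rfl

instance instGroupTw : Group (Tw φ1 φ2) where
  mul x y := ⟨x.fst * y.fst, x.snd + y.snd + cc φ1 φ2 x.fst y.fst⟩
  one := ⟨1, 0⟩
  inv x := ⟨x.fst⁻¹, -x.snd + cc φ1 φ2 x.fst x.fst⟩
  mul_assoc x y z := by
    apply ext'
    · exact mul_assoc _ _ _
    · show x.snd + y.snd + cc φ1 φ2 x.fst y.fst + z.snd + cc φ1 φ2 (x.fst * y.fst) z.fst =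
        x.snd + (y.snd + z.snd + cc φ1 φ2 y.fst z.fst) + cc φ1 φ2 x.fst (y.fst * z.fst)
      rw [cc_mul_left, cc_mul_right]; ring
  one_mul x := by
    apply ext'
    · exact one_mul _
    · show (0 : ZMod n) + x.snd + cc φ1 φ2 1 x.fst = x.snd
      rw [cc_one_left]; ring
  mul_one x := by
    apply ext'
    · exact mul_one _
    · show x.snd + (0 : ZMod n) + cc φ1 φ2 x.fst 1 = x.snd
      rw [cc_one_right]; ring
  inv_mul_cancel x := by
    apply ext'
    · exact inv_mul_cancel _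
    · show -x.snd + cc φ1 φ2 x.fst x.fst + x.snd + cc φ1 φ2 x.fst⁻¹ x.fst = 0
      rw [cc_inv_left]; ring

lemma mul_fst (x y : Tw φ1 φ2) : (x * y).fst = x.fst * y.fst := rfl
lemma mul_snd (x y : Tw φ1 φ2) : (x * y).snd = x.snd + y.snd + cc φ1 φ2 x.fst y.fst := rfl
lemma one_fst : (1 : Tw φ1 φ2).fst = 1 := rfl
lemma one_snd : (1 : Tw φ1 φ2).snd = 0 := rfl

def proj : Tw φ1 φ2 →* G where
  toFun x := x.fst
  map_one' := rfl
  map_mul' _ _ := rfl

lemma proj_surj : Function.Surjective (proj (φ1 := φ1) (φ2 := φ2)) := fun g => ⟨⟨g, 0⟩, rfl⟩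

lemma mem_ker_iff (x : Tw φ1 φ2) : x ∈ (proj (φ1 := φ1) (φ2 := φ2)).ker ↔ x.fst = 1 := Iff.rfl

def incl : Multiplicative (ZMod n) →* Tw φ1 φ2 where
  toFun s := ⟨1, Multiplicative.toAdd s⟩
  map_one' := rfl
  map_mul' s t := by
    apply ext'
    · exact (one_mul _).symm
    · show Multiplicative.toAdd (s * t) = Multiplicative.toAdd s + Multiplicative.toAdd t + cc φ1 φ2 1 1
      rw [cc_one_left, toAdd_mul]; ring

lemma incl_inj : Function.Injective (incl (φ1 := φ1) (φ2 := φ2)) := by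
  intro s t h
  have : (incl (φ1 := φ1) (φ2 := φ2) s).snd = (incl (φ1 := φ1) (φ2 := φ2) t).snd := by rw [h]
  exact this

lemma range_incl : (incl (φ1 := φ1) (φ2 := φ2)).range = (proj (φ1 := φ1) (φ2 := φ2)).ker := by
  ext x
  constructor
  · rintro ⟨s, rfl⟩
    rfl
  · intro hx
    refine ⟨Multiplicative.ofAdd x.snd, ?_⟩
    apply ext'
    · exact ((mem_ker_iff x).mp hx).symm
    · rfl

noncomputable def kerEquiv : (proj (φ1 := φ1) (φ2 := φ2)).ker ≃* Multiplicative (ZMod n) :=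
  ((MonoidHom.ofInjective (incl_inj (φ1 := φ1) (φ2 := φ2))).trans
    (MulEquiv.subgroupCongr range_incl)).symm

lemma ker_central : (proj (φ1 := φ1) (φ2 := φ2)).ker ≤ Subgroup.center (Tw φ1 φ2) := by
  intro x hx
  rw [mem_ker_iff] at hx
  rw [Subgroup.mem_center_iff]
  intro y
  apply ext'
  · rw [mul_fst, mul_fst, hx, mul_one, one_mul]
  · rw [mul_snd, mul_snd, hx, cc_one_left, cc_one_right]; ring

end Tw

namespace Tw

variable {G : Type u} [CommGroup G] {n : ℕ} {φ1 φ2 : G →* Multiplicative (ZMod n)}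

lemma comm_elt (x y : Tw φ1 φ2) :
    x * y * x⁻¹ * y⁻¹ = (⟨1, cc φ1 φ2 x.fst y.fst - cc φ1 φ2 y.fst x.fst⟩ : Tw φ1 φ2) := by
  have h : x * y = (⟨1, cc φ1 φ2 x.fst y.fst - cc φ1 φ2 y.fst x.fst⟩ : Tw φ1 φ2) * (y * x) := by
    apply ext'
    · rw [mul_fst, mul_fst, mul_fst, one_mul, mul_comm]
    · rw [mul_snd, mul_snd, mul_snd, cc_one_left]; ring
  calc x * y * x⁻¹ * y⁻¹ = (x * y) * (y * x)⁻¹ := by group
    _ = (⟨1, cc φ1 φ2 x.fst y.fst - cc φ1 φ2 y.fst x.fst⟩ : Tw φ1 φ2) * (y * x) * (y * x)⁻¹ := by rw [← h]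
    _ = _ := by group

lemma ker_le_commutator (g h : G) (hgh : cc φ1 φ2 g h - cc φ1 φ2 h g = 1) :
    (proj (φ1 := φ1) (φ2 := φ2)).ker ≤ commutator (Tw φ1 φ2) := by
  have h1 : incl (φ1 := φ1) (φ2 := φ2) (Multiplicative.ofAdd 1) ∈ commutator (Tw φ1 φ2) := by
    have h2 := comm_elt (φ1 := φ1) (φ2 := φ2) ⟨g, 0⟩ ⟨h, 0⟩
    simp only [hgh] at h2
    have h3 : incl (φ1 := φ1) (φ2 := φ2) (Multiplicative.ofAdd 1) = (⟨1, 1⟩ : Tw φ1 φ2) := rfl
    rw [h3, ← h2, commutator_def]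
    have := Subgroup.commutator_mem_commutator (Subgroup.mem_top (⟨g, 0⟩ : Tw φ1 φ2))
      (Subgroup.mem_top (⟨h, 0⟩ : Tw φ1 φ2))
    rwa [commutatorElement_def] at this
  intro x hx
  have hx' : x = incl (φ1 := φ1) (φ2 := φ2) (Multiplicative.ofAdd 1) ^ (x.snd.cast : ℤ) := by
    rw [← map_zpow, ← ofAdd_zsmul]
    apply ext'
    · exact (mem_ker_iff x).mp hx
    · show x.snd = (x.snd.cast : ℤ) • (1 : ZMod n)
      rw [zsmul_one, ZMod.intCast_zmod_cast]
  rw [hx']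
  exact Subgroup.zpow_mem _ h1 _

lemma isStem (g h : G) (hgh : cc φ1 φ2 g h - cc φ1 φ2 h g = 1) :
    IsStemExtension (proj (φ1 := φ1) (φ2 := φ2)) :=
  ⟨proj_surj, ker_central, ker_le_commutator g h hgh⟩

instance instFiniteTw [Finite G] [NeZero n] : Finite (Tw φ1 φ2) := by
  have : Function.Injective (fun x : Tw φ1 φ2 => (x.fst, x.snd)) := by
    intro x y hxy
    simp only [Prod.mk.injEq] at hxy
    exact ext' hxy.1 hxy.2
  exact Finite.of_injective _ this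

end Tw

end Cfsg.Agent.Lib.Helper21
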