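import Mathlib
import Cfsg.Agent.Lib.Helper21.DihType
import Cfsg.Agent.Lib.helper14.Klein
import Cfsg.Agent.Lib.Helper24.OrderTwelve
import Cfsg.Agent.Lib.Helper24.Taussky

set_option autoImplicit false

universe u

namespace Cfsg.Agent.Lib.Helper21.TwoByCyc

open Cfsg.Agent.Lib.Helper21.DihType

/-- an element of odd order centralises a cyclic normal `2`-subgroup -/
theorem odd_centralizes_cyclic {Y : Type*} [Group Y] [Finite Y] (N : Subgroup Y) [hN : N.Normal]
    (hc : IsCyclic N) (h2 : IsPGroup 2 N) (y : Y) (hy : Odd (orderOf y)) :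
    ∀ n ∈ N, y * n = n * y := by
  haveI : Fact (Nat.Prime 2) := ⟨Nat.prime_two⟩
  set α : MulAut N := MulAut.conjNormal y with hα
  have h1 : α ^ orderOf y = 1 := by
    rw [hα, ← map_pow, pow_orderOf_eq_one, map_one]
  have h2' : orderOf α ∣ orderOf y := orderOf_dvd_of_pow_eq_one h1
  have h3 : orderOf α ∣ Nat.card (MulAut N) := orderOf_dvd_natCard α
  rw [IsCyclic.card_mulAut] at h3
  obtain ⟨k, hk⟩ := h2.exists_card_eq
  have h4 : orderOf α = 1 := by
    rcases k with _ | k
    · rw [hk, pow_zero, Nat.totient_one] at h3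
      exact Nat.dvd_one.mp h3
    · rw [hk, Nat.totient_prime_pow Nat.prime_two (Nat.succ_pos k)] at h3
      simp only [Nat.succ_sub_one, mul_one] at h3
      have hcop : Nat.Coprime (orderOf y) (2 ^ k) :=
        Nat.Coprime.pow_right _ (Nat.coprime_two_right.mpr hy)
      exact Nat.eq_one_of_dvd_coprimes hcop h2' h3
  rw [orderOf_eq_one_iff] at h4
  intro n hn
  have h5 : (α ⟨n, hn⟩ : Y) = y * n * y⁻¹ := by
    rw [hα]; exact MulAut.conjNormal_apply y ⟨n, hn⟩
  rw [h4] at h5
  simp only [MulAut.one_apply] at h5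
  calc y * n = (y * n * y⁻¹) * y := by group
    _ = n * y := by rw [← h5]

/-- if an odd-order `y` fixes `t` and sends `u` to `u` or `t * u`, then it fixes `u` -/
theorem fix_lemma {Y : Type*} [Group Y] [Finite Y] (y t u : Y) (hy : Odd (orderOf y))
    (ht : t * t = 1) (hyt : y * t = t * y)
    (hu : y * u * y⁻¹ = u ∨ y * u * y⁻¹ = t * u) : y * u = u * y := by
  rcases hu with h | h
  · calc y * u = (y * u * y⁻¹) * y := by group
      _ = u * y := by rw [h]
  · have h2 : (y * y) * u * (y * y)⁻¹ = u := by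
      have e : (y * y) * u * (y * y)⁻¹ = y * (y * u * y⁻¹) * y⁻¹ := by group
      rw [e, h]
      have e2 : y * (t * u) * y⁻¹ = (y * t) * u * y⁻¹ := by group
      rw [e2, hyt]
      have e3 : t * y * u * y⁻¹ = t * (y * u * y⁻¹) := by group
      rw [e3, h, ← mul_assoc, ht, one_mul]
    have h3 : Commute (y * y) u := by
      show (y * y) * u = u * (y * y)
      calc (y * y) * u = ((y * y) * u * (y * y)⁻¹) * (y * y) := by group
        _ = u * (y * y) := by rw [h2]
    obtain ⟨k, hk⟩ := hy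
    have h4 : y = (y * y) ^ (k + 1) := by
      rw [← pow_two, ← pow_mul]
      have : 2 * (k + 1) = orderOf y + 1 := by omega
      rw [this, pow_succ, pow_orderOf_eq_one, one_mul]
    have := h3.pow_left (k + 1)
    rw [← h4] at this
    exact this.eq

/-- twisted conjugation: if `y b y⁻¹ = ρ b` with `ρ` a `2`-element commuting with `y` of odd
order, then `ρ = 1` -/
theorem twist_lemma {Y : Type*} [Group Y] [Finite Y] (y b ρ : Y) (hy : Odd (orderOf y))
    (hyb : y * b * y⁻¹ = ρ * b) (hyρ : y * ρ = ρ * y) (hρ : ∃ a : ℕ, orderOf ρ = 2 ^ a) : ρ = 1 := by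
  have key : ∀ n : ℕ, y ^ n * b * (y ^ n)⁻¹ = ρ ^ n * b := by
    intro n
    induction n with
    | zero => simp
    | succ n ih =>
      have e : y ^ (n + 1) * b * (y ^ (n + 1))⁻¹ = y * (y ^ n * b * (y ^ n)⁻¹) * y⁻¹ := by
        rw [pow_succ']; group
      rw [e, ih]
      have c1 : Commute y (ρ ^ n) := (show Commute y ρ from hyρ).pow_right n
      have e2 : y * (ρ ^ n * b) * y⁻¹ = (y * ρ ^ n) * (b * y⁻¹) := by group
      rw [e2, c1.eq]
      have e3 : ρ ^ n * y * (b * y⁻¹) = ρ ^ n * (y * b * y⁻¹) := by group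
      rw [e3, hyb, ← mul_assoc, ← pow_succ]
  have h1 := key (orderOf y)
  rw [pow_orderOf_eq_one, inv_one, one_mul, mul_one] at h1
  have h2 : ρ ^ orderOf y = 1 := by
    have : ρ ^ orderOf y * b = 1 * b := by rw [one_mul]; exact h1.symm
    exact mul_right_cancel this
  have h3 : orderOf ρ ∣ orderOf y := orderOf_dvd_of_pow_eq_one h2
  obtain ⟨a, ha⟩ := hρ
  rcases a with _ | a
  · rw [pow_zero] at ha; exact orderOf_eq_one_iff.mp ha
  · exfalso
    rw [ha, pow_succ] at h3
    have : 2 ∣ orderOf y := Dvd.dvd.trans ⟨2 ^ a, by ring⟩ h3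
    exact (Nat.not_even_iff_odd.mpr hy) (even_iff_two_dvd.mpr this)


/-- a cyclic complement to a normal Sylow `2`-subgroup with cyclic quotient -/
theorem exists_cyclic_complement {Y : Type*} [Group Y] [Finite Y] (S : Subgroup Y) [S.Normal]
    (hS2 : IsPGroup 2 S) (hidx : ¬ 2 ∣ S.index) (hQ : IsCyclic (Y ⧸ S)) :
    ∃ c₀ : Y, Odd (orderOf c₀) ∧ S ⊓ Subgroup.zpowers c₀ = ⊥ ∧ S ⊔ Subgroup.zpowers c₀ = ⊤ ∧
      Nat.card S * orderOf c₀ = Nat.card Y := by
  haveI : Fact (Nat.Prime 2) := ⟨Nat.prime_two⟩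
  obtain ⟨k, hk⟩ := hS2.exists_card_eq
  have hodd : Odd S.index := Nat.not_even_iff_odd.mp (fun h => hidx (even_iff_two_dvd.mp h))
  have hcop : Nat.Coprime (Nat.card S) S.index := by
    rw [hk]; exact Nat.Coprime.pow_left _ (Nat.coprime_two_left.mpr hodd)
  obtain ⟨C, hC⟩ := Subgroup.exists_right_complement'_of_coprime hcop
  have e : Y ⧸ S ≃* C := hC.symm.QuotientMulEquiv
  haveI : IsCyclic C := isCyclic_of_surjective e e.surjective
  obtain ⟨c₀, hCz⟩ := (Subgroup.isCyclic_iff_exists_zpowers_eq_top C).mp inferInstance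
  have hcard : orderOf c₀ = Nat.card C := by rw [← Nat.card_zpowers, hCz]
  have hmul := hC.card_mul_card
  have hidx' : S.index = Nat.card C := by
    have := S.card_mul_index
    rw [← hmul] at this
    exact Nat.eq_of_mul_eq_mul_left Nat.card_pos this
  refine ⟨c₀, ?_, ?_, ?_, ?_⟩
  · rw [hcard, ← hidx']; exact hodd
  · rw [hCz]; exact hC.disjoint.eq_bot
  · rw [hCz]; exact hC.sup_eq_top
  · rw [hcard]; exact hmul


/-- cyclic normal Sylow `2`-subgroup with cyclic complement: the group is cyclic -/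
theorem cyclic_case {Y : Type*} [Group Y] [Finite Y] (S : Subgroup Y) [S.Normal]
    (hS2 : IsPGroup 2 S) (hSc : IsCyclic S) (c₀ : Y) (hodd : Odd (orderOf c₀))
    (hcard : Nat.card S * orderOf c₀ = Nat.card Y) : IsCyclic Y := by
  obtain ⟨s₀, hs₀⟩ := (Subgroup.isCyclic_iff_exists_zpowers_eq_top S).mp hSc
  have hs₀S : s₀ ∈ S := by rw [← hs₀]; exact Subgroup.mem_zpowers s₀
  have hcomm : Commute s₀ c₀ := (odd_centralizes_cyclic S hSc hS2 c₀ hodd s₀ hs₀S).symm
  have hos : orderOf s₀ = Nat.card S := by rw [← Nat.card_zpowers, hs₀]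
  obtain ⟨k, hk⟩ := hS2.exists_card_eq
  have hcop : Nat.Coprime (orderOf s₀) (orderOf c₀) := by
    rw [hos, hk]; exact Nat.Coprime.pow_left _ (Nat.coprime_two_left.mpr hodd)
  have := hcomm.orderOf_mul_eq_mul_orderOf_of_coprime hcop
  rw [hos, hcard] at this
  exact isCyclic_of_orderOf_eq_card _ this


open Cfsg.Agent.Lib.helper14 in
/-- dihedral normal Sylow `2`-subgroup of order at least `8` -/
theorem dihedral_case {Y : Type u} [Group Y] [Finite Y] (S : Subgroup Y) [hSn : S.Normal]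
    (hS2 : IsPGroup 2 S)
    (c b : Y) (hcS : c ∈ S) (hbS : b ∈ S) (hb : b ∉ Subgroup.zpowers c)
    (hcov : ∀ x ∈ S, x ∈ Subgroup.zpowers c ∨ x * b ∈ Subgroup.zpowers c)
    (hbb : b * b = 1) (hbc : b * c * b⁻¹ = c⁻¹)
    (hsq : ∀ x ∈ S, x ∉ Subgroup.zpowers c → x * x = 1)
    (m : ℕ) (hm : 2 ≤ m) (hord : orderOf c = 2 ^ m)
    (c₀ : Y) (hodd : Odd (orderOf c₀)) (hinf : S ⊓ Subgroup.zpowers c₀ = ⊥)
    (hsup : S ⊔ Subgroup.zpowers c₀ = ⊤)
    (hF : ∀ K : Subgroup Y, K ≤ S → Nat.card K = 4 → (∀ k ∈ K, k ^ 2 = 1) →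
      Subgroup.centralizer (K : Set Y) ≤ K) :
    ∃ n : ℕ, Nonempty (Y ≃* DihedralGroup (2 ^ n)) := by
  have hzS : Subgroup.zpowers c ≤ S := Subgroup.zpowers_le.mpr hcS
  -- ⟨c⟩ is normal in Y
  have hconj : ∀ y : Y, y * c * y⁻¹ ∈ Subgroup.zpowers c := by
    intro y
    by_contra hcon
    have h1 := hsq _ (hSn.conj_mem c hcS y) hcon
    have h2 : c * c = 1 := by
      have e : y * c * y⁻¹ * (y * c * y⁻¹) = y * (c * c) * y⁻¹ := by group
      rw [e] at h1
      have : c * c = y⁻¹ * (y * (c * c) * y⁻¹) * y := by group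
      rw [this, h1]; group
    have h3 : orderOf c ∣ 2 := orderOf_dvd_of_pow_eq_one (by rw [pow_two]; exact h2)
    have h4 := Nat.le_of_dvd (by norm_num) h3
    rw [hord] at h4
    have : 2 ^ 2 ≤ 2 ^ m := Nat.pow_le_pow_right (by norm_num) hm
    omega
  haveI hcn : (Subgroup.zpowers c).Normal := by
    refine ⟨fun h hh y => ?_⟩
    obtain ⟨i, rfl⟩ := Subgroup.mem_zpowers_iff.mp hh
    rw [← conj_zpow]
    exact zpow_mem (hconj y) i
  have hcent := odd_centralizes_cyclic (Subgroup.zpowers c) inferInstance (hS2.to_le hzS) c₀ hodd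
  -- c₀ centralises b
  have hb' : c₀ * b * c₀⁻¹ ∉ Subgroup.zpowers c := by
    intro h
    apply hb
    have := hcn.conj_mem _ h c₀⁻¹
    simpa [mul_assoc] using this
  have hb'S : c₀ * b * c₀⁻¹ ∈ S := hSn.conj_mem b hbS c₀
  have hρ : c₀ * b * c₀⁻¹ * b ∈ Subgroup.zpowers c := (hcov _ hb'S).resolve_left hb'
  have hρ1 : c₀ * b * c₀⁻¹ * b = 1 := by
    apply twist_lemma c₀ b _ hodd _ (hcent _ hρ) ((IsPGroup.iff_orderOf.mp hS2) ⟨_, hzS hρ⟩ |>.imp
      (fun a ha => by rw [← ha]; exact (Subgroup.orderOf_mk _ _).symm))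
    rw [mul_assoc _ b b, hbb, mul_one]
  have hc₀b : c₀ * b = b * c₀ := by
    have e : c₀ * b * c₀⁻¹ = b := by
      have : c₀ * b * c₀⁻¹ = (c₀ * b * c₀⁻¹ * b) * b⁻¹ := by group
      rw [this, hρ1, one_mul]; exact inv_eq_of_mul_eq_one_left hbb
    calc c₀ * b = (c₀ * b * c₀⁻¹) * c₀ := by group
      _ = b * c₀ := by rw [e]
  -- the central involution
  set z : Y := c ^ (2 ^ (m - 1)) with hz
  have hzmem : z ∈ Subgroup.zpowers c := pow_mem (Subgroup.mem_zpowers c) _
  have hzz : z * z = 1 := by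
    rw [hz, ← pow_add, ← two_mul, ← pow_succ']
    have : m - 1 + 1 = m := by omega
    rw [this, ← hord]; exact pow_orderOf_eq_one c
  have hz1 : z ≠ 1 := by
    apply pow_ne_one_of_lt_orderOf (by positivity)
    rw [hord]; exact Nat.pow_lt_pow_right (by norm_num) (by omega)
  have hzb : z ≠ b := fun h => hb (h ▸ hzmem)
  have hb1 : b ≠ 1 := fun h => hb (h ▸ one_mem _)
  have hzinv : z⁻¹ = z := inv_eq_of_mul_eq_one_left hzz
  have hzbc : z * b = b * z := by
    have h1 : b * z * b⁻¹ = z⁻¹ := by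
      rw [hz, ← conj_pow, hbc, inv_pow]
    rw [hzinv] at h1
    calc z * b = (b * z * b⁻¹) * b := by rw [h1]
      _ = b * z := by group
  have hc₀z : c₀ * z = z * c₀ := hcent z hzmem
  -- the four-group
  have hK4 := card_kleinSubgroup z b hzz hbb hzbc hz1 hb1 hzb
  have hKS : kleinSubgroup z b hzz hbb hzbc ≤ S := by
    rintro _ ⟨⟨i, j⟩, rfl⟩
    show kleinElt z b i j ∈ S
    unfold kleinElt
    apply mul_mem
    · split_ifs
      · exact hzS hzmem
      · exact one_mem S
    · split_ifs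
      · exact hbS
      · exact one_mem S
  have hKc := hF _ hKS hK4 (fun k hk => by
    rw [pow_two]; exact kleinSubgroup_sq z b hzz hbb hzbc k hk)
  have hc₀K : c₀ ∈ Subgroup.centralizer (kleinSubgroup z b hzz hbb hzbc : Set Y) := by
    rw [Subgroup.mem_centralizer_iff]
    rintro _ ⟨⟨i, j⟩, rfl⟩
    show kleinElt z b i j * c₀ = c₀ * kleinElt z b i j
    unfold kleinElt
    have c1 : Commute (if i = true then z else 1) c₀ := by
      split_ifs
      · exact hc₀z.symm
      · exact Commute.one_left c₀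
    have c2 : Commute (if j = true then b else 1) c₀ := by
      split_ifs
      · exact hc₀b.symm
      · exact Commute.one_left c₀
    exact (c1.mul_left c2).eq
  have hc₀1 : c₀ = 1 := by
    have : c₀ ∈ S ⊓ Subgroup.zpowers c₀ :=
      Subgroup.mem_inf.mpr ⟨hKS (hKc hc₀K), Subgroup.mem_zpowers c₀⟩
    rw [hinf, Subgroup.mem_bot] at this
    exact this
  have hStop : S = ⊤ := by
    rw [hc₀1, Subgroup.zpowers_one_eq_bot, sup_bot_eq] at hsup
    exact hsup
  have hidx : (Subgroup.zpowers c).index = 2 :=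
    (DT.index_two ⟨c, b, hb, fun x => hcov x (by rw [hStop]; trivial), hbb, hbc⟩ : _)
  obtain ⟨k, hk⟩ := Cfsg.Agent.Lib.Helper24.tk_dihedral c b m hm hord hidx hb hbb hbc
  exact ⟨k + 2, hk⟩


/-- in a normal four-group `S = {1, c, b, cb}`, an odd-order element fixing a nonidentity element
centralises `S` -/
theorem four_fix {Y : Type*} [Group Y] [Finite Y] (S : Subgroup Y) [hSn : S.Normal]
    (c b : Y) (hc1 : c ≠ 1) (hcc : c * c = 1) (hbb : b * b = 1) (hb1 : b ≠ 1)
    (hcb : c ≠ b) (hcomm : c * b = b * c)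
    (hmem : ∀ x ∈ S, x = 1 ∨ x = c ∨ x = b ∨ x = c * b) (hcS : c ∈ S) (hbS : b ∈ S)
    (y : Y) (hy : Odd (orderOf y)) (t : Y) (htS : t ∈ S) (ht1 : t ≠ 1) (hyt : y * t = t * y) :
    ∀ x ∈ S, y * x = x * y := by
  have hconj_eq : ∀ u v : Y, y * u * y⁻¹ = y * v * y⁻¹ → u = v := by
    intro u v h
    have : u = y⁻¹ * (y * u * y⁻¹) * y := by group
    rw [this, h]; group
  have hfix : ∀ u : Y, y * u = u * y → y * u * y⁻¹ = u := by
    intro u h; rw [h]; group
  have hone : ∀ u : Y, y * u * y⁻¹ = 1 → u = 1 := by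
    intro u h
    have : u = y⁻¹ * (y * u * y⁻¹) * y := by group
    rw [this, h]; group
  have hboth : y * c = c * y → y * b = b * y → ∀ x ∈ S, y * x = x * y := by
    intro h1 h2 x hx
    rcases hmem x hx with rfl | rfl | rfl | rfl
    · simp
    · exact h1
    · exact h2
    · exact ((show Commute y c from h1).mul_right (show Commute y b from h2)).eq
  rcases hmem t htS with rfl | rfl | rfl | rfl
  · exact absurd rfl ht1
  · -- t = c
    apply hboth hyt
    apply fix_lemma y t b hy hcc hyt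
    rcases hmem _ (hSn.conj_mem b hbS y) with h | h | h | h
    · exact absurd (hone b h) hb1
    · exfalso; apply hcb
      exact (hconj_eq b t (by rw [h, hfix t hyt])).symm
    · left; exact h
    · right; exact h
  · -- t = b
    have hyc : y * c = c * y := by
      apply fix_lemma y t c hy hbb hyt
      rcases hmem _ (hSn.conj_mem c hcS y) with h | h | h | h
      · exact absurd (hone c h) hc1
      · left; exact h
      · exfalso; apply hcb
        exact hconj_eq c t (by rw [h, hfix t hyt])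
      · right; rw [h, hcomm]
    exact hboth hyc hyt
  · -- t = c * b
    have htt : c * b * (c * b) = 1 := by
      calc c * b * (c * b) = c * (b * c) * b := by group
        _ = c * (c * b) * b := by rw [hcomm]
        _ = (c * c) * (b * b) := by group
        _ = 1 := by rw [hcc, hbb, one_mul]
    have hyc : y * c = c * y := by
      apply fix_lemma y (c * b) c hy htt hyt
      rcases hmem _ (hSn.conj_mem c hcS y) with h | h | h | h
      · exact absurd (hone c h) hc1
      · left; exact h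
      · right
        rw [h]
        calc b = (c * c) * b := by rw [hcc, one_mul]
          _ = c * (c * b) := by group
          _ = c * (b * c) := by rw [hcomm]
          _ = c * b * c := by group
      · exfalso; apply hb1
        have h2 := hconj_eq c (c * b) (by rw [h, hfix (c * b) hyt])
        have : c * 1 = c * b := by rw [mul_one]; exact h2
        exact (mul_left_cancel this).symm
    have hyb : y * b = b * y := by
      have e : b = c * (c * b) := by rw [← mul_assoc, hcc, one_mul]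
      rw [e]
      exact ((show Commute y c from hyc).mul_right (show Commute y (c * b) from hyt)).eq
    exact hboth hyc hyb


/-- normal self-centralising four-group Sylow `2`-subgroup with cyclic complement -/
theorem four_case {Y : Type u} [Group Y] [Finite Y] (S : Subgroup Y) [hSn : S.Normal]
    (c b : Y) (hc1 : c ≠ 1) (hcc : c * c = 1) (hbb : b * b = 1) (hb1 : b ≠ 1)
    (hcb : c ≠ b) (hcomm : c * b = b * c)
    (hmem : ∀ x ∈ S, x = 1 ∨ x = c ∨ x = b ∨ x = c * b) (hcS : c ∈ S) (hbS : b ∈ S)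
    (hScard : Nat.card S = 4)
    (c₀ : Y) (hodd : Odd (orderOf c₀)) (hinf : S ⊓ Subgroup.zpowers c₀ = ⊥)
    (hsup : S ⊔ Subgroup.zpowers c₀ = ⊤) (hcard : Nat.card S * orderOf c₀ = Nat.card Y)
    (hF : Subgroup.centralizer (S : Set Y) ≤ S) :
    (∃ n : ℕ, Nonempty (Y ≃* DihedralGroup (2 ^ n))) ∨
      Nonempty (Y ≃* alternatingGroup (Fin 4)) := by
  have hA := four_fix S c b hc1 hcc hbb hb1 hcb hcomm hmem hcS hbS
  -- an odd-order element of ⟨c₀⟩ centralising S is trivial
  have htriv : ∀ y ∈ Subgroup.zpowers c₀, (∀ x ∈ S, y * x = x * y) → y = 1 := by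
    intro y hy h
    have h1 : y ∈ Subgroup.centralizer (S : Set Y) := by
      rw [Subgroup.mem_centralizer_iff]
      intro x hx; exact (h x hx).symm
    have : y ∈ S ⊓ Subgroup.zpowers c₀ := Subgroup.mem_inf.mpr ⟨hF h1, hy⟩
    rw [hinf, Subgroup.mem_bot] at this
    exact this
  have hcb1 : c * b ≠ 1 := by
    intro h
    apply hcb
    calc c = c * (b * b) := by rw [hbb, mul_one]
      _ = (c * b) * b := by group
      _ = b := by rw [h, one_mul]
  have hcbS : c * b ∈ S := mul_mem hcS hbS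
  have hbcb : b * (c * b) = c := by
    calc b * (c * b) = (b * c) * b := by group
      _ = (c * b) * b := by rw [hcomm]
      _ = c * (b * b) := by group
      _ = c := by rw [hbb, mul_one]
  have hcbc : c * b * c = b := by
    calc c * b * c = c * (b * c) := by group
      _ = c * (c * b) := by rw [hcomm]
      _ = (c * c) * b := by group
      _ = b := by rw [hcc, one_mul]
  -- c₀³ commutes with c
  have hfmul : ∀ u v : Y, c₀ * (u * v) * c₀⁻¹ = (c₀ * u * c₀⁻¹) * (c₀ * v * c₀⁻¹) := by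
    intro u v; group
  have hcomm_of : ∀ u : Y, c₀ * u * c₀⁻¹ = u → c₀ * u = u * c₀ := by
    intro u h
    calc c₀ * u = (c₀ * u * c₀⁻¹) * c₀ := by group
      _ = u * c₀ := by rw [h]
  have hfix_of : ∀ u : Y, c₀ * u = u * c₀ → c₀ * u * c₀⁻¹ = u := by
    intro u h; rw [h]; group
  have hinj : ∀ u v : Y, c₀ * u * c₀⁻¹ = c₀ * v * c₀⁻¹ → u = v := by
    intro u v h
    have : u = c₀⁻¹ * (c₀ * u * c₀⁻¹) * c₀ := by group
    rw [this, h]; group
  have hone : ∀ u : Y, c₀ * u * c₀⁻¹ = 1 → u = 1 := by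
    intro u h
    have : u = c₀⁻¹ * (c₀ * u * c₀⁻¹) * c₀ := by group
    rw [this, h]; group
  have h3 : c₀ ^ 3 * c * (c₀ ^ 3)⁻¹ = c := by
    have e : c₀ ^ 3 * c * (c₀ ^ 3)⁻¹ = c₀ * (c₀ * (c₀ * c * c₀⁻¹) * c₀⁻¹) * c₀⁻¹ := by
      rw [pow_succ, pow_two]; group
    rw [e]
    rcases hmem _ (hSn.conj_mem c hcS c₀) with h | h | h | h
    · exact absurd (hone c h) hc1
    · rw [h, h, h]
    · -- f(c) = b
      rcases hmem _ (hSn.conj_mem b hbS c₀) with h' | h' | h' | h'
      · exact absurd (hone b h') hb1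
      · -- f(b) = c : then c*b is fixed
        exfalso
        have hfix : c₀ * (c * b) * c₀⁻¹ = c * b := by rw [hfmul, h, h', hcomm]
        have := hA c₀ hodd (c * b) hcbS hcb1 (hcomm_of _ hfix) c hcS
        rw [hfix_of c this] at h
        exact hcb h
      · exfalso
        have := hA c₀ hodd b hbS hb1 (hcomm_of _ h') c hcS
        rw [hfix_of c this] at h
        exact hcb h
      · -- f(b) = c*b
        have hcbf : c₀ * (c * b) * c₀⁻¹ = c := by rw [hfmul, h, h', hbcb]
        rw [h, h', hcbf]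
    · -- f(c) = c*b
      rcases hmem _ (hSn.conj_mem b hbS c₀) with h' | h' | h' | h'
      · exact absurd (hone b h') hb1
      · -- f(b) = c
        have hcbf : c₀ * (c * b) * c₀⁻¹ = b := by rw [hfmul, h, h', hcbc]
        rw [h, hcbf, h']
      · exfalso
        have := hA c₀ hodd b hbS hb1 (hcomm_of _ h') c hcS
        rw [hfix_of c this] at h
        apply hb1
        have h2 : c * 1 = c * b := by rw [mul_one]; exact h
        exact (mul_left_cancel h2).symm
      · exfalso
        exact hcb (hinj c b (by rw [h, h']))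
  have hodd3 : Odd (orderOf (c₀ ^ 3)) := Odd.of_dvd_nat hodd (orderOf_pow_dvd 3)
  have h3c : c₀ ^ 3 * c = c * c₀ ^ 3 := by
    calc c₀ ^ 3 * c = (c₀ ^ 3 * c * (c₀ ^ 3)⁻¹) * c₀ ^ 3 := by group
      _ = c * c₀ ^ 3 := by rw [h3]
  have hc₀3 : c₀ ^ 3 = 1 :=
    htriv _ (pow_mem (Subgroup.mem_zpowers c₀) 3) (hA _ hodd3 c hcS hc1 h3c)
  have hdvd : orderOf c₀ ∣ 3 := orderOf_dvd_of_pow_eq_one hc₀3
  rcases (Nat.dvd_prime Nat.prime_three).mp hdvd with ho | ho
  · -- Y = S is a four-group
    left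
    rw [orderOf_eq_one_iff] at ho
    have hStop : S = ⊤ := by
      rw [ho, Subgroup.zpowers_one_eq_bot, sup_bot_eq] at hsup
      exact hsup
    have hY4 : Nat.card Y = 4 := by
      rw [← hcard, ho, orderOf_one, mul_one, hScard]
    have hsq : ∀ h : Y, h * h = 1 := by
      intro h
      rcases hmem h (by rw [hStop]; trivial) with rfl | rfl | rfl | rfl
      · simp
      · exact hcc
      · exact hbb
      · calc c * b * (c * b) = (c * b * c) * b := by group
          _ = 1 := by rw [hcbc, hbb]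
    haveI := Cfsg.Agent.Lib.helper14.isKleinFour_of_card_of_sq hY4 hsq
    exact ⟨1, (IsKleinFour.nonempty_mulEquiv : Nonempty (Y ≃* DihedralGroup 2))⟩
  · -- order 12
    right
    have hY12 : Nat.card Y = 12 := by rw [← hcard, ho, hScard]
    apply Cfsg.Agent.Lib.Helper24.o12_main hY12
    intro z hz hzc
    rw [Subgroup.mem_center_iff] at hzc
    have hidx : S.index = 3 := by
      have := S.card_mul_index
      rw [hScard, hY12] at this
      omega
    have hzS : z ∈ S := by
      rw [← QuotientGroup.eq_one_iff]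
      have h1 : (QuotientGroup.mk z : Y ⧸ S) ^ 2 = 1 := by
        rw [← QuotientGroup.mk_pow, ← hz, pow_orderOf_eq_one]; rfl
      have h2 : (QuotientGroup.mk z : Y ⧸ S) ^ 3 = 1 := by
        have : Nat.card (Y ⧸ S) = 3 := hidx
        rw [← this]; exact pow_card_eq_one'
      have h3 : (QuotientGroup.mk z : Y ⧸ S) ^ 1 = 1 := by
        have : (QuotientGroup.mk z : Y ⧸ S) ^ 3 = (QuotientGroup.mk z : Y ⧸ S) ^ 2 *
          (QuotientGroup.mk z : Y ⧸ S) ^ 1 := by rw [← pow_add]
        rw [this, h1, one_mul] at h2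
        exact h2
      rwa [pow_one] at h3
    have hz1 : z ≠ 1 := by
      intro h; rw [h, orderOf_one] at hz; omega
    have := htriv c₀ (Subgroup.mem_zpowers c₀) (hA c₀ hodd z hzS hz1 (hzc c₀))
    rw [this, orderOf_one] at ho
    omega


theorem zpowers_sq_cases {Y : Type*} [Group Y] {c x : Y} (hcc : c * c = 1)
    (hx : x ∈ Subgroup.zpowers c) : x = 1 ∨ x = c := by
  obtain ⟨i, rfl⟩ := Subgroup.mem_zpowers_iff.mp hx
  have hc2 : c ^ (2 : ℤ) = 1 := by rw [zpow_ofNat, pow_two]; exact hcc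
  rcases Int.even_or_odd' i with ⟨j, rfl | rfl⟩
  · left; rw [zpow_mul, hc2, one_zpow]
  · right; rw [zpow_add, zpow_mul, hc2, one_zpow, one_mul, zpow_one]

open Cfsg.Agent.Lib.Helper21.Symp in
/-- groups with a normal Sylow `2`-subgroup that is cyclic or of dihedral type, cyclic quotient,
and self-centralising four-subgroups -/
theorem main_lemma {Y : Type u} [Group Y] [Finite Y] (S : Subgroup Y) [hSn : S.Normal]
    (hS2 : IsPGroup 2 S) (hidx : ¬ 2 ∣ S.index) (hQ : IsCyclic (Y ⧸ S))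
    (hstr : IsCyclic S ∨ Nonempty (DT S))
    (hF : ∀ K : Subgroup Y, K ≤ S → Nat.card K = 4 → (∀ k ∈ K, k ^ 2 = 1) →
      Subgroup.centralizer (K : Set Y) ≤ K) :
    IsCyclic Y ∨ (∃ n : ℕ, Nonempty (Y ≃* DihedralGroup (2 ^ n))) ∨
      Nonempty (Y ≃* alternatingGroup (Fin 4)) := by
  haveI : Fact (Nat.Prime 2) := ⟨Nat.prime_two⟩
  obtain ⟨c₀, hodd, hinf, hsup, hcard⟩ := exists_cyclic_complement S hS2 hidx hQ
  by_cases hSc : IsCyclic S
  · left; exact cyclic_case S hS2 hSc c₀ hodd hcard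
  right
  obtain ⟨D⟩ := hstr.resolve_left hSc
  have hcS : (D.c : Y) ∈ S := D.c.2
  have hbS : (D.b : Y) ∈ S := D.b.2
  have hb : (D.b : Y) ∉ Subgroup.zpowers (D.c : Y) := by
    intro h; exact D.hb ((mem_zpowers_coe D.c D.b).mpr h)
  have hcov : ∀ x ∈ S, x ∈ Subgroup.zpowers (D.c : Y) ∨ x * (D.b : Y) ∈ Subgroup.zpowers (D.c : Y) := by
    intro x hx
    rcases D.hcov ⟨x, hx⟩ with h | h
    · left; exact (mem_zpowers_coe D.c ⟨x, hx⟩).mp h
    · right; exact (mem_zpowers_coe D.c (⟨x, hx⟩ * D.b)).mp h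
  have hbb : (D.b : Y) * (D.b : Y) = 1 := congrArg Subtype.val D.hbb
  have hbc : (D.b : Y) * (D.c : Y) * (D.b : Y)⁻¹ = (D.c : Y)⁻¹ := congrArg Subtype.val D.hbc
  have hsq : ∀ x ∈ S, x ∉ Subgroup.zpowers (D.c : Y) → x * x = 1 := by
    intro x hx hxc
    have := D.outside_sq (y := ⟨x, hx⟩) (fun h => hxc ((mem_zpowers_coe D.c ⟨x, hx⟩).mp h))
    exact congrArg Subtype.val this
  obtain ⟨m, hm⟩ := (IsPGroup.iff_orderOf.mp hS2) D.c
  have hord : orderOf (D.c : Y) = 2 ^ m := by rw [Subgroup.orderOf_coe, hm]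
  have hScard : Nat.card S = 2 * 2 ^ m := by rw [D.card_eq, hm]
  rcases m with _ | _ | m
  · exfalso
    apply hSc
    rw [pow_zero, mul_one] at hScard
    exact isCyclic_of_prime_card hScard
  · -- four-group
    rw [zero_add, pow_one] at hord hScard
    have hcc : (D.c : Y) * (D.c : Y) = 1 := by
      rw [← pow_two, ← hord]; exact pow_orderOf_eq_one _
    have hc1 : (D.c : Y) ≠ 1 := by
      intro h; rw [h, orderOf_one] at hord; omega
    have hb1 : (D.b : Y) ≠ 1 := fun h => hb (h ▸ one_mem _)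
    have hcb : (D.c : Y) ≠ (D.b : Y) := fun h => hb (h ▸ Subgroup.mem_zpowers _)
    have hcinv : (D.c : Y)⁻¹ = (D.c : Y) := inv_eq_of_mul_eq_one_left hcc
    have hbinv : (D.b : Y)⁻¹ = (D.b : Y) := inv_eq_of_mul_eq_one_left hbb
    have hcomm : (D.c : Y) * (D.b : Y) = (D.b : Y) * (D.c : Y) := by
      rw [hcinv] at hbc
      calc (D.c : Y) * (D.b : Y) = ((D.b : Y) * (D.c : Y) * (D.b : Y)⁻¹) * (D.b : Y) := by rw [hbc]
        _ = (D.b : Y) * (D.c : Y) := by group
    have hmem : ∀ x ∈ S, x = 1 ∨ x = (D.c : Y) ∨ x = (D.b : Y) ∨ x = (D.c : Y) * (D.b : Y) := by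
      intro x hx
      rcases hcov x hx with h | h
      · rcases zpowers_sq_cases hcc h with h | h
        · left; exact h
        · right; left; exact h
      · rcases zpowers_sq_cases hcc h with h | h
        · right; right; left
          rw [← hbinv]; exact eq_inv_of_mul_eq_one_left h
        · right; right; right
          rw [← h, mul_assoc, hbb, mul_one]
    have hexp : ∀ k ∈ S, k ^ 2 = 1 := by
      intro k hk
      rw [pow_two]
      rcases hmem k hk with rfl | rfl | rfl | rfl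
      · simp
      · exact hcc
      · exact hbb
      · calc (D.c : Y) * (D.b : Y) * ((D.c : Y) * (D.b : Y))
            = (D.c : Y) * ((D.b : Y) * (D.c : Y)) * (D.b : Y) := by group
          _ = (D.c : Y) * ((D.c : Y) * (D.b : Y)) * (D.b : Y) := by rw [hcomm]
          _ = ((D.c : Y) * (D.c : Y)) * ((D.b : Y) * (D.b : Y)) := by group
          _ = 1 := by rw [hcc, hbb, one_mul]
    have hS4 : Nat.card S = 4 := hScard
    exact four_case S _ _ hc1 hcc hbb hb1 hcb hcomm hmem hcS hbS hS4 c₀ hodd hinf hsup hcard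
      (hF S le_rfl hS4 hexp)
  · left
    exact dihedral_case S hS2 _ _ hcS hbS hb hcov hbb hbc hsq (m + 1 + 1) (by omega) hord c₀ hodd
      hinf hsup hF

end Cfsg.Agent.Lib.Helper21.TwoByCyc
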