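import Cfsg.Agent.Lib.helper15.UD.Defs

set_option autoImplicit false
set_option linter.unusedVariables false
set_option linter.unusedSectionVars false

/-!
# Project UD, row HYP (helper21): hyperbolic partner inside a non-degenerate subspace
-/

namespace Cfsg.Agent.Lib.helper15.UD

open Matrix Cfsg.Agent.Lib.Helper28 Cfsg.Agent.Lib.Helper29.ExtrL

variable {n q : ℕ} {F : Type*} [Field F] [Fintype F] {σ : F ≃+* F}

section blockB
variable {f : (Fin n → F) → (Fin n → F) → F}

/-- HYP [S] an isotropic vector of `W` has a hyperbolic partner in `W`. -/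
theorem hyp_partner (hf : Cfsg.Geo.IsUnitaryForm σ f) (W : Submodule F (Fin n → F))
    (hW : Cfsg.Geo.IsNondegenerateOn f W) (c : Fin n → F) (hcW : c ∈ W) (hc0 : c ≠ 0)
    (hcc : f c c = 0) : ∃ d ∈ W, f d d = 0 ∧ f c d = 1 := by
  obtain ⟨x, hxW, hx⟩ := (hW c hcW hc0).2
  -- scale `x` to `f c x' = 1`
  obtain ⟨x', hx'W, h1⟩ : ∃ x' ∈ W, f c x' = 1 := by
    refine ⟨σ ((f c x)⁻¹) • x, W.smul_mem _ hxW, ?_⟩
    rw [UForm.f_smul_right hf, hf.involutive]
    exact inv_mul_cancel₀ hx
  have h1' : f x' c = 1 := by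
    rw [hf.herm, h1, map_one]
  obtain ⟨μ, hμ⟩ := UForm.trace_surj hf (-(f x' x')) (by rw [map_neg, UForm.f_self_fixed hf])
  refine ⟨x' + μ • c, W.add_mem hx'W (W.smul_mem _ hcW), ?_, ?_⟩
  · rw [hf.add_left, UForm.f_add_right hf, UForm.f_add_right hf, hf.smul_left, hf.smul_left,
      UForm.f_smul_right hf, UForm.f_smul_right hf, hcc, h1, h1']
    linear_combination hμ
  · rw [UForm.f_add_right hf, UForm.f_smul_right hf, hcc, h1]
    ring

end blockB

end Cfsg.Agent.Lib.helper15.UD
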