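import Cfsg.Agent.Lib.helper15.UD.Defs
import Cfsg.Agent.Lib.Helper19.UDZETA

set_option autoImplicit false
set_option linter.unusedVariables false
set_option linter.unusedSectionVars false

/-!
# Project UD, row PARAM (helper21): the parameters of the isotropic pairs
-/

namespace Cfsg.Agent.Lib.helper15.UD

open Matrix Cfsg.Agent.Lib.Helper28 Cfsg.Agent.Lib.Helper29.ExtrL

variable {n q : ℕ} {F : Type*} [Field F] [Fintype F] {σ : F ≃+* F}

/-- PARAM [S-M] the parameters of the isotropic pairs. -/
theorem exists_param (hc : Ctx n q F σ) (k : ℕ) (hex : ¬ (k = 2 ∧ q = 2)) :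
    ∃ s s' : F, s + s' ≠ 0 ∧ σ (s + s') = -(s + s') ∧ 1 - (s + σ s) ≠ 0 ∧
      (k = 2 → s ≠ 0 ∧ s' ≠ 0) := by
  by_cases h2 : (2 : F) = 0
  · -- characteristic two
    have hneg : ∀ x : F, -x = x := by
      intro x
      linear_combination (-x) * h2
    have hq2 : 2 ≤ q := UHerm.two_le_q hc.card
    by_cases hq : q = 2
    · have hk : k ≠ 2 := fun hk => hex ⟨hk, hq⟩
      refine ⟨1, 0, ?_, ?_, ?_, fun h => absurd h hk⟩
      · rw [add_zero]; exact one_ne_zero
      · rw [add_zero, map_one, hneg]
      · rw [map_one]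
        have : (1 : F) + 1 = 0 := by rw [one_add_one_eq_two]; exact h2
        rw [this, sub_zero]
        exact one_ne_zero
    · have hq3 : 3 ≤ q := by omega
      obtain ⟨s, hs0, hs1, hsf⟩ := udzeta_fixed hc hq3
      have hsum : s + (s + 1) = 1 := by linear_combination s * h2
      refine ⟨s, s + 1, ?_, ?_, ?_, fun _ => ⟨hs0, ?_⟩⟩
      · rw [hsum]; exact one_ne_zero
      · rw [hsum, map_one, hneg]
      · rw [hsf]
        have : s + s = 0 := by linear_combination s * h2
        rw [this, sub_zero]
        exact one_ne_zero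
      · intro h
        apply hs1
        have : s = -1 := by linear_combination h
        rw [this, hneg]
  · obtain ⟨κ, hκ0, hκ⟩ := UForm.exists_K0 hc.form
    refine ⟨κ, κ, ?_, ?_, ?_, fun _ => ⟨hκ0, hκ0⟩⟩
    · intro h
      have : (2 : F) * κ = 0 := by linear_combination h
      rcases mul_eq_zero.mp this with h' | h'
      · exact h2 h'
      · exact hκ0 h'
    · rw [map_add, hκ]
      ring
    · rw [hκ, add_neg_cancel, sub_zero]
      exact one_ne_zero

end Cfsg.Agent.Lib.helper15.UD
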