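import Cfsg.Agent.Lib.Helper9.UT.Defs
import Cfsg.Agent.Lib.Helper27.ExtrLFb0
import Cfsg.Agent.Lib.helper7.TP.MeetB

/-!
# Project UT (S5655, leader helper9), piece PGRP (helper21)

`pgrp` : an `r`-subgroup of `M` containing `Tij i j u` (`u ≠ 1`) is monomial.
-/

set_option autoImplicit false

open Cfsg

namespace Cfsg.Agent.Lib.Helper9.UT

open Matrix Cfsg.Agent.Lib.Helper29.ExtrL Cfsg.Agent.Lib.Helper28.UMax

variable {n q : ℕ} {F : Type*} [Field F] [Fintype F] {σ : F ≃+* F}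
  {M : Subgroup (Matrix.GeneralLinearGroup (Fin n) F)}

/-- the subgroup of monomial matrices of `GL_n(F)` -/
def utpgrp_mono (n : ℕ) (F : Type*) [Field F] : Subgroup (Matrix.GeneralLinearGroup (Fin n) F) where
  carrier := {g | IsMono ((g : Matrix.GeneralLinearGroup (Fin n) F) : Matrix (Fin n) (Fin n) F)}
  one_mem' := by
    show IsMono (((1 : Matrix.GeneralLinearGroup (Fin n) F)) : Matrix (Fin n) (Fin n) F)
    rw [Units.val_one]; exact isMono_one
  mul_mem' := by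
    intro g h hg hh
    show IsMono (((g * h : Matrix.GeneralLinearGroup (Fin n) F)) : Matrix (Fin n) (Fin n) F)
    rw [Units.val_mul]; exact isMono_mul hg hh
  inv_mem' := by
    intro g hg
    exact isMono_inv g hg

theorem utpgrp_mem_mono {n : ℕ} {F : Type*} [Field F] (g : Matrix.GeneralLinearGroup (Fin n) F) :
    g ∈ utpgrp_mono n F ↔ IsMono ((g : Matrix.GeneralLinearGroup (Fin n) F) : Matrix (Fin n) (Fin n) F) :=
  Iff.rfl

/-- the diagonal entries of `Tij i j u` -/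
theorem utpgrp_Tij_apply {n : ℕ} {F : Type*} [Field F] (i j : Fin n) (u : Fˣ) (k l : Fin n) :
    ((Tij i j u : Matrix.GeneralLinearGroup (Fin n) F) : Matrix (Fin n) (Fin n) F) k l =
      if k = l then (((if k = i then u else if k = j then u⁻¹ else 1 : Fˣ)) : F) else 0 := by
  unfold Tij
  rw [dg_apply]

/-- the hypotheses of `small_support` for `t = Tij i j u`, `u ≠ 1`: conclusion -/
theorem utpgrp_not_mono (hn : 10 ≤ n) {i j : Fin n} (hij : i ≠ j) (u : Fˣ) (hu1 : u ≠ 1)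
    (y : Matrix.GeneralLinearGroup (Fin n) F)
    (hW : ∀ a i j : Fin n, i ≠ j → ¬ ((y : Matrix (Fin n) (Fin n) F) i a = 0 ∧
      (y : Matrix (Fin n) (Fin n) F) j a = 0))
    (hmono : IsMono ((y⁻¹ * Tij i j u * y : Matrix.GeneralLinearGroup (Fin n) F) :
      Matrix (Fin n) (Fin n) F)) : False := by
  have hu1' : (u : F) ≠ 1 := fun h => hu1 (Units.ext h)
  have hu2' : ((u⁻¹ : Fˣ) : F) ≠ 1 := by
    intro h
    apply hu1
    have : u⁻¹ = 1 := Units.ext h
    rwa [inv_eq_one] at this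
  refine Cfsg.Agent.Lib.Helper27.ExtrL.small_support (by rw [Fintype.card_fin]; exact hn) y (Tij i j u) hW ?_ i j i ?_
    ⟨i, j, hij, ?_, ?_⟩ hmono
  · intro k l hkl
    rw [utpgrp_Tij_apply, if_neg hkl]
  · intro l hli hlj _
    rw [utpgrp_Tij_apply, if_pos rfl, if_neg hli, if_neg hlj, Units.val_one]
  · rw [utpgrp_Tij_apply, if_pos rfl, if_pos rfl]
    exact hu1'
  · rw [utpgrp_Tij_apply, if_pos rfl, if_neg (Ne.symm hij), if_pos rfl]
    exact hu2'

theorem pgrp (S : UTS n q σ M) (hn : 10 ≤ n) (hW1 : W1 M) (r : ℕ) [Fact r.Prime]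
    (Q : Subgroup (Matrix.GeneralLinearGroup (Fin n) F)) (hQM : Q ≤ M) (hQ : IsPGroup r Q)
    {i j : Fin n} (hij : i ≠ j) (u : Fˣ) (hu : (u : F) * σ (u : F) = 1) (hu1 : u ≠ 1)
    (hx : Tij i j u ∈ Q) : ∀ g ∈ Q, IsMono ((g : Matrix.GeneralLinearGroup (Fin n) F) :
      Matrix (Fin n) (Fin n) F) := by
  classical
  by_contra hcon
  push Not at hcon
  obtain ⟨g0, hg0Q, hg0⟩ := hcon
  have : Group.IsNilpotent Q := hQ.isNilpotent
  have hnc : NormalizerCondition Q := Group.normalizerCondition_of_isNilpotent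
  set H : Subgroup Q := (utpgrp_mono n F).subgroupOf Q with hH
  have hHlt : H < ⊤ := by
    rw [lt_top_iff_ne_top]
    intro htop
    apply hg0
    have : (⟨g0, hg0Q⟩ : Q) ∈ H := by rw [htop]; exact Subgroup.mem_top _
    exact Subgroup.mem_subgroupOf.mp this
  obtain ⟨hle, hnle⟩ := (hnc H hHlt)
  obtain ⟨v', hv'N, hv'H⟩ := SetLike.not_le_iff_exists.mp hnle
  have hvK : ¬ IsMono (((v' : Matrix.GeneralLinearGroup (Fin n) F)) : Matrix (Fin n) (Fin n) F) :=
    fun h => hv'H (Subgroup.mem_subgroupOf.mpr h)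
  have hxH : (⟨Tij i j u, hx⟩ : Q) ∈ H :=
    Subgroup.mem_subgroupOf.mpr (by unfold Tij; exact isMono_dg _)
  have hv'N' : v'⁻¹ ∈ Subgroup.normalizer (H : Set Q) := Subgroup.inv_mem _ hv'N
  have htH := (Subgroup.mem_normalizer_iff.mp hv'N' ⟨Tij i j u, hx⟩).mp hxH
  have htK : IsMono (((v' : Matrix.GeneralLinearGroup (Fin n) F)⁻¹ * Tij i j u *
      (v' : Matrix.GeneralLinearGroup (Fin n) F) : Matrix.GeneralLinearGroup (Fin n) F) :
      Matrix (Fin n) (Fin n) F) := by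
    have h1 := Subgroup.mem_subgroupOf.mp htH
    have h2 : ((v'⁻¹ * ⟨Tij i j u, hx⟩ * v'⁻¹⁻¹ : Q) : Matrix.GeneralLinearGroup (Fin n) F) =
        (v' : Matrix.GeneralLinearGroup (Fin n) F)⁻¹ * Tij i j u *
          (v' : Matrix.GeneralLinearGroup (Fin n) F) := by
      rw [inv_inv]; rfl
    rw [h2] at h1
    exact h1
  exact utpgrp_not_mono hn hij u hu1 (v' : Matrix.GeneralLinearGroup (Fin n) F)
    (hW1 _ (hQM v'.2) hvK) htK

end Cfsg.Agent.Lib.Helper9.UT
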