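import Cfsg.Agent.Lib.Helper21.UTSYLcore
import Cfsg.Agent.Lib.Helper13.UTMONO

/-!
# Project UT (S5655, leader helper9), piece SYL (helper21): verbatim wrapper
-/

set_option autoImplicit false

open Cfsg

namespace Cfsg.Agent.Lib.Helper9.UT

open Matrix Cfsg.Agent.Lib.Helper29.ExtrL Cfsg.Agent.Lib.Helper28.UMax

variable {n q : ℕ} {F : Type*} [Field F] [Fintype F] {σ : F ≃+* F}
  {M : Subgroup (Matrix.GeneralLinearGroup (Fin n) F)}

theorem syl (S : UTS n q σ M) (hn : 10 ≤ n) (hW1 : W1 M) (r : ℕ) [Fact r.Prime] (u : Fˣ)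
    (hu : (u : F) * σ (u : F) = 1) (hu1 : u ≠ 1) (hur : u ^ r = 1)
    {g : Matrix.GeneralLinearGroup (Fin n) F} (hg : g ∈ M) {i j : Fin n} (hij : i ≠ j)
    {a b : Fin n} (hab : a ≠ b) :
    ∃ h ∈ Subgroup.closure ({Tij i j u, g * Tij a b u * g⁻¹} :
        Set (Matrix.GeneralLinearGroup (Fin n) F)),
      IsMono ((h * g : Matrix.GeneralLinearGroup (Fin n) F) : Matrix (Fin n) (Fin n) F) :=
  utsyl_core S hn hW1 r u (fun i j hij => tij_mem S.toUF hij u hu) hu hu1 hur hg hij hab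

end Cfsg.Agent.Lib.Helper9.UT
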