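import Cfsg.Agent.Lib.Helper21.UTPGRP

/-!
# Project UT (S5655, leader helper9), piece SYL (helper21): core

`utsyl_core` : the statement of `syl` with the statement of `tij_mem` (row MONO) as a hypothesis.
-/

set_option autoImplicit false

open Cfsg

namespace Cfsg.Agent.Lib.Helper9.UT

open Matrix Cfsg.Agent.Lib.Helper29.ExtrL Cfsg.Agent.Lib.Helper28.UMax

variable {n q : ℕ} {F : Type*} [Field F] [Fintype F] {σ : F ≃+* F}
  {M : Subgroup (Matrix.GeneralLinearGroup (Fin n) F)}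

theorem utsyl_Tij_pow {n : ℕ} {F : Type*} [Field F] (i j : Fin n) (u : Fˣ) (k : ℕ) :
    (Tij i j u : Matrix.GeneralLinearGroup (Fin n) F) ^ k = Tij i j (u ^ k) := by
  apply Units.ext
  rw [Units.val_pow_eq_pow_val]
  unfold Tij
  rw [dg_val, dg_val, Matrix.diagonal_pow]
  congr 1
  funext l
  simp only [Pi.pow_apply]
  by_cases hli : l = i
  · simp [hli]
  · by_cases hlj : l = j
    · rw [if_neg hli, if_pos hlj, if_neg hli, if_pos hlj, ← Units.val_pow_eq_pow_val, inv_pow]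
    · simp [hli, hlj]

theorem utsyl_Tij_one {n : ℕ} {F : Type*} [Field F] (i j : Fin n) :
    (Tij i j (1 : Fˣ) : Matrix.GeneralLinearGroup (Fin n) F) = 1 := by
  apply Units.ext
  unfold Tij
  rw [dg_val, Units.val_one, ← Matrix.diagonal_one]
  congr 1
  funext l
  by_cases hli : l = i
  · simp [hli]
  · by_cases hlj : l = j
    · simp [hli, hlj]
    · simp [hli, hlj]

theorem utsyl_core (S : UTS n q σ M) (hn : 10 ≤ n) (hW1 : W1 M) (r : ℕ) [Fact r.Prime] (u : Fˣ)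
    (hT : ∀ i j : Fin n, i ≠ j → Tij i j u ∈ SUg n F q)
    (hu : (u : F) * σ (u : F) = 1) (hu1 : u ≠ 1) (hur : u ^ r = 1)
    {g : Matrix.GeneralLinearGroup (Fin n) F} (hg : g ∈ M) {i j : Fin n} (hij : i ≠ j)
    {a b : Fin n} (hab : a ≠ b) :
    ∃ h ∈ Subgroup.closure ({Tij i j u, g * Tij a b u * g⁻¹} :
        Set (Matrix.GeneralLinearGroup (Fin n) F)),
      IsMono ((h * g : Matrix.GeneralLinearGroup (Fin n) F) : Matrix (Fin n) (Fin n) F) := by
  classical
  have hTM : ∀ i j : Fin n, i ≠ j → Tij i j u ∈ M := fun i j hij =>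
    S.hN _ (hT i j hij) (by unfold Tij; exact isMono_dg _)
  have hxr : (Tij i j u : Matrix.GeneralLinearGroup (Fin n) F) ^ r = 1 := by
    rw [utsyl_Tij_pow, hur, utsyl_Tij_one]
  have hyr : (g * Tij a b u * g⁻¹ : Matrix.GeneralLinearGroup (Fin n) F) ^ r = 1 := by
    rw [conj_pow, utsyl_Tij_pow, hur, utsyl_Tij_one, mul_one, mul_inv_cancel]
  obtain ⟨P, h, hP, hPle, hh, hxP, hyP⟩ :=
    Cfsg.Agent.Lib.helper7.TP.tpmeet_sylow r (Tij i j u : Matrix.GeneralLinearGroup (Fin n) F)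
      (g * Tij a b u * g⁻¹) hxr hyr
  have hclM : Subgroup.closure ({Tij i j u, g * Tij a b u * g⁻¹} :
      Set (Matrix.GeneralLinearGroup (Fin n) F)) ≤ M := by
    rw [Subgroup.closure_le]
    intro z hz
    rcases hz with rfl | hz
    · exact hTM i j hij
    · rw [Set.mem_singleton_iff] at hz
      rw [hz]
      exact M.mul_mem (M.mul_mem hg (hTM a b hab)) (M.inv_mem hg)
  have hPM : P ≤ M := le_trans hPle hclM
  have hPmono := pgrp S hn hW1 r P hPM hP hij u hu hu1 hxP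
  refine ⟨h, hh, ?_⟩
  by_contra hcon
  have hhgM : h * g ∈ M := M.mul_mem (hclM hh) hg
  have hinvM : (h * g)⁻¹ ∈ M := M.inv_mem hhgM
  have hinvmono : ¬ IsMono ((((h * g)⁻¹ : Matrix.GeneralLinearGroup (Fin n) F)) :
      Matrix (Fin n) (Fin n) F) := fun hm => hcon ((isMono_inv_iff (h * g)).mp hm)
  have hmono := hPmono _ hyP
  have heq : h * (g * Tij a b u * g⁻¹) * h⁻¹ = ((h * g)⁻¹)⁻¹ * Tij a b u * (h * g)⁻¹ := by
    rw [inv_inv, _root_.mul_inv_rev]
    simp only [mul_assoc]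
  rw [heq] at hmono
  exact utpgrp_not_mono hn hab u hu1 ((h * g)⁻¹) (hW1 _ hinvM hinvmono) hmono

end Cfsg.Agent.Lib.Helper9.UT
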