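import Mathlib
import Cfsg.Prelude.Def_GeometricClasses
import Cfsg.Agent.Lib.Helper27.ASC.Defs
import Cfsg.Agent.Lib.Lead.ASCU.Defs
import Cfsg.Agent.Lib.helper2.UXDefs
import Cfsg.Agent.Lib.Helper28.OTensU

/-!
# Project UX (leader helper2), piece T2 : over `F_4` the stabiliser of a tensor decomposition `2 ⊗ n₂` is not maximal.
Copy of the proof of `Cfsg.Agent.Lib.Helper28.OTensU.tens2_su` (S5671), which uses `13 ≤ n` only through `2 ≤ n₂`.
-/

set_option autoImplicit false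
set_option linter.unusedVariables false
set_option linter.unusedSectionVars false

namespace Cfsg.Agent.Lib.helper2.UX

open Cfsg Cfsg.Geo Cfsg.Agent.Lib.Helper27.ASC Cfsg.Agent.Lib.Lead.ASCU
open scoped MatrixGroups Matrix

section core

open Matrix Kronecker Cfsg.Agent.Lib.Helper28.UForm Cfsg.Agent.Lib.Helper28.UGen
  Cfsg.Agent.Lib.Helper28.OTens Cfsg.Agent.Lib.Helper28.OTensU

/-- a unitary space of dimension at least two over a finite field has a non-zero isotropic vector -/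
theorem uxt2_exists_isotropic {F : Type*} [Field F] [Finite F] {σ : F ≃+* F} {n : ℕ}
    {f : (Fin n → F) → (Fin n → F) → F} (hf : Cfsg.Geo.IsUnitaryForm σ f) (hn : 2 ≤ n) :
    ∃ z : Fin n → F, z ≠ 0 ∧ f z z = 0 := by
  classical
  have hx0 : (Pi.single (⟨0, by omega⟩ : Fin n) (1 : F) : Fin n → F) ≠ 0 := by
    intro h
    have := congrFun h ⟨0, by omega⟩
    simp at this
  obtain ⟨x, hx⟩ : ∃ x : Fin n → F, x = Pi.single (⟨0, by omega⟩ : Fin n) (1 : F) := ⟨_, rfl⟩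
  rw [← hx] at hx0
  by_cases hxx : f x x = 0
  · exact ⟨x, hx0, hxx⟩
  have hker := finrank_ker_ge hf (fun _ : Fin 1 => x)
  have hpos : 0 < Module.finrank F (LinearMap.ker (perpMap hf (fun _ : Fin 1 => x))) := by omega
  obtain ⟨⟨y, hyK⟩, hy0⟩ := Module.finrank_pos_iff_exists_ne_zero.1 hpos
  have hy0' : y ≠ 0 := fun h => hy0 (Subtype.ext h)
  have hyx : f y x = 0 := (mem_ker_perpMap hf _ y).1 hyK 0
  have hxy : f x y = 0 := f_swap_zero hf hyx
  by_cases hyy : f y y = 0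
  · exact ⟨y, hy0', hyy⟩
  have hfix : σ (-(f x x) / f y y) = -(f x x) / f y y := by
    rw [map_div₀, map_neg, f_self_fixed hf, f_self_fixed hf]
  obtain ⟨a, ha⟩ := norm_surj hf _ hfix
  refine ⟨x + a • y, ?_, ?_⟩
  · intro h
    apply hxx
    have h1 : x = -(a • y) := eq_neg_of_add_eq_zero_left h
    have : f x x = f (-(a • y)) x := by rw [← h1]
    rw [this, f_neg_left hf, hf.smul_left, hyx, mul_zero, neg_zero]
  · rw [hf.add_left, f_add_right hf, f_add_right hf, hf.smul_left, hf.smul_left, f_smul_right hf, f_smul_right hf,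
      hxy, hyx]
    have : a * σ a * f y y = -(f x x) := by
      rw [ha]
      field_simp
    linear_combination this

/-- `tens2_su` with the hypothesis `2 ≤ n₂` in place of `13 ≤ n` (same proof). -/
theorem uxt2_core {F : Type*} [Field F] [Fintype F] (n : ℕ) (hF : Fintype.card F = 4) (n₂ : ℕ) (hn₂ : 2 ≤ n₂)
    (e : Fin n ≃ Fin 2 × Fin n₂) (P : Matrix.GeneralLinearGroup (Fin n) F)
    (f₁ : (Fin 2 → F) → (Fin 2 → F) → F) (f₂ : (Fin n₂ → F) → (Fin n₂ → F) → F)
    (hf₁ : Cfsg.Geo.IsUnitaryFormPow 2 f₁) (hf₂ : Cfsg.Geo.IsUnitaryFormPow 2 f₂)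
    (hT : Cfsg.Geo.IsTensorFormStructure (fun x : F => x ^ 2) (Cfsg.hermForm n F 2) f₁ f₂ e P) :
    ∃ K : Subgroup (Matrix.GeneralLinearGroup (Fin n) F),
      Cfsg.Geo.tensorProductSubgroup 2 n₂ e P ⊓
        (Cfsg.GU n F 2 ⊓ Cfsg.Geo.specialLinear (Fin n) F) < K ∧
      K < (Cfsg.GU n F 2 ⊓ Cfsg.Geo.specialLinear (Fin n) F) := by
  classical
  have hF' : Fintype.card F = 2 ^ 2 := by rw [hF]; norm_num
  obtain ⟨σ, hσ, hf⟩ := Cfsg.Agent.Lib.Helper28.UHerm.herm_unitary hF' n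
  have hU₁ : Cfsg.Geo.IsUnitaryForm σ f₁ :=
    ⟨hf.ne_refl, hf.involutive, hf₁.add_left, hf₁.smul_left,
      fun v w => by rw [hσ]; exact hf₁.herm v w, hf₁.nondegenerate⟩
  have hU₂ : Cfsg.Geo.IsUnitaryForm σ f₂ :=
    ⟨hf.ne_refl, hf.involutive, hf₂.add_left, hf₂.smul_left,
      fun v w => by rw [hσ]; exact hf₂.herm v w, hf₂.nondegenerate⟩
  have h2 := two_eq_zero4 hF
  have hσ1 : σ 1 = -1 := by
    rw [map_one]
    linear_combination h2
  have hcard : n = 2 * n₂ := by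
    have := Fintype.card_congr e
    simpa using this
  obtain ⟨c, hc, hT'⟩ := hT
  have tf : ∀ α α' v v', Cfsg.hermForm n F 2 (tau e P α v) (tau e P α' v') =
      c * (f₁ α α' * f₂ v v') := fun α α' v v' => tform_u e P hU₁ hU₂ hσ hT' α α' v v'
  obtain ⟨X, hXX, hX01, hX10, hXP⟩ := frame2u hF hU₁ hσ
  have hX0 : ∀ i, X i ≠ 0 := by
    intro i h
    have := hXX i
    rw [h, f_zero_left hU₁] at this
    exact zero_ne_one this
  have hXo : ∀ i j, i ≠ j → f₁ (X i) (X j) = 0 := by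
    intro i j hij
    fin_cases i <;> fin_cases j
    · exact absurd rfl hij
    · exact hX01
    · exact hX10
    · exact absurd rfl hij
  obtain ⟨D, hD⟩ : ∃ D : Fin 2 → Submodule F (Fin n → F), D = fun i => blk e P (X i) :=
    ⟨_, rfl⟩
  have hDmem : ∀ i w, w ∈ D i ↔ ∃ v, tau e P (X i) v = w := by
    intro i w
    rw [hD]
    exact mem_blk e P _ _
  have hfr : ∀ i, Module.finrank F (D i) = n₂ := by
    intro i
    rw [hD]
    exact blk_finrank e P (hX0 i)
  have horth : ∀ i j, i ≠ j → ∀ x ∈ D i, ∀ y ∈ D j, Cfsg.hermForm n F 2 x y = 0 := by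
    intro i j hij x hx y hy
    obtain ⟨v, rfl⟩ := (hDmem i x).1 hx
    obtain ⟨v', rfl⟩ := (hDmem j y).1 hy
    rw [tf, hXo i j hij]
    ring
  have htau0 : ∀ α : Fin 2 → F, tau e P α (0 : Fin n₂ → F) = 0 := by
    intro α
    have := tau_smul_right e P 0 α 0
    rw [zero_smul, zero_smul] at this
    exact this
  have hnd : ∀ i, ∀ w ∈ D i, w ≠ 0 → ∃ x ∈ D i, Cfsg.hermForm n F 2 x w ≠ 0 := by
    intro i w hw hw0
    obtain ⟨v, rfl⟩ := (hDmem i w).1 hw
    have hv0 : v ≠ 0 := by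
      rintro rfl
      exact hw0 (htau0 (X i))
    obtain ⟨⟨x, hx⟩, -⟩ := hf₂.nondegenerate v hv0
    refine ⟨tau e P (X i) x, (hDmem i _).2 ⟨_, rfl⟩, ?_⟩
    rw [tf, hXX, one_mul]
    exact mul_ne_zero hc hx
  have hdisj : ∀ i j, i ≠ j → ∀ w, w ∈ D i → w ∈ D j → w = 0 := by
    intro i j hij w hwi hwj
    by_contra hw0
    obtain ⟨x, hx, hxw⟩ := hnd i w hwi hw0
    exact hxw (horth i j hij x hx w hwj)
  obtain ⟨G, hGdef⟩ : ∃ G : Subgroup (Matrix.GeneralLinearGroup (Fin n) F),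
      G = Cfsg.GU n F 2 ⊓ Cfsg.Geo.specialLinear (Fin n) F := ⟨_, rfl⟩
  have hG : ∀ g : Matrix.GeneralLinearGroup (Fin n) F, g ∈ G ↔
      (∀ x y, Cfsg.hermForm n F 2 ((g : Matrix (Fin n) (Fin n) F) *ᵥ x)
        ((g : Matrix (Fin n) (Fin n) F) *ᵥ y) = Cfsg.hermForm n F 2 x y) ∧
        g ∈ Cfsg.Geo.specialLinear (Fin n) F := by
    intro g
    rw [hGdef, Subgroup.mem_inf]
    exact Iff.rfl
  rw [← hGdef]
  have hv₁0 : (Pi.single (⟨0, by omega⟩ : Fin n₂) (1 : F) : Fin n₂ → F) ≠ 0 := by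
    intro h
    have := congrFun h ⟨0, by omega⟩
    simp at this
  obtain ⟨z, hz0, hzz⟩ := uxt2_exists_isotropic hU₂ hn₂
  obtain ⟨⟨z', hz'⟩, -⟩ := hf₂.nondegenerate z hz0
  have hnd₂ : ∃ v v', f₂ v v' ≠ 0 := ⟨z', z, hz'⟩
  obtain ⟨a, ha⟩ : ∃ a, a = tau e P (X 0) z := ⟨_, rfl⟩
  obtain ⟨b, hb⟩ : ∃ b, b = tau e P (X 1) z := ⟨_, rfl⟩
  obtain ⟨a', ha'⟩ : ∃ a', a' = tau e P (X 0) z' := ⟨_, rfl⟩
  have haD : a ∈ D 0 := (hDmem 0 a).2 ⟨z, ha.symm⟩
  have hbD : b ∈ D 1 := (hDmem 1 b).2 ⟨z, hb.symm⟩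
  have ha'D : a' ∈ D 0 := (hDmem 0 a').2 ⟨z', ha'.symm⟩
  have haa : Cfsg.hermForm n F 2 a a = 0 := by rw [ha, tf, hzz]; ring
  have hbb : Cfsg.hermForm n F 2 b b = 0 := by rw [hb, tf, hzz]; ring
  have hab : Cfsg.hermForm n F 2 a b = 0 := horth 0 1 (by decide) a haD b hbD
  have hba : Cfsg.hermForm n F 2 b a = 0 := horth 1 0 (by decide) b hbD a haD
  have ha'a : Cfsg.hermForm n F 2 a' a ≠ 0 := by
    rw [ha', ha, tf, hXX, one_mul]
    exact mul_ne_zero hc hz'
  have ha'b : Cfsg.hermForm n F 2 a' b = 0 := horth 0 1 (by decide) a' ha'D b hbD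
  have ha0 : a ≠ 0 := by
    intro h
    apply hz0
    apply tau_inj e P (hX0 0)
    rw [← ha, h, htau0]
  have hb0 : b ≠ 0 := by
    intro h
    apply hz0
    apply tau_inj e P (hX0 1)
    rw [← hb, h, htau0]
  refine ⟨Cfsg.Geo.decompositionStabilizer D ⊓ G, ?_, ?_⟩
  · refine lt_of_le_of_ne ?_ ?_
    · rintro g ⟨hgT, hgG⟩
      refine ⟨?_, hgG⟩
      rw [hD]
      exact tens_stab_u e P hc tf hnd₂ hU₁ X hXX hX01 hXP g hgT ((hG g).1 hgG).1
    · intro heq
      obtain ⟨r, -, hr⟩ := Cfsg.Agent.S5643.tvGL hf a ((1 : F) • a) (by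
        rw [f_smul_right hf, haa, mul_zero])
      have hrG : r ∈ G := Cfsg.Agent.Lib.Helper28.UMax.UT_mem_G hf G hG haa hσ1 hr
      have hrx : ∀ x, (r : Matrix (Fin n) (Fin n) F) *ᵥ x = x + Cfsg.hermForm n F 2 x a • a := by
        intro x
        rw [hr x, f_smul_right hf, map_one, one_mul]
      have hrK : r ∈ Cfsg.Geo.decompositionStabilizer D ⊓ G := by
        refine ⟨Cfsg.Agent.Lib.Helper28.DecGen.stab_of_maps D hfr r 1 ?_, hrG⟩
        intro i x hx
        rw [hrx, Equiv.Perm.one_apply]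
        by_cases hi : i = 0
        · subst hi
          exact (D 0).add_mem hx ((D 0).smul_mem _ haD)
        · rw [horth i 0 hi x hx a haD, zero_smul, add_zero]
          exact hx
      rw [← heq] at hrK
      obtain ⟨μ, hμ⟩ := tens_scalar e P r hrK.1 (X 0) (X 1) (hX0 0) (hX0 1)
        (by
          intro w hw
          have hw' : w ∈ D 1 := by
            rw [hD]
            exact hw
          rw [hrx, horth 1 0 (by decide) w hw' a haD, zero_smul, add_zero])
        a' (by rw [hD] at ha'D; exact ha'D)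
        (by
          rw [hrx]
          have := (D 0).add_mem ha'D ((D 0).smul_mem (Cfsg.hermForm n F 2 a' a) haD)
          rw [hD] at this
          exact this)
      rw [hrx] at hμ
      have h1 : Cfsg.hermForm n F 2 (a' + Cfsg.hermForm n F 2 a' a • a) a =
          Cfsg.hermForm n F 2 (μ • a') a := by rw [hμ]
      rw [hf.add_left, hf.smul_left, hf.smul_left, haa, mul_zero, add_zero] at h1
      have hμ1 : μ = 1 := by
        have : (μ - 1) * Cfsg.hermForm n F 2 a' a = 0 := by linear_combination -h1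
        rcases mul_eq_zero.1 this with h | h
        · exact sub_eq_zero.1 h
        · exact absurd h ha'a
      rw [hμ1, one_smul] at hμ
      have h3 : Cfsg.hermForm n F 2 a' a • a = 0 := by
        have := congrArg (fun z => z - a') hμ
        simpa using this
      rcases smul_eq_zero.1 h3 with h | h
      · exact ha'a h
      · exact ha0 h
  · refine lt_of_le_of_ne inf_le_right ?_
    intro heq
    have hww : Cfsg.hermForm n F 2 (a + b) (a + b) = 0 := by
      rw [hf.add_left, f_add_right hf, f_add_right hf, haa, hab, hba, hbb]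
      ring
    obtain ⟨t, -, ht⟩ := Cfsg.Agent.S5643.tvGL hf (a + b) ((1 : F) • (a + b)) (by
      rw [f_smul_right hf, hww, mul_zero])
    have htG : t ∈ G := Cfsg.Agent.Lib.Helper28.UMax.UT_mem_G hf G hG hww hσ1 ht
    rw [← heq] at htG
    obtain ⟨⟨τ, hτ⟩, -⟩ := htG
    have h1 : (t : Matrix (Fin n) (Fin n) F) *ᵥ a' ∈ D (τ 0) := by
      rw [← hτ 0]
      exact ⟨a', ha'D, by rw [Matrix.toLin'_apply]⟩
    rw [ht a', f_smul_right hf, map_one, one_mul, f_add_right hf, ha'b, add_zero, smul_add,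
      ← add_assoc] at h1
    obtain ⟨p, hp⟩ : ∃ p, p = a' + Cfsg.hermForm n F 2 a' a • a := ⟨_, rfl⟩
    obtain ⟨q, hq⟩ : ∃ q, q = Cfsg.hermForm n F 2 a' a • b := ⟨_, rfl⟩
    rw [← hp, ← hq] at h1
    have hpD : p ∈ D 0 := by
      rw [hp]
      exact (D 0).add_mem ha'D ((D 0).smul_mem _ haD)
    have hqD : q ∈ D 1 := by
      rw [hq]
      exact (D 1).smul_mem _ hbD
    have hq0 : q ≠ 0 := by
      rw [hq]
      exact smul_ne_zero ha'a hb0
    have hpa : Cfsg.hermForm n F 2 p a ≠ 0 := by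
      rw [hp, hf.add_left, hf.smul_left, haa, mul_zero, add_zero]
      exact ha'a
    have hp0 : p ≠ 0 := by
      rintro rfl
      exact hpa (f_zero_left hf a)
    have hcases : τ 0 = 0 ∨ τ 0 = 1 := by
      rcases τ 0 with ⟨k, hk⟩
      interval_cases k
      · exact Or.inl rfl
      · exact Or.inr rfl
    rcases hcases with h | h
    · rw [h] at h1
      have hq' : q ∈ D 0 := by
        have := (D 0).sub_mem h1 hpD
        rwa [add_sub_cancel_left] at this
      exact hq0 (hdisj 0 1 (by decide) q hq' hqD)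
    · rw [h] at h1
      have hp' : p ∈ D 1 := by
        have := (D 1).sub_mem h1 hqD
        rwa [add_sub_cancel_right] at this
      exact hp0 (hdisj 0 1 (by decide) p hpD hp')


end core

variable {n : ℕ} {F : Type*} [Field F] [Fintype F]

/-- T2 : over `F_4` (`q = 2`) the stabiliser of a tensor decomposition `2 ⊗ n₂` is not maximal. -/
theorem tensor2_q2 (hF : Fintype.card F = 4) {n₂ : ℕ} (h2 : 2 ≤ n₂) (e : Fin n ≃ Fin 2 × Fin n₂)
    (P : GL (Fin n) F) (f₁ : (Fin 2 → F) → (Fin 2 → F) → F) (f₂ : (Fin n₂ → F) → (Fin n₂ → F) → F)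
    (hf₁ : IsUnitaryFormPow 2 f₁) (hf₂ : IsUnitaryFormPow 2 f₂)
    (hT : IsTensorFormStructure (fun x : F => x ^ 2) (hermForm n F 2) f₁ f₂ e P) :
    NotMax (SUg n F 2) (tensorProductSubgroup 2 n₂ e P ⊓ SUg n F 2) :=
  uxt2_core n hF n₂ h2 e P f₁ f₂ hf₁ hf₂ hT

end Cfsg.Agent.Lib.helper2.UX
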