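import Mathlib
import Cfsg.Agent.Lib.Helper21.XS2A

set_option autoImplicit false
open scoped commutatorElement

namespace Cfsg.Agent.Lib.Helper21

open Cfsg.Agent.Lib.Helper20

theorem qsgn_coe {E : Type*} [Group E] (H : Subgroup E) (c : H) : qsgn (c : E) = qsgn c := by
  by_cases hc : c = 1
  · rw [hc]; simp [qsgn_one]
  · rw [qsgn_of_ne hc, qsgn_of_ne (fun h => hc (Subtype.ext h))]

namespace XS2

variable {E : Type*} [Group E] {z : E}

/-- `g ↦ ⁅g, x⁆` as a hom into `zpowers z` -/
def commHom (h : XS2 E z) (x : E) : E →* Subgroup.zpowers z where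
  toFun g := ⟨⁅g, x⁆, (h.mem_zpowers_iff _).mpr (h.comm g x)⟩
  map_one' := by apply Subtype.ext; simp
  map_mul' a b := by apply Subtype.ext; exact h.comm_mul_left a b x

theorem commHom_apply (h : XS2 E z) (x g : E) : ((h.commHom x g : Subgroup.zpowers z) : E) = ⁅g, x⁆ := rfl

def pairHom (h : XS2 E z) (x y : E) : E →* Subgroup.zpowers z × Subgroup.zpowers z :=
  (h.commHom x).prod (h.commHom y)

theorem pairHom_eq_iff (h : XS2 E z) (x y g g' : E) :
    h.pairHom x y g = h.pairHom x y g' ↔ ⁅g, x⁆ = ⁅g', x⁆ ∧ ⁅g, y⁆ = ⁅g', y⁆ := by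
  unfold pairHom
  rw [MonoidHom.prod_apply, MonoidHom.prod_apply, Prod.ext_iff]
  simp only [Subtype.ext_iff, commHom_apply]

theorem mem_ker_pairHom (h : XS2 E z) (x y g : E) :
    g ∈ (h.pairHom x y).ker ↔ g ∈ Subgroup.centralizer ({x, y} : Set E) := by
  rw [MonoidHom.mem_ker, ← map_one (h.pairHom x y), pairHom_eq_iff, Subgroup.mem_centralizer_iff]
  simp only [commutatorElement_one_left, commutatorElement_eq_one_iff_mul_comm,
    Set.mem_insert_iff, Set.mem_singleton_iff, forall_eq_or_imp, forall_eq]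
  constructor
  · rintro ⟨h1, h2⟩; exact ⟨h1.symm, h2.symm⟩
  · rintro ⟨h1, h2⟩; exact ⟨h1.symm, h2.symm⟩

/-- the transversal `1, x, y, xy` -/
def T (x y : E) : Fin 4 → E := ![1, x, y, x * y]

theorem z_mem_centralizer (h : XS2 E z) (S : Set E) : z ∈ Subgroup.centralizer S := by
  rw [Subgroup.mem_centralizer_iff]
  intro k _
  exact h.z_comm k

theorem T_comm (x y : E) (i : Fin 4) (c : E) (hc : c ∈ Subgroup.centralizer ({x, y} : Set E)) :
    T x y i * c = c * T x y i := by
  rw [Subgroup.mem_centralizer_iff] at hc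
  have hx : x * c = c * x := hc x (by simp)
  have hy : y * c = c * y := hc y (by simp)
  fin_cases i
  · simp [T]
  · simpa [T] using hx
  · simpa [T] using hy
  · show x * y * c = c * (x * y)
    rw [mul_assoc, hy, ← mul_assoc, hx, mul_assoc]

theorem T_mem_closure (x y : E) (i : Fin 4) : T x y i ∈ Subgroup.closure ({x, y} : Set E) := by
  have hx : x ∈ Subgroup.closure ({x, y} : Set E) := Subgroup.subset_closure (by simp)
  have hy : y ∈ Subgroup.closure ({x, y} : Set E) := Subgroup.subset_closure (by simp)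
  fin_cases i
  · exact one_mem _
  · exact hx
  · exact hy
  · exact mul_mem hx hy

theorem exists_T (h : XS2 E z) {x y : E} (hxy : x * y ≠ y * x) (g : E) :
    ∃ i : Fin 4, (T x y i)⁻¹ * g ∈ Subgroup.centralizer ({x, y} : Set E) := by
  have hz1 : ⁅x, y⁆ = z := h.comm_eq_z hxy
  have hz2 : ⁅y, x⁆ = z := by rw [h.comm_symm]; exact hz1
  have key : ∀ i : Fin 4, h.pairHom x y (T x y i) = h.pairHom x y g →
      (T x y i)⁻¹ * g ∈ Subgroup.centralizer ({x, y} : Set E) := by
    intro i hi
    rw [← mem_ker_pairHom h, MonoidHom.mem_ker, map_mul, map_inv, hi, inv_mul_cancel]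
  rcases h.comm g x with e1 | e1 <;> rcases h.comm g y with e2 | e2
  · refine ⟨0, key 0 ?_⟩
    rw [pairHom_eq_iff, e1, e2]; simp [T]
  · refine ⟨1, key 1 ?_⟩
    rw [pairHom_eq_iff, e1, e2]; simp [T, hz1]
  · refine ⟨2, key 2 ?_⟩
    rw [pairHom_eq_iff, e1, e2]; simp [T, hz2]
  · refine ⟨3, key 3 ?_⟩
    rw [pairHom_eq_iff, e1, e2]
    show ⁅x * y, x⁆ = z ∧ ⁅x * y, y⁆ = z
    rw [h.comm_mul_left, h.comm_mul_left, hz1, hz2]; simp

theorem pairHom_surjective (h : XS2 E z) {x y : E} (hxy : x * y ≠ y * x) :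
    Function.Surjective (h.pairHom x y) := by
  have hz1 : ⁅x, y⁆ = z := h.comm_eq_z hxy
  have hz2 : ⁅y, x⁆ = z := by rw [h.comm_symm]; exact hz1
  rintro ⟨⟨a, ha⟩, ⟨b, hb⟩⟩
  rw [h.mem_zpowers_iff] at ha hb
  have key : ∀ g : E, ⁅g, x⁆ = a → ⁅g, y⁆ = b → h.pairHom x y g = (⟨a, (h.mem_zpowers_iff _).mpr ha⟩, ⟨b, (h.mem_zpowers_iff _).mpr hb⟩) := by
    intro g h1 h2
    unfold pairHom
    rw [MonoidHom.prod_apply, Prod.ext_iff]
    exact ⟨Subtype.ext h1, Subtype.ext h2⟩
  rcases ha with rfl | rfl <;> rcases hb with rfl | rfl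
  · exact ⟨1, key 1 (by simp) (by simp)⟩
  · exact ⟨x, key x (by simp) hz1⟩
  · exact ⟨y, key y hz2 (by simp)⟩
  · refine ⟨x * y, key (x * y) ?_ ?_⟩
    · rw [h.comm_mul_left, hz2]; simp
    · rw [h.comm_mul_left, hz1]; simp

theorem card_eq_four_mul [Finite E] (h : XS2 E z) {x y : E} (hxy : x * y ≠ y * x) :
    Nat.card E = 4 * Nat.card (Subgroup.centralizer ({x, y} : Set E)) := by
  have hker : (h.pairHom x y).ker = Subgroup.centralizer ({x, y} : Set E) := by
    ext g; exact h.mem_ker_pairHom x y g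
  have h1 := Subgroup.card_mul_index (h.pairHom x y).ker
  rw [Subgroup.index_ker, MonoidHom.range_eq_top.mpr (h.pairHom_surjective hxy),
    Subgroup.card_top, Nat.card_prod, h.card_zpowers, hker] at h1
  omega

/-- the bijection `Fin 4 × C → E` -/
theorem bijective_T [Finite E] (h : XS2 E z) {x y : E} (hxy : x * y ≠ y * x) :
    Function.Bijective (fun p : Fin 4 × Subgroup.centralizer ({x, y} : Set E) =>
      T x y p.1 * (p.2 : E)) := by
  apply Function.Surjective.bijective_of_nat_card_le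
  · intro g
    obtain ⟨i, hi⟩ := h.exists_T hxy g
    refine ⟨(i, ⟨_, hi⟩), ?_⟩
    simp
  · rw [Nat.card_prod, h.card_eq_four_mul hxy]
    simp

theorem central_of_mem (h : XS2 E z) {x y : E} (hxy : x * y ≠ y * x) {t : E}
    (ht : t ∈ Subgroup.centralizer ({x, y} : Set E))
    (htc : ∀ c ∈ Subgroup.centralizer ({x, y} : Set E), t * c = c * t) : ∀ g : E, t * g = g * t := by
  intro g
  obtain ⟨i, hi⟩ := h.exists_T hxy g
  obtain ⟨c, hc⟩ : ∃ c, c = (T x y i)⁻¹ * g := ⟨_, rfl⟩
  have hg : g = T x y i * c := by rw [hc]; group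
  rw [← hc] at hi
  rw [hg, ← mul_assoc, ← T_comm x y i t ht, mul_assoc, htc _ hi, mul_assoc]

theorem xs2_centralizer [Finite E] (h : XS2 E z) {x y : E} (hxy : x * y ≠ y * x)
    (hcard : 8 < Nat.card E) :
    XS2 ↥(Subgroup.centralizer ({x, y} : Set E)) ⟨z, h.z_mem_centralizer _⟩ := by
  refine ⟨?_, ?_, ?_, ?_, ?_, ?_, ?_⟩
  · intro e; exact h.z_ne (congrArg Subtype.val e)
  · exact Subtype.ext h.z_sq
  · intro g; exact Subtype.ext (h.z_comm g)
  · intro t ht
    have := h.center t (h.central_of_mem hxy t.2 (fun c hc => congrArg Subtype.val (ht ⟨c, hc⟩)))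
    rcases this with e | e
    · left; exact Subtype.ext e
    · right; exact Subtype.ext e
  · intro a b
    rcases h.comm a b with e | e
    · left; apply Subtype.ext; simpa [commutatorElement_def] using e
    · right; apply Subtype.ext; simpa [commutatorElement_def] using e
  · intro a
    rcases h.sq a with e | e
    · left; apply Subtype.ext; simpa using e
    · right; apply Subtype.ext; simpa using e
  · by_contra hab
    push_neg at hab
    have hle : Subgroup.centralizer ({x, y} : Set E) ≤ Subgroup.zpowers z := by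
      intro t ht
      rw [h.mem_zpowers_iff]
      apply h.center
      apply h.central_of_mem hxy ht
      intro c hc
      exact congrArg Subtype.val (hab ⟨t, ht⟩ ⟨c, hc⟩)
    have h1 := Subgroup.card_le_of_le hle
    rw [h.card_zpowers] at h1
    have h2 := h.card_eq_four_mul hxy
    omega

open Classical in
theorem xsS_split [Finite E] (h : XS2 E z) {x y : E} (hxy : x * y ≠ y * x) :
    xsS E = (1 + qsgn (x ^ 2) + qsgn (y ^ 2) - qsgn (x ^ 2) * qsgn (y ^ 2)) *
      xsS ↥(Subgroup.centralizer ({x, y} : Set E)) := by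
  have := Fintype.ofFinite E
  rw [xsS_eq_sum, xsS_eq_sum]
  have hb := h.bijective_T hxy
  rw [← Equiv.sum_comp (Equiv.ofBijective _ hb) (fun g : E => qsgn (g ^ 2))]
  simp only [Equiv.ofBijective_apply]
  rw [Fintype.sum_prod_type]
  have hterm : ∀ (i : Fin 4) (c : Subgroup.centralizer ({x, y} : Set E)),
      qsgn ((T x y i * (c : E)) ^ 2) = qsgn ((T x y i) ^ 2) * qsgn (c ^ 2) := by
    intro i c
    have hcm : Commute (T x y i) (c : E) := T_comm x y i c c.2
    rw [hcm.mul_pow, h.qsgn_mul' (h.sq _) (h.sq _), ← qsgn_coe]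
    rfl
  simp only [hterm, ← Finset.mul_sum]
  rw [← Finset.sum_mul, Fin.sum_univ_four]
  congr 1
  have hxyz : qsgn ((x * y) ^ 2) = - (qsgn (x ^ 2) * qsgn (y ^ 2)) := by
    have hz2 : ⁅y, x⁆ = z := by rw [h.comm_symm]; exact h.comm_eq_z hxy
    rw [sq_mul_eq x y (fun g => h.comm_central _ _ g), hz2]
    have hxy2 : x ^ 2 * y ^ 2 = 1 ∨ x ^ 2 * y ^ 2 = z := by
      rcases h.sq x with e | e <;> rcases h.sq y with e' | e' <;> rw [e, e']
      · left; simp
      · right; simp
      · right; simp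
      · left; exact h.z_sq
    rw [h.qsgn_mul' (Or.inr rfl) hxy2, h.qsgn_z, h.qsgn_mul' (h.sq x) (h.sq y)]
    ring
  show qsgn ((1 : E) ^ 2) + qsgn (x ^ 2) + qsgn (y ^ 2) + qsgn ((x * y) ^ 2) = _
  rw [hxyz, one_pow, qsgn_one]
  ring

/-! ### the subgroup `D = ⟨x, y⟩` -/

theorem closure_comm_centralizer (x y : E) {d c : E} (hd : d ∈ Subgroup.closure ({x, y} : Set E))
    (hc : c ∈ Subgroup.centralizer ({x, y} : Set E)) : d * c = c * d := by
  have h1 := Subgroup.closure_le_centralizer_centralizer ({x, y} : Set E) hd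
  rw [Subgroup.mem_centralizer_iff] at h1
  exact (h1 c hc).symm

theorem centralizer_closure_eq (x y : E) :
    Subgroup.centralizer (Subgroup.closure ({x, y} : Set E) : Set E) =
      Subgroup.centralizer ({x, y} : Set E) := by
  apply le_antisymm
  · exact Subgroup.centralizer_le Subgroup.subset_closure
  · intro c hc
    rw [Subgroup.mem_centralizer_iff]
    intro d hd
    exact closure_comm_centralizer x y hd hc

theorem z_mem_closure (h : XS2 E z) {x y : E} (hxy : x * y ≠ y * x) :
    z ∈ Subgroup.closure ({x, y} : Set E) := by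
  rw [← h.comm_eq_z hxy, commutatorElement_def]
  have hx : x ∈ Subgroup.closure ({x, y} : Set E) := Subgroup.subset_closure (by simp)
  have hy : y ∈ Subgroup.closure ({x, y} : Set E) := Subgroup.subset_closure (by simp)
  exact mul_mem (mul_mem (mul_mem hx hy) (inv_mem hx)) (inv_mem hy)

theorem card_closure [Finite E] (h : XS2 E z) {x y : E} (hxy : x * y ≠ y * x) :
    Nat.card (Subgroup.closure ({x, y} : Set E)) = 8 := by
  have h1 := h.card_mul_card_centralizer _ (h.z_mem_closure hxy)
  rw [centralizer_closure_eq, h.card_eq_four_mul hxy] at h1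
  have hpos : 0 < Nat.card (Subgroup.centralizer ({x, y} : Set E)) := Nat.card_pos
  nlinarith

theorem inter_closure_centralizer (h : XS2 E z) {x y : E} (hxy : x * y ≠ y * x) {t : E}
    (hd : t ∈ Subgroup.closure ({x, y} : Set E))
    (hc : t ∈ Subgroup.centralizer ({x, y} : Set E)) : t = 1 ∨ t = z :=
  h.center t (h.central_of_mem hxy hc (fun c hc' => closure_comm_centralizer x y hd hc'))

theorem xs2_closure (h : XS2 E z) {x y : E} (hxy : x * y ≠ y * x) :
    XS2 ↥(Subgroup.closure ({x, y} : Set E)) ⟨z, h.z_mem_closure hxy⟩ := by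
  have hx : x ∈ Subgroup.closure ({x, y} : Set E) := Subgroup.subset_closure (by simp)
  have hy : y ∈ Subgroup.closure ({x, y} : Set E) := Subgroup.subset_closure (by simp)
  refine ⟨?_, ?_, ?_, ?_, ?_, ?_, ?_⟩
  · intro e; exact h.z_ne (congrArg Subtype.val e)
  · exact Subtype.ext h.z_sq
  · intro g; exact Subtype.ext (h.z_comm g)
  · intro t ht
    have htC : (t : E) ∈ Subgroup.centralizer ({x, y} : Set E) := by
      rw [Subgroup.mem_centralizer_iff]
      intro k hk
      rcases hk with rfl | rfl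
      · exact (congrArg Subtype.val (ht ⟨k, hx⟩)).symm
      · exact (congrArg Subtype.val (ht ⟨k, hy⟩)).symm
    rcases h.inter_closure_centralizer hxy t.2 htC with e | e
    · left; exact Subtype.ext e
    · right; exact Subtype.ext e
  · intro a b
    rcases h.comm a b with e | e
    · left; apply Subtype.ext; simpa [commutatorElement_def] using e
    · right; apply Subtype.ext; simpa [commutatorElement_def] using e
  · intro a
    rcases h.sq a with e | e
    · left; apply Subtype.ext; simpa using e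
    · right; apply Subtype.ext; simpa using e
  · refine ⟨⟨x, hx⟩, ⟨y, hy⟩, ?_⟩
    intro e
    exact hxy (congrArg Subtype.val e)

theorem exists_mul_decomp (h : XS2 E z) {x y : E} (hxy : x * y ≠ y * x) (g : E) :
    ∃ d ∈ Subgroup.closure ({x, y} : Set E), ∃ c ∈ Subgroup.centralizer ({x, y} : Set E),
      g = d * c := by
  obtain ⟨i, hi⟩ := h.exists_T hxy g
  exact ⟨T x y i, T_mem_closure x y i, _, hi, by group⟩

end XS2

end Cfsg.Agent.Lib.Helper21
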