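import Mathlib
import Cfsg.Agent.Lib.Helper21.XS2B
import Cfsg.Agent.Lib.Helper24.Taussky

set_option autoImplicit false
open scoped commutatorElement

namespace Cfsg.Agent.Lib.Helper21

open Cfsg.Agent.Lib.Helper20

universe u v

/-- gluing isomorphisms along an internal central product -/
theorem glue_central {E : Type u} {E' : Type v} [Group E] [Group E'] [Finite E] [Finite E']
    (D C : Subgroup E) (D' C' : Subgroup E')
    (hcomm : ∀ d ∈ D, ∀ c ∈ C, d * c = c * d) (hcomm' : ∀ d ∈ D', ∀ c ∈ C', d * c = c * d)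
    (hgen : ∀ g : E, ∃ d ∈ D, ∃ c ∈ C, g = d * c)
    (hgen' : ∀ g : E', ∃ d ∈ D', ∃ c ∈ C', g = d * c)
    (α : D ≃* D') (γ : C ≃* C')
    (hcompat : ∀ (t : E) (hD : t ∈ D) (hC : t ∈ C),
      ((α ⟨t, hD⟩ : D') : E') = ((γ ⟨t, hC⟩ : C') : E'))
    (hcard : Nat.card E = Nat.card E') : Nonempty (E ≃* E') := by
  let f : D × C →* E :=
    MonoidHom.noncommCoprod D.subtype C.subtype (fun d c => hcomm d d.2 c c.2)
  let f' : D × C →* E' :=
    MonoidHom.noncommCoprod (D'.subtype.comp α.toMonoidHom) (C'.subtype.comp γ.toMonoidHom)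
      (fun d c => hcomm' _ (α d).2 _ (γ c).2)
  have hfa : ∀ p : D × C, f p = (p.1 : E) * (p.2 : E) := fun p => rfl
  have hfa' : ∀ p : D × C, f' p = ((α p.1 : D') : E') * ((γ p.2 : C') : E') := fun p => rfl
  have hf : Function.Surjective f := by
    intro g
    obtain ⟨d, hd, c, hc, rfl⟩ := hgen g
    exact ⟨(⟨d, hd⟩, ⟨c, hc⟩), rfl⟩
  have hf' : Function.Surjective f' := by
    intro g
    obtain ⟨d, hd, c, hc, rfl⟩ := hgen' g
    obtain ⟨d0, hd0⟩ := α.surjective ⟨d, hd⟩
    obtain ⟨c0, hc0⟩ := γ.surjective ⟨c, hc⟩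
    refine ⟨(d0, c0), ?_⟩
    rw [hfa']
    show ((α d0 : D') : E') * ((γ c0 : C') : E') = d * c
    rw [hd0, hc0]
  have hker : f.ker ≤ f'.ker := by
    rintro ⟨d, c⟩ hdc
    rw [MonoidHom.mem_ker] at hdc ⊢
    have h1 : (d : E) * (c : E) = 1 := hdc
    have hdC : (d : E) ∈ C := by
      have : (d : E) = (c : E)⁻¹ := eq_inv_of_mul_eq_one_left h1
      rw [this]; exact C.inv_mem c.2
    rw [hfa']
    show ((α d : D') : E') * ((γ c : C') : E') = 1
    have h2 := hcompat d d.2 hdC
    rw [Subtype.coe_eta] at h2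
    rw [h2, ← Subgroup.coe_mul, ← map_mul]
    have : (⟨(d : E), hdC⟩ : C) * c = 1 := Subtype.ext h1
    rw [this, map_one]; rfl
  let φ : E →* E' := f.liftOfSurjective hf ⟨f', hker⟩
  have hφ : ∀ p, φ (f p) = f' p := fun p =>
    MonoidHom.liftOfRightInverse_comp_apply _ _ _ ⟨f', hker⟩ p
  have hφs : Function.Surjective φ := by
    intro g
    obtain ⟨p, rfl⟩ := hf' g
    exact ⟨f p, hφ p⟩
  have hφb : Function.Bijective φ := hφs.bijective_of_nat_card_le (le_of_eq hcard)
  exact ⟨MulEquiv.ofBijective φ hφb⟩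

theorem count_D4 : Nat.card {x : DihedralGroup 4 // x ^ 2 = 1} = 6 := by
  rw [Nat.card_eq_fintype_card, Fintype.card_subtype]
  decide

theorem count_Q8 : Nat.card {x : QuaternionGroup 2 // x ^ 2 = 1} = 2 := by
  rw [Nat.card_eq_fintype_card, Fintype.card_subtype]
  decide

theorem xsS_D4 : xsS (DihedralGroup 4) = 4 := by
  unfold xsS
  rw [count_D4, DihedralGroup.nat_card]; norm_num

theorem xsS_Q8 : xsS (QuaternionGroup 2) = -4 := by
  unfold xsS
  rw [count_Q8, Nat.card_eq_fintype_card, QuaternionGroup.card]; norm_num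

theorem Q8_invol_central : ∀ t : QuaternionGroup 2, t ^ 2 = 1 → ∀ g : QuaternionGroup 2, t * g = g * t := by
  decide

namespace XS2

variable {E : Type u} [Group E] {z : E}

theorem eight_le_card [Finite E] (h : XS2 E z) : 8 ≤ Nat.card E := by
  obtain ⟨x, y, hxy⟩ := h.nonab
  rw [h.card_eq_four_mul hxy]
  have h2 : Nat.card (Subgroup.zpowers z) ≤ Nat.card (Subgroup.centralizer ({x, y} : Set E)) := by
    apply Subgroup.card_le_of_le
    rw [Subgroup.zpowers_le]
    exact h.z_mem_centralizer _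
  rw [h.card_zpowers] at h2
  omega

theorem order8 [Finite E] (h : XS2 E z) (hcard : Nat.card E = 8) :
    Nonempty (E ≃* DihedralGroup 4) ∨ Nonempty (E ≃* QuaternionGroup 2) := by
  have hidx : (commutator E).index = 4 := by
    have h1 := Subgroup.card_mul_index (commutator E)
    rw [h.commutator_eq, h.card_zpowers, hcard] at h1
    rw [h.commutator_eq]
    omega
  rcases Cfsg.Agent.Lib.Helper24.tk_main h.isPGroup hidx with h4 | ⟨k, ⟨e⟩⟩ | ⟨k, hk, -⟩ | ⟨k, ⟨e⟩⟩
  · omega
  · left
    have hc := Nat.card_congr e.toEquiv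
    rw [hcard, DihedralGroup.nat_card] at hc
    have hk0 : k = 0 := by
      have h2 : 2 ^ 2 = 2 ^ (k + 2) := by omega
      have := Nat.pow_right_injective (le_refl 2) h2
      omega
    subst hk0
    exact ⟨e⟩
  · exfalso
    rw [hcard] at hk
    have : 2 ^ 4 ≤ 2 ^ (k + 4) := Nat.pow_le_pow_right (by norm_num) (by omega)
    omega
  · right
    have hc := Nat.card_congr e.toEquiv
    rw [hcard, Nat.card_eq_fintype_card, QuaternionGroup.card] at hc
    have hk0 : k = 0 := by
      have h2 : 2 ^ 1 = 2 ^ (k + 1) := by omega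
      have := Nat.pow_right_injective (le_refl 2) h2
      omega
    subst hk0
    exact ⟨e⟩

theorem order8_iso {E' : Type v} [Group E'] {z' : E'} [Finite E] [Finite E'] (h : XS2 E z)
    (h' : XS2 E' z') (hcard : Nat.card E = 8) (hcard' : Nat.card E' = 8)
    (hS : xsS E = xsS E') : Nonempty (E ≃* E') := by
  rcases h.order8 hcard with e | e <;> rcases h'.order8 hcard' with e' | e' <;>
    obtain ⟨e⟩ := e <;> obtain ⟨e'⟩ := e'
  · exact ⟨e.trans e'.symm⟩
  · exfalso
    rw [xsS_congr e, xsS_congr e', xsS_D4, xsS_Q8] at hS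
    norm_num at hS
  · exfalso
    rw [xsS_congr e, xsS_congr e', xsS_D4, xsS_Q8] at hS
    norm_num at hS
  · exact ⟨e.trans e'.symm⟩

theorem iso_z {E' : Type v} [Group E'] {z' : E'} (h : XS2 E z) (h' : XS2 E' z') (e : E ≃* E') :
    e z = z' := by
  have hc : ∀ y : E', e z * y = y * e z := by
    intro y
    obtain ⟨g, rfl⟩ := e.surjective y
    rw [← map_mul, ← map_mul, h.z_comm g]
  rcases h'.center _ hc with e1 | e1
  · exfalso
    apply h.z_ne
    apply e.injective
    rw [e1, map_one]
  · exact e1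

theorem count_gt_two [Finite E] (h : XS2 E z) (hcard : 8 < Nat.card E) :
    2 < Nat.card {x : E // x ^ 2 = 1} := by
  by_contra hle
  push_neg at hle
  have h1 := h.xsS_sq
  have h2 : xsS E = 2 * (Nat.card {x : E // x ^ 2 = 1} : ℤ) - (Nat.card E : ℤ) := rfl
  have h3 : (Nat.card {x : E // x ^ 2 = 1} : ℤ) ≤ 2 := by exact_mod_cast hle
  have h4 : (8 : ℤ) < (Nat.card E : ℤ) := by exact_mod_cast hcard
  have h5 : (0 : ℤ) ≤ (Nat.card {x : E // x ^ 2 = 1} : ℤ) := by positivity
  nlinarith

theorem exists_noncentral_invol [Finite E] (h : XS2 E z) (hcard : 8 < Nat.card E) :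
    ∃ x : E, x ^ 2 = 1 ∧ x ≠ 1 ∧ x ≠ z := by
  by_contra hno
  push_neg at hno
  have hle : Nat.card {x : E // x ^ 2 = 1} ≤ Nat.card (Subgroup.zpowers z) := by
    apply Nat.card_le_card_of_injective
      (fun x : {x : E // x ^ 2 = 1} => (⟨x.1, by
        rw [h.mem_zpowers_iff]
        by_cases h1 : x.1 = 1
        · left; exact h1
        · right; exact hno x.1 x.2 h1⟩ : Subgroup.zpowers z))
    intro a b hab
    exact Subtype.ext (congrArg (fun t : Subgroup.zpowers z => (t : E)) hab)
  rw [h.card_zpowers] at hle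
  have := h.count_gt_two hcard
  omega

theorem exists_invol_pair [Finite E] (h : XS2 E z) (hcard : 8 < Nat.card E) :
    ∃ x y : E, x ^ 2 = 1 ∧ y ^ 2 = 1 ∧ x * y ≠ y * x := by
  obtain ⟨x, hx2, hx1, hxz⟩ := h.exists_noncentral_invol hcard
  have hnc : ¬ ∀ y : E, x * y = y * x := by
    intro hc
    rcases h.center x hc with e | e
    · exact hx1 e
    · exact hxz e
  push_neg at hnc
  obtain ⟨y, hxy⟩ := hnc
  rcases h.sq y with hy | hy
  · exact ⟨x, y, hx2, hy, hxy⟩
  · refine ⟨x, x * y, hx2, ?_, ?_⟩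
    · have hz2 : ⁅y, x⁆ = z := by rw [h.comm_symm]; exact h.comm_eq_z hxy
      rw [sq_mul_eq x y (fun g => h.comm_central _ _ g), hz2, hx2, hy, one_mul, h.z_sq]
    · intro e
      apply hxy
      have : x * (x * y) = x * (y * x) := by rw [e, mul_assoc]
      exact mul_left_cancel this

end XS2

/-- two extraspecial 2-groups of the same order and the same sign are isomorphic -/
theorem xs2_unique_aux : ∀ (n : ℕ) (E : Type u) (E' : Type v) [Group E] [Group E'] [Finite E]
    [Finite E'] (z : E) (z' : E'), XS2 E z → XS2 E' z' → Nat.card E = n → Nat.card E' = n →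
    xsS E = xsS E' → Nonempty (E ≃* E') := by
  intro n
  induction n using Nat.strong_induction_on with
  | _ n ih =>
    intro E E' _ _ _ _ z z' h h' hn hn' hS
    have h8 := h.eight_le_card
    by_cases hn8 : n = 8
    · exact h.order8_iso h' (hn.trans hn8) (hn'.trans hn8) hS
    have hgt : 8 < Nat.card E := by omega
    have hgt' : 8 < Nat.card E' := by omega
    obtain ⟨x, y, hx, hy, hxy⟩ := h.exists_invol_pair hgt
    obtain ⟨x', y', hx', hy', hxy'⟩ := h'.exists_invol_pair hgt'
    -- the centralizers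
    have hC := h.xs2_centralizer hxy hgt
    have hC' := h'.xs2_centralizer hxy' hgt'
    have hcC := h.card_eq_four_mul hxy
    have hcC' := h'.card_eq_four_mul hxy'
    have hSC : xsS ↥(Subgroup.centralizer ({x, y} : Set E)) =
        xsS ↥(Subgroup.centralizer ({x', y'} : Set E')) := by
      have e1 := h.xsS_split hxy
      have e2 := h'.xsS_split hxy'
      rw [hx, hy, qsgn_one] at e1
      rw [hx', hy', qsgn_one] at e2
      linarith
    obtain ⟨γ⟩ := ih (Nat.card ↥(Subgroup.centralizer ({x, y} : Set E))) (by omega) _ _ _ _ hC hC' rfl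
      (by omega) hSC
    -- the dihedral parts
    have hD := h.xs2_closure hxy
    have hD' := h'.xs2_closure hxy'
    have hcD := h.card_closure hxy
    have hcD' := h'.card_closure hxy'
    have hxD : x ∈ Subgroup.closure ({x, y} : Set E) := Subgroup.subset_closure (by simp)
    have hyD : y ∈ Subgroup.closure ({x, y} : Set E) := Subgroup.subset_closure (by simp)
    have hxD' : x' ∈ Subgroup.closure ({x', y'} : Set E') := Subgroup.subset_closure (by simp)
    have hyD' : y' ∈ Subgroup.closure ({x', y'} : Set E') := Subgroup.subset_closure (by simp)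
    have eD : Nonempty (↥(Subgroup.closure ({x, y} : Set E)) ≃* DihedralGroup 4) := by
      rcases hD.order8 hcD with e | e
      · exact e
      · exfalso
        obtain ⟨e⟩ := e
        have h1 : (e ⟨x, hxD⟩) ^ 2 = 1 := by
          rw [← map_pow]
          have : (⟨x, hxD⟩ : ↥(Subgroup.closure ({x, y} : Set E))) ^ 2 = 1 := Subtype.ext hx
          rw [this, map_one]
        have h2 := Q8_invol_central _ h1 (e ⟨y, hyD⟩)
        rw [← map_mul, ← map_mul] at h2
        exact hxy (congrArg Subtype.val (e.injective h2))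
    have eD' : Nonempty (↥(Subgroup.closure ({x', y'} : Set E')) ≃* DihedralGroup 4) := by
      rcases hD'.order8 hcD' with e | e
      · exact e
      · exfalso
        obtain ⟨e⟩ := e
        have h1 : (e ⟨x', hxD'⟩) ^ 2 = 1 := by
          rw [← map_pow]
          have : (⟨x', hxD'⟩ : ↥(Subgroup.closure ({x', y'} : Set E'))) ^ 2 = 1 := Subtype.ext hx'
          rw [this, map_one]
        have h2 := Q8_invol_central _ h1 (e ⟨y', hyD'⟩)
        rw [← map_mul, ← map_mul] at h2
        exact hxy' (congrArg Subtype.val (e.injective h2))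
    obtain ⟨e1⟩ := eD
    obtain ⟨e2⟩ := eD'
    let α := e1.trans e2.symm
    apply glue_central (Subgroup.closure ({x, y} : Set E)) (Subgroup.centralizer ({x, y} : Set E))
      (Subgroup.closure ({x', y'} : Set E')) (Subgroup.centralizer ({x', y'} : Set E'))
      (fun d hd c hc => XS2.closure_comm_centralizer x y hd hc)
      (fun d hd c hc => XS2.closure_comm_centralizer x' y' hd hc)
      (h.exists_mul_decomp hxy) (h'.exists_mul_decomp hxy') α γ ?_ (hn.trans hn'.symm)
    intro t htD htC
    rcases h.inter_closure_centralizer hxy htD htC with rfl | rfl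
    · have e3 : (⟨1, htD⟩ : ↥(Subgroup.closure ({x, y} : Set E))) = 1 := rfl
      have e4 : (⟨1, htC⟩ : ↥(Subgroup.centralizer ({x, y} : Set E))) = 1 := rfl
      rw [e3, e4, map_one, map_one]; rfl
    · have e3 := hD.iso_z hD' α
      have e4 := hC.iso_z hC' γ
      rw [e3, e4]

theorem xs2_unique {E : Type u} {E' : Type v} [Group E] [Group E'] [Finite E] [Finite E']
    {z : E} {z' : E'} (h : XS2 E z) (h' : XS2 E' z') (hcard : Nat.card E = Nat.card E')
    (hS : xsS E = xsS E') : Nonempty (E ≃* E') :=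
  xs2_unique_aux (Nat.card E) E E' z z' h h' rfl hcard.symm hS

end Cfsg.Agent.Lib.Helper21
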