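import Mathlib
import Cfsg.Agent.Lib.Helper21.XS2C

set_option autoImplicit false
open scoped commutatorElement

namespace Cfsg.Agent.Lib.Helper21

open Cfsg.Agent.Lib.Helper20

universe u v

/-- squares in the extension of `B` by a commuting involution `t` -/
theorem extend_sq {G : Type*} [Group G] (B A : Subgroup G) (t : G) (ht : t * t = 1)
    (hc : ∀ b ∈ B, t * b = b * t) (hB : ∀ b ∈ B, b ^ 2 = 1)
    (hA : ∀ a, a ∈ A ↔ a ∈ B ∨ a * t ∈ B) : ∀ a ∈ A, a ^ 2 = 1 := by
  intro a ha
  rcases (hA a).mp ha with h1 | h1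
  · exact hB a h1
  · have hti : t⁻¹ = t := inv_eq_of_mul_eq_one_right ht
    obtain ⟨b, hb⟩ : ∃ b, b = a * t := ⟨_, rfl⟩
    rw [← hb] at h1
    have ha' : a = b * t := by rw [hb, mul_assoc, ht, mul_one]
    have h2 := hB b h1
    rw [pow_two] at h2
    rw [ha', pow_two]
    calc b * t * (b * t) = b * (t * b) * t := by group
      _ = b * (b * t) * t := by rw [hc b h1]
      _ = (b * b) * (t * t) := by group
      _ = 1 := by rw [h2, ht, mul_one]

namespace XS2

variable {E : Type u} [Group E] {z : E}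

theorem exists_noncentral_invol' [Finite E] (h : XS2 E z)
    (hcount : 2 < Nat.card {x : E // x ^ 2 = 1}) :
    ∃ x : E, x ^ 2 = 1 ∧ x ≠ 1 ∧ x ≠ z := by
  by_contra hno
  push_neg at hno
  have hle : Nat.card {x : E // x ^ 2 = 1} ≤ Nat.card (Subgroup.zpowers z) := by
    apply Nat.card_le_card_of_injective
      (fun x : {x : E // x ^ 2 = 1} => (⟨x.1, by
        rw [h.mem_zpowers_iff]
        by_cases h1 : x.1 = 1
        · left; exact h1
        · right; exact hno x.1 x.2 h1⟩ : Subgroup.zpowers z))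
    intro a b hab
    exact Subtype.ext (congrArg (fun t : Subgroup.zpowers z => (t : E)) hab)
  rw [h.card_zpowers] at hle
  omega

theorem xsS_ne_zero [Finite E] (h : XS2 E z) : xsS E ≠ 0 := by
  intro h0
  have h1 := h.xsS_sq
  rw [h0] at h1
  have : (0 : ℤ) < (Nat.card E : ℤ) := by exact_mod_cast Nat.card_pos
  linarith

/-- existence of large elementary abelian subgroups -/
theorem exists_elemAb_aux : ∀ (n : ℕ) (E : Type u) [Group E] [Finite E] (z : E), XS2 E z →
    Nat.card E = n →
    ∃ A : Subgroup E, z ∈ A ∧ (∀ a ∈ A, a ^ 2 = 1) ∧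
      (0 < xsS E → Nat.card A * Nat.card A = 2 * Nat.card E) ∧
      (xsS E < 0 → 4 * (Nat.card A * Nat.card A) = 2 * Nat.card E) := by
  intro n
  induction n using Nat.strong_induction_on with
  | _ n ih =>
    intro E _ _ z h hn
    have h8 := h.eight_le_card
    have hzsq : ∀ b ∈ Subgroup.zpowers z, b ^ 2 = 1 := by
      intro b hb
      rcases (h.mem_zpowers_iff b).mp hb with rfl | rfl
      · simp
      · exact h.z_pow
    by_cases hn8 : n = 8
    · have hc8 : Nat.card E = 8 := hn.trans hn8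
      by_cases hpos : 0 < xsS E
      · have hcount : 2 < Nat.card {x : E // x ^ 2 = 1} := by
          have h2 : xsS E = 2 * (Nat.card {x : E // x ^ 2 = 1} : ℤ) - (Nat.card E : ℤ) := rfl
          rw [hc8] at h2
          have : (4 : ℤ) < (Nat.card {x : E // x ^ 2 = 1} : ℤ) := by push_cast at h2; linarith
          have : 4 < Nat.card {x : E // x ^ 2 = 1} := by exact_mod_cast this
          omega
        obtain ⟨t, ht2, ht1, htz⟩ := h.exists_noncentral_invol' hcount
        have htt : t * t = 1 := by rw [← pow_two]; exact ht2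
        have htZ : t ∉ Subgroup.zpowers z := by
          rw [h.mem_zpowers_iff]; push_neg; exact ⟨ht1, htz⟩
        have hcZ : ∀ b ∈ Subgroup.zpowers z, t * b = b * t := by
          intro b hb
          rcases (h.mem_zpowers_iff b).mp hb with rfl | rfl
          · simp
          · exact h.z_comm t
        obtain ⟨A, hA, hAc⟩ := exists_extend_invol (Subgroup.zpowers z) t htt htZ hcZ
        refine ⟨A, (hA z).mpr (Or.inl (Subgroup.mem_zpowers z)),
          extend_sq _ A t htt hcZ hzsq hA, ?_, ?_⟩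
        · intro _
          rw [hAc, h.card_zpowers, hc8]
        · intro hneg; exfalso; linarith
      · have hneg : xsS E < 0 := lt_of_le_of_ne (not_lt.mp hpos) h.xsS_ne_zero
        refine ⟨Subgroup.zpowers z, Subgroup.mem_zpowers z, hzsq, ?_, ?_⟩
        · intro hp; exact absurd hp hpos
        · intro _
          rw [h.card_zpowers, hc8]
    · have hgt : 8 < Nat.card E := by omega
      obtain ⟨x, y, hx, hy, hxy⟩ := h.exists_invol_pair hgt
      have hC := h.xs2_centralizer hxy hgt
      have hcC := h.card_eq_four_mul hxy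
      have hS : xsS E = 2 * xsS ↥(Subgroup.centralizer ({x, y} : Set E)) := by
        have e1 := h.xsS_split hxy
        rw [hx, hy, qsgn_one] at e1
        linarith
      obtain ⟨A₀, hzA₀, hsqA₀, hposA₀, hnegA₀⟩ :=
        ih (Nat.card ↥(Subgroup.centralizer ({x, y} : Set E))) (by omega) _ _ hC rfl
      set B : Subgroup E := A₀.map (Subgroup.centralizer ({x, y} : Set E)).subtype with hB
      have hBcard : Nat.card B = Nat.card A₀ :=
        Subgroup.card_map_of_injective (Subgroup.subtype_injective _)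
      have hBC : ∀ b ∈ B, b ∈ Subgroup.centralizer ({x, y} : Set E) := by
        rintro _ ⟨c, -, rfl⟩
        exact c.2
      have hzB : z ∈ B := ⟨⟨z, h.z_mem_centralizer _⟩, hzA₀, rfl⟩
      have hsqB : ∀ b ∈ B, b ^ 2 = 1 := by
        rintro _ ⟨c, hc, rfl⟩
        have := hsqA₀ c hc
        exact congrArg Subtype.val this
      have hxx : x * x = 1 := by rw [← pow_two]; exact hx
      have hxB : x ∉ B := by
        intro hxB
        have := hBC x hxB
        rw [Subgroup.mem_centralizer_iff] at this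
        exact hxy (this y (by simp)).symm
      have hcB : ∀ b ∈ B, x * b = b * x := by
        intro b hb
        have := hBC b hb
        rw [Subgroup.mem_centralizer_iff] at this
        exact this x (by simp)
      obtain ⟨A, hA, hAc⟩ := exists_extend_invol B x hxx hxB hcB
      refine ⟨A, (hA z).mpr (Or.inl hzB), extend_sq _ A x hxx hcB hsqB hA, ?_, ?_⟩
      · intro hp
        have h1 := hposA₀ (by linarith)
        rw [hAc, hBcard, hcC]
        nlinarith
      · intro hp
        have h1 := hnegA₀ (by linarith)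
        rw [hAc, hBcard, hcC]
        nlinarith

theorem exists_elemAb [Finite E] (h : XS2 E z) :
    ∃ A : Subgroup E, z ∈ A ∧ (∀ a ∈ A, a ^ 2 = 1) ∧
      (0 < xsS E → Nat.card A * Nat.card A = 2 * Nat.card E) ∧
      (xsS E < 0 → 4 * (Nat.card A * Nat.card A) = 2 * Nat.card E) :=
  exists_elemAb_aux (Nat.card E) E z h rfl

/-- with `|E| = 2^(2m+1)`: an elementary abelian subgroup of order `2^(m+1)` (plus type) or
`2^m` (minus type) -/
theorem exists_elemAb_card [Finite E] (h : XS2 E z) (m : ℕ) (hcard : Nat.card E = 2 ^ (2 * m + 1)) :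
    ∃ A : Subgroup E, (∀ a ∈ A, a ^ 2 = 1) ∧
      (0 < xsS E → Nat.card A = 2 ^ (m + 1)) ∧ (xsS E < 0 → Nat.card A = 2 ^ m) := by
  obtain ⟨A, -, hsq, hpos, hneg⟩ := h.exists_elemAb
  refine ⟨A, hsq, ?_, ?_⟩
  · intro hp
    have h1 := hpos hp
    rw [hcard] at h1
    have h2 : Nat.card A * Nat.card A = 2 ^ (m + 1) * 2 ^ (m + 1) := by
      rw [h1, ← pow_add, ← pow_succ']
      congr 1; omega
    exact Nat.mul_self_inj.mp h2
  · intro hn
    have h1 := hneg hn
    rw [hcard] at h1
    have h2 : Nat.card A * Nat.card A = 2 ^ m * 2 ^ m := by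
      have h3 : 2 * 2 ^ (2 * m + 1) = 4 * (2 ^ m * 2 ^ m) := by
        rw [← pow_add, pow_succ]; ring_nf
      omega
    exact Nat.mul_self_inj.mp h2

theorem rank_bound [Finite E] (h : XS2 E z) (m : ℕ) (hcard : Nat.card E = 2 ^ (2 * m + 1))
    (A : Subgroup E) (hA : ∀ a ∈ A, a ^ 2 = 1) :
    Nat.card A ≤ 2 ^ (m + 1) ∧ (xsS E < 0 → Nat.card A ≤ 2 ^ m) := by
  have hdvd : Nat.card A ∣ 2 ^ (2 * m + 1) := by rw [← hcard]; exact Subgroup.card_subgroup_dvd_card A
  obtain ⟨a, -, ha⟩ := (Nat.dvd_prime_pow Nat.prime_two).mp hdvd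
  have key : ∀ (A' : Subgroup E) (a' : ℕ), (∀ x ∈ A', x ^ 2 = 1) → z ∈ A' → Nat.card A' = 2 ^ a' →
      a' ≤ m + 1 ∧ (xsS E < 0 → a' ≤ m) := by
    intro A' a' hA' hz' hc'
    have h1 := h.card_sq_le A' hA' hz'
    rw [hc', hcard, ← pow_add, ← pow_succ'] at h1
    have h2 : a' + a' ≤ 2 * m + 1 + 1 := (Nat.pow_le_pow_iff_right (by norm_num)).mp h1
    refine ⟨by omega, ?_⟩
    intro hneg
    by_contra hlt
    push_neg at hlt
    have ha' : a' = m + 1 := by omega
    have h3 : Nat.card A' * Nat.card A' = 2 * Nat.card E := by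
      rw [hc', hcard, ha', ← pow_add, ← pow_succ']
      congr 1; omega
    have h4 := h.xsS_of_lagrangian A' hA' hz' h3
    have : (0 : ℤ) < (Nat.card A' : ℤ) := by exact_mod_cast Nat.card_pos
    linarith
  by_cases hzA : z ∈ A
  · obtain ⟨k1, k2⟩ := key A a hA hzA ha
    rw [ha]
    exact ⟨Nat.pow_le_pow_right (by norm_num) k1,
      fun hneg => Nat.pow_le_pow_right (by norm_num) (k2 hneg)⟩
  · have hcz : ∀ b ∈ A, z * b = b * z := fun b _ => (h.z_comm b).symm
    obtain ⟨A', hA', hAc'⟩ := exists_extend_invol A z h.z_sq hzA hcz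
    have hsq' := extend_sq A A' z h.z_sq hcz hA hA'
    have hz' : z ∈ A' := (hA' z).mpr (Or.inr (by rw [h.z_sq]; exact A.one_mem))
    have hc' : Nat.card A' = 2 ^ (a + 1) := by rw [hAc', ha, pow_succ']
    obtain ⟨k1, -⟩ := key A' (a + 1) hsq' hz' hc'
    rw [ha]
    exact ⟨Nat.pow_le_pow_right (by norm_num) (by omega),
      fun _ => Nat.pow_le_pow_right (by norm_num) (by omega)⟩

end XS2

end Cfsg.Agent.Lib.Helper21
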