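import Mathlib
import Cfsg.Agent.Lib.Helper21.XS2D

set_option autoImplicit false
open scoped commutatorElement

namespace Cfsg.Agent.Lib.Helper21

open Cfsg.Agent.Lib.Helper20

universe u

/-- a central involution (or the identity) of a group -/
structure CInv (C : Type u) [Group C] where
  z : C
  sq : z * z = 1
  comm : ∀ g : C, g * z = z * g

/-- `z ^ k` for `k : ZMod 2` -/
def zp {C : Type u} [Group C] (z : C) (k : ZMod 2) : C := if k = 0 then 1 else z

section zp
variable {C : Type u} [Group C] (ζ : CInv C)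

theorem zp_zero (z : C) : zp z 0 = 1 := by simp [zp]

theorem zp_one (z : C) : zp z 1 = z := by simp [zp]

theorem zp_cases (z : C) (k : ZMod 2) : zp z k = 1 ∨ zp z k = z := by
  unfold zp; split_ifs <;> simp

theorem zmod2_cases : ∀ s : ZMod 2, s = 0 ∨ s = 1 := by decide

theorem zp_add (s t : ZMod 2) : zp ζ.z (s + t) = zp ζ.z s * zp ζ.z t := by
  have h11 : (1 : ZMod 2) + 1 = 0 := by decide
  rcases zmod2_cases s with rfl | rfl <;> rcases zmod2_cases t with rfl | rfl
  · simp [zp]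
  · simp [zp]
  · simp [zp]
  · rw [h11]; simp [zp, ζ.sq]

theorem zp_comm (k : ZMod 2) (g : C) : g * zp ζ.z k = zp ζ.z k * g := by
  unfold zp; split_ifs
  · simp
  · exact ζ.comm g

theorem zp_eq_one_iff (hz : ζ.z ≠ 1) (k : ZMod 2) : zp ζ.z k = 1 ↔ k = 0 := by
  unfold zp; split_ifs with h
  · simp [h]
  · simp [h, hz]

end zp

/-- the central product of `C` with a dihedral group of order 8, amalgamating `ζ.z` -/
structure Dbl {C : Type u} [Group C] (ζ : CInv C) : Type u where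
  c : C
  a : ZMod 2
  b : ZMod 2

namespace Dbl

variable {C : Type u} [Group C] {ζ : CInv C}

@[ext] theorem ext' {x y : Dbl ζ} (h1 : x.c = y.c) (h2 : x.a = y.a) (h3 : x.b = y.b) : x = y := by
  cases x; cases y; simp only at h1 h2 h3; subst h1; subst h2; subst h3; rfl

instance : Mul (Dbl ζ) := ⟨fun x y => ⟨x.c * y.c * zp ζ.z (x.a * y.b), x.a + y.a, x.b + y.b⟩⟩
instance : One (Dbl ζ) := ⟨⟨1, 0, 0⟩⟩
instance : Inv (Dbl ζ) := ⟨fun x => ⟨x.c⁻¹ * zp ζ.z (x.a * x.b), -x.a, -x.b⟩⟩

theorem mul_c (x y : Dbl ζ) : (x * y).c = x.c * y.c * zp ζ.z (x.a * y.b) := rfl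
theorem mul_a (x y : Dbl ζ) : (x * y).a = x.a + y.a := rfl
theorem mul_b (x y : Dbl ζ) : (x * y).b = x.b + y.b := rfl
theorem one_c : (1 : Dbl ζ).c = 1 := rfl
theorem one_a : (1 : Dbl ζ).a = 0 := rfl
theorem one_b : (1 : Dbl ζ).b = 0 := rfl
theorem inv_c (x : Dbl ζ) : (x⁻¹).c = x.c⁻¹ * zp ζ.z (x.a * x.b) := rfl
theorem inv_a (x : Dbl ζ) : (x⁻¹).a = -x.a := rfl
theorem inv_b (x : Dbl ζ) : (x⁻¹).b = -x.b := rfl

instance : Group (Dbl ζ) where
  mul_assoc x y w := by
    apply ext'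
    · simp only [mul_c, mul_a, mul_b]
      have e1 : x.c * y.c * zp ζ.z (x.a * y.b) * w.c * zp ζ.z ((x.a + y.a) * w.b) =
          x.c * y.c * w.c * (zp ζ.z (x.a * y.b) * zp ζ.z ((x.a + y.a) * w.b)) := by
        rw [mul_assoc (x.c * y.c) (zp ζ.z (x.a * y.b)) w.c, ← zp_comm ζ _ w.c]
        simp only [mul_assoc]
      have e2 : x.c * (y.c * w.c * zp ζ.z (y.a * w.b)) * zp ζ.z (x.a * (y.b + w.b)) =
          x.c * y.c * w.c * (zp ζ.z (y.a * w.b) * zp ζ.z (x.a * (y.b + w.b))) := by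
        simp only [mul_assoc]
      rw [e1, e2, ← zp_add, ← zp_add]
      congr 2
      ring
    · simp only [mul_a]; ring
    · simp only [mul_b]; ring
  one_mul x := by
    apply ext'
    · simp [mul_c, one_c, one_a, zp_zero]
    · simp [mul_a, one_a]
    · simp [mul_b, one_b]
  mul_one x := by
    apply ext'
    · simp [mul_c, one_c, one_b, zp_zero]
    · simp [mul_a, one_a]
    · simp [mul_b, one_b]
  inv_mul_cancel x := by
    apply ext'
    · simp only [mul_c, inv_c, inv_a, one_c]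
      rw [mul_assoc x.c⁻¹, ← zp_comm ζ _ x.c, ← mul_assoc, inv_mul_cancel, one_mul, ← zp_add]
      have : x.a * x.b + -x.a * x.b = 0 := by ring
      rw [this, zp_zero]
    · show -x.a + x.a = 0
      ring
    · show -x.b + x.b = 0
      ring

/-- the embedding of `C` -/
def ι (ζ : CInv C) : C →* Dbl ζ where
  toFun c := ⟨c, 0, 0⟩
  map_one' := rfl
  map_mul' c c' := by
    apply ext'
    · simp [mul_c, zp_zero]
    · simp [mul_a]
    · simp [mul_b]

theorem ι_injective : Function.Injective (ι ζ) := by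
  intro c c' h
  exact congrArg Dbl.c h

def uu (ζ : CInv C) : Dbl ζ := ⟨1, 1, 0⟩
def vv (ζ : CInv C) : Dbl ζ := ⟨1, 0, 1⟩

def equivProd (ζ : CInv C) : Dbl ζ ≃ C × ZMod 2 × ZMod 2 where
  toFun x := (x.c, x.a, x.b)
  invFun p := ⟨p.1, p.2.1, p.2.2⟩
  left_inv x := by cases x; rfl
  right_inv p := by rfl

instance [Finite C] : Finite (Dbl ζ) := Finite.of_equiv _ (equivProd ζ).symm

theorem card_eq [Finite C] : Nat.card (Dbl ζ) = 4 * Nat.card C := by
  rw [Nat.card_congr (equivProd ζ), Nat.card_prod, Nat.card_prod, Nat.card_zmod]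
  ring

theorem two_eq_zero : (1 : ZMod 2) + 1 = 0 := by decide

theorem uu_sq : (uu ζ) ^ 2 = 1 := by
  rw [pow_two]
  apply ext'
  · simp [mul_c, uu, one_c, zp_zero]
  · simp [mul_a, uu, one_a, two_eq_zero]
  · simp [mul_b, uu, one_b]

theorem vv_sq : (vv ζ) ^ 2 = 1 := by
  rw [pow_two]
  apply ext'
  · simp [mul_c, vv, one_c, zp_zero]
  · simp [mul_a, vv, one_a]
  · simp [mul_b, vv, one_b, two_eq_zero]

theorem uu_vv_ne (hz : ζ.z ≠ 1) : uu ζ * vv ζ ≠ vv ζ * uu ζ := by
  intro h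
  have := congrArg Dbl.c h
  simp [mul_c, uu, vv, zp_zero, zp_one] at this
  exact hz this

theorem comm_uu_iff (hz : ζ.z ≠ 1) (g : Dbl ζ) : uu ζ * g = g * uu ζ ↔ g.b = 0 := by
  constructor
  · intro h
    have := congrArg Dbl.c h
    simp only [mul_c, uu, one_mul, mul_one, mul_zero, zp_zero] at this
    have h2 : zp ζ.z g.b = 1 := by
      have : g.c * zp ζ.z g.b = g.c * 1 := by rw [mul_one]; exact this
      exact mul_left_cancel this
    exact (zp_eq_one_iff ζ hz _).mp h2
  · intro h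
    apply ext'
    · simp [mul_c, uu, h, zp_zero]
    · simp only [mul_a, uu]; ring
    · simp [mul_b, uu]

theorem comm_vv_iff (hz : ζ.z ≠ 1) (g : Dbl ζ) : vv ζ * g = g * vv ζ ↔ g.a = 0 := by
  constructor
  · intro h
    have := congrArg Dbl.c h
    simp only [mul_c, vv, one_mul, mul_one, zero_mul, zp_zero] at this
    have h2 : zp ζ.z g.a = 1 := by
      have : g.c * zp ζ.z g.a = g.c * 1 := by rw [mul_one]; exact this.symm
      exact mul_left_cancel this
    exact (zp_eq_one_iff ζ hz _).mp h2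
  · intro h
    apply ext'
    · simp [mul_c, vv, h, zp_zero]
    · simp [mul_a, vv]
    · simp only [mul_b, vv]; ring

theorem mem_centralizer_iff' (hz : ζ.z ≠ 1) (g : Dbl ζ) :
    g ∈ Subgroup.centralizer ({uu ζ, vv ζ} : Set (Dbl ζ)) ↔ g.a = 0 ∧ g.b = 0 := by
  rw [Subgroup.mem_centralizer_iff]
  simp only [Set.mem_insert_iff, Set.mem_singleton_iff, forall_eq_or_imp, forall_eq]
  rw [comm_uu_iff hz, comm_vv_iff hz]
  tauto

/-- `C` is isomorphic to the centralizer of the dihedral part -/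
noncomputable def centEquiv (hz : ζ.z ≠ 1) :
    C ≃* ↥(Subgroup.centralizer ({uu ζ, vv ζ} : Set (Dbl ζ))) :=
  MulEquiv.ofBijective
    ((ι ζ).codRestrict _ (fun c => (mem_centralizer_iff' hz _).mpr ⟨rfl, rfl⟩))
    (by
      constructor
      · intro c c' h
        exact ι_injective (congrArg Subtype.val h)
      · rintro ⟨g, hg⟩
        obtain ⟨ha, hb⟩ := (mem_centralizer_iff' hz g).mp hg
        refine ⟨g.c, Subtype.ext ?_⟩
        apply ext'
        · rfl
        · exact ha.symm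
        · exact hb.symm)

theorem comm_of_eq {G : Type*} [Group G] {x y w : G} (h : x * y = w * (y * x)) : ⁅x, y⁆ = w := by
  rw [commutatorElement_def, h]; group

theorem xs2 (h : XS2 C ζ.z) : XS2 (Dbl ζ) (ι ζ ζ.z) := by
  have hz : ζ.z ≠ 1 := h.z_ne
  have hzc : ∀ g : Dbl ζ, g * ι ζ ζ.z = ι ζ ζ.z * g := by
    intro g
    apply ext'
    · simp only [mul_c, ι, MonoidHom.coe_mk, OneHom.coe_mk, mul_zero, zero_mul, zp_zero, mul_one]
      exact ζ.comm g.c
    · simp [mul_a, ι]
    · simp [mul_b, ι]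
  have hpair : ∀ p q : C, (p = 1 ∨ p = ζ.z) → (q = 1 ∨ q = ζ.z) → (p * q = 1 ∨ p * q = ζ.z) := by
    rintro p q (rfl | rfl) (rfl | rfl)
    · left; simp
    · right; simp
    · right; simp
    · left; exact ζ.sq
  have hcases : ∀ x y : Dbl ζ, x * y = y * x ∨ x * y = ι ζ ζ.z * (y * x) := by
    intro x y
    obtain ⟨w₀, hw₀⟩ : ∃ w₀, w₀ = ⁅x.c, y.c⁆ := ⟨_, rfl⟩
    have hw : w₀ = 1 ∨ w₀ = ζ.z := by rw [hw₀]; exact h.comm _ _
    have hxy : x.c * y.c = w₀ * (y.c * x.c) := by rw [hw₀, commutatorElement_def]; group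
    obtain ⟨k, hk⟩ : ∃ k : ZMod 2, k = x.a * y.b + y.a * x.b := ⟨_, rfl⟩
    have hk2 : x.a * y.b = k + y.a * x.b := by
      rw [hk, add_assoc, CharTwo.add_self_eq_zero, add_zero]
    have hc : (x * y).c = (w₀ * zp ζ.z k) * (y * x).c := by
      rw [mul_c, mul_c, hxy, hk2, zp_add]
      have e1 := zp_comm ζ k (y.c * x.c)
      calc w₀ * (y.c * x.c) * (zp ζ.z k * zp ζ.z (y.a * x.b))
          = w₀ * ((y.c * x.c) * zp ζ.z k) * zp ζ.z (y.a * x.b) := by simp only [mul_assoc]
        _ = w₀ * (zp ζ.z k * (y.c * x.c)) * zp ζ.z (y.a * x.b) := by rw [e1]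
        _ = w₀ * zp ζ.z k * (y.c * x.c * zp ζ.z (y.a * x.b)) := by simp only [mul_assoc]
    rcases hpair _ _ hw (zp_cases ζ.z k) with e | e
    · left
      apply ext'
      · rw [hc, e, one_mul]
      · simp only [mul_a]; ring
      · simp only [mul_b]; ring
    · right
      apply ext'
      · rw [hc, e]
        simp [mul_c, ι, zp_zero]
      · simp only [mul_a, ι, MonoidHom.coe_mk, OneHom.coe_mk]; ring
      · simp only [mul_b, ι, MonoidHom.coe_mk, OneHom.coe_mk]; ring
  refine ⟨?_, ?_, hzc, ?_, ?_, ?_, ?_⟩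
  · intro e
    exact hz (congrArg Dbl.c e)
  · rw [← map_mul, ζ.sq, map_one]
  · intro x hx
    have hb := (comm_uu_iff hz x).mp (hx (uu ζ)).symm
    have ha := (comm_vv_iff hz x).mp (hx (vv ζ)).symm
    have hcen : ∀ c' : C, x.c * c' = c' * x.c := by
      intro c'
      have := congrArg Dbl.c (hx (ι ζ c'))
      simpa [mul_c, ι, ha, hb, zp_zero] using this
    rcases h.center x.c hcen with e | e
    · left
      apply ext'
      · exact e
      · exact ha
      · exact hb
    · right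
      apply ext'
      · exact e
      · exact ha
      · exact hb
  · intro x y
    rcases hcases x y with e | e
    · left; exact commutatorElement_eq_one_iff_mul_comm.mpr e
    · right; exact comm_of_eq e
  · intro x
    rw [pow_two]
    have hx2 : x.c * x.c = 1 ∨ x.c * x.c = ζ.z := by
      have := h.sq x.c; rwa [pow_two] at this
    rcases hpair _ _ hx2 (zp_cases ζ.z (x.a * x.b)) with e | e
    · left
      apply ext'
      · rw [mul_c, e]; rfl
      · rw [mul_a, CharTwo.add_self_eq_zero]; rfl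
      · rw [mul_b, CharTwo.add_self_eq_zero]; rfl
    · right
      apply ext'
      · rw [mul_c, e]; rfl
      · rw [mul_a, CharTwo.add_self_eq_zero]; rfl
      · rw [mul_b, CharTwo.add_self_eq_zero]; rfl
  · exact ⟨uu ζ, vv ζ, uu_vv_ne hz⟩

theorem xsS_eq [Finite C] (h : XS2 C ζ.z) : xsS (Dbl ζ) = 2 * xsS C := by
  have hz : ζ.z ≠ 1 := h.z_ne
  have h1 := (xs2 h).xsS_split (uu_vv_ne hz)
  rw [uu_sq, vv_sq, qsgn_one, ← xsS_congr (centEquiv hz)] at h1
  linarith

end Dbl

theorem xs2_D4 : XS2 (DihedralGroup 4) (DihedralGroup.r 2) := by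
  refine ⟨by decide, by decide, by decide, by decide, by decide, by decide, by decide⟩

theorem xs2_Q8 : XS2 (QuaternionGroup 2) (QuaternionGroup.a 2) := by
  refine ⟨by decide, by decide, by decide, by decide, by decide, by decide, by decide⟩

/-- extraspecial 2-groups of both types exist in every order `2^(2n+3)` -/
theorem exists_model : ∀ (n : ℕ) (ε : Bool), ∃ (E : Type) (_ : Group E) (_ : Finite E) (z : E),
    XS2 E z ∧ Nat.card E = 2 ^ (2 * (n + 1) + 1) ∧ (if ε then 0 < xsS E else xsS E < 0) := by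
  intro n ε
  induction n with
  | zero =>
    cases ε
    · refine ⟨QuaternionGroup 2, inferInstance, inferInstance, _, xs2_Q8, ?_, ?_⟩
      · rw [Nat.card_eq_fintype_card, QuaternionGroup.card]; norm_num
      · simp [xsS_Q8]
    · refine ⟨DihedralGroup 4, inferInstance, inferInstance, _, xs2_D4, ?_, ?_⟩
      · rw [DihedralGroup.nat_card]; norm_num
      · simp [xsS_D4]
  | succ n ih =>
    obtain ⟨E, _, _, z, h, hcard, hs⟩ := ih
    let ζ : CInv E := ⟨z, h.z_sq, h.z_comm⟩
    refine ⟨Dbl ζ, inferInstance, inferInstance, _, Dbl.xs2 (ζ := ζ) h, ?_, ?_⟩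
    · rw [Dbl.card_eq, hcard]
      rw [show 2 * (n + 1 + 1) + 1 = (2 * (n + 1) + 1) + 2 by ring, pow_add]
      ring
    · rw [Dbl.xsS_eq (ζ := ζ) h]
      cases ε
      · simp only [Bool.false_eq_true, ↓reduceIte] at hs ⊢
        linarith
      · simp only [↓reduceIte] at hs ⊢
        linarith

end Cfsg.Agent.Lib.Helper21
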