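import Mathlib
import Cfsg.Prelude.Def_Transfer
import Cfsg.Agent.Lib.Helper21.XS2B

set_option autoImplicit false
open scoped commutatorElement

namespace Cfsg.Agent.Lib.Helper21

universe u v

/-- gluing isomorphisms along an internal central product, with the formula -/
theorem glue_central_map {E : Type u} {E' : Type v} [Group E] [Group E'] [Finite E] [Finite E']
    (D C : Subgroup E) (D' C' : Subgroup E')
    (hcomm : ∀ d ∈ D, ∀ c ∈ C, d * c = c * d) (hcomm' : ∀ d ∈ D', ∀ c ∈ C', d * c = c * d)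
    (hgen : ∀ g : E, ∃ d ∈ D, ∃ c ∈ C, g = d * c)
    (hgen' : ∀ g : E', ∃ d ∈ D', ∃ c ∈ C', g = d * c)
    (α : D ≃* D') (γ : C ≃* C')
    (hcompat : ∀ (t : E) (hD : t ∈ D) (hC : t ∈ C),
      ((α ⟨t, hD⟩ : D') : E') = ((γ ⟨t, hC⟩ : C') : E'))
    (hcard : Nat.card E = Nat.card E') :
    ∃ e : E ≃* E', ∀ (d : D) (c : C), e ((d : E) * (c : E)) = ((α d : D') : E') * ((γ c : C') : E') := by
  let f : D × C →* E :=
    MonoidHom.noncommCoprod D.subtype C.subtype (fun d c => hcomm d d.2 c c.2)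
  let f' : D × C →* E' :=
    MonoidHom.noncommCoprod (D'.subtype.comp α.toMonoidHom) (C'.subtype.comp γ.toMonoidHom)
      (fun d c => hcomm' _ (α d).2 _ (γ c).2)
  have hfa : ∀ p : D × C, f p = (p.1 : E) * (p.2 : E) := fun p => rfl
  have hfa' : ∀ p : D × C, f' p = ((α p.1 : D') : E') * ((γ p.2 : C') : E') := fun p => rfl
  have hf : Function.Surjective f := by
    intro g
    obtain ⟨d, hd, c, hc, rfl⟩ := hgen g
    exact ⟨(⟨d, hd⟩, ⟨c, hc⟩), rfl⟩
  have hf' : Function.Surjective f' := by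
    intro g
    obtain ⟨d, hd, c, hc, rfl⟩ := hgen' g
    obtain ⟨d0, hd0⟩ := α.surjective ⟨d, hd⟩
    obtain ⟨c0, hc0⟩ := γ.surjective ⟨c, hc⟩
    refine ⟨(d0, c0), ?_⟩
    rw [hfa']
    show ((α d0 : D') : E') * ((γ c0 : C') : E') = d * c
    rw [hd0, hc0]
  have hker : f.ker ≤ f'.ker := by
    rintro ⟨d, c⟩ hdc
    rw [MonoidHom.mem_ker] at hdc ⊢
    have h1 : (d : E) * (c : E) = 1 := hdc
    have hdC : (d : E) ∈ C := by
      have : (d : E) = (c : E)⁻¹ := eq_inv_of_mul_eq_one_left h1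
      rw [this]; exact C.inv_mem c.2
    rw [hfa']
    show ((α d : D') : E') * ((γ c : C') : E') = 1
    have h2 := hcompat d d.2 hdC
    rw [Subtype.coe_eta] at h2
    rw [h2, ← Subgroup.coe_mul, ← map_mul]
    have : (⟨(d : E), hdC⟩ : C) * c = 1 := Subtype.ext h1
    rw [this, map_one]; rfl
  let φ : E →* E' := f.liftOfSurjective hf ⟨f', hker⟩
  have hφ : ∀ p, φ (f p) = f' p := fun p =>
    MonoidHom.liftOfRightInverse_comp_apply _ _ _ ⟨f', hker⟩ p
  have hφs : Function.Surjective φ := by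
    intro g
    obtain ⟨p, rfl⟩ := hf' g
    exact ⟨f p, hφ p⟩
  have hφb : Function.Bijective φ := hφs.bijective_of_nat_card_le (le_of_eq hcard)
  refine ⟨MulEquiv.ofBijective φ hφb, ?_⟩
  intro d c
  exact hφ (d, c)

/-- element-level axioms of an extraspecial `p`-group of exponent `p` with centre `⟨z⟩` -/
structure XSP (p : ℕ) (E : Type*) [Group E] (z : E) : Prop where
  z_ne : z ≠ 1
  z_comm : ∀ g : E, g * z = z * g
  center : ∀ x : E, (∀ y : E, x * y = y * x) → x ∈ Subgroup.zpowers z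
  comm : ∀ x y : E, ⁅x, y⁆ ∈ Subgroup.zpowers z
  exp : ∀ x : E, x ^ p = 1
  nonab : ∃ x y : E, x * y ≠ y * x

namespace XSP

variable {p : ℕ} [hp : Fact p.Prime] {E : Type u} [Group E] {z : E}

theorem zpowers_central (h : XSP p E z) {a : E} (ha : a ∈ Subgroup.zpowers z) (g : E) :
    g * a = a * g := by
  obtain ⟨k, rfl⟩ := ha
  exact ((show Commute g z from h.z_comm g).zpow_right k).eq

theorem comm_central (h : XSP p E z) (x y g : E) : g * ⁅x, y⁆ = ⁅x, y⁆ * g :=
  h.zpowers_central (h.comm x y) g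

theorem comm_mul_left (h : XSP p E z) (a b g : E) : ⁅a * b, g⁆ = ⁅a, g⁆ * ⁅b, g⁆ := by
  have h1 : ⁅a * b, g⁆ = a * ⁅b, g⁆ * a⁻¹ * ⁅a, g⁆ := by
    simp [commutatorElement_def, mul_assoc]
  rw [h1, h.comm_central b g a]
  simp only [mul_assoc, mul_inv_cancel_left]
  rw [h.comm_central a g]

theorem orderOf_z (h : XSP p E z) : orderOf z = p :=
  orderOf_eq_prime (h.exp z) h.z_ne

theorem card_zpowers (h : XSP p E z) : Nat.card (Subgroup.zpowers z) = p := by
  rw [Nat.card_zpowers, h.orderOf_z]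

theorem z_mem_centralizer (h : XSP p E z) (S : Set E) : z ∈ Subgroup.centralizer S := by
  rw [Subgroup.mem_centralizer_iff]
  intro k _
  exact h.z_comm k

theorem zpowers_le_centralizer (h : XSP p E z) (S : Set E) :
    Subgroup.zpowers z ≤ Subgroup.centralizer S := by
  rw [Subgroup.zpowers_le]; exact h.z_mem_centralizer S

/-- `g ↦ ⁅g, x⁆` as a hom into `zpowers z` -/
def commHom (h : XSP p E z) (x : E) : E →* Subgroup.zpowers z where
  toFun g := ⟨⁅g, x⁆, h.comm g x⟩
  map_one' := by apply Subtype.ext; simp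
  map_mul' a b := by apply Subtype.ext; exact h.comm_mul_left a b x

theorem commHom_apply (h : XSP p E z) (x g : E) :
    ((h.commHom x g : Subgroup.zpowers z) : E) = ⁅g, x⁆ := rfl

def pairHom (h : XSP p E z) (x y : E) : E →* Subgroup.zpowers z × Subgroup.zpowers z :=
  (h.commHom x).prod (h.commHom y)

theorem mem_ker_pairHom (h : XSP p E z) (x y g : E) :
    g ∈ (h.pairHom x y).ker ↔ g ∈ Subgroup.centralizer ({x, y} : Set E) := by
  rw [MonoidHom.mem_ker, Subgroup.mem_centralizer_iff]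
  unfold pairHom
  rw [MonoidHom.prod_apply, Prod.ext_iff]
  simp only [Subtype.ext_iff, commHom_apply, Prod.fst_one, Prod.snd_one, OneMemClass.coe_one,
    commutatorElement_eq_one_iff_mul_comm,
    Set.mem_insert_iff, Set.mem_singleton_iff, forall_eq_or_imp, forall_eq]
  constructor
  · rintro ⟨h1, h2⟩; exact ⟨h1.symm, h2.symm⟩
  · rintro ⟨h1, h2⟩; exact ⟨h1.symm, h2.symm⟩

theorem exists_d_target (h : XSP p E z) {x y : E} (hxy : ⁅x, y⁆ = z)
    (s t : Subgroup.zpowers z) :
    ∃ d ∈ Subgroup.closure ({x, y} : Set E), h.pairHom x y d = (s, t) := by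
  have hx : x ∈ Subgroup.closure ({x, y} : Set E) := Subgroup.subset_closure (by simp)
  have hy : y ∈ Subgroup.closure ({x, y} : Set E) := Subgroup.subset_closure (by simp)
  obtain ⟨i, hi⟩ := s.2
  obtain ⟨j, hj⟩ := t.2
  have hyx : ⁅y, x⁆ = z⁻¹ := by rw [← hxy, commutatorElement_inv]
  refine ⟨x ^ j * y ^ (-i), mul_mem (zpow_mem hx j) (zpow_mem hy (-i)), ?_⟩
  unfold pairHom
  rw [MonoidHom.prod_apply, Prod.ext_iff]
  constructor
  · apply Subtype.ext
    show ((h.commHom x (x ^ j * y ^ (-i)) : Subgroup.zpowers z) : E) = s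
    rw [map_mul, map_zpow, map_zpow, Subgroup.coe_mul, Subgroup.coe_zpow, Subgroup.coe_zpow,
      commHom_apply, commHom_apply, hyx, commutatorElement_self, one_zpow, one_mul, ← hi]
    simp
  · apply Subtype.ext
    show ((h.commHom y (x ^ j * y ^ (-i)) : Subgroup.zpowers z) : E) = t
    rw [map_mul, map_zpow, map_zpow, Subgroup.coe_mul, Subgroup.coe_zpow, Subgroup.coe_zpow,
      commHom_apply, commHom_apply, hxy, commutatorElement_self, one_zpow, mul_one, ← hj]

theorem pairHom_surjective (h : XSP p E z) {x y : E} (hxy : ⁅x, y⁆ = z) :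
    Function.Surjective (h.pairHom x y) := by
  rintro ⟨s, t⟩
  obtain ⟨d, -, hd⟩ := h.exists_d_target hxy s t
  exact ⟨d, hd⟩

theorem card_eq_sq_mul [Finite E] (h : XSP p E z) {x y : E} (hxy : ⁅x, y⁆ = z) :
    Nat.card E = p ^ 2 * Nat.card (Subgroup.centralizer ({x, y} : Set E)) := by
  have hker : (h.pairHom x y).ker = Subgroup.centralizer ({x, y} : Set E) := by
    ext g; exact h.mem_ker_pairHom x y g
  have h1 := Subgroup.card_mul_index (h.pairHom x y).ker
  rw [Subgroup.index_ker, MonoidHom.range_eq_top.mpr (h.pairHom_surjective hxy),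
    Subgroup.card_top, Nat.card_prod, h.card_zpowers, hker] at h1
  rw [← h1]; ring

theorem exists_mul_decomp (h : XSP p E z) {x y : E} (hxy : ⁅x, y⁆ = z) (g : E) :
    ∃ d ∈ Subgroup.closure ({x, y} : Set E), ∃ c ∈ Subgroup.centralizer ({x, y} : Set E),
      g = d * c := by
  obtain ⟨d, hd, hdg⟩ := h.exists_d_target hxy (h.pairHom x y g).1 (h.pairHom x y g).2
  refine ⟨d, hd, d⁻¹ * g, ?_, by group⟩
  rw [← h.mem_ker_pairHom, MonoidHom.mem_ker, map_mul, map_inv, hdg]
  simp

theorem central_of_mem (h : XSP p E z) {x y : E} (hxy : ⁅x, y⁆ = z) {t : E}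
    (ht : t ∈ Subgroup.centralizer ({x, y} : Set E))
    (htc : ∀ c ∈ Subgroup.centralizer ({x, y} : Set E), t * c = c * t) : ∀ g : E, t * g = g * t := by
  intro g
  obtain ⟨d, hd, c, hc, rfl⟩ := h.exists_mul_decomp hxy g
  have h1 : d * t = t * d := XS2.closure_comm_centralizer x y hd ht
  rw [← mul_assoc, ← h1, mul_assoc, htc c hc, mul_assoc]

theorem ne_of_comm_eq (h : XSP p E z) {x y : E} (hxy : ⁅x, y⁆ = z) : x * y ≠ y * x := by
  intro e
  apply h.z_ne
  rw [← hxy]
  exact commutatorElement_eq_one_iff_mul_comm.mpr e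

theorem inter_closure_centralizer (h : XSP p E z) {x y : E} (hxy : ⁅x, y⁆ = z) {t : E}
    (hd : t ∈ Subgroup.closure ({x, y} : Set E))
    (hc : t ∈ Subgroup.centralizer ({x, y} : Set E)) : t ∈ Subgroup.zpowers z :=
  h.center t (h.central_of_mem hxy hc (fun c hc' => XS2.closure_comm_centralizer x y hd hc'))

theorem coe_mem_zpowers {H : Subgroup E} (w : H) (t : H) (ht : (t : E) ∈ Subgroup.zpowers (w : E)) :
    t ∈ Subgroup.zpowers w := by
  obtain ⟨k, hk⟩ := ht
  refine ⟨k, Subtype.ext ?_⟩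
  rw [Subgroup.coe_zpow]; exact hk

theorem xsp_centralizer [Finite E] (h : XSP p E z) {x y : E} (hxy : ⁅x, y⁆ = z)
    (hcard : p ^ 3 < Nat.card E) :
    XSP p ↥(Subgroup.centralizer ({x, y} : Set E)) ⟨z, h.z_mem_centralizer _⟩ := by
  refine ⟨?_, ?_, ?_, ?_, ?_, ?_⟩
  · intro e; exact h.z_ne (congrArg Subtype.val e)
  · intro g; exact Subtype.ext (h.z_comm g)
  · intro t ht
    apply coe_mem_zpowers
    exact h.center t (h.central_of_mem hxy t.2 (fun c hc => congrArg Subtype.val (ht ⟨c, hc⟩)))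
  · intro a b
    apply coe_mem_zpowers
    have := h.comm (a : E) (b : E)
    simpa [commutatorElement_def] using this
  · intro a
    apply Subtype.ext
    simpa using h.exp (a : E)
  · by_contra hab
    push_neg at hab
    have hle : Subgroup.centralizer ({x, y} : Set E) ≤ Subgroup.zpowers z := by
      intro t ht
      apply h.center
      apply h.central_of_mem hxy ht
      intro c hc
      exact congrArg Subtype.val (hab ⟨t, ht⟩ ⟨c, hc⟩)
    have h1 := Subgroup.card_le_of_le hle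
    rw [h.card_zpowers] at h1
    have h2 := h.card_eq_sq_mul hxy
    have : Nat.card E ≤ p ^ 2 * p := by rw [h2]; exact Nat.mul_le_mul_left _ h1
    have h3 : p ^ 3 = p ^ 2 * p := by ring
    omega

theorem z_mem_closure (h : XSP p E z) {x y : E} (hxy : ⁅x, y⁆ = z) :
    z ∈ Subgroup.closure ({x, y} : Set E) := by
  rw [← hxy, commutatorElement_def]
  have hx : x ∈ Subgroup.closure ({x, y} : Set E) := Subgroup.subset_closure (by simp)
  have hy : y ∈ Subgroup.closure ({x, y} : Set E) := Subgroup.subset_closure (by simp)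
  exact mul_mem (mul_mem (mul_mem hx hy) (inv_mem hx)) (inv_mem hy)

theorem xsp_closure (h : XSP p E z) {x y : E} (hxy : ⁅x, y⁆ = z) :
    XSP p ↥(Subgroup.closure ({x, y} : Set E)) ⟨z, h.z_mem_closure hxy⟩ := by
  have hx : x ∈ Subgroup.closure ({x, y} : Set E) := Subgroup.subset_closure (by simp)
  have hy : y ∈ Subgroup.closure ({x, y} : Set E) := Subgroup.subset_closure (by simp)
  refine ⟨?_, ?_, ?_, ?_, ?_, ?_⟩
  · intro e; exact h.z_ne (congrArg Subtype.val e)
  · intro g; exact Subtype.ext (h.z_comm g)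
  · intro t ht
    apply coe_mem_zpowers
    have htC : (t : E) ∈ Subgroup.centralizer ({x, y} : Set E) := by
      rw [Subgroup.mem_centralizer_iff]
      intro k hk
      rcases hk with rfl | rfl
      · exact (congrArg Subtype.val (ht ⟨k, hx⟩)).symm
      · exact (congrArg Subtype.val (ht ⟨k, hy⟩)).symm
    exact h.inter_closure_centralizer hxy t.2 htC
  · intro a b
    apply coe_mem_zpowers
    have := h.comm (a : E) (b : E)
    simpa [commutatorElement_def] using this
  · intro a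
    apply Subtype.ext
    simpa using h.exp (a : E)
  · refine ⟨⟨x, hx⟩, ⟨y, hy⟩, ?_⟩
    intro e
    exact h.ne_of_comm_eq hxy (congrArg Subtype.val e)

/-- in a group of order `p^3` the centralizer of the pair is the centre -/
theorem centralizer_eq_of_card [Finite E] (h : XSP p E z) {x y : E} (hxy : ⁅x, y⁆ = z)
    (hcard : Nat.card E = p ^ 3) :
    Subgroup.centralizer ({x, y} : Set E) = Subgroup.zpowers z := by
  symm
  apply Subgroup.eq_of_le_of_card_ge (h.zpowers_le_centralizer _)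
  rw [h.card_zpowers]
  have h2 := h.card_eq_sq_mul hxy
  rw [hcard] at h2
  have hpos : 0 < p ^ 2 := pow_pos hp.out.pos 2
  have h3 : p ^ 3 = p ^ 2 * p := by ring
  rw [h3] at h2
  exact le_of_eq (Nat.eq_of_mul_eq_mul_left hpos h2).symm

theorem card_closure [Finite E] (h : XSP p E z) {x y : E} (hxy : ⁅x, y⁆ = z) :
    Nat.card (Subgroup.closure ({x, y} : Set E)) = p ^ 3 := by
  have hD := h.xsp_closure hxy
  have hx : x ∈ Subgroup.closure ({x, y} : Set E) := Subgroup.subset_closure (by simp)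
  have hy : y ∈ Subgroup.closure ({x, y} : Set E) := Subgroup.subset_closure (by simp)
  have hxyD : ⁅(⟨x, hx⟩ : ↥(Subgroup.closure ({x, y} : Set E))),
      (⟨y, hy⟩ : ↥(Subgroup.closure ({x, y} : Set E)))⁆ =
      (⟨z, h.z_mem_closure hxy⟩ : ↥(Subgroup.closure ({x, y} : Set E))) := by
    apply Subtype.ext
    simpa [commutatorElement_def] using hxy
  have h1 := hD.card_eq_sq_mul hxyD
  have h2 : Subgroup.centralizer ({(⟨x, hx⟩ : ↥(Subgroup.closure ({x, y} : Set E))),
      (⟨y, hy⟩ : ↥(Subgroup.closure ({x, y} : Set E)))} : Set ↥(Subgroup.closure ({x, y} : Set E))) =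
      Subgroup.zpowers (⟨z, h.z_mem_closure hxy⟩ : ↥(Subgroup.closure ({x, y} : Set E))) := by
    apply le_antisymm
    · intro t ht
      apply coe_mem_zpowers
      apply h.inter_closure_centralizer hxy t.2
      rw [Subgroup.mem_centralizer_iff] at ht ⊢
      intro k hk
      rcases hk with rfl | rfl
      · exact congrArg Subtype.val (ht ⟨k, hx⟩ (by simp))
      · exact congrArg Subtype.val (ht ⟨k, hy⟩ (by simp))
    · exact hD.zpowers_le_centralizer _
  rw [h2, hD.card_zpowers] at h1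
  rw [h1]; ring

end XSP

end Cfsg.Agent.Lib.Helper21
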