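import Mathlib
import Cfsg.Agent.Lib.Helper21.XSPA

set_option autoImplicit false
open scoped commutatorElement

namespace Cfsg.Agent.Lib.Helper21

universe u v

/-- the Heisenberg group mod `p` -/
structure Heis (p : ℕ) : Type where
  a : ZMod p
  b : ZMod p
  k : ZMod p

namespace Heis

variable {p : ℕ}

@[ext] theorem ext' {x y : Heis p} (h1 : x.a = y.a) (h2 : x.b = y.b) (h3 : x.k = y.k) : x = y := by
  cases x; cases y; simp only at h1 h2 h3; subst h1; subst h2; subst h3; rfl

instance : Mul (Heis p) := ⟨fun x y => ⟨x.a + y.a, x.b + y.b, x.k + y.k + x.a * y.b⟩⟩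
instance : One (Heis p) := ⟨⟨0, 0, 0⟩⟩
instance : Inv (Heis p) := ⟨fun x => ⟨-x.a, -x.b, -x.k + x.a * x.b⟩⟩

theorem mul_a (x y : Heis p) : (x * y).a = x.a + y.a := rfl
theorem mul_b (x y : Heis p) : (x * y).b = x.b + y.b := rfl
theorem mul_k (x y : Heis p) : (x * y).k = x.k + y.k + x.a * y.b := rfl
theorem one_a : (1 : Heis p).a = 0 := rfl
theorem one_b : (1 : Heis p).b = 0 := rfl
theorem one_k : (1 : Heis p).k = 0 := rfl
theorem inv_a (x : Heis p) : (x⁻¹).a = -x.a := rfl
theorem inv_b (x : Heis p) : (x⁻¹).b = -x.b := rfl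
theorem inv_k (x : Heis p) : (x⁻¹).k = -x.k + x.a * x.b := rfl

instance : Group (Heis p) where
  mul_assoc x y w := by
    apply ext'
    · simp only [mul_a]; ring
    · simp only [mul_b]; ring
    · simp only [mul_k, mul_a, mul_b]; ring
  one_mul x := by
    apply ext'
    · simp [mul_a, one_a]
    · simp [mul_b, one_b]
    · simp [mul_k, one_k, one_a]
  mul_one x := by
    apply ext'
    · simp [mul_a, one_a]
    · simp [mul_b, one_b]
    · simp [mul_k, one_k, one_b]
  inv_mul_cancel x := by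
    apply ext'
    · simp [mul_a, inv_a, one_a]
    · simp [mul_b, inv_b, one_b]
    · simp only [mul_k, inv_k, inv_a, one_k]; ring

def equivProd (p : ℕ) : Heis p ≃ ZMod p × ZMod p × ZMod p where
  toFun x := (x.a, x.b, x.k)
  invFun q := ⟨q.1, q.2.1, q.2.2⟩
  left_inv x := by cases x; rfl
  right_inv q := by rfl

theorem card_eq (p : ℕ) : Nat.card (Heis p) = p ^ 3 := by
  rw [Nat.card_congr (equivProd p), Nat.card_prod, Nat.card_prod, Nat.card_zmod]
  ring

end Heis

section powlemmas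

variable {E : Type u} [Group E]

theorem pow_val_add {p : ℕ} [NeZero p] {g : E} (hg : g ^ p = 1) (a b : ZMod p) :
    g ^ (a + b).val = g ^ a.val * g ^ b.val := by
  rw [ZMod.val_add, ← pow_add, ← pow_eq_pow_mod _ hg]

theorem pow_val_mul {p : ℕ} [NeZero p] {g : E} (hg : g ^ p = 1) (a b : ZMod p) :
    g ^ (a * b).val = g ^ (a.val * b.val) := by
  rw [ZMod.val_mul, ← pow_eq_pow_mod _ hg]

theorem pow_mul_comm_central {x y z : E} (hzc : ∀ g : E, g * z = z * g) (hxy : x * y = y * x * z)
    (m : ℕ) : x ^ m * y = y * x ^ m * z ^ m := by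
  induction m with
  | zero => simp
  | succ m ih =>
    have hzm : ∀ g : E, g * z ^ m = z ^ m * g := fun g =>
      ((show Commute g z from hzc g).pow_right m).eq
    calc x ^ (m + 1) * y = x * (x ^ m * y) := by rw [pow_succ']; group
      _ = x * (y * x ^ m * z ^ m) := by rw [ih]
      _ = (x * y) * x ^ m * z ^ m := by group
      _ = (y * x * z) * x ^ m * z ^ m := by rw [hxy]
      _ = y * x * (z * x ^ m) * z ^ m := by group
      _ = y * x * (x ^ m * z) * z ^ m := by rw [hzc]
      _ = y * x ^ (m + 1) * z ^ (m + 1) := by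
        rw [pow_succ' x, pow_succ z]
        rw [show y * x * (x ^ m * z) * z ^ m = y * (x * x ^ m) * (z * z ^ m) by group]
        rw [← hzm z]

theorem pow_mul_pow_comm_central {x y z : E} (hzc : ∀ g : E, g * z = z * g)
    (hxy : x * y = y * x * z) (m n : ℕ) : x ^ m * y ^ n = y ^ n * x ^ m * z ^ (m * n) := by
  have hzm : ∀ (k : ℕ) (g : E), g * z ^ k = z ^ k * g := fun k g =>
    ((show Commute g z from hzc g).pow_right k).eq
  induction n with
  | zero => simp
  | succ n ih =>
    calc x ^ m * y ^ (n + 1) = (x ^ m * y ^ n) * y := by rw [pow_succ]; group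
      _ = (y ^ n * x ^ m * z ^ (m * n)) * y := by rw [ih]
      _ = y ^ n * x ^ m * (z ^ (m * n) * y) := by group
      _ = y ^ n * x ^ m * (y * z ^ (m * n)) := by rw [hzm]
      _ = y ^ n * (x ^ m * y) * z ^ (m * n) := by group
      _ = y ^ n * (y * x ^ m * z ^ m) * z ^ (m * n) := by rw [pow_mul_comm_central hzc hxy]
      _ = y ^ (n + 1) * x ^ m * z ^ (m * (n + 1)) := by
        rw [show y ^ n * (y * x ^ m * z ^ m) * z ^ (m * n) =
          y ^ n * y * x ^ m * (z ^ m * z ^ (m * n)) by group, ← pow_add, ← pow_succ y]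
        congr 2; ring

end powlemmas

/-- the hom from the Heisenberg group -/
def heisHom {p : ℕ} [NeZero p] {E : Type u} [Group E] (x y z : E) (hx : x ^ p = 1) (hy : y ^ p = 1)
    (hz : z ^ p = 1) (hzc : ∀ g : E, g * z = z * g) (hxy : x * y = y * x * z) : Heis p →* E where
  toFun h := y ^ h.b.val * x ^ h.a.val * z ^ h.k.val
  map_one' := by simp [Heis.one_a, Heis.one_b, Heis.one_k]
  map_mul' h h' := by
    have hzm : ∀ (k : ℕ) (g : E), g * z ^ k = z ^ k * g := fun k g =>
      ((show Commute g z from hzc g).pow_right k).eq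
    rw [Heis.mul_a, Heis.mul_b, Heis.mul_k, pow_val_add hx, pow_val_add hy, pow_val_add hz,
      pow_val_add hz, pow_val_mul hz]
    have key := pow_mul_pow_comm_central hzc hxy h.a.val h'.b.val
    symm
    calc y ^ h.b.val * x ^ h.a.val * z ^ h.k.val * (y ^ h'.b.val * x ^ h'.a.val * z ^ h'.k.val)
        = y ^ h.b.val * x ^ h.a.val * (z ^ h.k.val * (y ^ h'.b.val * x ^ h'.a.val)) * z ^ h'.k.val := by
          group
      _ = y ^ h.b.val * x ^ h.a.val * ((y ^ h'.b.val * x ^ h'.a.val) * z ^ h.k.val) * z ^ h'.k.val := by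
          rw [← hzm h.k.val (y ^ h'.b.val * x ^ h'.a.val)]
      _ = y ^ h.b.val * (x ^ h.a.val * y ^ h'.b.val) * x ^ h'.a.val * z ^ h.k.val * z ^ h'.k.val := by
          group
      _ = y ^ h.b.val * (y ^ h'.b.val * x ^ h.a.val * z ^ (h.a.val * h'.b.val)) * x ^ h'.a.val *
            z ^ h.k.val * z ^ h'.k.val := by rw [key]
      _ = y ^ h.b.val * y ^ h'.b.val * x ^ h.a.val * (z ^ (h.a.val * h'.b.val) * x ^ h'.a.val) *
            z ^ h.k.val * z ^ h'.k.val := by group
      _ = y ^ h.b.val * y ^ h'.b.val * x ^ h.a.val * (x ^ h'.a.val * z ^ (h.a.val * h'.b.val)) *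
            z ^ h.k.val * z ^ h'.k.val := by rw [← hzm (h.a.val * h'.b.val) (x ^ h'.a.val)]
      _ = y ^ h.b.val * y ^ h'.b.val * (x ^ h.a.val * x ^ h'.a.val) *
            (z ^ (h.a.val * h'.b.val) * (z ^ h.k.val * z ^ h'.k.val)) := by group
      _ = y ^ h.b.val * y ^ h'.b.val * (x ^ h.a.val * x ^ h'.a.val) *
            (z ^ h.k.val * z ^ h'.k.val * z ^ (h.a.val * h'.b.val)) := by
          rw [← hzm (h.a.val * h'.b.val) (z ^ h.k.val * z ^ h'.k.val)]

namespace XSP

variable {p : ℕ} [hp : Fact p.Prime] {E : Type u} [Group E] {z : E}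

theorem mul_eq_of_comm (h : XSP p E z) {x y : E} (hxy : ⁅x, y⁆ = z) : x * y = y * x * z := by
  have : x * y = ⁅x, y⁆ * (y * x) := by rw [commutatorElement_def]; group
  rw [this, hxy, ← h.z_comm]

/-- groups of order `p^3` -/
theorem heis_iso [Finite E] (h : XSP p E z) {x y : E} (hxy : ⁅x, y⁆ = z)
    (hcard : Nat.card E = p ^ 3) : ∃ e : Heis p ≃* E, e ⟨0, 0, 1⟩ = z := by
  haveI : NeZero p := ⟨hp.out.ne_zero⟩
  haveI : Fact (1 < p) := ⟨hp.out.one_lt⟩
  let F := heisHom x y z (h.exp x) (h.exp y) (h.exp z) h.z_comm (h.mul_eq_of_comm hxy)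
  have hFx : F ⟨1, 0, 0⟩ = x := by
    show y ^ (0 : ZMod p).val * x ^ (1 : ZMod p).val * z ^ (0 : ZMod p).val = x
    simp [ZMod.val_one]
  have hFy : F ⟨0, 1, 0⟩ = y := by
    show y ^ (1 : ZMod p).val * x ^ (0 : ZMod p).val * z ^ (0 : ZMod p).val = y
    simp [ZMod.val_one]
  have hFz : F ⟨0, 0, 1⟩ = z := by
    show y ^ (0 : ZMod p).val * x ^ (0 : ZMod p).val * z ^ (1 : ZMod p).val = z
    simp [ZMod.val_one]
  have hD : Subgroup.closure ({x, y} : Set E) ≤ F.range := by
    rw [Subgroup.closure_le]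
    rintro g (rfl | rfl)
    · exact ⟨_, hFx⟩
    · exact ⟨_, hFy⟩
  have hC : Subgroup.centralizer ({x, y} : Set E) ≤ F.range := by
    rw [h.centralizer_eq_of_card hxy hcard, Subgroup.zpowers_le]
    exact ⟨_, hFz⟩
  have hs : Function.Surjective F := by
    intro g
    obtain ⟨d, hd, c, hc, rfl⟩ := h.exists_mul_decomp hxy g
    exact F.range.mul_mem (hD hd) (hC hc)
  haveI : Finite (Heis p) := Nat.finite_of_card_ne_zero (by
    rw [Heis.card_eq]; exact pow_ne_zero _ hp.out.ne_zero)
  have hb : Function.Bijective F :=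
    hs.bijective_of_nat_card_le (by rw [Heis.card_eq, hcard])
  exact ⟨MulEquiv.ofBijective F hb, hFz⟩

theorem exists_pair (h : XSP p E z) : ∃ x y : E, ⁅x, y⁆ = z := by
  obtain ⟨x, y₀, hne⟩ := h.nonab
  have hw : ⁅x, y₀⁆ ∈ Subgroup.zpowers z := h.comm x y₀
  have hw1 : ⁅x, y₀⁆ ≠ 1 := fun e => hne (commutatorElement_eq_one_iff_mul_comm.mp e)
  have hmem : (⟨z, Subgroup.mem_zpowers z⟩ : Subgroup.zpowers z) ∈
      Subgroup.zpowers (⟨⁅x, y₀⁆, hw⟩ : Subgroup.zpowers z) :=
    mem_zpowers_of_prime_card h.card_zpowers (fun e => hw1 (congrArg Subtype.val e))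
  obtain ⟨j, hj⟩ := hmem
  have hj' : ⁅x, y₀⁆ ^ j = z := by
    have := congrArg Subtype.val hj
    simpa using this
  refine ⟨x ^ j, y₀, ?_⟩
  have h1 : ((h.commHom y₀ (x ^ j) : Subgroup.zpowers z) : E) = ⁅x, y₀⁆ ^ j := by
    rw [map_zpow, Subgroup.coe_zpow, commHom_apply]
  rw [commHom_apply] at h1
  rw [h1, hj']

end XSP

/-- uniqueness of extraspecial groups of exponent `p` -/
theorem xsp_unique_aux {p : ℕ} [hp : Fact p.Prime] : ∀ (n : ℕ) (E : Type u) (E' : Type v)
    [Group E] [Group E'] [Finite E] [Finite E'] (z : E) (z' : E'), XSP p E z → XSP p E' z' →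
    Nat.card E = n → Nat.card E' = n → ∃ e : E ≃* E', e z = z' := by
  intro n
  induction n using Nat.strong_induction_on with
  | _ n ih =>
    intro E E' _ _ _ _ z z' h h' hn hn'
    obtain ⟨x, y, hxy⟩ := h.exists_pair
    obtain ⟨x', y', hxy'⟩ := h'.exists_pair
    have hcC := h.card_eq_sq_mul hxy
    have hcC' := h'.card_eq_sq_mul hxy'
    have hp2 : 0 < p ^ 2 := pow_pos hp.out.pos 2
    have hp1 : 1 < p ^ 2 := Nat.one_lt_pow (by norm_num) hp.out.one_lt
    by_cases hn3 : n = p ^ 3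
    · obtain ⟨e1, he1⟩ := h.heis_iso hxy (hn.trans hn3)
      obtain ⟨e2, he2⟩ := h'.heis_iso hxy' (hn'.trans hn3)
      refine ⟨e1.symm.trans e2, ?_⟩
      rw [MulEquiv.trans_apply, ← he1, MulEquiv.symm_apply_apply, he2]
    -- lower bound
    have hge : p ^ 3 ≤ Nat.card E := by
      have h1 := Subgroup.card_le_of_le (h.zpowers_le_centralizer ({x, y} : Set E))
      rw [h.card_zpowers] at h1
      rw [hcC, show p ^ 3 = p ^ 2 * p by ring]
      exact Nat.mul_le_mul_left _ h1
    have hgt : p ^ 3 < Nat.card E := lt_of_le_of_ne hge (fun e => hn3 (hn.symm.trans e.symm))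
    have hgt' : p ^ 3 < Nat.card E' := by rw [hn', ← hn]; exact hgt
    have hC := h.xsp_centralizer hxy hgt
    have hC' := h'.xsp_centralizer hxy' hgt'
    have hCpos : 0 < Nat.card ↥(Subgroup.centralizer ({x, y} : Set E)) := Nat.card_pos
    have hlt : Nat.card ↥(Subgroup.centralizer ({x, y} : Set E)) < n := by
      rw [← hn, hcC]; nlinarith
    have hCC' : Nat.card ↥(Subgroup.centralizer ({x', y'} : Set E')) =
        Nat.card ↥(Subgroup.centralizer ({x, y} : Set E)) := by
      have : p ^ 2 * Nat.card ↥(Subgroup.centralizer ({x', y'} : Set E')) =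
          p ^ 2 * Nat.card ↥(Subgroup.centralizer ({x, y} : Set E)) := by
        rw [← hcC, ← hcC', hn, hn']
      exact Nat.eq_of_mul_eq_mul_left hp2 this
    obtain ⟨γ, hγ⟩ := ih _ hlt _ _ _ _ hC hC' rfl hCC'
    -- the Heisenberg parts
    have hD := h.xsp_closure hxy
    have hD' := h'.xsp_closure hxy'
    have hx : x ∈ Subgroup.closure ({x, y} : Set E) := Subgroup.subset_closure (by simp)
    have hy : y ∈ Subgroup.closure ({x, y} : Set E) := Subgroup.subset_closure (by simp)
    have hx' : x' ∈ Subgroup.closure ({x', y'} : Set E') := Subgroup.subset_closure (by simp)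
    have hy' : y' ∈ Subgroup.closure ({x', y'} : Set E') := Subgroup.subset_closure (by simp)
    have hxyD : ⁅(⟨x, hx⟩ : ↥(Subgroup.closure ({x, y} : Set E))),
        (⟨y, hy⟩ : ↥(Subgroup.closure ({x, y} : Set E)))⁆ =
        (⟨z, h.z_mem_closure hxy⟩ : ↥(Subgroup.closure ({x, y} : Set E))) := by
      apply Subtype.ext
      simpa [commutatorElement_def] using hxy
    have hxyD' : ⁅(⟨x', hx'⟩ : ↥(Subgroup.closure ({x', y'} : Set E'))),
        (⟨y', hy'⟩ : ↥(Subgroup.closure ({x', y'} : Set E')))⁆ =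
        (⟨z', h'.z_mem_closure hxy'⟩ : ↥(Subgroup.closure ({x', y'} : Set E'))) := by
      apply Subtype.ext
      simpa [commutatorElement_def] using hxy'
    obtain ⟨e1, he1⟩ := hD.heis_iso hxyD (h.card_closure hxy)
    obtain ⟨e2, he2⟩ := hD'.heis_iso hxyD' (h'.card_closure hxy')
    let α := e1.symm.trans e2
    have hα : α ⟨z, h.z_mem_closure hxy⟩ = ⟨z', h'.z_mem_closure hxy'⟩ := by
      show e2 (e1.symm _) = _
      rw [← he1, MulEquiv.symm_apply_apply, he2]
    obtain ⟨e, he⟩ := glue_central_map (Subgroup.closure ({x, y} : Set E))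
      (Subgroup.centralizer ({x, y} : Set E))
      (Subgroup.closure ({x', y'} : Set E')) (Subgroup.centralizer ({x', y'} : Set E'))
      (fun d hd c hc => XS2.closure_comm_centralizer x y hd hc)
      (fun d hd c hc => XS2.closure_comm_centralizer x' y' hd hc)
      (h.exists_mul_decomp hxy) (h'.exists_mul_decomp hxy') α γ (by
        intro t htD htC
        obtain ⟨k, hk⟩ := h.inter_closure_centralizer hxy htD htC
        have e3 : (⟨t, htD⟩ : ↥(Subgroup.closure ({x, y} : Set E))) =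
            (⟨z, h.z_mem_closure hxy⟩ : ↥(Subgroup.closure ({x, y} : Set E))) ^ k := by
          apply Subtype.ext
          rw [Subgroup.coe_zpow]; exact hk.symm
        have e4 : (⟨t, htC⟩ : ↥(Subgroup.centralizer ({x, y} : Set E))) =
            (⟨z, h.z_mem_centralizer _⟩ : ↥(Subgroup.centralizer ({x, y} : Set E))) ^ k := by
          apply Subtype.ext
          rw [Subgroup.coe_zpow]; exact hk.symm
        rw [e3, e4, map_zpow, map_zpow, hα, hγ, Subgroup.coe_zpow, Subgroup.coe_zpow])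
      (hn.trans hn'.symm)
    refine ⟨e, ?_⟩
    have := he ⟨z, h.z_mem_closure hxy⟩ 1
    rw [hα, map_one] at this
    simpa using this

theorem XSP.of_isExtraspecial {p : ℕ} [hp : Fact p.Prime] {E : Type u} [Group E] [Finite E]
    (hE : Cfsg.IsExtraspecial p E) (hexp : Monoid.exponent E = p) : ∃ z : E, XSP p E z := by
  obtain ⟨⟨hP, hΦ, hcomm⟩, hcard⟩ := hE
  have hnt : Nontrivial (Subgroup.center E) := by
    rw [← Finite.one_lt_card_iff_nontrivial, hcard]; exact hp.out.one_lt
  obtain ⟨⟨z, hzc⟩, hz1'⟩ := exists_ne (1 : Subgroup.center E)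
  have hz1 : z ≠ 1 := fun hh => hz1' (Subtype.ext hh)
  have hall : ∀ c ∈ Subgroup.center E, c ∈ Subgroup.zpowers z := by
    intro c hc
    have : (⟨c, hc⟩ : Subgroup.center E) ∈ Subgroup.zpowers (⟨z, hzc⟩ : Subgroup.center E) :=
      mem_zpowers_of_prime_card hcard hz1'
    obtain ⟨k, hk⟩ := this
    refine ⟨k, ?_⟩
    have := congrArg Subtype.val hk
    simpa using this
  refine ⟨z, hz1, ?_, ?_, ?_, ?_, ?_⟩
  · intro g
    exact (Subgroup.mem_center_iff.mp hzc g)
  · intro x hx
    apply hall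
    rw [Subgroup.mem_center_iff]
    intro g
    exact (hx g).symm
  · intro x y
    apply hall
    rw [← hcomm, commutator_def]
    exact Subgroup.commutator_mem_commutator (Subgroup.mem_top x) (Subgroup.mem_top y)
  · intro x
    rw [← hexp]
    exact Monoid.pow_exponent_eq_one x
  · by_contra hab
    push_neg at hab
    have hbot : commutator E = ⊥ := by
      rw [commutator_def, Subgroup.commutator_eq_bot_iff_le_centralizer]
      intro a _
      rw [Subgroup.mem_centralizer_iff]
      intro b _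
      exact hab b a
    rw [hbot] at hcomm
    rw [← hcomm] at hcard
    simp at hcard
    exact hp.out.one_lt.ne hcard

end Cfsg.Agent.Lib.Helper21
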